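import Mathlib
import Groth.Agent.Lib.Helper75.FunctorialRes
import Groth.Agent.Lib.Helper73.TorFirstVar

/-!
# Symmetry of `Tor` as a bifunctor (helper15)

`A n X Y = H_n (X ⊗ res Y)` where `res` is helper75's functorial free resolution.
-/

set_option autoImplicit false
universe v u

open CategoryTheory CategoryTheory.Limits MonoidalCategory
open Groth.Agent.Lib.Helper75 Groth.Agent.Lib.Helper73

noncomputable section

namespace Groth.Agent.Lib.Helper15.TorSymm

variable {R : Type u} [CommRing R]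

/-- fast path for kernels in `ModuleCat` (avoids a slow search through flatness instances) -/
local instance (priority := 10000) hasKernelModuleCat {A B : ModuleCat.{u} R} (f : A ⟶ B) :
    HasKernel f := by infer_instance

/-- `n`-th homology of `G` applied to the functorial resolution. -/
def HG (G : ModuleCat.{u} R ⥤ ModuleCat.{u} R) [G.Additive] (n : ℕ) :
    ModuleCat.{u} R ⥤ ModuleCat.{u} R :=
  res ⋙ G.mapHomologicalComplex (ComplexShape.down ℕ) ⋙
    HomologicalComplex.homologyFunctor (ModuleCat.{u} R) _ n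

/-- functoriality of `HG` in `G` -/
def HGmap {G G' : ModuleCat.{u} R ⥤ ModuleCat.{u} R} [G.Additive] [G'.Additive] (α : G ⟶ G')
    (n : ℕ) : HG G n ⟶ HG G' n :=
  Functor.whiskerLeft res (Functor.whiskerRight (NatTrans.mapHomologicalComplex α _) _)

@[simp]
lemma HGmap_id (G : ModuleCat.{u} R ⥤ ModuleCat.{u} R) [G.Additive] (n : ℕ) :
    HGmap (𝟙 G) n = 𝟙 _ := by
  apply NatTrans.ext; funext Y
  simp [HGmap, HG]

@[reassoc (attr := simp)]
lemma HGmap_comp {G G' G'' : ModuleCat.{u} R ⥤ ModuleCat.{u} R} [G.Additive] [G'.Additive]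
    [G''.Additive] (α : G ⟶ G') (β : G' ⟶ G'') (n : ℕ) :
    HGmap (α ≫ β) n = HGmap α n ≫ HGmap β n := by
  apply NatTrans.ext; funext Y
  simp [HGmap, HG]

/-- left derived functors computed by the functorial resolution -/
def leftDerivedIsoHG (G : ModuleCat.{u} R ⥤ ModuleCat.{u} R) [G.Additive] (n : ℕ) :
    G.leftDerived n ≅ HG G n :=
  NatIso.ofComponents (fun Y => (resProj Y).isoLeftDerivedObj G n) (fun {Y Y'} g => by
    exact ProjectiveResolution.isoLeftDerivedObj_hom_naturality g (resProj Y) (resProj Y')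
      (res.map g) (res_map_π g) G n)

lemma leftDerivedIsoHG_naturality {G G' : ModuleCat.{u} R ⥤ ModuleCat.{u} R} [G.Additive]
    [G'.Additive] (α : G ⟶ G') (n : ℕ) :
    NatTrans.leftDerived α n ≫ (leftDerivedIsoHG G' n).hom =
      (leftDerivedIsoHG G n).hom ≫ HGmap α n := by
  apply NatTrans.ext; funext Y
  change (NatTrans.leftDerived α n).app Y ≫ ((resProj Y).isoLeftDerivedObj G' n).hom =
    ((resProj Y).isoLeftDerivedObj G n).hom ≫ _
  rw [ProjectiveResolution.leftDerived_app_eq α (resProj Y) n, Category.assoc, Category.assoc,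
    Iso.inv_hom_id, Category.comp_id]
  rfl

open TorFirstVar

/-- The bifunctor `(X, Y) ↦ H_n (X ⊗ res Y)`. -/
def A (n : ℕ) : ModuleCat.{u} R ⥤ ModuleCat.{u} R ⥤ ModuleCat.{u} R where
  obj X := HG (TL X) n
  map f := HGmap (TLmap f) n
  map_id X := by
    rw [show TLmap (𝟙 X) = 𝟙 _ from (tensoringLeft (ModuleCat.{u} R)).map_id X]
    exact HGmap_id _ n
  map_comp f g := by
    rw [show TLmap (f ≫ g) = TLmap f ≫ TLmap g from (tensoringLeft (ModuleCat.{u} R)).map_comp f g]
    exact HGmap_comp _ _ n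

/-- `Tor` is computed by the functorial resolution, as bifunctors. -/
def torIsoA (n : ℕ) : Tor (ModuleCat.{u} R) n ≅ A n :=
  NatIso.ofComponents (fun X => leftDerivedIsoHG (TL X) n)
    (fun f => leftDerivedIsoHG_naturality (TLmap f) n)

/-! ### The functorial short exact sequence `0 → syz X → freeOn X → X → 0` -/

/-- `0 → syz X → freeOn X → X → 0` -/
def sigma (X : ModuleCat.{u} R) : ShortComplex (ModuleCat.{u} R) :=
  ShortComplex.mk (syzι.app X) (freeOnε.app X) (syzι_freeOnε X)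

lemma sigma_shortExact (X : ModuleCat.{u} R) : (sigma X).ShortExact where
  exact := (ShortComplex.moduleCat_exact_iff _).2
    (fun x hx => exists_syz_of_freeOnε_eq_zero X x hx)
  mono_f := syzι_mono X
  epi_g := freeOnε_epi X

/-- functoriality of `sigma` -/
def sigmaMap {X X' : ModuleCat.{u} R} (f : X ⟶ X') : sigma X ⟶ sigma X' where
  τ₁ := syz.map f
  τ₂ := freeOn.map f
  τ₃ := f
  comm₁₂ := syzι.naturality f
  comm₂₃ := freeOnε.naturality f

instance (X : ModuleCat.{u} R) : Module.Flat R (freeOn.obj X) := by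
  have : Projective (freeOn.obj X) := freeOn_projective X
  exact TorFirstVar.flat_of_projective _

/-! ### Morphisms between the short complexes of complexes `S ⊗ P` -/

/-- functoriality of `tensSC` in the short complex -/
def tensSCMap₁ {S S' : ShortComplex (ModuleCat.{u} R)} (ψ : S ⟶ S') {N : ModuleCat.{u} R}
    (P : ProjectiveResolution N) : tensSC (S := S) P ⟶ tensSC (S := S') P where
  τ₁ := (NatTrans.mapHomologicalComplex (TLmap ψ.τ₁) _).app P.complex
  τ₂ := (NatTrans.mapHomologicalComplex (TLmap ψ.τ₂) _).app P.complex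
  τ₃ := (NatTrans.mapHomologicalComplex (TLmap ψ.τ₃) _).app P.complex
  comm₁₂ := by
    dsimp only [tensSC]
    rw [← NatTrans.comp_app, ← NatTrans.comp_app, ← NatTrans.mapHomologicalComplex_comp,
      ← NatTrans.mapHomologicalComplex_comp]
    congr 2
    exact ((tensoringLeft (ModuleCat.{u} R)).map_comp _ _).symm.trans
      ((congrArg _ ψ.comm₁₂).trans ((tensoringLeft (ModuleCat.{u} R)).map_comp _ _))
  comm₂₃ := by
    dsimp only [tensSC]
    rw [← NatTrans.comp_app, ← NatTrans.comp_app, ← NatTrans.mapHomologicalComplex_comp,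
      ← NatTrans.mapHomologicalComplex_comp]
    congr 2
    exact ((tensoringLeft (ModuleCat.{u} R)).map_comp _ _).symm.trans
      ((congrArg _ ψ.comm₂₃).trans ((tensoringLeft (ModuleCat.{u} R)).map_comp _ _))

/-- functoriality of `tensSC` in the complex -/
def tensSCMap₂ (S : ShortComplex (ModuleCat.{u} R)) {N N' : ModuleCat.{u} R}
    (P : ProjectiveResolution N) (P' : ProjectiveResolution N') (φ : P.complex ⟶ P'.complex) :
    tensSC (S := S) P ⟶ tensSC (S := S) P' where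
  τ₁ := ((TL S.X₁).mapHomologicalComplex _).map φ
  τ₂ := ((TL S.X₂).mapHomologicalComplex _).map φ
  τ₃ := ((TL S.X₃).mapHomologicalComplex _).map φ
  comm₁₂ := (NatTrans.mapHomologicalComplex_naturality (TLmap S.f) φ)
  comm₂₃ := (NatTrans.mapHomologicalComplex_naturality (TLmap S.g) φ)

/-! ### The connecting morphism -/

/-- the short exact sequence of complexes `sigma X ⊗ res Y` -/
lemma tens_shortExact (X Y : ModuleCat.{u} R) :
    (tensSC (S := sigma X) (resProj Y)).ShortExact :=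
  tensSC_shortExact (sigma_shortExact X) (resProj Y)

/-- the connecting morphism `H_{k+1}(X ⊗ res Y) ⟶ H_k(syz X ⊗ res Y)` -/
def δA (X Y : ModuleCat.{u} R) (k : ℕ) :
    ((A (k + 1)).obj X).obj Y ⟶ ((A k).obj (syz.obj X)).obj Y :=
  (tens_shortExact X Y).δ (k + 1) k rfl

lemma δA_naturality₁ {X X' : ModuleCat.{u} R} (f : X ⟶ X') (Y : ModuleCat.{u} R) (k : ℕ) :
    δA X Y k ≫ ((A k).map (syz.map f)).app Y = ((A (k + 1)).map f).app Y ≫ δA X' Y k :=
  HomologicalComplex.HomologySequence.δ_naturality (tensSCMap₁ (sigmaMap f) (resProj Y))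
    (tens_shortExact X Y) (tens_shortExact X' Y) (k + 1) k rfl

lemma δA_naturality₂ (X : ModuleCat.{u} R) {Y Y' : ModuleCat.{u} R} (g : Y ⟶ Y') (k : ℕ) :
    δA X Y k ≫ ((A k).obj (syz.obj X)).map g = ((A (k + 1)).obj X).map g ≫ δA X Y' k :=
  HomologicalComplex.HomologySequence.δ_naturality
    (tensSCMap₂ (sigma X) (resProj Y) (resProj Y') (res.map g))
    (tens_shortExact X Y) (tens_shortExact X Y') (k + 1) k rfl

/-! ### Vanishing for flat modules and the shift isomorphism -/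

lemma isZero_A_succ_of_flat (M : ModuleCat.{u} R) [Module.Flat R M] (Y : ModuleCat.{u} R)
    (j : ℕ) : IsZero (((A (j + 1)).obj M).obj Y) := by
  change IsZero ((((TL M).mapHomologicalComplex _).obj (resCx Y)).homology (j + 1))
  rw [← HomologicalComplex.exactAt_iff_isZero_homology]
  have h := resCx_exactAt_succ Y j
  rw [HomologicalComplex.exactAt_iff] at h ⊢
  exact Module.Flat.lTensor_shortComplex_exact M _ h

instance isIso_δA_succ (X Y : ModuleCat.{u} R) (k : ℕ) : IsIso (δA X Y (k + 1)) := by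
  have hmono : Mono (δA X Y (k + 1)) :=
    ((tens_shortExact X Y).homology_exact₃ (k + 1 + 1) (k + 1) rfl).mono_g
      ((isZero_A_succ_of_flat (freeOn.obj X) Y (k + 1)).eq_of_src _ _)
  have hepi : Epi (δA X Y (k + 1)) :=
    ((tens_shortExact X Y).homology_exact₁ (k + 1 + 1) (k + 1) rfl).epi_f
      ((isZero_A_succ_of_flat (freeOn.obj X) Y k).eq_of_tgt _ _)
  exact isIso_of_mono_of_epi _

/-- the shift isomorphism of bifunctors `A (k+2) ≅ syz ⋙ A (k+1)` -/
def shiftA (k : ℕ) :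
    (A (k + 1 + 1) : ModuleCat.{u} R ⥤ ModuleCat.{u} R ⥤ ModuleCat.{u} R) ≅ syz ⋙ A (k + 1) :=
  NatIso.ofComponents
    (fun X => NatIso.ofComponents (fun Y => asIso (δA X Y (k + 1)))
      (fun g => (δA_naturality₂ X g (k + 1)).symm))
    (fun {X X'} f => by
      apply NatTrans.ext; funext Y
      exact (δA_naturality₁ f Y (k + 1)).symm)

/-! ### Degree zero -/

lemma opcyclesMap_fromLeftDerivedZero' {G G' : ModuleCat.{u} R ⥤ ModuleCat.{u} R} [G.Additive]
    [G'.Additive] (α : G ⟶ G') {X : ModuleCat.{u} R} (P : ProjectiveResolution X) :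
    HomologicalComplex.opcyclesMap ((NatTrans.mapHomologicalComplex α _).app P.complex) 0 ≫
      P.fromLeftDerivedZero' G' = P.fromLeftDerivedZero' G ≫ α.app X := by
  simp only [← cancel_epi (HomologicalComplex.pOpcycles _ _),
    HomologicalComplex.p_opcyclesMap_assoc,
    ProjectiveResolution.pOpcycles_comp_fromLeftDerivedZero',
    ProjectiveResolution.pOpcycles_comp_fromLeftDerivedZero'_assoc,
    NatTrans.mapHomologicalComplex_app_f]
  exact (α.naturality _).symm

/-- the map `H_0(G (res Y)) ⟶ G Y` -/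
def zeroHom (G : ModuleCat.{u} R ⥤ ModuleCat.{u} R) [G.Additive] (Y : ModuleCat.{u} R) :
    (HG G 0).obj Y ⟶ G.obj Y :=
  HomologicalComplex.homologyι ((G.mapHomologicalComplex _).obj (resProj Y).complex) 0 ≫
    (resProj Y).fromLeftDerivedZero' G

instance (G : ModuleCat.{u} R ⥤ ModuleCat.{u} R) [G.Additive] [PreservesFiniteColimits G]
    (Y : ModuleCat.{u} R) : IsIso (zeroHom G Y) := by
  have h1 : IsIso ((resProj Y).fromLeftDerivedZero' G) := inferInstance
  have h2 : IsIso (HomologicalComplex.homologyι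
      ((G.mapHomologicalComplex _).obj (resProj Y).complex) 0) := inferInstance
  exact @IsIso.comp_isIso _ _ _ _ _ _ _ h2 h1

lemma zeroHom_naturality₂ (G : ModuleCat.{u} R ⥤ ModuleCat.{u} R) [G.Additive]
    {Y Y' : ModuleCat.{u} R} (g : Y ⟶ Y') :
    (HG G 0).map g ≫ zeroHom G Y' = zeroHom G Y ≫ G.map g := by
  let φ : (resProj Y).complex ⟶ (resProj Y').complex := res.map g
  have h := ProjectiveResolution.fromLeftDerivedZero'_naturality g (resProj Y) (resProj Y')
    φ (res_map_π g) G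
  have h' := HomologicalComplex.homologyι_naturality ((G.mapHomologicalComplex _).map φ) 0
  exact (Category.assoc _ _ _).symm.trans ((congrArg (· ≫ _) h').trans
    ((Category.assoc _ _ _).trans ((congrArg (_ ≫ ·) h).trans (Category.assoc _ _ _).symm)))

lemma zeroHom_naturality₁ {G G' : ModuleCat.{u} R ⥤ ModuleCat.{u} R} [G.Additive] [G'.Additive]
    (α : G ⟶ G') (Y : ModuleCat.{u} R) :
    (HGmap α 0).app Y ≫ zeroHom G' Y = zeroHom G Y ≫ α.app Y := by
  have h := opcyclesMap_fromLeftDerivedZero' α (resProj Y)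
  have h' := HomologicalComplex.homologyι_naturality
    ((NatTrans.mapHomologicalComplex α _).app (resProj Y).complex) 0
  exact (Category.assoc _ _ _).symm.trans ((congrArg (· ≫ _) h').trans
    ((Category.assoc _ _ _).trans ((congrArg (_ ≫ ·) h).trans (Category.assoc _ _ _).symm)))

/-- `H_0 (G (res -)) ≅ G` for right exact `G` -/
def zeroIso (G : ModuleCat.{u} R ⥤ ModuleCat.{u} R) [G.Additive] [PreservesFiniteColimits G] :
    HG G 0 ≅ G :=
  NatIso.ofComponents (fun Y => asIso (zeroHom G Y)) (fun g => zeroHom_naturality₂ G g)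

instance (X : ModuleCat.{u} R) : PreservesFiniteColimits (TL X) := by
  change PreservesFiniteColimits (tensorLeft X); infer_instance

/-- `A 0 ≅ ⊗` as bifunctors -/
def zeroIsoA : (A 0 : ModuleCat.{u} R ⥤ ModuleCat.{u} R ⥤ ModuleCat.{u} R) ≅
    tensoringLeft (ModuleCat.{u} R) :=
  NatIso.ofComponents (fun X => zeroIso (TL X)) (fun {X X'} f => by
    apply NatTrans.ext; funext Y
    exact zeroHom_naturality₁ (TLmap f) Y)

/-! ### Abstract computation of homology from a cokernel description -/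

section Abstract

variable {V : Type u} [Category.{v} V] [Abelian V]

/-- A description of the differentials around degree `n+1` of a chain complex:
`K_{n+2} ⟶ K_{n+1} ⟶ Q ⟶ K_n` with `Q` the cokernel of the first map. -/
structure RData (K : ChainComplex V ℕ) (n : ℕ) where
  Q : V
  p : K.X (n + 1) ⟶ Q
  j : Q ⟶ K.X n
  wp : K.d (n + 2) (n + 1) ≫ p = 0
  exact : (ShortComplex.mk _ _ wp).Exact
  epi : Epi p
  fac : p ≫ j = K.d (n + 1) n

namespace RData

variable {K L : ChainComplex V ℕ} {n : ℕ} (D : RData K n) (D' : RData L n)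

/-- `p` is a cokernel -/
def isColimit : IsColimit (CokernelCofork.ofπ D.p D.wp) :=
  haveI : Epi (ShortComplex.mk _ _ D.wp).g := D.epi
  D.exact.gIsCokernel

/-- the opcycles are identified with `Q` -/
def opcyclesIso : K.opcycles (n + 1) ≅ D.Q :=
  IsColimit.coconePointUniqueUpToIso (K.opcyclesIsCokernel (n + 2) (n + 1) (by simp)) D.isColimit

@[reassoc (attr := simp)]
lemma p_opcyclesIso_hom : K.pOpcycles (n + 1) ≫ D.opcyclesIso.hom = D.p :=
  IsColimit.comp_coconePointUniqueUpToIso_hom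
    (K.opcyclesIsCokernel (n + 2) (n + 1) (by simp)) D.isColimit WalkingParallelPair.one

@[reassoc (attr := simp)]
lemma opcyclesIso_hom_j : D.opcyclesIso.hom ≫ D.j = K.fromOpcycles (n + 1) n := by
  rw [← cancel_epi (K.pOpcycles (n + 1)), p_opcyclesIso_hom_assoc, D.fac,
    HomologicalComplex.p_fromOpcycles]

@[reassoc (attr := simp)]
lemma opcyclesIso_inv_fromOpcycles : D.opcyclesIso.inv ≫ K.fromOpcycles (n + 1) n = D.j := by
  rw [← D.opcyclesIso_hom_j, Iso.inv_hom_id_assoc]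

/-- the map from homology to the kernel of `j` -/
def homologyToKernel : K.homology (n + 1) ⟶ kernel D.j :=
  kernel.lift _ (K.homologyι (n + 1) ≫ D.opcyclesIso.hom) (by
    rw [Category.assoc, opcyclesIso_hom_j, HomologicalComplex.homologyι_comp_fromOpcycles])

@[reassoc (attr := simp)]
lemma homologyToKernel_ι :
    D.homologyToKernel ≫ kernel.ι D.j = K.homologyι (n + 1) ≫ D.opcyclesIso.hom :=
  kernel.lift_ι _ _ _

/-- the inverse map -/
def kernelToHomology : kernel D.j ⟶ K.homology (n + 1) :=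
  (K.homologyIsKernel (n + 1) n (by simp)).lift (KernelFork.ofι (kernel.ι D.j ≫ D.opcyclesIso.inv)
    (by rw [Category.assoc, opcyclesIso_inv_fromOpcycles, kernel.condition]))

@[reassoc (attr := simp)]
lemma kernelToHomology_ι :
    D.kernelToHomology ≫ K.homologyι (n + 1) = kernel.ι D.j ≫ D.opcyclesIso.inv :=
  (K.homologyIsKernel (n + 1) n (by simp)).fac _ WalkingParallelPair.zero

/-- homology in degree `n+1` is the kernel of `j` -/
def homologyIso : K.homology (n + 1) ≅ kernel D.j where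
  hom := D.homologyToKernel
  inv := D.kernelToHomology
  hom_inv_id := by
    rw [← cancel_mono (K.homologyι (n + 1))]
    simp
  inv_hom_id := by
    rw [← cancel_mono (kernel.ι D.j)]
    simp

/-- naturality of `homologyIso` -/
lemma homologyIso_hom_naturality (φ : K ⟶ L) (q : D.Q ⟶ D'.Q)
    (hp : D.p ≫ q = φ.f (n + 1) ≫ D'.p) (hj : D.j ≫ φ.f n = q ≫ D'.j) :
    HomologicalComplex.homologyMap φ (n + 1) ≫ D'.homologyIso.hom =
      D.homologyIso.hom ≫ kernel.map D.j D'.j q (φ.f n) hj := by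
  have h : HomologicalComplex.opcyclesMap φ (n + 1) ≫ D'.opcyclesIso.hom =
      D.opcyclesIso.hom ≫ q := by
    rw [← cancel_epi (K.pOpcycles (n + 1)), HomologicalComplex.p_opcyclesMap_assoc,
      p_opcyclesIso_hom, p_opcyclesIso_hom_assoc, hp]
  rw [← cancel_mono (kernel.ι D'.j)]
  simp only [homologyIso, Category.assoc, homologyToKernel_ι, kernel.lift_ι, kernel.map,
    homologyToKernel_ι_assoc]
  rw [HomologicalComplex.homologyι_naturality_assoc, h]

end RData

end Abstract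

/-! ### Lemma R: homology of a right exact functor applied to the resolution -/

section LemmaR

/-- `Z ↦ ker (G (syz Z) ⟶ G (freeOn Z))` -/
@[simps, reducible]
def KG (G : ModuleCat.{u} R ⥤ ModuleCat.{u} R) : ModuleCat.{u} R ⥤ ModuleCat.{u} R where
  obj Z := kernel (G.map (syzι.app Z))
  map {Z Z'} h := kernel.map _ _ (G.map (syz.map h)) (G.map (freeOn.map h))
    (by rw [← G.map_comp, ← G.map_comp, syzι.naturality])
  map_id Z := by
    rw [← cancel_mono (kernel.ι _)]
    simp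
  map_comp h h' := by
    rw [← cancel_mono (kernel.ι _)]
    simp

/-- functoriality of `KG` in `G` -/
@[simps]
def KGmap {G G' : ModuleCat.{u} R ⥤ ModuleCat.{u} R} (α : G ⟶ G') : KG G ⟶ KG G' where
  app Z := kernel.map _ _ (α.app _) (α.app _) (α.naturality _)
  naturality {Z Z'} h := by
    rw [← cancel_mono (kernel.ι _)]
    simp

@[reassoc]
lemma KG_map_ι (G : ModuleCat.{u} R ⥤ ModuleCat.{u} R) {Z Z' : ModuleCat.{u} R} (h : Z ⟶ Z') :
    (KG G).map h ≫ kernel.ι (G.map (syzι.app Z')) =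
      kernel.ι (G.map (syzι.app Z)) ≫ G.map (syz.map h) := by
  simp

@[reassoc]
lemma KGmap_app_ι {G G' : ModuleCat.{u} R ⥤ ModuleCat.{u} R} (α : G ⟶ G') (Z : ModuleCat.{u} R) :
    (KGmap α).app Z ≫ kernel.ι (G'.map (syzι.app Z)) =
      kernel.ι (G.map (syzι.app Z)) ≫ α.app _ := by
  simp

lemma resCx_d_succ (N : ModuleCat.{u} R) (n : ℕ) : (resCx N).d (n + 1) n = resD N n :=
  ChainComplex.of_d _ _ n

end LemmaR

/-! ### Splice data -/

section Splice

variable {V : Type u} [Category.{v} V] [Abelian V] {V' : Type u} [Category.{v} V'] [Abelian V']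

/-- A factorization `P_{n+1} ↠ Z ⟶ P_n` of the differential with `Z` the cokernel of
`P_{n+2} ⟶ P_{n+1}`. -/
structure Splice (P : ChainComplex V ℕ) (n : ℕ) where
  Z : V
  ε : P.X (n + 1) ⟶ Z
  ι : Z ⟶ P.X n
  fac : ε ≫ ι = P.d (n + 1) n
  wε : P.d (n + 2) (n + 1) ≫ ε = 0
  exact : (ShortComplex.mk _ _ wε).Exact
  epi : Epi ε

/-- the induced cokernel description for `G P` with `G` right exact -/
def Splice.rdata {P : ChainComplex V ℕ} {n : ℕ} (S : Splice P n) (G : V ⥤ V') [G.Additive]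
    [PreservesFiniteColimits G] :
    RData ((G.mapHomologicalComplex (ComplexShape.down ℕ)).obj P) n where
  Q := G.obj S.Z
  p := G.map S.ε
  j := G.map S.ι
  wp := by
    change G.map (P.d (n + 2) (n + 1)) ≫ G.map S.ε = 0
    rw [← G.map_comp, S.wε, G.map_zero]
  exact := S.exact.map_of_epi_of_preservesCokernel G S.epi inferInstance
  epi := by
    haveI : G.PreservesEpimorphisms :=
      preservesEpimorphisms_of_preservesColimitsOfShape G
    exact @Functor.map_epi _ _ _ _ G _ _ _ S.ε S.epi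
  fac := by
    change G.map S.ε ≫ G.map S.ι = G.map (P.d (n + 1) n)
    rw [← G.map_comp, S.fac]

end Splice

section LemmaR2

lemma exact_of_eq_f {A B D : ModuleCat.{u} R} {f f' : A ⟶ B} {g : B ⟶ D} (h : f = f')
    (w : f ≫ g = 0) (w' : f' ≫ g = 0) (hex : (ShortComplex.mk f g w).Exact) :
    (ShortComplex.mk f' g w').Exact := by
  subst h
  exact hex

/-- the splice data of the functorial resolution -/
def spliceRes (X : ModuleCat.{u} R) (n : ℕ) : Splice (resCx X) n where
  Z := syz.obj ((syzPow n).obj X)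
  ε := freeOnε.app (syz.obj ((syzPow n).obj X))
  ι := syzι.app ((syzPow n).obj X)
  fac := (resCx_d_succ X n).symm
  wε := (congrArg (· ≫ freeOnε.app (syz.obj ((syzPow n).obj X))) (resCx_d_succ X (n + 1))).trans
    (stepD_freeOnε (syz.obj ((syzPow n).obj X)))
  exact := exact_of_eq_f (resCx_d_succ X (n + 1)).symm _ _
    (stepD_freeOnε_exact (syz.obj ((syzPow n).obj X)))
  epi := freeOnε_epi _

lemma res_map_f' {N N' : ModuleCat.{u} R} (f : N ⟶ N') (n : ℕ) :
    (res.map f).f n = freeOn.map ((syzPow n).map f) := rfl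

/-- **Lemma R**: for right exact `G`, `H_{n+1}(G (res X)) ≅ ker (G (syz Z) ⟶ G (freeOn Z))`
with `Z = syz^n X`, naturally in `X`. -/
def isoR (G : ModuleCat.{u} R ⥤ ModuleCat.{u} R) [G.Additive] [PreservesFiniteColimits G]
    (n : ℕ) : HG G (n + 1) ≅ syzPow n ⋙ KG G :=
  NatIso.ofComponents (fun X => ((spliceRes X n).rdata G).homologyIso) (fun {X X'} f => by
    have hp : G.map (freeOnε.app (syz.obj ((syzPow n).obj X))) ≫
        G.map (syz.map ((syzPow n).map f)) =
        G.map (freeOn.map (syz.map ((syzPow n).map f))) ≫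
          G.map (freeOnε.app (syz.obj ((syzPow n).obj X'))) := by
      rw [← G.map_comp, ← G.map_comp]
      exact congrArg G.map (freeOnε.naturality (syz.map ((syzPow n).map f))).symm
    have hj : G.map (syzι.app ((syzPow n).obj X)) ≫ G.map (freeOn.map ((syzPow n).map f)) =
        G.map (syz.map ((syzPow n).map f)) ≫ G.map (syzι.app ((syzPow n).obj X')) := by
      rw [← G.map_comp, ← G.map_comp]
      exact congrArg G.map (syzι.naturality ((syzPow n).map f)).symm
    exact RData.homologyIso_hom_naturality ((spliceRes X n).rdata G) ((spliceRes X' n).rdata G)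
      ((G.mapHomologicalComplex _).map (res.map f)) (G.map (syz.map ((syzPow n).map f))) hp hj)

lemma isoR_naturality {G G' : ModuleCat.{u} R ⥤ ModuleCat.{u} R} [G.Additive]
    [PreservesFiniteColimits G] [G'.Additive] [PreservesFiniteColimits G'] (α : G ⟶ G') (n : ℕ) :
    HGmap α (n + 1) ≫ (isoR G' n).hom =
      (isoR G n).hom ≫ Functor.whiskerLeft (syzPow n) (KGmap α) := by
  apply NatTrans.ext; funext X
  exact RData.homologyIso_hom_naturality ((spliceRes X n).rdata G) ((spliceRes X n).rdata G')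
    ((NatTrans.mapHomologicalComplex α _).app (resCx X)) (α.app _)
    (α.naturality _) (α.naturality _)

end LemmaR2


/-! ### The bifunctor `Kl (Y, Z) = ker (Y ⊗ syz Z ⟶ Y ⊗ freeOn Z)` -/

lemma KGmap_id (G : ModuleCat.{u} R ⥤ ModuleCat.{u} R) : KGmap (𝟙 G) = 𝟙 _ := by
  apply NatTrans.ext; funext Z
  rw [← cancel_mono (kernel.ι _)]
  simp

lemma KGmap_comp {G G' G'' : ModuleCat.{u} R ⥤ ModuleCat.{u} R} (α : G ⟶ G') (β : G' ⟶ G'') :
    KGmap (α ≫ β) = KGmap α ≫ KGmap β := by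
  apply NatTrans.ext; funext Z
  rw [← cancel_mono (kernel.ι _)]
  simp

/-- `(Y, Z) ↦ ker (Y ⊗ syz Z ⟶ Y ⊗ freeOn Z)` -/
def Kl : ModuleCat.{u} R ⥤ ModuleCat.{u} R ⥤ ModuleCat.{u} R where
  obj Y := KG (TL Y)
  map g := KGmap (TLmap g)
  map_id Y := by
    rw [show TLmap (𝟙 Y) = 𝟙 _ from (tensoringLeft (ModuleCat.{u} R)).map_id Y]
    exact KGmap_id _
  map_comp f g := by
    rw [show TLmap (f ≫ g) = TLmap f ≫ TLmap g from (tensoringLeft (ModuleCat.{u} R)).map_comp f g]
    exact KGmap_comp _ _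

/-- Lemma R as an isomorphism of bifunctors. -/
def isoRA (n : ℕ) : (A (n + 1) : ModuleCat.{u} R ⥤ ModuleCat.{u} R ⥤ ModuleCat.{u} R) ≅
    Kl ⋙ (Functor.whiskeringLeft _ _ _).obj (syzPow n) :=
  NatIso.ofComponents (fun Y => isoR (TL Y) n) (fun g => isoR_naturality (TLmap g) n)

/-! ### Degree one -/

/-- `H_0(Z ⊗ res Y) ≅ Y ⊗ Z` -/
def zeroBraidIso (Z Y : ModuleCat.{u} R) : (HG (TL Z) 0).obj Y ≅ (TL Y).obj Z :=
  asIso (zeroHom (TL Z) Y) ≪≫ β_ Z Y

lemma zeroBraidIso_hom (Z Y : ModuleCat.{u} R) :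
    (zeroBraidIso Z Y).hom = zeroHom (TL Z) Y ≫ (β_ Z Y).hom := rfl

lemma zeroBraidIso_naturality₁ {Z Z' : ModuleCat.{u} R} (f : Z ⟶ Z') (Y : ModuleCat.{u} R) :
    ((A 0).map f).app Y ≫ (zeroBraidIso Z' Y).hom =
      (zeroBraidIso Z Y).hom ≫ (TL Y).map f := by
  have h1 := zeroHom_naturality₁ (TLmap f) Y
  have h2 : (TLmap f).app Y ≫ (β_ Z' Y).hom = (β_ Z Y).hom ≫ (TL Y).map f :=
    BraidedCategory.braiding_naturality_left f Y
  calc _ = (((A 0).map f).app Y ≫ zeroHom (TL Z') Y) ≫ (β_ Z' Y).hom :=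
        (Category.assoc _ _ _).symm
    _ = (zeroHom (TL Z) Y ≫ (TLmap f).app Y) ≫ (β_ Z' Y).hom := congrArg (· ≫ _) h1
    _ = zeroHom (TL Z) Y ≫ (TLmap f).app Y ≫ (β_ Z' Y).hom := Category.assoc _ _ _
    _ = zeroHom (TL Z) Y ≫ (β_ Z Y).hom ≫ (TL Y).map f := congrArg (_ ≫ ·) h2
    _ = _ := (Category.assoc _ _ _).symm

lemma zeroBraidIso_naturality₂ (Z : ModuleCat.{u} R) {Y Y' : ModuleCat.{u} R} (g : Y ⟶ Y') :
    ((A 0).obj Z).map g ≫ (zeroBraidIso Z Y').hom =
      (zeroBraidIso Z Y).hom ≫ (TLmap g).app Z := by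
  have h1 := zeroHom_naturality₂ (TL Z) g
  have h2 : (TL Z).map g ≫ (β_ Z Y').hom = (β_ Z Y).hom ≫ (TLmap g).app Z :=
    BraidedCategory.braiding_naturality_right Z g
  calc _ = (((A 0).obj Z).map g ≫ zeroHom (TL Z) Y') ≫ (β_ Z Y').hom :=
        (Category.assoc _ _ _).symm
    _ = (zeroHom (TL Z) Y ≫ (TL Z).map g) ≫ (β_ Z Y').hom := congrArg (· ≫ _) h1
    _ = zeroHom (TL Z) Y ≫ (TL Z).map g ≫ (β_ Z Y').hom := Category.assoc _ _ _
    _ = zeroHom (TL Z) Y ≫ (β_ Z Y).hom ≫ (TLmap g).app Z := congrArg (_ ≫ ·) h2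
    _ = _ := (Category.assoc _ _ _).symm

/-- the map `H_1(X ⊗ res Y) ⟶ Y ⊗ syz X` -/
def ι₁ (X Y : ModuleCat.{u} R) : ((A 1).obj X).obj Y ⟶ (TL Y).obj (syz.obj X) :=
  δA X Y 0 ≫ (zeroBraidIso (syz.obj X) Y).hom

lemma δA_zero_comp (X Y : ModuleCat.{u} R) :
    δA X Y 0 ≫ ((A 0).map (syzι.app X)).app Y = 0 :=
  (tens_shortExact X Y).δ_comp 1 0 rfl

lemma ι₁_comp (X Y : ModuleCat.{u} R) : ι₁ X Y ≫ (TL Y).map (syzι.app X) = 0 := by
  have h := zeroBraidIso_naturality₁ (syzι.app X) Y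
  calc _ = δA X Y 0 ≫ (zeroBraidIso (syz.obj X) Y).hom ≫ (TL Y).map (syzι.app X) :=
        Category.assoc _ _ _
    _ = δA X Y 0 ≫ ((A 0).map (syzι.app X)).app Y ≫ (zeroBraidIso (freeOn.obj X) Y).hom :=
        congrArg (_ ≫ ·) h.symm
    _ = (δA X Y 0 ≫ ((A 0).map (syzι.app X)).app Y) ≫ (zeroBraidIso (freeOn.obj X) Y).hom :=
        (Category.assoc _ _ _).symm
    _ = 0 := by rw [δA_zero_comp, zero_comp]

instance mono_δA_zero (X Y : ModuleCat.{u} R) : Mono (δA X Y 0) :=
  ((tens_shortExact X Y).homology_exact₃ 1 0 rfl).mono_g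
    ((isZero_A_succ_of_flat (freeOn.obj X) Y 0).eq_of_src _ _)

instance mono_ι₁ (X Y : ModuleCat.{u} R) : Mono (ι₁ X Y) := by
  unfold ι₁
  exact mono_comp _ _

/-- `ι₁` is a kernel of `Y ⊗ syz X ⟶ Y ⊗ freeOn X` -/
def ι₁IsKernel (X Y : ModuleCat.{u} R) : IsLimit (KernelFork.ofι (ι₁ X Y) (ι₁_comp X Y)) := by
  have h1 := (tens_shortExact X Y).homology_exact₁ 1 0 rfl
  let T2 : ShortComplex (ModuleCat.{u} R) := ShortComplex.mk (ι₁ X Y) _ (ι₁_comp X Y)
  have e : ShortComplex.mk _ _ ((tens_shortExact X Y).δ_comp 1 0 rfl) ≅ T2 :=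
    ShortComplex.isoMk (Iso.refl _) (zeroBraidIso (syz.obj X) Y) (zeroBraidIso (freeOn.obj X) Y)
      (Category.id_comp _).symm (zeroBraidIso_naturality₁ (syzι.app X) Y).symm
  have h2 : T2.Exact := ShortComplex.exact_of_iso e h1
  haveI : Mono T2.f := mono_ι₁ X Y
  exact h2.fIsKernel

/-- `H_1(X ⊗ res Y) ≅ ker (Y ⊗ syz X ⟶ Y ⊗ freeOn X)` -/
def isoOne (X Y : ModuleCat.{u} R) :
    ((A 1).obj X).obj Y ≅ kernel ((TL Y).map (syzι.app X)) :=
  IsLimit.conePointUniqueUpToIso (s := KernelFork.ofι (ι₁ X Y) (ι₁_comp X Y))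
    (t := KernelFork.ofι (kernel.ι ((TL Y).map (syzι.app X))) (kernel.condition _))
    (ι₁IsKernel X Y) (kernelIsKernel ((TL Y).map (syzι.app X)))

@[reassoc]
lemma isoOne_hom_ι (X Y : ModuleCat.{u} R) :
    (isoOne X Y).hom ≫ kernel.ι ((TL Y).map (syzι.app X)) = ι₁ X Y :=
  IsLimit.conePointUniqueUpToIso_hom_comp (s := KernelFork.ofι (ι₁ X Y) (ι₁_comp X Y))
    (t := KernelFork.ofι (kernel.ι ((TL Y).map (syzι.app X))) (kernel.condition _))
    (ι₁IsKernel X Y) (kernelIsKernel ((TL Y).map (syzι.app X))) WalkingParallelPair.zero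

lemma ι₁_naturality₁ {X X' : ModuleCat.{u} R} (f : X ⟶ X') (Y : ModuleCat.{u} R) :
    ((A 1).map f).app Y ≫ ι₁ X' Y = ι₁ X Y ≫ (TL Y).map (syz.map f) := by
  have h1 := δA_naturality₁ f Y 0
  have h2 := zeroBraidIso_naturality₁ (syz.map f) Y
  calc _ = (((A 1).map f).app Y ≫ δA X' Y 0) ≫ (zeroBraidIso (syz.obj X') Y).hom :=
        (Category.assoc _ _ _).symm
    _ = (δA X Y 0 ≫ ((A 0).map (syz.map f)).app Y) ≫ (zeroBraidIso (syz.obj X') Y).hom :=
        congrArg (· ≫ _) h1.symm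
    _ = δA X Y 0 ≫ ((A 0).map (syz.map f)).app Y ≫ (zeroBraidIso (syz.obj X') Y).hom :=
        Category.assoc _ _ _
    _ = δA X Y 0 ≫ (zeroBraidIso (syz.obj X) Y).hom ≫ (TL Y).map (syz.map f) :=
        congrArg (_ ≫ ·) h2
    _ = _ := (Category.assoc _ _ _).symm

lemma ι₁_naturality₂ (X : ModuleCat.{u} R) {Y Y' : ModuleCat.{u} R} (g : Y ⟶ Y') :
    ((A 1).obj X).map g ≫ ι₁ X Y' = ι₁ X Y ≫ (TLmap g).app (syz.obj X) := by
  have h1 := δA_naturality₂ X g 0
  have h2 := zeroBraidIso_naturality₂ (syz.obj X) g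
  calc _ = (((A 1).obj X).map g ≫ δA X Y' 0) ≫ (zeroBraidIso (syz.obj X) Y').hom :=
        (Category.assoc _ _ _).symm
    _ = (δA X Y 0 ≫ ((A 0).obj (syz.obj X)).map g) ≫ (zeroBraidIso (syz.obj X) Y').hom :=
        congrArg (· ≫ _) h1.symm
    _ = δA X Y 0 ≫ ((A 0).obj (syz.obj X)).map g ≫ (zeroBraidIso (syz.obj X) Y').hom :=
        Category.assoc _ _ _
    _ = δA X Y 0 ≫ (zeroBraidIso (syz.obj X) Y).hom ≫ (TLmap g).app (syz.obj X) :=
        congrArg (_ ≫ ·) h2
    _ = _ := (Category.assoc _ _ _).symm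

lemma isoOne_naturality₁ {X X' : ModuleCat.{u} R} (f : X ⟶ X') (Y : ModuleCat.{u} R) :
    ((A 1).map f).app Y ≫ (isoOne X' Y).hom = (isoOne X Y).hom ≫ (KG (TL Y)).map f := by
  rw [← cancel_mono (kernel.ι ((TL Y).map (syzι.app X')))]
  rw [Category.assoc, Category.assoc, isoOne_hom_ι, KG_map_ι, isoOne_hom_ι_assoc]
  exact ι₁_naturality₁ f Y

lemma isoOne_naturality₂ (X : ModuleCat.{u} R) {Y Y' : ModuleCat.{u} R} (g : Y ⟶ Y') :
    ((A 1).obj X).map g ≫ (isoOne X Y').hom = (isoOne X Y).hom ≫ (KGmap (TLmap g)).app X := by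
  rw [← cancel_mono (kernel.ι ((TL Y').map (syzι.app X)))]
  rw [Category.assoc, Category.assoc, isoOne_hom_ι, KGmap_app_ι, isoOne_hom_ι_assoc]
  exact ι₁_naturality₂ X g

/-- `A 1 ≅ Kl.flip` as bifunctors -/
def isoOneA : (A 1 : ModuleCat.{u} R ⥤ ModuleCat.{u} R ⥤ ModuleCat.{u} R) ≅ Kl.flip :=
  NatIso.ofComponents
    (fun X => NatIso.ofComponents (fun Y => isoOne X Y) (fun g => isoOne_naturality₂ X g))
    (fun {X X'} f => by
      apply NatTrans.ext; funext Y
      exact isoOne_naturality₁ f Y)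

/-! ### Assembling -/

/-- iterated shift isomorphisms -/
def iterShift : (n m j : ℕ) → j = m + n →
    ((syzPow m ⋙ A (n + 1) : ModuleCat.{u} R ⥤ ModuleCat.{u} R ⥤ ModuleCat.{u} R) ≅
      syzPow j ⋙ A 1)
  | 0, m, j, h => by
    subst h
    exact Iso.refl _
  | n + 1, m, j, h =>
    Functor.isoWhiskerLeft (syzPow m) (shiftA n) ≪≫ (Functor.associator _ _ _).symm ≪≫
      iterShift n (m + 1) j (by omega)

/-- `A (n+1) ≅ syz^n ⋙ Kl.flip` -/
def isoAK (n : ℕ) : (A (n + 1) : ModuleCat.{u} R ⥤ ModuleCat.{u} R ⥤ ModuleCat.{u} R) ≅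
    syzPow n ⋙ Kl.flip :=
  (Functor.leftUnitor (A (n + 1))).symm ≪≫ iterShift n 0 n (by simp) ≪≫
    Functor.isoWhiskerLeft (syzPow n) isoOneA

/-- a formal isomorphism -/
def flipWhiskerIso (n : ℕ) :
    ((Kl ⋙ (Functor.whiskeringLeft _ _ _).obj (syzPow n) :
      ModuleCat.{u} R ⥤ ModuleCat.{u} R ⥤ ModuleCat.{u} R)).flip ≅ syzPow n ⋙ Kl.flip :=
  NatIso.ofComponents (fun X => NatIso.ofComponents (fun Y => Iso.refl _)
    (fun g => (Category.comp_id _).trans (Category.id_comp _).symm))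
    (fun {X X'} f => by
      apply NatTrans.ext; funext Y
      exact (Category.comp_id _).trans (Category.id_comp _).symm)

/-- `(A (n+1)).flip ≅ syz^n ⋙ Kl.flip` -/
def isoFK (n : ℕ) : (A (n + 1) : ModuleCat.{u} R ⥤ ModuleCat.{u} R ⥤ ModuleCat.{u} R).flip ≅
    syzPow n ⋙ Kl.flip :=
  (flipFunctor _ _ _).mapIso (isoRA n) ≪≫ flipWhiskerIso n

/-- symmetry of `A n` -/
def symmA : (n : ℕ) →
    ((A n : ModuleCat.{u} R ⥤ ModuleCat.{u} R ⥤ ModuleCat.{u} R) ≅ (A n).flip)
  | 0 => zeroIsoA ≪≫ BraidedCategory.curriedBraidingNatIso (ModuleCat.{u} R) ≪≫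
      ((flipFunctor _ _ _).mapIso zeroIsoA).symm
  | n + 1 => isoAK n ≪≫ (isoFK n).symm

/-- **Symmetry of `Tor` as a bifunctor.** -/
def torSymm (n : ℕ) : Tor (ModuleCat.{u} R) n ≅ (Tor (ModuleCat.{u} R) n).flip :=
  torIsoA n ≪≫ symmA n ≪≫ ((flipFunctor _ _ _).mapIso (torIsoA n)).symm

end Groth.Agent.Lib.Helper15.TorSymm
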