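import Groth.Agent.Lib.Helper15.Adic

/-!
# Existence of quotients modulo an ideal in a linear abelian category, quotient systems (helper15)
-/

set_option autoImplicit false
open CategoryTheory CategoryTheory.Limits Opposite
universe w v u

namespace Groth.Agent.Lib.Helper15

open ARSys

section Exists

variable {C : Type u} [Category.{v} C] [Abelian C] {A : Type w} [CommRing A] [Linear A C]

theorem exists_gens (I : Ideal A) (h : I.FG ∨ HasCoproducts.{w} C) :
    ∃ (ι : Type w) (g : ι → A), Ideal.span (Set.range g) = I ∧ HasCoproductsOfShape ι C := by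
  rcases h with h | h
  · obtain ⟨s, hs⟩ := h
    refine ⟨s, fun i => i.1, ?_, ?_⟩
    · rw [Subtype.range_coe_subtype]
      exact hs
    · exact hasColimitsOfShape_discrete C s
  · exact ⟨I, fun i => i.1, by rw [Subtype.range_coe_subtype]; exact Ideal.span_eq I, h I⟩

/-- The quotient `X ⟶ X ⧸ I X` exists. -/
theorem exists_isQuot (I : Ideal A) (h : I.FG ∨ HasCoproducts.{w} C) (X : C) :
    ∃ (Q : C) (p : X ⟶ Q), IsQuot I p := by
  obtain ⟨ι, g, hg, _⟩ := exists_gens (C := C) I h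
  let d : (∐ fun _ : ι => X) ⟶ X := Sigma.desc fun i => g i • 𝟙 X
  have hd : ∀ i, Sigma.ι (fun _ : ι => X) i ≫ d = g i • 𝟙 X := fun i => Sigma.ι_desc _ _
  refine ⟨cokernel d, cokernel.π d, ?_, ?_⟩
  · intro a ha
    rw [← cancel_epi (cokernel.π d), comp_zero, Linear.comp_smul, Category.comp_id]
    rw [← hg] at ha
    induction ha using Submodule.span_induction with
    | mem x hx =>
      obtain ⟨i, rfl⟩ := hx
      have : g i • cokernel.π d = (g i • 𝟙 X) ≫ cokernel.π d := by
        rw [Linear.smul_comp, Category.id_comp]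
      rw [this, ← hd i, Category.assoc, cokernel.condition, comp_zero]
    | zero => exact zero_smul _ _
    | add x y _ _ hx hy => rw [add_smul, hx, hy, add_zero]
    | smul c x _ hx => rw [smul_eq_mul, mul_smul, hx, smul_zero]
  · intro Y φ hφ
    have h0 : d ≫ φ = 0 := by
      apply Sigma.hom_ext
      intro i
      rw [← Category.assoc, hd i, Linear.smul_comp, Category.id_comp, comp_zero]
      apply hφ
      rw [← hg]
      exact Ideal.subset_span ⟨i, rfl⟩
    refine ⟨cokernel.desc d φ h0, cokernel.π_desc _ _ _, fun ψ hψ => ?_⟩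
    have hψ' : cokernel.π d ≫ ψ = φ := hψ
    rw [← cancel_epi (cokernel.π d), hψ', cokernel.π_desc]

theorem pow_fg_or {J : Ideal A} (hJ : J.FG ∨ HasCoproducts.{w} C) (n : ℕ) :
    (J ^ n).FG ∨ HasCoproducts.{w} C :=
  hJ.imp (fun h => h.pow) id

end Exists

section Factors

variable {C : Type u} [Category.{v} C] [Abelian C] {A : Type w} [CommRing A] [Linear A C]

/-- `e` has kernel inside `I X`: every morphism killed by `I` factors through `e`. -/
def FactorsKilled (I : Ideal A) {X X' : C} (e : X ⟶ X') : Prop :=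
  ∀ (Z : C) (φ : X ⟶ Z), HomKilledBy I φ → ∃ ψ : X' ⟶ Z, e ≫ ψ = φ

theorem factorsKilled_id (I : Ideal A) (X : C) : FactorsKilled I (𝟙 X) :=
  fun _ φ _ => ⟨φ, Category.id_comp φ⟩

theorem factorsKilled_of_eq (I : Ideal A) {X X' : C} {e e' : X ⟶ X'} (h : e = e')
    (he : FactorsKilled I e) : FactorsKilled I e' := h ▸ he

theorem factorsKilled_mono_ideal {I I' : Ideal A} (h : I' ≤ I) {X X' : C} {e : X ⟶ X'}
    (he : FactorsKilled I' e) : FactorsKilled I e :=
  fun Z φ hφ => he Z φ (homKilledBy_mono_ideal h hφ)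

theorem factorsKilled_comp {I : Ideal A} {X X' X'' : C} {e₁ : X ⟶ X'} {e₂ : X' ⟶ X''} [Epi e₁]
    (h₁ : FactorsKilled I e₁) (h₂ : FactorsKilled I e₂) : FactorsKilled I (e₁ ≫ e₂) := by
  intro Z φ hφ
  obtain ⟨φ', rfl⟩ := h₁ Z φ hφ
  obtain ⟨φ'', rfl⟩ := h₂ Z φ' (homKilledBy_of_epi_comp e₁ hφ)
  exact ⟨φ'', Category.assoc _ _ _⟩

theorem factorsKilled_iff_subLEIdeal (I : Ideal A) {X X' : C} (e : X ⟶ X') [Epi e] :
    FactorsKilled I e ↔ SubLEIdeal I (kernelSubobject e) := by
  constructor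
  · intro h Z φ hφ
    obtain ⟨ψ, rfl⟩ := h Z φ hφ
    rw [← Category.assoc, kernelSubobject_arrow_comp, zero_comp]
  · intro h Z φ hφ
    have h1 : kernel.ι e ≫ φ = 0 := by
      rw [← kernelSubobject_arrow', Category.assoc, h Z φ hφ, comp_zero]
    have exk : (ShortComplex.mk (kernel.ι e) e (kernel.condition _)).Exact :=
      ShortComplex.exact_of_f_is_kernel _ (kernelIsKernel _)
    have : Epi (ShortComplex.mk (kernel.ι e) e (kernel.condition _)).g := ‹Epi e›
    exact ⟨exk.desc φ h1, exk.g_desc φ h1⟩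

theorem isQuot_comp_of_factorsKilled {I : Ideal A} {X X' Q : C} {e : X ⟶ X'} [Epi e]
    (he : FactorsKilled I e) {p : X' ⟶ Q} (hp : IsQuot I p) : IsQuot I (e ≫ p) := by
  haveI := isQuot_epi hp
  refine ⟨hp.1, fun Z φ hφ => ?_⟩
  obtain ⟨φ', rfl⟩ := he Z φ hφ
  obtain ⟨ψ, rfl⟩ := isQuot_exists_desc hp φ' (homKilledBy_of_epi_comp e hφ)
  refine ⟨ψ, Category.assoc _ _ _, fun ψ' hψ' => ?_⟩
  have hψ'' : (e ≫ p) ≫ ψ' = e ≫ p ≫ ψ := hψ'
  rw [← cancel_epi p, ← cancel_epi e, ← Category.assoc, hψ'']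

/-- A quotient map factors killed morphisms. -/
theorem factorsKilled_of_isQuot {I : Ideal A} {X Q : C} {p : X ⟶ Q} (hp : IsQuot I p) :
    FactorsKilled I p := fun _ φ hφ => isQuot_exists_desc hp φ hφ

end Factors

section System

variable {C : Type u} [Category.{v} C] [Abelian C] {A : Type w} [CommRing A] [Linear A C]

/-- Assemble termwise quotients `X_{n+r} ⟶ Q_n` modulo `J^{n+1}` into a projective system. -/
theorem exists_quot_system (J : Ideal A) (X : PS C) (r : ℕ) (Q : ℕ → C)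
    (p : ∀ n, X.obj (op (n + r)) ⟶ Q n) (hp : ∀ n, IsQuot (J ^ (n + 1)) (p n)) :
    ∃ (Y : PS C) (q : ∀ n, X.obj (op (n + r)) ⟶ Y.obj (op n)),
      (∀ (n m : ℕ) (h : n ≤ m), tr X (Nat.add_le_add_right h r) ≫ q n = q m ≫ tr Y h) ∧
      ∀ n, IsQuot (J ^ (n + 1)) (q n) := by
  have hpe : ∀ n, Epi (p n) := fun n => isQuot_epi (hp n)
  have ht : ∀ (n m : ℕ) (h : n ≤ m), ∃ t : Q m ⟶ Q n,
      p m ≫ t = tr X (Nat.add_le_add_right h r) ≫ p n := fun n m h =>
    isQuot_exists_desc (hp m) _ (killedBy_hom_right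
      (killedBy_mono_ideal (Ideal.pow_le_pow_right (Nat.succ_le_succ h)) (hp n).1) _)
  choose t ht using ht
  let Y : PS C :=
    { obj := fun k => Q k.unop
      map := fun {a b} f => t b.unop a.unop (leOfHom f.unop)
      map_id := fun a => by
        have := hpe a.unop
        rw [← cancel_epi (p a.unop), ht, tr_refl, Category.id_comp, Category.comp_id]
      map_comp := fun {a b c} f g => by
        have := hpe a.unop
        rw [← cancel_epi (p a.unop), ht, ← Category.assoc, ht, Category.assoc, ht,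
          ← Category.assoc, tr_comp] }
  exact ⟨Y, p, fun n m h => (ht n m h).symm, hp⟩

theorem isAdic_of_quot_system (J : Ideal A) {X Y : PS C} (r : ℕ)
    (q : ∀ n, X.obj (op (n + r)) ⟶ Y.obj (op n))
    (qnat : ∀ (n m : ℕ) (h : n ≤ m), tr X (Nat.add_le_add_right h r) ≫ q n = q m ≫ tr Y h)
    (hq : ∀ n, IsQuot (J ^ (n + 1)) (q n)) (hX : IsStrict X)
    (hF : ∀ (n m : ℕ) (h : n ≤ m), FactorsKilled (J ^ (n + 1)) (tr X (Nat.add_le_add_right h r))) :
    IsAdic J Y := by
  refine ⟨fun n => (hq n).1, fun n m h => ?_⟩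
  haveI := isQuot_epi (hq m)
  apply isQuot_of_epi_comp (q m)
  rw [← qnat n m h]
  haveI := hX _ _ (Nat.add_le_add_right h r)
  exact isQuot_comp_of_factorsKilled (hF n m h) (hq n)

end System

end Groth.Agent.Lib.Helper15
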