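import Groth.Agent.Lib.Helper15.ARIso

/-!
# Basic API for `KilledBy`, `HomKilledBy`, `IsQuot`, and morphisms of systems (helper15)
-/

set_option autoImplicit false
open CategoryTheory CategoryTheory.Limits Opposite
universe w v u

namespace Groth.Agent.Lib.Helper15

open ARSys

section Maps

variable {C : Type u} [Category.{v} C]

theorem map_congr' (X : PS C) {a b : ℕᵒᵖ} (f g : a ⟶ b) : X.map f = X.map g :=
  congrArg X.map (Subsingleton.elim _ _)

theorem map_eq_tr (X : PS C) {a b : ℕᵒᵖ} (f : a ⟶ b) : X.map f = tr X (leOfHom f.unop) :=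
  map_congr' X _ _

/-- Build a morphism of systems from components, naturality checked on transition maps. -/
def mkHom {X Y : PS C} (φ : ∀ n, X.obj (op n) ⟶ Y.obj (op n))
    (h : ∀ (n m : ℕ) (h : n ≤ m), tr X h ≫ φ n = φ m ≫ tr Y h) : X ⟶ Y where
  app k := φ k.unop
  naturality k l f := by
    rw [map_eq_tr X f, map_eq_tr Y f]
    exact h _ _ _

@[simp] theorem mkHom_app {X Y : PS C} (φ : ∀ n, X.obj (op n) ⟶ Y.obj (op n))
    (h : ∀ (n m : ℕ) (h : n ≤ m), tr X h ≫ φ n = φ m ≫ tr Y h) (n : ℕ) :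
    (mkHom φ h).app (op n) = φ n := rfl

theorem shift_map_eq_tr (X : PS C) (r : ℕ) {a b : ℕᵒᵖ} (f : a ⟶ b) :
    ((shift C r).obj X).map f = tr X (Nat.add_le_add_right (leOfHom f.unop) r) :=
  map_congr' X _ _

theorem tr_shift (X : PS C) (r : ℕ) {n m : ℕ} (h : n ≤ m) :
    tr ((shift C r).obj X) h = tr X (Nat.add_le_add_right h r) :=
  map_congr' X _ _

/-- Build a morphism out of a translated system. -/
def mkHomShift {X Y : PS C} (r : ℕ) (φ : ∀ n, X.obj (op (n + r)) ⟶ Y.obj (op n))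
    (h : ∀ (n m : ℕ) (h : n ≤ m), tr X (Nat.add_le_add_right h r) ≫ φ n = φ m ≫ tr Y h) :
    (shift C r).obj X ⟶ Y where
  app k := φ k.unop
  naturality k l f := by
    rw [shift_map_eq_tr X r f, map_eq_tr Y f]
    exact h _ _ _

@[simp] theorem mkHomShift_app {X Y : PS C} (r : ℕ) (φ : ∀ n, X.obj (op (n + r)) ⟶ Y.obj (op n))
    (h : ∀ (n m : ℕ) (h : n ≤ m), tr X (Nat.add_le_add_right h r) ≫ φ n = φ m ≫ tr Y h) (n : ℕ) :
    (mkHomShift r φ h).app (op n) = φ n := rfl

/-- naturality of a morphism out of a translated system, in terms of `tr`. -/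
theorem shift_naturality {X Y : PS C} (r : ℕ) (q : (shift C r).obj X ⟶ Y) {n m : ℕ} (h : n ≤ m) :
    tr X (Nat.add_le_add_right h r) ≫ q.app (op n) = q.app (op m) ≫ tr Y h := by
  have := q.naturality (homOfLE h).op
  rw [shift_map_eq_tr] at this
  exact this

end Maps

section Linear

variable {C : Type u} [Category.{v} C] {A : Type w} [CommRing A] [Preadditive C] [Linear A C]

theorem homKilledBy_comp_left {I : Ideal A} {X Y Z : C} {φ : Y ⟶ Z} (hφ : HomKilledBy I φ)
    (f : X ⟶ Y) : HomKilledBy I (f ≫ φ) := fun a ha => by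
  rw [← Linear.comp_smul, hφ a ha, comp_zero]

theorem homKilledBy_comp_right {I : Ideal A} {X Y Z : C} {φ : X ⟶ Y} (hφ : HomKilledBy I φ)
    (f : Y ⟶ Z) : HomKilledBy I (φ ≫ f) := fun a ha => by
  rw [← Linear.smul_comp, hφ a ha, zero_comp]

theorem killedBy_hom_right {I : Ideal A} {Y : C} (hY : KilledBy I Y) {X : C} (φ : X ⟶ Y) :
    HomKilledBy I φ := fun a ha => by
  have : a • φ = φ ≫ (a • 𝟙 Y) := by rw [Linear.comp_smul, Category.comp_id]
  rw [this, hY a ha, comp_zero]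

theorem killedBy_hom_left {I : Ideal A} {X : C} (hX : KilledBy I X) {Y : C} (φ : X ⟶ Y) :
    HomKilledBy I φ := fun a ha => by
  have : a • φ = (a • 𝟙 X) ≫ φ := by rw [Linear.smul_comp, Category.id_comp]
  rw [this, hX a ha, zero_comp]

theorem killedBy_of_epi {I : Ideal A} {X Y : C} (p : X ⟶ Y) [Epi p] (hX : KilledBy I X) :
    KilledBy I Y := fun a ha => by
  rw [← cancel_epi p, Linear.comp_smul, Category.comp_id, comp_zero]
  exact killedBy_hom_left hX p a ha

theorem killedBy_of_mono {I : Ideal A} {X Y : C} (i : X ⟶ Y) [Mono i] (hY : KilledBy I Y) :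
    KilledBy I X := fun a ha => by
  rw [← cancel_mono i, Linear.smul_comp, Category.id_comp, zero_comp]
  exact killedBy_hom_right hY i a ha

theorem killedBy_mono_ideal {I I' : Ideal A} (h : I' ≤ I) {X : C} (hX : KilledBy I X) :
    KilledBy I' X := fun a ha => hX a (h ha)

theorem homKilledBy_mono_ideal {I I' : Ideal A} (h : I' ≤ I) {X Y : C} {φ : X ⟶ Y}
    (hφ : HomKilledBy I φ) : HomKilledBy I' φ := fun a ha => hφ a (h ha)

theorem homKilledBy_of_epi_comp {I : Ideal A} {X Y Z : C} (p : X ⟶ Y) [Epi p] {φ : Y ⟶ Z}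
    (h : HomKilledBy I (p ≫ φ)) : HomKilledBy I φ := fun a ha => by
  rw [← cancel_epi p, Linear.comp_smul, h a ha, comp_zero]

theorem isQuot_epi {I : Ideal A} {X Q : C} {p : X ⟶ Q} (hp : IsQuot I p) : Epi p := by
  apply Preadditive.epi_of_cancel_zero
  intro T c hc
  have hk : HomKilledBy I (0 : X ⟶ T) := fun a _ => smul_zero a
  obtain ⟨ψ, -, hu⟩ := hp.2 T 0 hk
  rw [hu c hc, hu 0 comp_zero]

theorem isQuot_exists_desc {I : Ideal A} {X Q : C} {p : X ⟶ Q} (hp : IsQuot I p) {Y : C}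
    (φ : X ⟶ Y) (hφ : HomKilledBy I φ) : ∃ ψ : Q ⟶ Y, p ≫ ψ = φ :=
  (hp.2 Y φ hφ).exists

/-- A morphism that is, up to precomposition with an epi, a quotient map, is a quotient map. -/
theorem isQuot_of_epi_comp {I : Ideal A} {X' X Q : C} (e : X' ⟶ X) [Epi e] {p : X ⟶ Q}
    (hp : IsQuot I (e ≫ p)) : IsQuot I p := by
  haveI : Epi (e ≫ p) := isQuot_epi hp
  haveI : Epi p := epi_of_epi e p
  refine ⟨hp.1, fun Y φ hφ => ?_⟩
  obtain ⟨ψ, hψ⟩ := isQuot_exists_desc hp (e ≫ φ) (homKilledBy_comp_left hφ e)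
  refine ⟨ψ, ?_, fun ψ' hψ' => ?_⟩
  · show p ≫ ψ = φ
    rw [← cancel_epi e, ← Category.assoc, hψ]
  · have hψ'' : p ≫ ψ' = φ := hψ'
    rw [← cancel_epi p, hψ'', ← cancel_epi e, ← Category.assoc, hψ]

end Linear

end Groth.Agent.Lib.Helper15
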