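import Groth.Agent.Lib.Helper15.AdicQuot
import Groth.Agent.S3158
import Mathlib.CategoryTheory.Abelian.Refinements

/-!
# Extensions and AR-adic systems (helper15)
-/

set_option autoImplicit false
open CategoryTheory CategoryTheory.Limits Opposite
universe w v u

namespace Groth.Agent.Lib.Helper15

open ARSys

section

variable {C : Type u} [Category.{v} C] [Abelian C]

/-- Termwise exactness from exactness in the category of systems. -/
theorem exact_app_of_exact {X Y Z : PS C} (b : X ⟶ Y) (c : Y ⟶ Z) (wbc : b ≫ c = 0)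
    (h : (ShortComplex.mk b c wbc).Exact) (n : ℕ) :
    (ShortComplex.mk (b.app (op n)) (c.app (op n))
      (by rw [← NatTrans.comp_app, wbc]; rfl)).Exact :=
  h.map ((evaluation ℕᵒᵖ C).obj (op n))

/-- Middle term of a termwise exact `X ⟶ Y ⟶ Z ⟶ 0` with `X`, `Z` strict is strict. -/
theorem isStrict_of_ext {X Y Z : PS C} (b : X ⟶ Y) (c : Y ⟶ Z)
    (w : ∀ n, b.app (op n) ≫ c.app (op n) = 0)
    (hex : ∀ n, (ShortComplex.mk _ _ (w n)).Exact) (hc : ∀ n, Epi (c.app (op n)))
    (hX : IsStrict X) (hZ : IsStrict Z) : IsStrict Y := by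
  intro n m h
  rw [epi_iff_surjective_up_to_refinements]
  intro T y
  haveI := hZ n m h
  haveI := hc m
  haveI := hX n m h
  obtain ⟨T1, π1, _, z, hz⟩ := surjective_up_to_refinements_of_epi (tr Z h) (y ≫ c.app (op n))
  obtain ⟨T2, π2, _, y', hy'⟩ := surjective_up_to_refinements_of_epi (c.app (op m)) z
  have h0 : (π2 ≫ π1 ≫ y - y' ≫ tr Y h) ≫ c.app (op n) = 0 := by
    rw [Preadditive.sub_comp, Category.assoc, Category.assoc, Category.assoc, tr_naturality,
      ← Category.assoc y', ← hy', hz]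
    simp only [Category.assoc, sub_self]
  obtain ⟨T3, π3, _, x, hx⟩ := (hex n).exact_up_to_refinements _ h0
  obtain ⟨T4, π4, _, x', hx'⟩ := surjective_up_to_refinements_of_epi (tr X h) x
  refine ⟨T4, π4 ≫ π3 ≫ π2 ≫ π1, inferInstance, π4 ≫ π3 ≫ y' + x' ≫ b.app (op m), ?_⟩
  have hx2 : x ≫ b.app (op n) = π3 ≫ (π2 ≫ π1 ≫ y - y' ≫ tr Y h) := hx.symm
  rw [Preadditive.add_comp, Category.assoc x', ← tr_naturality, ← Category.assoc x', ← hx',
    Category.assoc π4 x, hx2, Preadditive.comp_sub, Preadditive.comp_sub]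
  simp only [Category.assoc]
  abel

end

section Linear

variable {C : Type u} [Category.{v} C] [Abelian C] {A : Type w} [CommRing A] [Linear A C]

/-- Key chase: in a termwise exact `X ⟶ Y ⟶ Z ⟶ 0` with `Z` adic and `Y` termwise killed,
if the part of `ker (Y_{k+1} ⟶ Y_k)` coming from `X` lies in `J^{k+1-r} Y_{k+1}`, then so does
all of it. -/
theorem subLEIdeal_fker_of_ext (J : Ideal A) (hJ : J.FG ∨ HasCoproducts.{w} C) {X Y Z : PS C}
    (b : X ⟶ Y) (c : Y ⟶ Z)
    (w : ∀ n, b.app (op n) ≫ c.app (op n) = 0)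
    (hex : ∀ n, (ShortComplex.mk _ _ (w n)).Exact) (hc : ∀ n, Epi (c.app (op n)))
    (kY : TermKilled J Y) (hZ : IsAdic J Z) (r : ℕ)
    (H : ∀ (k : ℕ) (T' : C) (x' : T' ⟶ X.obj (op (k + 1))),
      x' ≫ b.app (op (k + 1)) ≫ tr Y (Nat.le_succ k) = 0 →
      ∀ (W : C) (φ : Y.obj (op (k + 1)) ⟶ W), HomKilledBy (J ^ (k + 1 - r)) φ →
        x' ≫ b.app (op (k + 1)) ≫ φ = 0) :
    ∀ n, SubLEIdeal (J ^ (n - r)) (Fker Y n) := by
  intro n W φ hφ
  rcases n with _ | k
  · have e : 0 - r = 0 := by omega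
    rw [e, pow_zero] at hφ
    have : φ = 0 := by
      have := hφ 1 (by rw [Ideal.one_eq_top]; exact Submodule.mem_top)
      rwa [one_smul] at this
    rw [this, comp_zero]
  · show (kernelSubobject (tr Y (Nat.le_succ k))).arrow ≫ φ = 0
    rw [← kernelSubobject_arrow, Category.assoc]
    suffices hκ : kernel.ι (tr Y (Nat.le_succ k)) ≫ φ = 0 by rw [hκ, comp_zero]
    have hφ' : HomKilledBy (J ^ (k + 1)) φ :=
      homKilledBy_mono_ideal (Ideal.pow_le_pow_right (by omega)) hφ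
    obtain ⟨Q, p, hp⟩ := exists_isQuot (C := C) (J ^ (k + 1)) (pow_fg_or hJ _) (Y.obj (op (k + 1)))
    haveI := isQuot_epi hp
    haveI := hc (k + 1)
    obtain ⟨φb, hφb⟩ := isQuot_exists_desc hp φ hφ'
    obtain ⟨t, ht⟩ := isQuot_exists_desc hp (tr Y (Nat.le_succ k)) (killedBy_hom_right (kY k) _)
    -- the cokernel of `b ≫ p`
    let κ := cokernel.π (b.app (op (k + 1)) ≫ p)
    have hpκ : b.app (op (k + 1)) ≫ p ≫ κ = 0 := by
      rw [← Category.assoc]; exact cokernel.condition _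
    -- `p ≫ κ` factors through `c`, then through `tr Z`
    have hdesc : ∃ ψ' : Z.obj (op (k + 1)) ⟶ cokernel (b.app (op (k + 1)) ≫ p),
        c.app (op (k + 1)) ≫ ψ' = p ≫ κ := by
      haveI : Epi (ShortComplex.mk _ _ (w (k + 1))).g := hc (k + 1)
      exact ⟨(hex (k + 1)).desc (p ≫ κ) hpκ, (hex (k + 1)).g_desc (p ≫ κ) hpκ⟩
    obtain ⟨ψ', hψ'⟩ := hdesc
    have hψ'k : HomKilledBy (J ^ (k + 1)) ψ' := by
      apply homKilledBy_of_epi_comp (c.app (op (k + 1)))
      rw [hψ']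
      exact homKilledBy_comp_right (killedBy_hom_right hp.1 p) κ
    obtain ⟨ψ'', hψ''⟩ := isQuot_exists_desc (hZ.2 k (k + 1) (Nat.le_succ k)) ψ' hψ'k
    have hkey : kernel.ι (tr Y (Nat.le_succ k)) ≫ p ≫ κ = 0 := by
      rw [← hψ', ← hψ'', ← Category.assoc (c.app (op (k + 1))), ← tr_naturality, Category.assoc,
        ← Category.assoc (kernel.ι _), kernel.condition, zero_comp]
    have hexκ : (ShortComplex.mk (b.app (op (k + 1)) ≫ p) κ (cokernel.condition _)).Exact :=
      ShortComplex.exact_cokernel _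
    obtain ⟨T'', π, _, x', hx'⟩ := hexκ.exact_up_to_refinements
      (kernel.ι (tr Y (Nat.le_succ k)) ≫ p) (by rw [Category.assoc]; exact hkey)
    have hx'' : π ≫ kernel.ι (tr Y (Nat.le_succ k)) ≫ p = x' ≫ b.app (op (k + 1)) ≫ p := hx'
    have h1 : x' ≫ b.app (op (k + 1)) ≫ tr Y (Nat.le_succ k) = 0 := by
      have : (x' ≫ b.app (op (k + 1)) ≫ p) ≫ t = 0 := by
        rw [← hx'', Category.assoc, Category.assoc, ht, kernel.condition, comp_zero]
      rw [← ht]
      simpa only [Category.assoc] using this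
    have h2 := H k T'' x' h1 W φ hφ
    rw [← cancel_epi π, comp_zero, ← hφb]
    have : (π ≫ kernel.ι (tr Y (Nat.le_succ k)) ≫ p) ≫ φb = 0 := by
      rw [hx'', Category.assoc, Category.assoc, hφb]
      exact h2
    simpa only [Category.assoc] using this

end Linear

end Groth.Agent.Lib.Helper15
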