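import Groth.Prelude.Def_ARSys
import Mathlib.Algebra.Homology.ShortComplex.ShortExact
import Mathlib.Algebra.Homology.ShortComplex.ExactFunctor
import Mathlib.CategoryTheory.Limits.FunctorCategory.Basic
import Mathlib.CategoryTheory.Limits.FunctorCategory.Finite

/-!
# Helper lemmas on ℕ-indexed projective systems (helper15)

Basic API for `ARSys.tr`, `ARSys.shiftMap`, `ARSys.IsARNull` and termwise exactness of short exact
sequences of projective systems.
-/

set_option autoImplicit false
open CategoryTheory CategoryTheory.Limits Opposite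
universe w v u

namespace Groth.Agent.Lib.Helper15

open ARSys

variable {C : Type u} [Category.{v} C]

theorem tr_comp (X : PS C) {a b c : ℕ} (h₁ : a ≤ b) (h₂ : b ≤ c) :
    tr X h₂ ≫ tr X h₁ = tr X (h₁.trans h₂) := by
  unfold tr
  rw [← X.map_comp]
  rfl

theorem tr_refl (X : PS C) (a : ℕ) : tr X (le_refl a) = 𝟙 _ := by
  unfold tr
  have : (homOfLE (le_refl a)).op = 𝟙 (op a) := rfl
  rw [this, X.map_id]

theorem tr_naturality {X Y : PS C} (φ : X ⟶ Y) {n m : ℕ} (h : n ≤ m) :
    tr X h ≫ φ.app (op n) = φ.app (op m) ≫ tr Y h :=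
  φ.naturality (homOfLE h).op

theorem shiftMap_eq (X : PS C) (r n : ℕ) : shiftMap X r n = tr X (Nat.le_add_right n r) := rfl

theorem tr_eq_zero_of_shiftMap [HasZeroMorphisms C] {X : PS C} {r n : ℕ} (h : shiftMap X r n = 0) :
    tr X (Nat.le_add_right n r) = 0 := h

section Zero
variable [HasZeroMorphisms C]

/-- A flexible reformulation of `IsARNull`. -/
theorem isARNull_iff (X : PS C) :
    IsARNull X ↔ ∃ r : ℕ, ∀ (n m : ℕ) (h : n + r ≤ m), tr X ((Nat.le_add_right n r).trans h) = 0 := by
  constructor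
  · rintro ⟨r, hr⟩
    refine ⟨r, fun n m h => ?_⟩
    rw [← tr_comp X (Nat.le_add_right n r) h, tr_eq_zero_of_shiftMap (hr n), comp_zero]
  · rintro ⟨r, hr⟩
    exact ⟨r, fun n => hr n (n + r) le_rfl⟩

theorem IsARNull.tr_eq_zero {X : PS C} {r : ℕ} (hr : ∀ n : ℕ, shiftMap X r n = 0)
    {n m : ℕ} (h : n + r ≤ m) : tr X ((Nat.le_add_right n r).trans h) = 0 := by
  rw [← tr_comp X (Nat.le_add_right n r) h, tr_eq_zero_of_shiftMap (hr n), comp_zero]

theorem tr_eq_zero_of_le {X : PS C} {r : ℕ} (hr : ∀ n : ℕ, shiftMap X r n = 0)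
    {n m : ℕ} (h : n ≤ m) (h' : n + r ≤ m) : tr X h = 0 :=
  IsARNull.tr_eq_zero hr h'

end Zero

section Abelian
variable [Abelian C]

/-- Termwise short exactness of a short exact sequence of projective systems. -/
theorem shortExact_eval {S : ShortComplex (PS C)} (hS : S.ShortExact) (k : ℕ) :
    (S.map ((evaluation ℕᵒᵖ C).obj (op k))).ShortExact :=
  hS.map_of_exact _

theorem mono_app {S : ShortComplex (PS C)} (hS : S.ShortExact) (k : ℕ) :
    Mono (S.f.app (op k)) :=
  (shortExact_eval hS k).mono_f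

theorem epi_app {S : ShortComplex (PS C)} (hS : S.ShortExact) (k : ℕ) :
    Epi (S.g.app (op k)) :=
  (shortExact_eval hS k).epi_g

end Abelian

section Abelian2
variable [Abelian C]

theorem f_g_app (S : ShortComplex (PS C)) (k : ℕ) : S.f.app (op k) ≫ S.g.app (op k) = 0 := by
  rw [← NatTrans.comp_app, S.zero]; rfl

/-- Termwise factorization through the cokernel in a short exact sequence of systems. -/
theorem exists_desc_app {S : ShortComplex (PS C)} (hS : S.ShortExact) (k : ℕ) {T : C}
    (c : S.X₂.obj (op k) ⟶ T) (hc : S.f.app (op k) ≫ c = 0) :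
    ∃ e : S.X₃.obj (op k) ⟶ T, S.g.app (op k) ≫ e = c := by
  have ex := shortExact_eval hS k
  have : Epi (S.map ((evaluation ℕᵒᵖ C).obj (op k))).g := ex.epi_g
  exact ⟨ex.exact.desc c hc, ex.exact.g_desc c hc⟩

/-- Termwise factorization through the kernel in a short exact sequence of systems. -/
theorem exists_lift_app {S : ShortComplex (PS C)} (hS : S.ShortExact) (k : ℕ) {T : C}
    (c : T ⟶ S.X₂.obj (op k)) (hc : c ≫ S.g.app (op k) = 0) :
    ∃ e : T ⟶ S.X₁.obj (op k), e ≫ S.f.app (op k) = c := by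
  have ex := shortExact_eval hS k
  have : Mono (S.map ((evaluation ℕᵒᵖ C).obj (op k))).f := ex.mono_f
  exact ⟨ex.exact.lift c hc, ex.exact.lift_f c hc⟩

end Abelian2

end Groth.Agent.Lib.Helper15
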