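import Groth.Agent.Lib.Helper15.ARSys
import Groth.Agent.Lib.Helper16.ARML2
import Groth.Agent.S3148
import Mathlib.CategoryTheory.Abelian.SerreClass.MorphismProperty

/-!
# Isomorphisms up to translation as isomorphisms modulo the Serre class of AR-null systems (helper15)
-/

set_option autoImplicit false
open CategoryTheory CategoryTheory.Limits Opposite
universe w v u

namespace Groth.Agent.Lib.Helper15

open ARSys ZeroObject

variable {C : Type u} [Category.{v} C] [Abelian C]

/-- The class of projective systems that are null up to translation. -/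
def arNull : ObjectProperty (PS C) := fun X => IsARNull X

lemma arNull_iff (X : PS C) : arNull X ↔ IsARNull X := Iff.rfl

theorem isARNull_of_mono {X Y : PS C} (f : X ⟶ Y) [Mono f] (h : IsARNull Y) : IsARNull X := by
  have hS : (ShortComplex.mk f (cokernel.π f) (cokernel.condition f)).ShortExact :=
    { exact := ShortComplex.exact_of_g_is_cokernel _ (cokernelIsCokernel f) }
  exact ((Groth.Agent.S3148.result _ hS).1 h).1

theorem isARNull_of_epi {X Y : PS C} (f : X ⟶ Y) [Epi f] (h : IsARNull X) : IsARNull Y := by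
  have hS : (ShortComplex.mk (kernel.ι f) f (kernel.condition f)).ShortExact :=
    { exact := ShortComplex.exact_of_f_is_kernel _ (kernelIsKernel f) }
  exact ((Groth.Agent.S3148.result _ hS).1 h).2

instance : (arNull (C := C)).IsSerreClass where
  exists_zero := ⟨(0 : ℕᵒᵖ ⥤ C), isZero_zero _,
    Groth.Agent.Lib.Helper16.ARML.isARNull_of_isZero _ (isZero_zero _)⟩
  prop_of_mono f _ h := isARNull_of_mono f h
  prop_of_epi f _ h := isARNull_of_epi f h
  prop_X₂_of_shortExact hS h₁ h₃ := (Groth.Agent.S3148.result _ hS).2 ⟨h₁, h₃⟩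

theorem isARIso_iff {X Y : PS C} (u : X ⟶ Y) : IsARIso u ↔ (arNull (C := C)).isoModSerre u :=
  Iff.rfl

theorem IsARIso.comp {X Y Z : PS C} {f : X ⟶ Y} {g : Y ⟶ Z} (hf : IsARIso f) (hg : IsARIso g) :
    IsARIso (f ≫ g) :=
  (arNull (C := C)).isoModSerre.comp_mem f g hf hg

theorem IsARIso.of_postcomp {X Y Z : PS C} (f : X ⟶ Y) (g : Y ⟶ Z) (hg : IsARIso g)
    (hfg : IsARIso (f ≫ g)) : IsARIso f :=
  (arNull (C := C)).isoModSerre.of_postcomp (W' := (arNull (C := C)).isoModSerre) f g hg hfg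

theorem IsARIso.of_precomp {X Y Z : PS C} (f : X ⟶ Y) (g : Y ⟶ Z) (hf : IsARIso f)
    (hfg : IsARIso (f ≫ g)) : IsARIso g :=
  (arNull (C := C)).isoModSerre.of_precomp (W' := (arNull (C := C)).isoModSerre) f g hf hfg

theorem isARIso_of_isIso {X Y : PS C} (f : X ⟶ Y) [IsIso f] : IsARIso f :=
  (arNull (C := C)).isoModSerre_of_isIso f

theorem isARIso_of_mono {X Y : PS C} (f : X ⟶ Y) [Mono f] (h : IsARNull (cokernel f)) :
    IsARIso f :=
  (arNull (C := C)).isoModSerre_of_mono f h

theorem isARIso_of_epi {X Y : PS C} (f : X ⟶ Y) [Epi f] (h : IsARNull (kernel f)) :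
    IsARIso f :=
  (arNull (C := C)).isoModSerre_of_epi f h


section Termwise

variable {X Y : PS C} (u : X ⟶ Y)

theorem mono_kernel_ι_app (n : ℕ) : Mono ((kernel.ι u).app (op n)) :=
  (NatTrans.mono_iff_mono_app _).1 inferInstance _

theorem epi_cokernel_π_app (n : ℕ) : Epi ((cokernel.π u).app (op n)) :=
  (NatTrans.epi_iff_epi_app _).1 inferInstance _

theorem kernel_ι_app_comp (n : ℕ) : (kernel.ι u).app (op n) ≫ u.app (op n) = 0 := by
  rw [← NatTrans.comp_app, kernel.condition]; rfl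

theorem comp_cokernel_π_app (n : ℕ) : u.app (op n) ≫ (cokernel.π u).app (op n) = 0 := by
  rw [← NatTrans.comp_app, cokernel.condition]; rfl

theorem kernel_app_exact (n : ℕ) :
    (ShortComplex.mk ((kernel.ι u).app (op n)) (u.app (op n)) (kernel_ι_app_comp u n)).Exact := by
  have h : (ShortComplex.mk (kernel.ι u) u (kernel.condition u)).Exact :=
    ShortComplex.exact_of_f_is_kernel _ (kernelIsKernel u)
  exact h.map ((evaluation ℕᵒᵖ C).obj (op n))

theorem cokernel_app_exact (n : ℕ) :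
    (ShortComplex.mk (u.app (op n)) ((cokernel.π u).app (op n)) (comp_cokernel_π_app u n)).Exact := by
  have h : (ShortComplex.mk u (cokernel.π u) (cokernel.condition u)).Exact :=
    ShortComplex.exact_of_g_is_cokernel _ (cokernelIsCokernel u)
  exact h.map ((evaluation ℕᵒᵖ C).obj (op n))

theorem exists_lift_kernel_app (n : ℕ) {T : C} (x : T ⟶ X.obj (op n))
    (hx : x ≫ u.app (op n) = 0) :
    ∃ y : T ⟶ (kernel u).obj (op n), y ≫ (kernel.ι u).app (op n) = x := by
  haveI := mono_kernel_ι_app u n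
  exact ⟨(kernel_app_exact u n).lift x hx, (kernel_app_exact u n).lift_f x hx⟩

theorem exists_desc_cokernel_app (n : ℕ) {T : C} (x : Y.obj (op n) ⟶ T)
    (hx : u.app (op n) ≫ x = 0) :
    ∃ y : (cokernel u).obj (op n) ⟶ T, (cokernel.π u).app (op n) ≫ y = x := by
  haveI := epi_cokernel_π_app u n
  exact ⟨(cokernel_app_exact u n).desc x hx, (cokernel_app_exact u n).g_desc x hx⟩

theorem isARNull_kernel_iff :
    IsARNull (kernel u) ↔
      ∃ r : ℕ, ∀ n : ℕ, (kernel.ι u).app (op (n + r)) ≫ tr X (Nat.le_add_right n r) = 0 := by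
  have h1 : ∀ r n : ℕ, (kernel.ι u).app (op (n + r)) ≫ tr X (Nat.le_add_right n r)
      = tr (kernel u) (Nat.le_add_right n r) ≫ (kernel.ι u).app (op n) := fun r n =>
    ((kernel.ι u).naturality (homOfLE (Nat.le_add_right n r)).op).symm
  constructor
  · rintro ⟨r, hr⟩
    refine ⟨r, fun n => ?_⟩
    rw [h1, tr_eq_zero_of_shiftMap (hr n), zero_comp]
  · rintro ⟨r, hr⟩
    refine ⟨r, fun n => ?_⟩
    have := mono_kernel_ι_app u n
    change tr (kernel u) (Nat.le_add_right n r) = 0
    rw [← cancel_mono ((kernel.ι u).app (op n)), ← h1, hr n, zero_comp]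

theorem isARNull_cokernel_iff :
    IsARNull (cokernel u) ↔
      ∃ r : ℕ, ∀ n : ℕ, tr Y (Nat.le_add_right n r) ≫ (cokernel.π u).app (op n) = 0 := by
  have h1 : ∀ r n : ℕ, tr Y (Nat.le_add_right n r) ≫ (cokernel.π u).app (op n)
      = (cokernel.π u).app (op (n + r)) ≫ tr (cokernel u) (Nat.le_add_right n r) := fun r n =>
    (cokernel.π u).naturality (homOfLE (Nat.le_add_right n r)).op
  constructor
  · rintro ⟨r, hr⟩
    refine ⟨r, fun n => ?_⟩
    rw [h1, tr_eq_zero_of_shiftMap (hr n), comp_zero]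
  · rintro ⟨r, hr⟩
    refine ⟨r, fun n => ?_⟩
    have := epi_cokernel_π_app u (n + r)
    change tr (cokernel u) (Nat.le_add_right n r) = 0
    rw [← cancel_epi ((cokernel.π u).app (op (n + r))), ← h1, hr n, comp_zero]

/-- Element-style criterion: the kernel of `u` is AR-null as soon as generalized elements of
`X_{n+r}` killed by `u` die in `X_n`. -/
theorem isARNull_kernel_of (r : ℕ)
    (h : ∀ (n : ℕ) (T : C) (x : T ⟶ X.obj (op (n + r))), x ≫ u.app (op (n + r)) = 0 →
      x ≫ tr X (Nat.le_add_right n r) = 0) : IsARNull (kernel u) :=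
  (isARNull_kernel_iff u).2 ⟨r, fun n => h n _ _ (kernel_ι_app_comp u (n + r))⟩

theorem IsARNull.kernel_elim (h : IsARNull (kernel u)) :
    ∃ r : ℕ, ∀ (n : ℕ) (T : C) (x : T ⟶ X.obj (op (n + r))), x ≫ u.app (op (n + r)) = 0 →
      x ≫ tr X (Nat.le_add_right n r) = 0 := by
  obtain ⟨r, hr⟩ := (isARNull_kernel_iff u).1 h
  refine ⟨r, fun n T x hx => ?_⟩
  obtain ⟨y, rfl⟩ := exists_lift_kernel_app u (n + r) x hx
  rw [Category.assoc, hr n, comp_zero]

theorem isARNull_cokernel_of (r : ℕ)
    (h : ∀ (n : ℕ) (T : C) (x : Y.obj (op n) ⟶ T), u.app (op n) ≫ x = 0 →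
      tr Y (Nat.le_add_right n r) ≫ x = 0) : IsARNull (cokernel u) :=
  (isARNull_cokernel_iff u).2 ⟨r, fun n => h n _ _ (comp_cokernel_π_app u n)⟩

theorem IsARNull.cokernel_elim (h : IsARNull (cokernel u)) :
    ∃ r : ℕ, ∀ (n : ℕ) (T : C) (x : Y.obj (op n) ⟶ T), u.app (op n) ≫ x = 0 →
      tr Y (Nat.le_add_right n r) ≫ x = 0 := by
  obtain ⟨r, hr⟩ := (isARNull_cokernel_iff u).1 h
  refine ⟨r, fun n T x hx => ?_⟩
  obtain ⟨y, rfl⟩ := exists_desc_cokernel_app u n x hx
  rw [← Category.assoc, hr n, zero_comp]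

end Termwise

open Groth.Agent.Lib.Helper16.ARML in
/-- `sigma X r` termwise, as a transition map of `X`. -/
theorem sigma_app_eq (X : PS C) (r n : ℕ) :
    (sigma X r).app (op n) = tr X (Nat.le_add_right n r) := rfl

open Groth.Agent.Lib.Helper16.ARML in
/-- The canonical translation map `X[r] ⟶ X` is an isomorphism up to translation. -/
theorem isARIso_sigma (X : PS C) (r : ℕ) : IsARIso (sigma X r) := by
  refine ⟨isARNull_kernel_of _ r fun n T x hx => ?_, isARNull_cokernel_of _ r fun n T x hx => ?_⟩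
  · have : tr ((shift C r).obj X) (Nat.le_add_right n r) = (sigma X r).app (op (n + r)) :=
      congrArg X.map (Subsingleton.elim _ _)
    rw [this]
    exact hx
  · exact hx

end Groth.Agent.Lib.Helper15
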