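import Groth.Agent.Lib.Helper15.ARAdic
import Groth.Agent.S3178
import Groth.Agent.S3151
import Groth.Agent.S3157
import Mathlib.CategoryTheory.Limits.FunctorCategory.Shapes.Pullbacks

/-!
# Shift-inverses of AR-isomorphisms, transfer of AR-adicness, strict images (helper15)
-/

set_option autoImplicit false
open CategoryTheory CategoryTheory.Limits Opposite
universe w v u

namespace Groth.Agent.Lib.Helper15

open ARSys

section Abelian

variable {C : Type u} [Category.{v} C] [Abelian C]

/-- If `t` lands in the image of `f` and `τ` kills the kernel of `f`, then `t` lifts along `f`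
after applying `τ`. -/
theorem exists_lift_through {P' Q' Q'' P : C} (f : P' ⟶ Q') (t : Q'' ⟶ Q')
    (ht : t ≫ cokernel.π f = 0) (τ : P' ⟶ P) (hτ : kernel.ι f ≫ τ = 0) :
    ∃ w : Q'' ⟶ P, ∀ {Z : C} (h : P ⟶ Z) (h' : Q' ⟶ Z), τ ≫ h = f ≫ h' → w ≫ h = t ≫ h' := by
  let t' : Q'' ⟶ Abelian.image f := kernel.lift (cokernel.π f) t ht
  have ht' : t' ≫ Abelian.image.ι f = t := kernel.lift_ι _ _ _
  let d : Abelian.coimage f ⟶ P := cokernel.desc (kernel.ι f) τ hτ
  have hd : Abelian.coimage.π f ≫ d = τ := cokernel.π_desc _ _ _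
  refine ⟨t' ≫ (Abelian.coimageIsoImage f).inv ≫ d, fun {Z} h h' hh => ?_⟩
  have key : d ≫ h = (Abelian.coimageIsoImage f).hom ≫ Abelian.image.ι f ≫ h' := by
    rw [← cancel_epi (Abelian.coimage.π f), ← Category.assoc, hd, hh, asIso_hom,
      ← Category.assoc, ← Category.assoc, Category.assoc (Abelian.coimage.π f),
      Abelian.coimage_image_factorisation]
  rw [Category.assoc, Category.assoc, key, Iso.inv_hom_id_assoc, ← Category.assoc, ht']

/-- An AR-isomorphism has an inverse up to translation (componentwise form). -/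
theorem exists_shift_inverse {P Q : PS C} (s : P ⟶ Q) (hs : IsARIso s) :
    ∃ (r : ℕ) (w : ∀ n, Q.obj (op (n + r)) ⟶ P.obj (op n)),
      (∀ (n m : ℕ) (h : n ≤ m), tr Q (Nat.add_le_add_right h r) ≫ w n = w m ≫ tr P h) ∧
      ∀ n, w n ≫ s.app (op n) = tr Q (Nat.le_add_right n r) := by
  obtain ⟨r2, hr2⟩ := IsARNull.kernel_elim s hs.1
  obtain ⟨r1, hr1⟩ := IsARNull.cokernel_elim s hs.2
  -- first approximation
  have hw0 : ∀ (k m : ℕ) (hm : k + r2 + r1 ≤ m), ∃ w0 : Q.obj (op m) ⟶ P.obj (op k),
      w0 ≫ s.app (op k) = tr Q ((Nat.le_add_right k (r2 + r1)).trans (by omega : k + (r2 + r1) ≤ m)) := by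
    intro k m hm
    have hkm : k + r2 ≤ m := by omega
    have ht : tr Q hkm ≫ cokernel.π (s.app (op (k + r2))) = 0 := by
      rw [← tr_comp Q (Nat.le_add_right (k + r2) r1) hm, Category.assoc,
        hr1 (k + r2) _ _ (cokernel.condition _), comp_zero]
    have hτ : kernel.ι (s.app (op (k + r2))) ≫ tr P (Nat.le_add_right k r2) = 0 :=
      hr2 k _ _ (kernel.condition _)
    obtain ⟨w0, hw0⟩ := exists_lift_through (s.app (op (k + r2))) (tr Q hkm) ht
      (tr P (Nat.le_add_right k r2)) hτ
    refine ⟨w0, ?_⟩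
    rw [hw0 (s.app (op k)) (tr Q (Nat.le_add_right k r2)) (tr_naturality s _), tr_comp]
  choose w0 hw0 using hw0
  refine ⟨r2 + r2 + r1, fun n => w0 (n + r2) (n + (r2 + r2 + r1)) (by omega) ≫
    tr P (Nat.le_add_right n r2), ?_, ?_⟩
  · intro n m h
    have hδ : (tr Q (Nat.add_le_add_right h (r2 + r2 + r1)) ≫ w0 (n + r2) (n + (r2 + r2 + r1)) (by omega)
        - w0 (m + r2) (m + (r2 + r2 + r1)) (by omega) ≫ tr P (Nat.add_le_add_right h r2))
          ≫ s.app (op (n + r2)) = 0 := by
      rw [Preadditive.sub_comp, Category.assoc, Category.assoc, hw0, tr_comp, tr_naturality,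
        ← Category.assoc, hw0, tr_comp, sub_self]
    have h0 := hr2 n _ _ hδ
    rw [Preadditive.sub_comp, sub_eq_zero, Category.assoc, Category.assoc, tr_comp] at h0
    dsimp only
    rw [h0, Category.assoc, tr_comp]
  · intro n
    rw [Category.assoc, tr_naturality, ← Category.assoc, hw0, tr_comp]

/-- Morphism form of `exists_shift_inverse`. -/
theorem exists_shift_inverse' {P Q : PS C} (s : P ⟶ Q) (hs : IsARIso s) :
    ∃ (r : ℕ) (w : (shift C r).obj Q ⟶ P), w ≫ s = Groth.Agent.Lib.Helper16.ARML.sigma Q r := by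
  obtain ⟨r, w, hnat, hw⟩ := exists_shift_inverse s hs
  refine ⟨r, mkHomShift r w hnat, ?_⟩
  ext ⟨n⟩
  exact hw n

/-- A strict subsystem with the same AR-class: from the uniform Mittag-Leffler condition. -/
theorem exists_strict_mono_arIso_of_isMLAR (X : PS C) (h : IsMLAR X) :
    ∃ (X' : PS C) (ι : X' ⟶ X), Mono ι ∧ IsStrict X' ∧ IsARIso ι := by
  obtain ⟨Y, u, hY, hu⟩ := (Groth.Agent.S3151.result X).1 h
  refine ⟨Abelian.image u, Abelian.image.ι u, inferInstance, ?_, ?_⟩
  · intro n m hnm
    have e1 : Epi ((Abelian.factorThruImage u).app (op n)) :=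
      (NatTrans.epi_iff_epi_app _).1 inferInstance _
    have e2 : Epi (tr Y hnm) := hY n m hnm
    have : tr Y hnm ≫ (Abelian.factorThruImage u).app (op n)
        = (Abelian.factorThruImage u).app (op m) ≫ tr (Abelian.image u) hnm :=
      tr_naturality _ hnm
    exact epi_of_epi_fac this.symm
  · apply isARIso_of_mono
    have hu' : IsARIso (Abelian.factorThruImage u ≫ Abelian.image.ι u) := by
      rw [Abelian.image.fac]; exact hu
    have h2 : arNull (cokernel (Abelian.factorThruImage u ≫ Abelian.image.ι u)) := hu'.2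
    exact (arNull (C := C)).prop_of_epi
      (cokernel.map (Abelian.factorThruImage u ≫ Abelian.image.ι u) (Abelian.image.ι u)
        (Abelian.factorThruImage u) (𝟙 _) (by simp)) h2

/-- The cokernel of `ι ≫ g` is AR-null if `ι` is an AR-iso and `g` is epi. -/
theorem isARNull_cokernel_comp_epi {X' X Z : PS C} (ι : X' ⟶ X) (g : X ⟶ Z) [Epi g]
    (hι : IsARIso ι) : IsARNull (cokernel (ι ≫ g)) :=
  (arNull (C := C)).epiModSerre.comp_mem ι g hι.2 ((arNull (C := C)).epiModSerre_of_epi g)

/-- Joint monicity of the projections of a pullback of systems, termwise. -/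
theorem pullback_app_hom_ext {F G H : PS C} (f : F ⟶ H) (g : G ⟶ H) (k : ℕᵒᵖ) {T : C}
    (x y : T ⟶ (pullback f g).obj k)
    (h1 : x ≫ (pullback.fst f g).app k = y ≫ (pullback.fst f g).app k)
    (h2 : x ≫ (pullback.snd f g).app k = y ≫ (pullback.snd f g).app k) : x = y := by
  rw [← cancel_mono (pullbackObjIso f g k).hom]
  apply pullback.hom_ext
  · rw [Category.assoc, Category.assoc, pullbackObjIso_hom_comp_fst, h1]
  · rw [Category.assoc, Category.assoc, pullbackObjIso_hom_comp_snd, h2]

end Abelian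

section Linear

variable {C : Type u} [Category.{v} C] [Abelian C] {A : Type w} [CommRing A] [Linear A C]

theorem termKilled_of_mono (J : Ideal A) {V X : PS C} (i : V ⟶ X) [Mono i] (kX : TermKilled J X) :
    TermKilled J V := fun n => by
  haveI : Mono (i.app (op n)) := (NatTrans.mono_iff_mono_app i).1 inferInstance _
  exact killedBy_of_mono (i.app (op n)) (kX n)

theorem termKilled_pullback (J : Ideal A) {F G H : PS C} (f : F ⟶ H) (g : G ⟶ H)
    (kF : TermKilled J F) (kG : TermKilled J G) : TermKilled J (pullback f g) := by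
  intro n a ha
  apply pullback_app_hom_ext f g (op n)
  · rw [zero_comp, Linear.smul_comp, Category.id_comp]
    exact killedBy_hom_right (kF n) _ a ha
  · rw [zero_comp, Linear.smul_comp, Category.id_comp]
    exact killedBy_hom_right (kG n) _ a ha

/-- AR-adic systems are uniformly Mittag-Leffler. -/
theorem isMLAR_of_isARAdic (J : Ideal A) {X : PS C} (hX : IsARAdic J X) : IsMLAR X := by
  obtain ⟨-, Y, u, hY, hu⟩ := hX
  exact (Groth.Agent.S3151.result X).2 ⟨Y, u, fun n m h => isQuot_epi (hY.2 n m h), hu⟩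

/-- Transfer of AR-adicness to the target of an AR-isomorphism. -/
theorem isARAdic_of_arIso_target (J : Ideal A) {V X : PS C} (s : V ⟶ X) (hs : IsARIso s)
    (hV : IsARAdic J V) (kX : TermKilled J X) : IsARAdic J X := by
  obtain ⟨-, Y, u, hY, hu⟩ := hV
  exact ⟨kX, Y, u ≫ s, hY, IsARIso.comp hu hs⟩

/-- Transfer of AR-adicness to the source of an AR-isomorphism. -/
theorem isARAdic_of_arIso_source (J : Ideal A) (hJ : J.FG ∨ HasCoproducts.{w} C) {V X : PS C}
    (s : V ⟶ X) (hs : IsARIso s) (hX : IsARAdic J X) (kV : TermKilled J V) : IsARAdic J V := by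
  obtain ⟨-, Y, u, hY, hu⟩ := hX
  have h1 : IsARIso (pullback.fst u s) :=
    (arNull (C := C)).isoModSerre.pullback_fst u s hs
  have h2 : IsARIso (pullback.snd u s) :=
    (arNull (C := C)).isoModSerre.pullback_snd u s hu
  obtain ⟨r, w, hw⟩ := exists_shift_inverse' (pullback.fst u s) h1
  have hw' : IsARIso w :=
    IsARIso.of_postcomp w (pullback.fst u s) h1 (hw ▸ isARIso_sigma Y r)
  obtain ⟨u', hu'⟩ := Groth.Agent.S3178.result J hJ V Y kV hY r (w ≫ pullback.snd u s) (IsARIso.comp hw' h2)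
  exact ⟨kV, Y, u', hY, hu'⟩

end Linear

end Groth.Agent.Lib.Helper15
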