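import Groth.Prelude.Def_ARSys
import Groth.Agent.Lib.Helper15.ARIso
import Mathlib

/-!
# Transport of AR-notions along exact / linear functors (helper15)

* `isARNull_comp`: functors preserving zero morphisms preserve AR-null systems.
* `isARIso_whiskerRight`: exact functors preserve AR-isomorphisms.
* `linear_of_adj`: a left adjoint of a linear functor is linear.
* `killedBy_map`, `isQuot_map_of_adj`, `termKilled_comp`, `isAdic_comp_of_adj`: linear left adjoints
  preserve `KilledBy`, `IsQuot`, `TermKilled`, `IsAdic`.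
-/

set_option autoImplicit false
universe w v v' u u'

namespace Groth.Agent.Lib.Helper15.ExactAR

open CategoryTheory CategoryTheory.Limits Opposite ARSys

section Zero

variable {C : Type u} [Category.{v} C] {D : Type u'} [Category.{v'} D]
  [HasZeroMorphisms C] [HasZeroMorphisms D] (G : C ⥤ D) [G.PreservesZeroMorphisms]

theorem isARNull_comp {X : PS C} (h : IsARNull X) : IsARNull (X ⋙ G) := by
  obtain ⟨r, hr⟩ := h
  refine ⟨r, fun n => ?_⟩
  change G.map (shiftMap X r n) = 0
  rw [hr, G.map_zero]

end Zero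

section Abelian

variable {C : Type u} [Category.{v} C] {D : Type u'} [Category.{v'} D] [Abelian C] [Abelian D]

theorem isARNull_of_iso {X Y : PS C} (e : X ≅ Y) (h : IsARNull X) : IsARNull Y :=
  Groth.Agent.Lib.Helper15.isARNull_of_epi e.hom h

variable (G : C ⥤ D) [G.Additive] [PreservesFiniteLimits G] [PreservesFiniteColimits G]

theorem isARIso_whiskerRight {X Y : PS C} (u : X ⟶ Y) (h : IsARIso u) :
    IsARIso (Functor.whiskerRight u G) := by
  let W : PS C ⥤ PS D := (Functor.whiskeringRight ℕᵒᵖ C D).obj G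
  have hW : Functor.whiskerRight u G = W.map u := rfl
  haveI : W.PreservesZeroMorphisms := ⟨fun X Y => by ext; simp [W]⟩
  constructor
  · have e : W.obj (kernel u) ≅ kernel (W.map u) := PreservesKernel.iso W u
    rw [hW]
    exact isARNull_of_iso e (isARNull_comp G h.1)
  · have e : W.obj (cokernel u) ≅ cokernel (W.map u) := PreservesCokernel.iso W u
    rw [hW]
    exact isARNull_of_iso e (isARNull_comp G h.2)

end Abelian

section Linear

variable {A : Type w} [CommRing A]
  {C : Type u} [Category.{v} C] {D : Type u'} [Category.{v'} D]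
  [Preadditive C] [Linear A C] [Preadditive D] [Linear A D]

/-- A left adjoint of a linear functor is linear. -/
theorem linear_of_adj {L : C ⥤ D} {R : D ⥤ C} (adj : L ⊣ R) [R.Additive] [R.Linear A]
    [L.Additive] : L.Linear A where
  map_smul {X Y} f a := by
    apply (adj.homEquiv X (L.obj Y)).injective
    rw [adj.homEquiv_unit, adj.homEquiv_unit, R.map_smul, Linear.comp_smul,
      ← adj.homEquiv_unit, ← adj.homEquiv_unit]
    have h1 : adj.homEquiv X (L.obj Y) (L.map (a • f)) = (a • f) ≫ adj.unit.app Y := by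
      rw [adj.homEquiv_unit, ← adj.unit_naturality]
    have h2 : adj.homEquiv X (L.obj Y) (L.map f) = f ≫ adj.unit.app Y := by
      rw [adj.homEquiv_unit, ← adj.unit_naturality]
    rw [h1, h2, Linear.smul_comp]

variable (L : C ⥤ D) [L.Additive] [L.Linear A]

theorem killedBy_map {I : Ideal A} {X : C} (h : KilledBy I X) : KilledBy I (L.obj X) := by
  intro a ha
  rw [← L.map_id, ← L.map_smul, h a ha, L.map_zero]

theorem termKilled_comp {I : Ideal A} {X : PS C} (h : TermKilled I X) : TermKilled I (X ⋙ L) :=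
  fun n => killedBy_map L (h n)

variable {L} {R : D ⥤ C} (adj : L ⊣ R) [R.Additive] [R.Linear A]

include adj in
theorem isQuot_map_of_adj {I : Ideal A} {X Q : C} {p : X ⟶ Q} (hp : IsQuot I p) :
    IsQuot I (L.map p) := by
  refine ⟨killedBy_map L hp.1, fun Y φ hφ => ?_⟩
  have hφ' : HomKilledBy I (adj.homEquiv X Y φ) := by
    intro a ha
    rw [adj.homEquiv_unit, ← Linear.comp_smul, ← R.map_smul, hφ a ha, R.map_zero, comp_zero]
  obtain ⟨ψ', hψ', huniq⟩ := hp.2 (R.obj Y) _ hφ'
  refine ⟨(adj.homEquiv Q Y).symm ψ', ?_, fun ψ₂ hψ₂ => ?_⟩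
  · change L.map p ≫ (adj.homEquiv Q Y).symm ψ' = φ
    rw [← adj.homEquiv_naturality_left_symm, hψ', Equiv.symm_apply_apply]
  · have h2 : p ≫ adj.homEquiv Q Y ψ₂ = adj.homEquiv X Y φ := by
      rw [← adj.homEquiv_naturality_left, hψ₂]
    rw [← huniq _ h2, Equiv.symm_apply_apply]

include adj in
theorem isAdic_comp_of_adj {I : Ideal A} {X : PS C} (h : IsAdic I X) : IsAdic I (X ⋙ L) :=
  ⟨termKilled_comp L h.1, fun n m hnm => isQuot_map_of_adj adj (h.2 n m hnm)⟩

end Linear

end Groth.Agent.Lib.Helper15.ExactAR
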