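import Groth.Agent.Lib.Helper15.ARAdic2
import Groth.Agent.Lib.Helper15.ExactAR
import Groth.Agent.Lib.Helper15.AdicQuot
import Groth.Agent.Lib.Helper16.ARML2
import Groth.Agent.S3158

/-!
# Reflection of AR-adicness along a finite conservative family of exact functors (helper15)

Let `C` be an abelian `A`-linear category, `P` a class of objects closed under isomorphisms, kernels
and cokernels, `J` a finitely generated ideal and `Φ i : C ⥤ D i` a finite family of exact linear
functors which jointly reflect zero morphisms between objects of `P`.  If `F` is a projective system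
of objects of `P` with `J^{n+1} F_n = 0` and every `F ⋙ Φ i` is AR-`J`-adic, then `F` receives an
AR-isomorphism from a `J`-adic system with components in `P` (`exists_adic_of_reflect`).
-/

set_option autoImplicit false
open CategoryTheory CategoryTheory.Limits Opposite
universe w v v' u u'

namespace Groth.Agent.Lib.Helper15.ARReflect

open ARSys Groth.Agent.Lib.Helper15

section Class

variable {C : Type u} [Category.{v} C] [Abelian C]

/-- A class of objects closed under isomorphisms, kernels and cokernels. -/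
structure KCClosed (P : C → Prop) : Prop where
  iso : ∀ {X Y : C}, (X ≅ Y) → P X → P Y
  ker : ∀ {X Y : C} (f : X ⟶ Y), P X → P Y → P (kernel f)
  coker : ∀ {X Y : C} (f : X ⟶ Y), P X → P Y → P (cokernel f)

variable {P : C → Prop}

theorem KCClosed.image (hP : KCClosed P) {X Y : C} (f : X ⟶ Y) (hX : P X) (hY : P Y) :
    P (Abelian.image f) :=
  hP.ker _ hY (hP.coker f hX hY)

/-- The middle object of an epi-mono factorization of a map between objects of `P` lies in `P`. -/
theorem KCClosed.of_epi_mono (hP : KCClosed P) {X I Y : C} (e : X ⟶ I) (m : I ⟶ Y) [Epi e] [Mono m]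
    (hX : P X) (hY : P Y) : P I := by
  have h1 : P (cokernel m) := hP.iso (cokernelEpiComp e m) (hP.coker (e ≫ m) hX hY)
  have h2 : P (Abelian.image m) := hP.ker _ hY h1
  exact hP.iso (asIso (Abelian.factorThruImage m)).symm h2

variable {ι : Type*} {D : ι → Type u'} [∀ i, Category.{v'} (D i)] [∀ i, Abelian (D i)]
  (Φ : ∀ i, C ⥤ D i) [∀ i, (Φ i).Additive] [∀ i, PreservesFiniteLimits (Φ i)]
  [∀ i, PreservesFiniteColimits (Φ i)]

/-- A family of exact functors jointly reflecting zero objects of `P` reflects zero morphisms between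
objects of `P`. -/
theorem reflects_zero_hom (hP : KCClosed P)
    (hobj : ∀ X : C, P X → (∀ i, IsZero ((Φ i).obj X)) → IsZero X)
    {X Y : C} (f : X ⟶ Y) (hX : P X) (hY : P Y) (hf : ∀ i, (Φ i).map f = 0) : f = 0 := by
  have hI : IsZero (Abelian.image f) := by
    refine hobj _ (hP.image f hX hY) fun i => ?_
    have h1 : (Φ i).map (Abelian.factorThruImage f) ≫ (Φ i).map (Abelian.image.ι f) = 0 := by
      rw [← Functor.map_comp, Abelian.image.fac, hf i]
    have h2 : (Φ i).map (Abelian.image.ι f) = 0 := by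
      rw [← cancel_epi ((Φ i).map (Abelian.factorThruImage f)), h1, comp_zero]
    exact IsZero.of_mono_eq_zero _ h2
  rw [← Abelian.image.fac f, hI.eq_of_src (Abelian.image.ι f) 0, comp_zero]

end Class

section Quot

variable {C : Type u} [Category.{v} C] [Abelian C] {A : Type w} [CommRing A] [Linear A C]

theorem isQuot_id_bot (X : C) : IsQuot (⊥ : Ideal A) (𝟙 X) := by
  refine ⟨fun a ha => ?_, fun Y φ _ => ⟨φ, Category.id_comp φ, fun ψ hψ => ?_⟩⟩
  · rw [(Submodule.mem_bot A).1 ha, zero_smul]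
  · have hψ' : 𝟙 X ≫ ψ = φ := hψ
    rw [← hψ', Category.id_comp]

/-- One more generator: `X ⧸ (I + (a)) X` is the cokernel of `a` on `X ⧸ I X`. -/
theorem isQuot_step {I : Ideal A} {X Q : C} {p : X ⟶ Q} (hp : IsQuot I p) (a : A) :
    IsQuot (I ⊔ Ideal.span {a}) (p ≫ cokernel.π (a • 𝟙 Q)) := by
  have := isQuot_epi hp
  have hI : KilledBy I (cokernel (a • 𝟙 Q)) := killedBy_of_epi (cokernel.π (a • 𝟙 Q)) hp.1
  have ha : (a • 𝟙 (cokernel (a • 𝟙 Q)) : cokernel (a • 𝟙 Q) ⟶ _) = 0 := by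
    rw [← cancel_epi (cokernel.π (a • 𝟙 Q)), comp_zero, Linear.comp_smul, Category.comp_id]
    have : a • cokernel.π (a • 𝟙 Q) = (a • 𝟙 Q) ≫ cokernel.π (a • 𝟙 Q) := by
      rw [Linear.smul_comp, Category.id_comp]
    rw [this, cokernel.condition]
  refine ⟨fun b hb => ?_, fun Y φ hφ => ?_⟩
  · obtain ⟨i, hi, c, hc, rfl⟩ := Submodule.mem_sup.1 hb
    obtain ⟨d, rfl⟩ := Ideal.mem_span_singleton'.1 hc
    rw [add_smul, hI i hi, zero_add, mul_smul, ha, smul_zero]
  · have hφI : HomKilledBy I φ := homKilledBy_mono_ideal le_sup_left hφ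
    obtain ⟨ψ, rfl⟩ := isQuot_exists_desc hp φ hφI
    have hψa : (a • 𝟙 Q) ≫ ψ = 0 := by
      rw [Linear.smul_comp, Category.id_comp, ← cancel_epi p, comp_zero, Linear.comp_smul]
      exact hφ a (Ideal.mem_sup_right (Ideal.mem_span_singleton_self a))
    refine ⟨cokernel.desc _ ψ hψa, ?_, fun χ hχ => ?_⟩
    · change (p ≫ cokernel.π (a • 𝟙 Q)) ≫ cokernel.desc _ ψ hψa = p ≫ ψ
      rw [Category.assoc, cokernel.π_desc]
    · have hχ' : (p ≫ cokernel.π (a • 𝟙 Q)) ≫ χ = p ≫ ψ := hχ
      rw [← cancel_epi (cokernel.π (a • 𝟙 Q)), ← cancel_epi p, cokernel.π_desc, ← Category.assoc, hχ']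

variable {P : C → Prop}

/-- Quotients modulo finitely generated ideals exist inside a class closed under cokernels. -/
theorem exists_isQuot_mem (hP : KCClosed P) (I : Ideal A) (hI : I.FG) (X : C) (hX : P X) :
    ∃ (Q : C) (p : X ⟶ Q), IsQuot I p ∧ P Q := by
  classical
  obtain ⟨s, rfl⟩ := hI
  induction s using Finset.induction_on with
  | empty =>
    refine ⟨X, 𝟙 X, ?_, hX⟩
    have : Ideal.span ((∅ : Finset A) : Set A) = ⊥ := by
      rw [Finset.coe_empty, Ideal.span_empty]
    rw [this]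
    exact isQuot_id_bot X
  | insert a s _ ih =>
    obtain ⟨Q, p, hp, hQ⟩ := ih
    refine ⟨_, p ≫ cokernel.π (a • 𝟙 Q), ?_, hP.coker _ hQ hQ⟩
    have : Ideal.span ((insert a s : Finset A) : Set A) = Ideal.span (s : Set A) ⊔ Ideal.span {a} := by
      rw [Finset.coe_insert, Ideal.span_insert, sup_comm]
    rw [this]
    exact isQuot_step hp a

end Quot

section MLAR

variable {C : Type u} [Category.{v} C] [Abelian C]

theorem comp_cokernel_π_eq_zero_of_imageSubobject_eq {X Y T : C} (f : X ⟶ T) (g : Y ⟶ T)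
    (h : imageSubobject g ≤ imageSubobject f) : g ≫ cokernel.π f = 0 := by
  have h0 : (imageSubobject f).arrow ≫ cokernel.π f = 0 := by
    rw [← cancel_epi (factorThruImageSubobject f), ← Category.assoc, imageSubobject_arrow_comp,
      cokernel.condition, comp_zero]
  have : g = factorThruImageSubobject g ≫ Subobject.ofLE _ _ h ≫ (imageSubobject f).arrow := by
    rw [Subobject.ofLE_arrow, imageSubobject_arrow_comp]
  rw [this, Category.assoc, Category.assoc, h0, comp_zero, comp_zero]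

/-- Morphism form of the uniform Mittag-Leffler condition. -/
theorem isMLAR_iff_comp_cokernel (X : PS C) :
    IsMLAR X ↔ ∃ r : ℕ, ∀ s : ℕ, r ≤ s → ∀ n : ℕ,
      shiftMap X r n ≫ cokernel.π (shiftMap X s n) = 0 := by
  constructor
  · rintro ⟨r, hr⟩
    exact ⟨r, fun s hs n => comp_cokernel_π_eq_zero_of_imageSubobject_eq _ _ (hr s hs n).ge⟩
  · rintro ⟨r, hr⟩
    refine ⟨r, fun s hs n => le_antisymm
      (Groth.Agent.Lib.Helper16.ARML.imageSubobject_shiftMap_le X n hs) ?_⟩
    exact Groth.Agent.Lib.Helper16.ARML.imageSubobject_le_of_comp_eq_zero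
      (ShortComplex.mk (shiftMap X s n) (cokernel.π (shiftMap X s n)) (cokernel.condition _))
      (ShortComplex.exact_cokernel _) (shiftMap X r n) (hr s hs n)

theorem isMLAR_comp_cokernel_mono {X : PS C} {r : ℕ}
    (hr : ∀ s : ℕ, r ≤ s → ∀ n : ℕ, shiftMap X r n ≫ cokernel.π (shiftMap X s n) = 0)
    {r' : ℕ} (hrr' : r ≤ r') :
    ∀ s : ℕ, r' ≤ s → ∀ n : ℕ, shiftMap X r' n ≫ cokernel.π (shiftMap X s n) = 0 := by
  intro s hs n
  have e := Groth.Agent.Lib.Helper16.ARML.shiftMap_eq_comp X n hrr'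
  have h0 := hr s (hrr'.trans hs) n
  rw [e]
  exact (Category.assoc _ _ _).trans ((congrArg (_ ≫ ·) h0).trans comp_zero)

variable {ι : Type*} [Finite ι] {D : ι → Type u'} [∀ i, Category.{v'} (D i)] [∀ i, Abelian (D i)]
  (Φ : ∀ i, C ⥤ D i) [∀ i, (Φ i).PreservesZeroMorphisms]

theorem exists_nat_bound (f : ι → ℕ) : ∃ r : ℕ, ∀ i, f i ≤ r := by
  obtain ⟨r, hr⟩ := (Set.finite_range f).bddAbove
  exact ⟨r, fun i => hr ⟨i, rfl⟩⟩

/-- The uniform Mittag-Leffler condition is reflected by a finite family of functors jointly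
reflecting zero morphisms between objects of `P`. -/
theorem isMLAR_of_reflect {P : C → Prop} (hP : KCClosed P)
    (hrefl : ∀ {X Y : C} (f : X ⟶ Y), P X → P Y → (∀ i, (Φ i).map f = 0) → f = 0)
    (F : PS C) (hF : ∀ n, P (F.obj (op n))) (h : ∀ i, IsMLAR (F ⋙ Φ i)) : IsMLAR F := by
  have h' := fun i => (isMLAR_iff_comp_cokernel (F ⋙ Φ i)).1 (h i)
  choose r₀ hr₀ using h'
  obtain ⟨r, hr⟩ := exists_nat_bound r₀
  refine (isMLAR_iff_comp_cokernel F).2 ⟨r, fun s hs n => ?_⟩
  refine hrefl _ (hF _) (hP.coker _ (hF _) (hF _)) fun i => ?_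
  have h1 := isMLAR_comp_cokernel_mono (hr₀ i) (hr i) s hs n
  have h2 : (Φ i).map (shiftMap F s n) ≫ (Φ i).map (cokernel.π (shiftMap F s n)) = 0 := by
    rw [← Functor.map_comp, cokernel.condition, Functor.map_zero]
  have h3 : (Φ i).map (cokernel.π (shiftMap F s n))
      = cokernel.π ((Φ i).map (shiftMap F s n)) ≫ cokernel.desc _ _ h2 := (cokernel.π_desc _ _ _).symm
  rw [Functor.map_comp, h3, ← Category.assoc]
  have h4 : (Φ i).map (shiftMap F r n) ≫ cokernel.π ((Φ i).map (shiftMap F s n)) = 0 := h1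
  rw [h4, zero_comp]

end MLAR

section Strict

variable {C : Type u} [Category.{v} C] [Abelian C] {P : C → Prop}

/-- The components of a strict subsystem with AR-null cokernel are images of transition maps, hence
lie in `P`. -/
theorem mem_of_strict_mono (hP : KCClosed P) {X' F : PS C} (j : X' ⟶ F) [Mono j]
    (hX' : IsStrict X') (hc : IsARNull (cokernel j)) (hF : ∀ n, P (F.obj (op n))) (n : ℕ) :
    P (X'.obj (op n)) := by
  obtain ⟨r, hr⟩ := IsARNull.cokernel_elim j hc
  have : Mono (j.app (op n)) := (NatTrans.mono_iff_mono_app j).1 inferInstance _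
  have h0 : tr F (Nat.le_add_right n r) ≫ cokernel.π (j.app (op n)) = 0 :=
    hr n _ _ (cokernel.condition _)
  let l := Abelian.monoLift (j.app (op n)) (tr F (Nat.le_add_right n r)) h0
  have hl : l ≫ j.app (op n) = tr F (Nat.le_add_right n r) := Abelian.monoLift_comp _ _ _
  have h1 : j.app (op (n + r)) ≫ l = tr X' (Nat.le_add_right n r) := by
    rw [← cancel_mono (j.app (op n)), Category.assoc, hl, tr_naturality]
  have : Epi (j.app (op (n + r)) ≫ l) := by
    rw [h1]; exact hX' n (n + r) (Nat.le_add_right n r)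
  have : Epi l := epi_of_epi (j.app (op (n + r))) l
  exact hP.of_epi_mono l (j.app (op n)) (hF _) (hF _)

end Strict

section Fker

variable {C : Type u} [Category.{v} C] [Abelian C] {A : Type w} [CommRing A] [Linear A C]

theorem subLEIdeal_fker_zero_iff (I : Ideal A) (X : PS C) :
    SubLEIdeal I (Fker X 0) ↔
      ∀ (Y : C) (φ : X.obj (op 0) ⟶ Y), HomKilledBy I φ → φ = 0 := by
  have e : Fker X 0 = ⊤ := rfl
  constructor
  · intro h Y φ hφ
    have := h Y φ hφ
    rw [e] at this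
    rwa [← cancel_epi (⊤ : Subobject (X.obj (op 0))).arrow, comp_zero]
  · intro h Y φ hφ
    rw [h Y φ hφ, comp_zero]

theorem subLEIdeal_fker_succ_iff (I : Ideal A) (X : PS C) (k : ℕ) :
    SubLEIdeal I (Fker X (k + 1)) ↔
      ∀ (Y : C) (φ : X.obj (op (k + 1)) ⟶ Y), HomKilledBy I φ →
        kernel.ι (tr X (Nat.le_succ k)) ≫ φ = 0 := by
  have e : Fker X (k + 1) = kernelSubobject (tr X (Nat.le_succ k)) := rfl
  constructor
  · intro h Y φ hφ
    have := h Y φ hφ
    rw [e] at this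
    rw [← kernelSubobject_arrow', Category.assoc, this, comp_zero]
  · intro h Y φ hφ
    rw [e, ← kernelSubobject_arrow, Category.assoc, h Y φ hφ, comp_zero]

variable {ι : Type*} {D : ι → Type u'} [∀ i, Category.{v'} (D i)] [∀ i, Abelian (D i)]
  [∀ i, Linear A (D i)]
  (Φ : ∀ i, C ⥤ D i) [∀ i, (Φ i).Additive] [∀ i, (Φ i).Linear A]

/-- Reflection of the condition `Ker(X_n → X_{n-1}) ⊆ I X_n`. -/
theorem subLEIdeal_fker_of_reflect {P : C → Prop} (hP : KCClosed P)
    (hrefl : ∀ {X Y : C} (f : X ⟶ Y), P X → P Y → (∀ i, (Φ i).map f = 0) → f = 0)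
    (I : Ideal A) (hI : I.FG) (X : PS C) (hX : ∀ n, P (X.obj (op n))) (n : ℕ)
    (h : ∀ i, SubLEIdeal I (Fker (X ⋙ Φ i) n)) : SubLEIdeal I (Fker X n) := by
  obtain ⟨Q, p, hp, hQ⟩ := exists_isQuot_mem hP I hI (X.obj (op n)) (hX n)
  have hΦp : ∀ i, HomKilledBy I ((Φ i).map p) := fun i =>
    killedBy_hom_right (ExactAR.killedBy_map (Φ i) hp.1) _
  cases n with
  | zero =>
    rw [subLEIdeal_fker_zero_iff]
    have hp0 : p = 0 := hrefl p (hX 0) hQ fun i =>
      (subLEIdeal_fker_zero_iff I (X ⋙ Φ i)).1 (h i) _ _ (hΦp i)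
    intro Y φ hφ
    obtain ⟨ψ, rfl⟩ := isQuot_exists_desc hp φ hφ
    rw [hp0, zero_comp]
  | succ k =>
    rw [subLEIdeal_fker_succ_iff]
    have hp0 : kernel.ι (tr X (Nat.le_succ k)) ≫ p = 0 := by
      refine hrefl _ (hP.ker _ (hX _) (hX _)) hQ fun i => ?_
      have h1 := (subLEIdeal_fker_succ_iff I (X ⋙ Φ i) k).1 (h i) _ _ (hΦp i)
      have h2 : (Φ i).map (kernel.ι (tr X (Nat.le_succ k))) ≫ tr (X ⋙ Φ i) (Nat.le_succ k) = 0 := by
        change (Φ i).map _ ≫ (Φ i).map (tr X (Nat.le_succ k)) = 0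
        rw [← Functor.map_comp, kernel.condition, Functor.map_zero]
      have h3 : (Φ i).map (kernel.ι (tr X (Nat.le_succ k)))
          = kernel.lift _ _ h2 ≫ kernel.ι (tr (X ⋙ Φ i) (Nat.le_succ k)) := (kernel.lift_ι _ _ _).symm
      rw [Functor.map_comp, h3, Category.assoc, h1, comp_zero]
    intro Y φ hφ
    obtain ⟨ψ, rfl⟩ := isQuot_exists_desc hp φ hφ
    rw [← Category.assoc, hp0, zero_comp]

end Fker

section Backward

variable {C : Type u} [Category.{v} C] [Abelian C] {A : Type w} [CommRing A] [Linear A C]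

/-- Assemble termwise quotients into a system, remembering the components. -/
theorem exists_quot_system_mem {P : C → Prop} (J : Ideal A) (X : PS C) (r : ℕ) (Q : ℕ → C)
    (p : ∀ n, X.obj (op (n + r)) ⟶ Q n) (hp : ∀ n, IsQuot (J ^ (n + 1)) (p n))
    (hQ : ∀ n, P (Q n)) :
    ∃ (Y : PS C) (q : ∀ n, X.obj (op (n + r)) ⟶ Y.obj (op n)),
      (∀ (n m : ℕ) (h : n ≤ m), tr X (Nat.add_le_add_right h r) ≫ q n = q m ≫ tr Y h) ∧
      (∀ n, IsQuot (J ^ (n + 1)) (q n)) ∧ ∀ n, P (Y.obj (op n)) := by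
  have hpe : ∀ n, Epi (p n) := fun n => isQuot_epi (hp n)
  have ht : ∀ (n m : ℕ) (h : n ≤ m), ∃ t : Q m ⟶ Q n,
      p m ≫ t = tr X (Nat.add_le_add_right h r) ≫ p n := fun n m h =>
    isQuot_exists_desc (hp m) _ (killedBy_hom_right
      (killedBy_mono_ideal (Ideal.pow_le_pow_right (Nat.succ_le_succ h)) (hp n).1) _)
  choose t ht using ht
  let Y : PS C :=
    { obj := fun k => Q k.unop
      map := fun {a b} f => t b.unop a.unop (leOfHom f.unop)
      map_id := fun a => by
        have := hpe a.unop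
        rw [← cancel_epi (p a.unop), ht, tr_refl, Category.id_comp, Category.comp_id]
      map_comp := fun {a b c} f g => by
        have := hpe a.unop
        rw [← cancel_epi (p a.unop), ht, ← Category.assoc, ht, Category.assoc, ht,
          ← Category.assoc, tr_comp] }
  exact ⟨Y, p, fun n m h => (ht n m h).symm, hp, hQ⟩

/-- The `Fker` criterion produces an adic system with components in `P`. -/
theorem exists_adic_mem_of_fker {P : C → Prop} (hP : KCClosed P) (J : Ideal A) (hJ : J.FG)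
    (X : PS C) (hX : IsStrict X) (kX : TermKilled J X) (hXP : ∀ n, P (X.obj (op n))) (r : ℕ)
    (hF : ∀ n : ℕ, SubLEIdeal (J ^ (n - r)) (Fker X n)) :
    ∃ (Y : PS C) (v : Y ⟶ X), IsAdic J Y ∧ (∀ n, P (Y.obj (op n))) ∧ IsARIso v := by
  have hQ : ∀ n : ℕ, ∃ (Q : C) (p : X.obj (op (n + r)) ⟶ Q), IsQuot (J ^ (n + 1)) p ∧ P Q :=
    fun n => exists_isQuot_mem hP _ (hJ.pow) _ (hXP _)
  choose Q p hp hQP using hQ
  obtain ⟨Y, q, qnat, hq, hYP⟩ := exists_quot_system_mem J X r Q p hp hQP
  have hY : IsAdic J Y := by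
    refine isAdic_of_quot_system J r q qnat hq hX fun n m h => ?_
    have := Groth.Agent.S3158.factors_of_fker J X hX r hF (n + r) (m + r) (Nat.add_le_add_right h r)
    have e : n + r + 1 - r = n + 1 := by omega
    rw [e] at this
    exact this
  obtain ⟨v, hv⟩ := Groth.Agent.S3157.backward J r q qnat hX kX hq
  exact ⟨Y, v, hY, hYP, hv⟩

end Backward

section Main

variable {C : Type u} [Category.{v} C] [Abelian C] {A : Type w} [CommRing A] [Linear A C]
  {ι : Type*} [Finite ι] {D : ι → Type u'} [∀ i, Category.{v'} (D i)] [∀ i, Abelian (D i)]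
  [∀ i, Linear A (D i)]
  (Φ : ∀ i, C ⥤ D i) [∀ i, (Φ i).Additive] [∀ i, (Φ i).Linear A]
  [∀ i, PreservesFiniteLimits (Φ i)] [∀ i, PreservesFiniteColimits (Φ i)]

theorem isStrict_comp {E : Type u'} [Category.{v'} E] [Abelian E] (G : C ⥤ E)
    [PreservesFiniteColimits G] {X : PS C} (hX : IsStrict X) : IsStrict (X ⋙ G) := by
  intro n m h
  have := hX n m h
  exact inferInstanceAs (Epi (G.map (tr X h)))

/-- **Reflection of AR-adicness** along a finite family of exact linear functors jointly reflecting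
zero morphisms between objects of a class `P` closed under kernels and cokernels. -/
theorem exists_adic_of_reflect {P : C → Prop} (hP : KCClosed P)
    (hrefl : ∀ {X Y : C} (f : X ⟶ Y), P X → P Y → (∀ i, (Φ i).map f = 0) → f = 0)
    (J : Ideal A) (hJ : J.FG) (F : PS C) (hF : ∀ n, P (F.obj (op n))) (kF : TermKilled J F)
    (h : ∀ i, IsARAdic J (F ⋙ Φ i)) :
    ∃ (Y : PS C) (v : Y ⟶ F), IsAdic J Y ∧ (∀ n, P (Y.obj (op n))) ∧ IsARIso v := by
  -- uniform Mittag-Leffler
  have hML : IsMLAR F := isMLAR_of_reflect Φ hP hrefl F hF fun i => isMLAR_of_isARAdic J (h i)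
  obtain ⟨X', j, hj, hX', hjar⟩ := exists_strict_mono_arIso_of_isMLAR F hML
  have hX'P : ∀ n, P (X'.obj (op n)) := mem_of_strict_mono hP j hX' hjar.2 hF
  have kX' : TermKilled J X' := termKilled_of_mono J j kF
  -- the strict system is AR-adic after applying each functor
  have h1 : ∀ i, IsARAdic J (X' ⋙ Φ i) := fun i =>
    isARAdic_of_arIso_source J (Or.inl hJ) (Functor.whiskerRight j (Φ i))
      (ExactAR.isARIso_whiskerRight (Φ i) j hjar) (h i) (ExactAR.termKilled_comp (Φ i) kX')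
  have h2 : ∀ i, ∃ r : ℕ, 0 < r ∧ ∀ n : ℕ, SubLEIdeal (J ^ (n - r)) (Fker (X' ⋙ Φ i) n) := fun i =>
    (Groth.Agent.S3158.result J (Or.inl hJ) (X' ⋙ Φ i) (isStrict_comp (Φ i) hX')
      (ExactAR.termKilled_comp (Φ i) kX')).1 (h1 i)
  choose r₀ _ hr₀ using h2
  obtain ⟨r, hr⟩ := exists_nat_bound r₀
  have h3 : ∀ n : ℕ, SubLEIdeal (J ^ (n - r)) (Fker X' n) := fun n =>
    subLEIdeal_fker_of_reflect Φ hP hrefl _ hJ.pow X' hX'P n fun i Y φ hφ =>
      hr₀ i n Y φ (homKilledBy_mono_ideal (Ideal.pow_le_pow_right (by have := hr i; omega)) hφ)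
  obtain ⟨Y, v, hY, hYP, hv⟩ := exists_adic_mem_of_fker hP J hJ X' hX' kX' hX'P r h3
  exact ⟨Y, v ≫ j, hY, hYP, IsARIso.comp hv hjar⟩

end Main

end Groth.Agent.Lib.Helper15.ARReflect
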