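import Mathlib

/-!
# Artin–Rees and tensoring with powers of an ideal (helper15)

Module-level input for "`J^{n+m} ⊗ K ⟶ J^m ⊗ K` is zero in the derived category".
-/

set_option autoImplicit false

open TensorProduct

namespace Groth.Agent.Lib.Helper15.ARTensor

universe u

variable {A : Type u} [CommRing A]

section mu

variable (I : Ideal A) (M : Type*) [AddCommGroup M] [Module A M]

/-- the multiplication map `I ⊗ M → M`. -/
noncomputable def mu : ↥I ⊗[A] M →ₗ[A] M :=
  TensorProduct.lift ((LinearMap.lsmul A M).comp I.subtype)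

@[simp] lemma mu_tmul (a : I) (m : M) : mu I M (a ⊗ₜ m) = (a : A) • m := by
  simp [mu]

lemma mu_eq : mu I M = (TensorProduct.lid A M).toLinearMap ∘ₗ LinearMap.rTensor M I.subtype := by
  apply TensorProduct.ext'
  intro a m
  simp

lemma mu_injective [Module.Flat A M] : Function.Injective (mu I M) := by
  rw [mu_eq]
  exact (TensorProduct.lid A M).injective.comp
    (Module.Flat.rTensor_preserves_injective_linearMap I.subtype I.subtype_injective)

lemma mu_mem (z : ↥I ⊗[A] M) : mu I M z ∈ I • (⊤ : Submodule A M) := by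
  induction z using TensorProduct.induction_on with
  | zero => simp
  | tmul a m =>
    rw [mu_tmul]
    exact Submodule.smul_mem_smul a.2 Submodule.mem_top
  | add x y hx hy =>
    rw [map_add]
    exact add_mem hx hy

variable {M}

lemma mu_lTensor {N : Type*} [AddCommGroup N] [Module A N] (d : M →ₗ[A] N) (z : ↥I ⊗[A] M) :
    mu I N (LinearMap.lTensor (↥I) d z) = d (mu I M z) := by
  induction z using TensorProduct.induction_on with
  | zero => simp
  | tmul a m => simp
  | add x y hx hy => rw [map_add, map_add, map_add, map_add, hx, hy]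

lemma mu_rTensor {I I' : Ideal A} (h : I ≤ I') (z : ↥I ⊗[A] M) :
    mu I' M (LinearMap.rTensor M (Submodule.inclusion h) z) = mu I M z := by
  induction z using TensorProduct.induction_on with
  | zero => simp
  | tmul a m => simp
  | add x y hx hy => rw [map_add, map_add, map_add, hx, hy]

end mu

variable [IsNoetherianRing A] (J : Ideal A)
  {N M M' : Type*} [AddCommGroup N] [Module A N] [AddCommGroup M] [Module A M]
  [AddCommGroup M'] [Module A M'] [Module.Finite A M] [Module.Flat A M]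
  (d₁ : N →ₗ[A] M) (d₂ : M →ₗ[A] M')

include d₁ in
/-- **Artin–Rees step.** If `J` sends the cycles of `N → M → M'` into the boundaries, then there is
`c` such that every cycle of `J^p ⊗ M` becomes a boundary in `J^q ⊗ M` as soon as `q + c + 1 ≤ p`. -/
theorem exists_boundary
    (hJ : ∀ a ∈ J, ∀ z : M, d₂ z = 0 → ∃ x : N, d₁ x = a • z) :
    ∃ c : ℕ, ∀ (p q : ℕ) (h : q + c + 1 ≤ p) (z : ↥(J ^ p) ⊗[A] M),
      LinearMap.lTensor (↥(J ^ p)) d₂ z = 0 →
      ∃ y : ↥(J ^ q) ⊗[A] N, LinearMap.lTensor (↥(J ^ q)) d₁ y =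
        LinearMap.rTensor M (Submodule.inclusion
          (Ideal.pow_le_pow_right (le_trans (le_trans (Nat.le_add_right q c) (Nat.le_succ _)) h))) z := by
  obtain ⟨c, hc⟩ := Ideal.exists_pow_inf_eq_pow_smul J (LinearMap.ker d₂)
  refine ⟨c, fun p q h z hz => ?_⟩
  have hpc : c ≤ p := by omega
  -- the image of `z` in `M` is a cycle in `J^p M`
  have h1 : mu (J ^ p) M z ∈ J ^ p • (⊤ : Submodule A M) ⊓ LinearMap.ker d₂ := by
    refine ⟨mu_mem _ _ z, ?_⟩
    show mu (J ^ p) M z ∈ LinearMap.ker d₂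
    rw [LinearMap.mem_ker, ← mu_lTensor, hz, map_zero]
  rw [hc p hpc] at h1
  have h2 : J ^ (p - c) • (J ^ c • (⊤ : Submodule A M) ⊓ LinearMap.ker d₂) ≤
      J ^ q • LinearMap.range d₁ := by
    have e1 : J ^ (p - c) ≤ J ^ (q + 1) := Ideal.pow_le_pow_right (by omega)
    have e2 : J • LinearMap.ker d₂ ≤ LinearMap.range d₁ := by
      rw [Submodule.smul_le]
      intro a ha z hz
      obtain ⟨x, hx⟩ := hJ a ha z hz
      exact ⟨x, hx⟩
    calc J ^ (p - c) • (J ^ c • (⊤ : Submodule A M) ⊓ LinearMap.ker d₂)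
        ≤ J ^ (q + 1) • LinearMap.ker d₂ := Submodule.smul_mono e1 inf_le_right
      _ = J ^ q • (J • LinearMap.ker d₂) := by rw [pow_succ, Submodule.mul_smul]
      _ ≤ J ^ q • LinearMap.range d₁ := Submodule.smul_mono le_rfl e2
  have h3 : J ^ q • LinearMap.range d₁ ≤
      LinearMap.range ((mu (J ^ q) M) ∘ₗ LinearMap.lTensor (↥(J ^ q)) d₁) := by
    rw [Submodule.smul_le]
    rintro a ha _ ⟨x, rfl⟩
    refine ⟨(⟨a, ha⟩ : ↥(J ^ q)) ⊗ₜ x, ?_⟩
    simp
  obtain ⟨y, hy⟩ := h3 (h2 h1)
  refine ⟨y, mu_injective (J ^ q) M ?_⟩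
  rw [mu_rTensor]
  exact hy

end Groth.Agent.Lib.Helper15.ARTensor
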