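import Mathlib

/-!
# Elements of the homology of a complex of abelian groups (helper15)

`hmk C i j k hi hk x hx : C.homology j` is the class of a cycle `x ∈ C.X j`; every class is of this
form, `hmk` is additive and vanishes exactly on boundaries.
-/

set_option autoImplicit false
universe u

namespace Groth.Agent.Lib.Helper15.AbHmk

open CategoryTheory CategoryTheory.Limits

variable {ι : Type*} {c : ComplexShape ι} (C : HomologicalComplex AddCommGrpCat.{u} c)
  (i j k : ι) (hi : c.prev j = i) (hk : c.next j = k)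

/-- the additive equivalence between the homology and the explicit quotient -/
noncomputable def homEquiv :
    (C.homology j : AddCommGrpCat.{u}) ≃+
      ((AddMonoidHom.ker (C.sc' i j k).g.hom) ⧸ AddMonoidHom.range (C.sc' i j k).abToCycles) :=
  ((C.homologyIsoSc' i j k hi hk) ≪≫ (C.sc' i j k).abHomologyIso).addCommGroupIsoToAddEquiv

/-- the homology class of a cycle -/
noncomputable def hmk (x : C.X j) (hx : C.d j k x = 0) : (C.homology j : AddCommGrpCat.{u}) :=
  (homEquiv C i j k hi hk).symm (QuotientAddGroup.mk ⟨x, hx⟩)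

lemma hmk_surjective (y : (C.homology j : AddCommGrpCat.{u})) :
    ∃ (x : C.X j) (hx : C.d j k x = 0), hmk C i j k hi hk x hx = y := by
  obtain ⟨⟨x, hx⟩, h⟩ := QuotientAddGroup.mk_surjective (homEquiv C i j k hi hk y)
  refine ⟨x, hx, ?_⟩
  unfold hmk
  rw [h, AddEquiv.symm_apply_apply]

lemma hmk_add (x x' : C.X j) (hx : C.d j k x = 0) (hx' : C.d j k x' = 0) :
    hmk C i j k hi hk (x + x') (by rw [map_add, hx, hx', add_zero]) =
      hmk C i j k hi hk x hx + hmk C i j k hi hk x' hx' := by
  unfold hmk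
  exact (map_add (homEquiv C i j k hi hk).symm
    (QuotientAddGroup.mk (s := AddMonoidHom.range (C.sc' i j k).abToCycles) ⟨x, hx⟩)
    (QuotientAddGroup.mk (s := AddMonoidHom.range (C.sc' i j k).abToCycles) ⟨x', hx'⟩))

lemma hmk_eq_zero_iff (x : C.X j) (hx : C.d j k x = 0) :
    hmk C i j k hi hk x hx = 0 ↔ ∃ w : C.X i, C.d i j w = x := by
  unfold hmk
  rw [AddEquiv.map_eq_zero_iff, QuotientAddGroup.eq_zero_iff, AddMonoidHom.mem_range]
  constructor
  · rintro ⟨w, hw⟩
    exact ⟨w, congrArg Subtype.val hw⟩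
  · rintro ⟨w, hw⟩
    exact ⟨w, Subtype.ext hw⟩

lemma hmk_congr (x x' : C.X j) (hx : C.d j k x = 0) (h : x = x') :
    hmk C i j k hi hk x hx = hmk C i j k hi hk x' (h ▸ hx) := by
  subst h
  rfl

end Groth.Agent.Lib.Helper15.AbHmk

namespace Groth.Agent.Lib.Helper15.AbHmk

open CategoryTheory CategoryTheory.Limits

variable {ι : Type*} {c : ComplexShape ι} (C : HomologicalComplex AddCommGrpCat.{u} c)
  (i j k : ι) (hi : c.prev j = i) (hk : c.next j = k)

/-- variant of `hmk_eq_zero_iff` with an arbitrary name for the previous index -/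
lemma hmk_eq_zero_iff' (x : C.X j) (hx : C.d j k x = 0) (i' : ι) (hi' : c.prev j = i') :
    hmk C i j k hi hk x hx = 0 ↔ ∃ w : C.X i', C.d i' j w = x := by
  obtain rfl : i = i' := hi.symm.trans hi'
  exact hmk_eq_zero_iff C i j k hi hk x hx

end Groth.Agent.Lib.Helper15.AbHmk
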