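import Groth.Agent.Lib.Helper15.TorSymm
import Groth.Agent.Lib.Helper73.LeftDerivedLES

/-!
# Acyclic resolutions compute left derived functors (helper15)

`homology_iso_leftDerived`: for a right exact additive functor `G` between abelian categories and a
resolution `φ : F ⟶ M[0]` (quasi-isomorphism from an `ℕ`-indexed chain complex) whose terms are
`G`-acyclic (`L_{p+1}G (F_n) = 0`), one has `H_i(G F) ≅ L_iG (M)`.
-/

set_option autoImplicit false
universe v u
open CategoryTheory CategoryTheory.Limits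

noncomputable section

namespace Groth.Agent.Lib.Helper15.AcyclicRes

open Groth.Agent.Lib.Helper15.TorSymm

variable {V : Type u} [Category.{v} V] [Abelian V] (F : ChainComplex V ℕ)

@[reassoc (attr := simp)]
lemma fromOpcycles_pOpcycles (n : ℕ) : F.fromOpcycles (n + 1) n ≫ F.pOpcycles n = 0 := by
  rw [← cancel_epi (F.pOpcycles (n + 1)), HomologicalComplex.p_fromOpcycles_assoc,
    HomologicalComplex.d_pOpcycles, comp_zero]

/-- `0 → C_{n+1} → F_n → C_n → 0`, with `C_n` the opcycles. -/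
abbrev ses (n : ℕ) : ShortComplex V :=
  ShortComplex.mk (F.fromOpcycles (n + 1) n) (F.pOpcycles n) (fromOpcycles_pOpcycles F n)

lemma ses_shortExact (n : ℕ) (h : F.ExactAt (n + 1)) : (ses F n).ShortExact where
  exact := by
    let α : ShortComplex.mk (F.d (n + 1) n) (F.pOpcycles n) (by simp) ⟶ ses F n :=
      { τ₁ := F.pOpcycles (n + 1), τ₂ := 𝟙 _, τ₃ := 𝟙 _
        comm₁₂ := by simp [ses]
        comm₂₃ := by simp [ses] }
    have : Epi α.τ₁ := by dsimp [α]; infer_instance
    have : IsIso α.τ₂ := by dsimp [α]; infer_instance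
    have : Mono α.τ₃ := by dsimp [α]; infer_instance
    rw [← ShortComplex.exact_iff_of_epi_of_isIso_of_mono α]
    exact ShortComplex.exact_of_g_is_cokernel _ (F.opcyclesIsCokernel (n + 1) n (by simp))
  mono_f := by
    rw [HomologicalComplex.exactAt_iff_isZero_homology] at h
    exact Preadditive.mono_of_isZero_kernel' _ (F.homologyIsKernel (n + 1) n (by simp)) h
  epi_g := by dsimp [ses]; infer_instance

/-- the splice data of any chain complex -/
def splice (n : ℕ) : Splice F n where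
  Z := F.opcycles (n + 1)
  ε := F.pOpcycles (n + 1)
  ι := F.fromOpcycles (n + 1) n
  fac := by simp
  wε := by simp
  exact := ShortComplex.exact_of_g_is_cokernel _ (F.opcyclesIsCokernel (n + 2) (n + 1) (by simp))
  epi := inferInstance


variable {V' : Type u} [Category.{v} V'] [Abelian V'] (G : V ⥤ V') [G.Additive]
  [HasProjectiveResolutions V]

open Groth.Agent.Lib.Helper73 in
/-- dimension shifting along `0 → C_{n+1} → F_n → C_n → 0` -/
lemma shift_iso (n k : ℕ) (hex : F.ExactAt (n + 1))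
    (h1 : IsZero ((G.leftDerived (k + 2)).obj (F.X n)))
    (h2 : IsZero ((G.leftDerived (k + 1)).obj (F.X n))) :
    Nonempty ((G.leftDerived (k + 2)).obj (F.opcycles n) ≅
      (G.leftDerived (k + 1)).obj (F.opcycles (n + 1))) := by
  obtain ⟨-, δ, w₁, w₂, ex1, ex2⟩ := leftDerived_les G (ses_shortExact F n hex) (k + 1)
  have hm : Mono δ := ex1.mono_g (h1.eq_of_src _ _)
  have he : Epi δ := ex2.epi_f (h2.eq_of_tgt _ _)
  have : IsIso δ := isIso_of_mono_of_epi δ
  exact ⟨asIso δ⟩

open Groth.Agent.Lib.Helper73 in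
/-- the kernel of `G C_{n+1} → G F_n` is `L₁G (C_n)` -/
lemma kernel_iso [PreservesFiniteColimits G] (n : ℕ) (hex : F.ExactAt (n + 1))
    (h1 : IsZero ((G.leftDerived 1).obj (F.X n))) :
    Nonempty (kernel (G.map (F.fromOpcycles (n + 1) n)) ≅
      (G.leftDerived 1).obj (F.opcycles n)) := by
  obtain ⟨-, δ, w₁, w₂, ex1, ex2⟩ := leftDerived_les G (ses_shortExact F n hex) 0
  have hm : Mono δ := ex1.mono_g (h1.eq_of_src _ _)
  have hk : IsLimit (KernelFork.ofι δ w₂) := ex2.fIsKernel
  let e₁ : (G.leftDerived 1).obj (F.opcycles n) ≅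
      kernel ((G.leftDerived 0).map (F.fromOpcycles (n + 1) n)) :=
    IsLimit.conePointUniqueUpToIso (s := KernelFork.ofι δ w₂)
      (t := KernelFork.ofι (kernel.ι ((G.leftDerived 0).map (F.fromOpcycles (n + 1) n)))
        (kernel.condition _)) hk
      (kernelIsKernel ((G.leftDerived 0).map (F.fromOpcycles (n + 1) n)))
  let e₂ : kernel ((G.leftDerived 0).map (F.fromOpcycles (n + 1) n)) ≅
      kernel (G.map (F.fromOpcycles (n + 1) n)) :=
    kernel.mapIso _ _ (G.leftDerivedZeroIsoSelf.app _) (G.leftDerivedZeroIsoSelf.app _)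
      (by simp)
  exact ⟨(e₁ ≪≫ e₂).symm⟩


/-- `H₀(G F) ≅ G (C₀)` for right exact `G`. -/
def homologyZeroIso [PreservesFiniteColimits G] :
    ((G.mapHomologicalComplex (ComplexShape.down ℕ)).obj F).homology 0 ≅ G.obj (F.opcycles 0) :=
  ChainComplex.isoHomologyι₀ ((G.mapHomologicalComplex (ComplexShape.down ℕ)).obj F) ≪≫
    IsColimit.coconePointUniqueUpToIso
      (((G.mapHomologicalComplex (ComplexShape.down ℕ)).obj F).opcyclesIsCokernel 1 0 (by simp))
      (CokernelCofork.mapIsColimit _ (F.opcyclesIsCokernel 1 0 (by simp)) G)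

/-- `C₀ ≅ M` for a resolution `F ⟶ M`. -/
def opcyclesZeroIso (M : V) (φ : F ⟶ (ChainComplex.single₀ V).obj M) [QuasiIso φ] :
    F.opcycles 0 ≅ M :=
  (ChainComplex.isoHomologyι₀ F).symm ≪≫ asIso (HomologicalComplex.homologyMap φ 0) ≪≫
    HomologicalComplex.singleObjHomologySelfIso (ComplexShape.down ℕ) 0 M

omit [HasProjectiveResolutions V] in
lemma exactAt_succ_of_quasiIso (M : V) (φ : F ⟶ (ChainComplex.single₀ V).obj M) [QuasiIso φ]
    (n : ℕ) : F.ExactAt (n + 1) := by
  rw [← quasiIsoAt_iff_exactAt' φ (n + 1) (ChainComplex.exactAt_succ_single_obj M n)]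
  infer_instance

lemma iter_iso (hex : ∀ n, F.ExactAt (n + 1))
    (hac : ∀ n p, IsZero ((G.leftDerived (p + 1)).obj (F.X n))) :
    ∀ (n k m : ℕ), m = k + n → Nonempty ((G.leftDerived (k + 1)).obj (F.opcycles n) ≅
      (G.leftDerived (m + 1)).obj (F.opcycles 0))
  | 0, k, m, h => by
    obtain rfl : m = k := by omega
    exact ⟨Iso.refl _⟩
  | n + 1, k, m, h => by
    obtain ⟨e⟩ := shift_iso F G n k (hex n) (hac n (k + 1)) (hac n k)
    obtain ⟨e'⟩ := iter_iso hex hac n (k + 1) m (by omega)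
    exact ⟨e.symm ≪≫ e'⟩

/-- **Acyclic resolutions compute left derived functors.** -/
theorem homology_iso_leftDerived [PreservesFiniteColimits G] (M : V)
    (φ : F ⟶ (ChainComplex.single₀ V).obj M) [QuasiIso φ]
    (hac : ∀ n p, IsZero ((G.leftDerived (p + 1)).obj (F.X n))) (i : ℕ) :
    Nonempty (((G.mapHomologicalComplex (ComplexShape.down ℕ)).obj F).homology i ≅
      (G.leftDerived i).obj M) := by
  have hex := exactAt_succ_of_quasiIso F M φ
  obtain _ | n := i
  · exact ⟨homologyZeroIso F G ≪≫ G.mapIso (opcyclesZeroIso F M φ) ≪≫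
      (G.leftDerivedZeroIsoSelf.app M).symm⟩
  · obtain ⟨e₁⟩ := kernel_iso F G n (hex n) (hac n 0)
    obtain ⟨e₂⟩ := iter_iso F G hex hac n 0 n (by omega)
    exact ⟨((splice F n).rdata G).homologyIso ≪≫ e₁ ≪≫ e₂ ≪≫
      (G.leftDerived (n + 1)).mapIso (opcyclesZeroIso F M φ)⟩

end Groth.Agent.Lib.Helper15.AcyclicRes
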