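import Mathlib
import Groth.Prelude.Def_CohSite

/-!
# Sheaves with vanishing higher cohomology on all objects (helper15)

For a short exact sequence `0 → F → I → Q → 0` of abelian sheaves on a small site with `F` acyclic
on every object (`H^q(U, F) = 0` for `q > 0`) and `I` injective, the sheaf `Q` is again acyclic on
every object, and the sequences of sections `0 → F(U) → I(U) → Q(U) → 0` are exact.
-/

set_option autoImplicit false
universe u
open CategoryTheory CategoryTheory.Limits Opposite

namespace Groth.Agent.Lib.Helper15.AcyclicSheaf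

open CategoryTheory.Abelian

variable {C : Type u} [SmallCategory C] {J : GrothendieckTopology C}

/-- the free abelian presheaf on a representable presheaf -/
noncomputable abbrev ZP (U : C) : Cᵒᵖ ⥤ AddCommGrpCat.{u} :=
  yoneda.obj U ⋙ AddCommGrpCat.free.{u}

variable (J) in
/-- the free abelian sheaf on a representable presheaf -/
noncomputable abbrev ZU (U : C) : Sheaf J AddCommGrpCat.{u} :=
  (presheafToSheaf J AddCommGrpCat.{u}).obj (ZP U)

/-- acyclicity on every object of the site -/
def Acyc (F : Sheaf J AddCommGrpCat.{u}) : Prop :=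
  ∀ (U : C) (q : ℕ), Subsingleton (CohSite.HU F (q + 1) U)

lemma Acyc.eq_zero {F : Sheaf J AddCommGrpCat.{u}} (hF : Acyc F) (U : C) (q : ℕ)
    (x : Ext (ZU J U) F (q + 1)) : x = 0 := by
  have := hF U q
  exact Subsingleton.elim (α := CohSite.HU F (q + 1) U) x 0

lemma acyc_of_forall {F : Sheaf J AddCommGrpCat.{u}}
    (h : ∀ (U : C) (q : ℕ) (x : Ext (ZU J U) F (q + 1)), x = 0) : Acyc F := by
  intro U q
  refine ⟨fun a b => ?_⟩
  exact (h U q a).trans (h U q b).symm

variable {S : ShortComplex (Sheaf J AddCommGrpCat.{u})} (hS : S.ShortExact)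

include hS in
/-- the quotient of an injective sheaf by an acyclic sheaf is acyclic -/
theorem acyc_of_shortExact (h1 : Acyc S.X₁) [Injective S.X₂] : Acyc S.X₃ := by
  apply acyc_of_forall
  intro U q x
  have h0 : x.comp hS.extClass (rfl : q + 1 + 1 = q + 2) = 0 := h1.eq_zero U (q + 1) _
  obtain ⟨x₂, hx₂⟩ := Ext.covariant_sequence_exact₃ _ hS x rfl h0
  rw [← hx₂, Ext.eq_zero_of_injective x₂, Ext.zero_comp]

/-- the morphism of presheaves `ℤ[h_U] ⟶ G` attached to a section over `U` -/
noncomputable def liftP (G : Cᵒᵖ ⥤ AddCommGrpCat.{u}) {U : C} (t : G.obj (op U)) : ZP U ⟶ G where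
  app V := AddCommGrpCat.ofHom
    (FreeAbelianGroup.lift (fun h : (yoneda.obj U).obj V => (G.map h.op).hom t))
  naturality V V' g := by
    apply AddCommGrpCat.hom_ext
    apply FreeAbelianGroup.lift_ext
    intro h
    change FreeAbelianGroup.lift _ (FreeAbelianGroup.map _ (FreeAbelianGroup.of h)) =
      (G.map g).hom (FreeAbelianGroup.lift _ (FreeAbelianGroup.of h))
    rw [FreeAbelianGroup.map_of_apply, FreeAbelianGroup.lift_apply_of,
      FreeAbelianGroup.lift_apply_of]
    change (G.map (g.unop ≫ h).op).hom t = (G.map g).hom ((G.map h.op).hom t)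
    rw [op_comp, G.map_comp]
    rfl

lemma liftP_app_one (G : Cᵒᵖ ⥤ AddCommGrpCat.{u}) {U : C} (t : G.obj (op U)) :
    ((liftP G t).app (op U)).hom (FreeAbelianGroup.of (𝟙 U)) = t := by
  change FreeAbelianGroup.lift _ (FreeAbelianGroup.of (𝟙 U)) = t
  rw [FreeAbelianGroup.lift_apply_of]
  change (G.map (𝟙 (op U))).hom t = t
  rw [G.map_id]
  rfl

include hS in
/-- sections of an injective sheaf surject onto sections of its quotient by an acyclic sheaf -/
theorem surjective_of_shortExact (h1 : Acyc S.X₁) (U : C) :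
    Function.Surjective (S.g.hom.app (op U)).hom := by
  intro t
  let adj := sheafificationAdjunction J AddCommGrpCat.{u}
  let φ : ZU J U ⟶ S.X₃ := (adj.homEquiv (ZP U) S.X₃).symm (liftP S.X₃.obj t)
  have h0 : (Ext.mk₀ φ).comp hS.extClass (rfl : 0 + 1 = 1) = 0 := h1.eq_zero U 0 _
  obtain ⟨x₂, hx₂⟩ := Ext.covariant_sequence_exact₃ _ hS (Ext.mk₀ φ) rfl h0
  obtain ⟨ψ, rfl⟩ := (Ext.mk₀_bijective _ _).2 x₂
  rw [Ext.mk₀_comp_mk₀] at hx₂
  have hψ : ψ ≫ S.g = φ := (Ext.mk₀_bijective _ _).1 hx₂
  have h2 : adj.homEquiv (ZP U) S.X₂ ψ ≫ S.g.hom = liftP S.X₃.obj t := by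
    have := adj.homEquiv_naturality_right ψ S.g
    rw [hψ, Equiv.apply_symm_apply] at this
    exact this.symm
  refine ⟨((adj.homEquiv (ZP U) S.X₂ ψ).app (op U)).hom (FreeAbelianGroup.of (𝟙 U)), ?_⟩
  have h3 := congrArg (fun η => (η.app (op U)).hom (FreeAbelianGroup.of (𝟙 U))) h2
  exact h3.trans (liftP_app_one _ t)

/-- the functor of sections over `U` -/
noncomputable abbrev secF (U : C) : Sheaf J AddCommGrpCat.{u} ⥤ AddCommGrpCat.{u} :=
  sheafToPresheaf J AddCommGrpCat.{u} ⋙ (evaluation Cᵒᵖ AddCommGrpCat.{u}).obj (op U)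

include hS in
theorem injective_of_shortExact (U : C) : Function.Injective (S.f.hom.app (op U)).hom := by
  have := hS.mono_f
  have : Mono ((secF U).map S.f) := inferInstance
  exact (AddCommGrpCat.mono_iff_injective _).1 this

include hS in
theorem exact_of_shortExact (U : C) (s : S.X₂.obj.obj (op U))
    (hs : (S.g.hom.app (op U)).hom s = 0) :
    ∃ r : S.X₁.obj.obj (op U), (S.f.hom.app (op U)).hom r = s := by
  have hex : (S.map (secF U)).Exact :=
    hS.exact.map_of_mono_of_preservesKernel (secF U) hS.mono_f inferInstance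
  rw [ShortComplex.ab_exact_iff] at hex
  exact hex s hs

theorem zero_of_shortComplex (S : ShortComplex (Sheaf J AddCommGrpCat.{u})) (U : C)
    (r : S.X₁.obj.obj (op U)) :
    (S.g.hom.app (op U)).hom ((S.f.hom.app (op U)).hom r) = 0 := by
  have h := S.zero
  have h2 := congrArg (fun η : S.X₁ ⟶ S.X₃ => (η.hom.app (op U)).hom r) h
  exact h2

end Groth.Agent.Lib.Helper15.AcyclicSheaf
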