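import Mathlib

/-!
# Adapted classes are acyclic (helper15)

If `𝒪` is a class of objects closed under binary biproducts, such that every object embeds
in a member of `𝒪` and an additive functor `f` preserves acyclicity of `ℕ`-indexed complexes with
terms in `𝒪`, then members of `𝒪` are right `f`-acyclic.  Proof: for an injective resolution `I`
of `X ∈ 𝒪`, build `T = I ⊕ (contractible)` with all terms in `𝒪` and use that `I` is a retract.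
-/
set_option autoImplicit false
universe v u
open CategoryTheory CategoryTheory.Limits Preadditive

namespace Groth.Agent.Lib.Helper15.AdaptedClass

section Step
variable {A : Type u} [Category.{v} A] [Preadditive A] [HasBinaryBiproducts A]
variable {S O₀ O₁ O₂ I₀ I₁ I₂ : A} (ρ₀ : S ⟶ S)
  (ι₀ : I₀ ⟶ O₀) (r₀ : O₀ ⟶ I₀) (ι₁ : I₁ ⟶ O₁) (r₁ : O₁ ⟶ I₁) (ι₂ : I₂ ⟶ O₂)
  (d₀ : I₀ ⟶ I₁) (d₁ : I₁ ⟶ I₂)

/-- next idempotent -/
noncomputable def stepρ : O₀ ⊞ S ⟶ O₀ ⊞ S := biprod.map (𝟙 _ - r₀ ≫ ι₀) (𝟙 _ - ρ₀)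

/-- differential -/
noncomputable def stepd (ρ₁ : O₀ ⊞ S ⟶ O₀ ⊞ S) : O₀ ⊞ S ⟶ O₁ ⊞ (O₀ ⊞ S) :=
  biprod.lift (biprod.fst ≫ r₀ ≫ d₀ ≫ ι₁) ρ₁

/-- inclusion -/
noncomputable def stepι : I₀ ⟶ O₀ ⊞ S := ι₀ ≫ biprod.inl

/-- retraction -/
noncomputable def stepr : O₀ ⊞ S ⟶ I₀ := biprod.fst ≫ r₀

/-- homotopy -/
noncomputable def steps (ρ₁ : O₀ ⊞ S ⟶ O₀ ⊞ S) : O₁ ⊞ (O₀ ⊞ S) ⟶ O₀ ⊞ S := biprod.snd ≫ ρ₁

lemma stepρ_idem (h₀ : ι₀ ≫ r₀ = 𝟙 _) (hρ : ρ₀ ≫ ρ₀ = ρ₀) :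
    stepρ ρ₀ ι₀ r₀ ≫ stepρ ρ₀ ι₀ r₀ = stepρ ρ₀ ι₀ r₀ := by
  apply biprod.hom_ext
  · simp [stepρ, sub_comp, comp_sub, reassoc_of% h₀]
  · simp [stepρ, sub_comp, comp_sub, hρ]

lemma stepι_stepr (h₀ : ι₀ ≫ r₀ = 𝟙 _) : stepι (S := S) ι₀ ≫ stepr r₀ = 𝟙 _ := by
  simp [stepι, stepr, h₀]

lemma stepd_stepr (ρ₁ : O₀ ⊞ S ⟶ O₀ ⊞ S) (h₁ : ι₁ ≫ r₁ = 𝟙 _) :
    stepd r₀ ι₁ d₀ ρ₁ ≫ stepr r₁ = stepr r₀ ≫ d₀ := by
  simp [stepd, stepr, h₁]

lemma stepι_stepd (h₀ : ι₀ ≫ r₀ = 𝟙 _) :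
    stepι ι₀ ≫ stepd r₀ ι₁ d₀ (stepρ ρ₀ ι₀ r₀) = d₀ ≫ stepι ι₁ := by
  apply biprod.hom_ext
  · simp [stepd, stepι, reassoc_of% h₀]
  · simp [stepd, stepι, stepρ, comp_sub, reassoc_of% h₀]

lemma stepd_stepd (h₁ : ι₁ ≫ r₁ = 𝟙 _) (hd : d₀ ≫ d₁ = 0) (ρ₁ : O₀ ⊞ S ⟶ O₀ ⊞ S)
    (hρ : ρ₁ ≫ ρ₁ = ρ₁) :
    stepd r₀ ι₁ d₀ ρ₁ ≫ stepd r₁ ι₂ d₁ (stepρ ρ₁ ι₁ r₁) = 0 := by
  apply biprod.hom_ext
  · simp [stepd, reassoc_of% h₁, reassoc_of% hd]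
  · apply biprod.hom_ext
    · simp [stepd, stepρ, comp_sub, reassoc_of% h₁]
    · simp [stepd, stepρ, comp_sub, hρ]

lemma homotopy_step (_h₀ : ι₀ ≫ r₀ = 𝟙 _) (h₁ : ι₁ ≫ r₁ = 𝟙 _) (ρ₁ : O₀ ⊞ S ⟶ O₀ ⊞ S)
    (hρ : ρ₁ ≫ ρ₁ = ρ₁) (hρr : ρ₁ ≫ stepr r₀ = 0) :
    stepd r₁ ι₂ d₁ (stepρ ρ₁ ι₁ r₁) ≫ steps (stepρ ρ₁ ι₁ r₁) + steps ρ₁ ≫ stepd r₀ ι₁ d₀ ρ₁
      + stepr r₁ ≫ stepι ι₁ = 𝟙 _ := by
  have hρr' : ρ₁ ≫ biprod.fst ≫ r₀ = 0 := hρr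
  apply biprod.hom_ext
  · simp [stepd, steps, stepr, stepι, stepρ, add_comp, comp_sub,
      reassoc_of% hρr', reassoc_of% h₁]
  · simp [stepd, steps, stepr, stepι, stepρ, add_comp, comp_sub, hρ]

lemma stepρ_stepr (h₀ : ι₀ ≫ r₀ = 𝟙 _) : stepρ ρ₀ ι₀ r₀ ≫ stepr r₀ = 0 := by
  simp [stepρ, stepr, sub_comp, h₀]

lemma homotopy_step_zero (h₀ : ι₀ ≫ r₀ = 𝟙 _) :
    stepd r₀ ι₁ d₀ (stepρ (0 : S ⟶ S) ι₀ r₀) ≫ steps (stepρ (0 : S ⟶ S) ι₀ r₀)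
      + stepr r₀ ≫ stepι ι₀ = 𝟙 _ := by
  apply biprod.hom_ext
  · simp [stepd, steps, stepr, stepι, stepρ, add_comp, comp_sub, sub_comp, reassoc_of% h₀]
  · simp [stepd, steps, stepr, stepι, stepρ, add_comp]

end Step

end Groth.Agent.Lib.Helper15.AdaptedClass

namespace Groth.Agent.Lib.Helper15.AdaptedClass

section Main
variable {A : Type u} [Category.{v} A] [Abelian A]
variable {X : A} (I : InjectiveResolution X) (Ob : ℕ → A)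
  (ι : ∀ n, I.cocomplex.X n ⟶ Ob n) (r : ∀ n, Ob n ⟶ I.cocomplex.X n)

/-- `S 0 = X`, `S (n+1) = O^n ⊞ S n` -/
noncomputable def S (X : A) (Ob : ℕ → A) : ℕ → A
  | 0 => X
  | n+1 => Ob n ⊞ S X Ob n

variable {Ob}

/-- the alternating idempotents -/
noncomputable def ρ : ∀ n, S X Ob n ⟶ S X Ob n
  | 0 => 0
  | n+1 => stepρ (ρ n) (ι n) (r n)

/-- the augmentation `X ⟶ I⁰` -/
noncomputable def ε : X ⟶ I.cocomplex.X 0 := I.ι.f 0

lemma ε_d : ε I ≫ I.cocomplex.d 0 1 = 0 := I.ι_f_zero_comp_complex_d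

/-- the differentials of `K` -/
noncomputable def dK : ∀ n, S X Ob n ⟶ S X Ob (n+1)
  | 0 => ε I ≫ stepι (S := X) (ι 0)
  | n+1 => stepd (S := S X Ob n) (r n) (ι (n+1)) (I.cocomplex.d n (n+1)) (ρ I ι r (n+1))

variable (hιr : ∀ n, ι n ≫ r n = 𝟙 _)
include hιr

lemma ρ_idem (n : ℕ) : ρ I ι r n ≫ ρ I ι r n = ρ I ι r n := by
  induction n with
  | zero => simp [ρ]
  | succ n ih => exact stepρ_idem _ _ _ (hιr n) ih

lemma dK_dK (n : ℕ) : dK I ι r n ≫ dK I ι r (n+1) = 0 := by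
  cases n with
  | zero =>
    have h := stepι_stepd (S := X) (0 : X ⟶ X) (ι 0) (r 0) (ι 1) (I.cocomplex.d 0 1) (hιr 0)
    change (ε I ≫ stepι (S := X) (ι 0)) ≫ stepd (S := X) (r 0) (ι 1) (I.cocomplex.d 0 1)
      (stepρ (0 : X ⟶ X) (ι 0) (r 0)) = 0
    rw [Category.assoc, h, reassoc_of% (ε_d I), zero_comp]
  | succ n =>
    exact stepd_stepd (S := S X Ob n) (r n) (ι (n+1)) (r (n+1)) (ι (n+2)) _ _ (hιr (n+1))
      (I.cocomplex.d_comp_d _ _ _) (ρ I ι r (n+1)) (ρ_idem I ι r hιr (n+1))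

/-- the complex `K` -/
noncomputable def K : CochainComplex A ℕ :=
  CochainComplex.of (S X Ob) (dK I ι r) (dK_dK I ι r hιr)

lemma K_d (n : ℕ) : (K I ι r hιr).d n (n+1) = dK I ι r n := CochainComplex.of_d _ _ n

lemma K_exactAt_zero : (K I ι r hιr).ExactAt 0 := by
  rw [HomologicalComplex.exactAt_iff' _ 0 0 1 (by simp) (by simp)]
  have hm : Mono (dK I ι r 0) := by
    have m1 : Mono (ε I) := inferInstanceAs (Mono (I.ι.f 0))
    have m2 : Mono (stepι (S := X) (ι 0)) := by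
      have := stepι_stepr (S := X) (ι 0) (r 0) (hιr 0)
      exact mono_of_mono_fac this
    change Mono (ε I ≫ stepι (S := X) (ι 0))
    exact mono_comp _ _
  refine (ShortComplex.exact_iff_mono _ ?_).2 ?_
  · exact (K I ι r hιr).shape 0 0 (by simp)
  · change Mono ((K I ι r hιr).d 0 1)
    rw [K_d]
    exact hm

lemma K_exactAt_one : (K I ι r hιr).ExactAt 1 := by
  rw [HomologicalComplex.exactAt_iff' _ 0 1 2 (by simp) (by simp)]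
  rw [ShortComplex.exact_iff_exact_up_to_refinements]
  intro Z x hx
  change Z ⟶ Ob 0 ⊞ X at x
  change x ≫ (K I ι r hιr).d 1 2 = 0 at hx
  rw [K_d] at hx
  change x ≫ stepd (S := X) (r 0) (ι 1) (I.cocomplex.d 0 1) (stepρ (0 : X ⟶ X) (ι 0) (r 0)) = 0
    at hx
  have hh := homotopy_step_zero (S := X) (ι 0) (r 0) (ι 1) (I.cocomplex.d 0 1) (hιr 0)
  have h1 : (x ≫ stepr (r 0)) ≫ I.cocomplex.d 0 1 = 0 := by
    rw [Category.assoc, ← stepd_stepr (S := X) (r 0) (ι 1) (r 1) (I.cocomplex.d 0 1) _ (hιr 1),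
      reassoc_of% hx, zero_comp]
  obtain ⟨Z', π, hπ, y, hy⟩ := (I.exact₀).exact_up_to_refinements (x ≫ stepr (r 0)) h1
  refine ⟨Z', π, hπ, y, ?_⟩
  change π ≫ x = y ≫ (K I ι r hιr).d 0 1
  rw [K_d]
  change π ≫ x = y ≫ ε I ≫ stepι (S := X) (ι 0)
  have h2 : x = (x ≫ stepr (r 0)) ≫ stepι (ι 0) := by
    have := x ≫= hh
    rw [Preadditive.comp_add, reassoc_of% hx, zero_comp, zero_add, Category.comp_id] at this
    rw [Category.assoc]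
    exact this.symm
  rw [h2, ← Category.assoc π, hy]
  simp [ε]

lemma K_exactAt_succ (n : ℕ) : (K I ι r hιr).ExactAt (n+2) := by
  rw [HomologicalComplex.exactAt_iff' _ (n+1) (n+2) (n+3) (by simp) (by simp)]
  rw [ShortComplex.exact_iff_exact_up_to_refinements]
  intro Z x hx
  change Z ⟶ Ob (n+1) ⊞ (Ob n ⊞ S X Ob n) at x
  change x ≫ (K I ι r hιr).d (n+2) (n+2+1) = 0 at hx
  rw [K_d] at hx
  change x ≫ stepd (S := Ob n ⊞ S X Ob n) (r (n+1)) (ι (n+2)) (I.cocomplex.d (n+1) (n+2))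
    (stepρ (ρ I ι r (n+1)) (ι (n+1)) (r (n+1))) = 0 at hx
  have hρr : ρ I ι r (n+1) ≫ stepr (S := S X Ob n) (r n) = 0 :=
    stepρ_stepr (ρ I ι r n) (ι n) (r n) (hιr n)
  have hh := homotopy_step (S := S X Ob n) (ι n) (r n) (ι (n+1)) (r (n+1)) (ι (n+2))
    (I.cocomplex.d n (n+1)) (I.cocomplex.d (n+1) (n+2)) (hιr n) (hιr (n+1)) (ρ I ι r (n+1))
    (ρ_idem I ι r hιr (n+1)) hρr
  have h1 : (x ≫ stepr (r (n+1))) ≫ I.cocomplex.d (n+1) (n+2) = 0 := by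
    rw [Category.assoc, ← stepd_stepr (S := Ob n ⊞ S X Ob n) (r (n+1)) (ι (n+2)) (r (n+2))
      (I.cocomplex.d (n+1) (n+2)) _ (hιr (n+2)), reassoc_of% hx, zero_comp]
  obtain ⟨Z', π, hπ, y, hy⟩ := (I.exact_succ n).exact_up_to_refinements
    (x ≫ stepr (r (n+1))) h1
  dsimp at y hy
  have h2 : x = (x ≫ steps (ρ I ι r (n+1))) ≫ stepd (S := S X Ob n) (r n) (ι (n+1))
      (I.cocomplex.d n (n+1)) (ρ I ι r (n+1)) + (x ≫ stepr (r (n+1))) ≫ stepι (ι (n+1)) := by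
    have := x ≫= hh
    rw [Preadditive.comp_add, Preadditive.comp_add, reassoc_of% hx, zero_comp, zero_add,
      Category.comp_id] at this
    simp only [Category.assoc]
    exact this.symm
  have h3 : stepι (S := S X Ob n) (ι n) ≫ stepd (S := S X Ob n) (r n) (ι (n+1))
      (I.cocomplex.d n (n+1)) (ρ I ι r (n+1)) = I.cocomplex.d n (n+1) ≫ stepι (ι (n+1)) :=
    stepι_stepd (S := S X Ob n) (ρ I ι r n) (ι n) (r n) (ι (n+1))
      (I.cocomplex.d n (n+1)) (hιr n)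
  have key : π ≫ x = (π ≫ x ≫ steps (ρ I ι r (n+1)) + y ≫ stepι (S := S X Ob n) (ι n)) ≫
      stepd (S := S X Ob n) (r n) (ι (n+1)) (I.cocomplex.d n (n+1)) (ρ I ι r (n+1)) := by
    rw [Preadditive.add_comp, Category.assoc y, h3]
    conv_lhs => rw [h2]
    rw [Preadditive.comp_add, ← Category.assoc π (x ≫ stepr (r (n+1))), hy]
    simp only [Category.assoc]
  refine ⟨Z', π, hπ, (π ≫ x ≫ steps (ρ I ι r (n+1)) + y ≫ stepι (S := S X Ob n) (ι n) :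
    Z' ⟶ Ob n ⊞ S X Ob n), ?_⟩
  change π ≫ x = _ ≫ (K I ι r hιr).d (n+1) (n+1+1)
  rw [K_d]
  exact key

theorem K_acyclic : (K I ι r hιr).Acyclic := by
  intro i
  match i with
  | 0 => exact K_exactAt_zero I ι r hιr
  | 1 => exact K_exactAt_one I ι r hιr
  | n+2 => exact K_exactAt_succ I ι r hιr n

end Main

end Groth.Agent.Lib.Helper15.AdaptedClass

namespace Groth.Agent.Lib.Helper15.AdaptedClass

section Final
variable {A : Type u} [Category.{v} A] [Abelian A] [EnoughInjectives A]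
  {B : Type*} [Category B] [Abelian B] (f : A ⥤ B) [f.Additive]

theorem isZero_rightDerived (𝒪 : ObjectProperty A)
    (h0 : ∀ X Y : A, 𝒪 X → 𝒪 Y → 𝒪 (X ⊞ Y))
    (h1 : ∀ K : CochainComplex A ℕ, (∀ i, 𝒪 (K.X i)) → K.Acyclic →
      ((f.mapHomologicalComplex (ComplexShape.up ℕ)).obj K).Acyclic)
    (h2 : ∀ X : A, ∃ (Y : A) (i : X ⟶ Y), 𝒪 Y ∧ Mono i)
    (X : A) (hX : 𝒪 X) (n : ℕ) (hn : 0 < n) :
    IsZero ((f.rightDerived n).obj X) := by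
  obtain ⟨m, rfl⟩ : ∃ m, n = m + 1 := ⟨n - 1, by omega⟩
  let I : InjectiveResolution X := Classical.choice HasInjectiveResolution.out
  let Ob : ℕ → A := fun n => (h2 (I.cocomplex.X n)).choose
  let ι : ∀ n, I.cocomplex.X n ⟶ Ob n := fun n => (h2 (I.cocomplex.X n)).choose_spec.choose
  have hO : ∀ n, 𝒪 (Ob n) := fun n => (h2 (I.cocomplex.X n)).choose_spec.choose_spec.1
  have hι : ∀ n, Mono (ι n) := fun n => (h2 (I.cocomplex.X n)).choose_spec.choose_spec.2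
  have hinj : ∀ n, Injective (I.cocomplex.X n) := fun n => I.injective n
  let r : ∀ n, Ob n ⟶ I.cocomplex.X n := fun n => Injective.factorThru (𝟙 _) (ι n)
  have hιr : ∀ n, ι n ≫ r n = 𝟙 _ := fun n => Injective.comp_factorThru _ _
  have hS : ∀ n, 𝒪 (S X Ob n) := by
    intro n
    induction n with
    | zero => exact hX
    | succ n ih => exact h0 _ _ (hO n) ih
  have hK := h1 (K I ι r hιr) hS (K_acyclic I ι r hιr)
  refine IsZero.of_iso ?_ (I.isoRightDerivedObj f (m+1))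
  refine HomologicalComplex.ExactAt.isZero_homology ?_
  rw [HomologicalComplex.exactAt_iff' _ m (m+1) (m+2) (by simp) (by simp)]
  rw [ShortComplex.exact_iff_exact_up_to_refinements]
  intro Z x hx
  change Z ⟶ f.obj (I.cocomplex.X (m+1)) at x
  change x ≫ f.map (I.cocomplex.d (m+1) (m+2)) = 0 at hx
  -- exactness of `f K` at `m+2`
  have hE := hK (m+2)
  rw [HomologicalComplex.exactAt_iff' _ (m+1) (m+2) (m+3) (by simp) (by simp)] at hE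
  have e1 : stepι (S := Ob m ⊞ S X Ob m) (ι (m+1)) ≫
      stepd (S := Ob m ⊞ S X Ob m) (r (m+1)) (ι (m+2)) (I.cocomplex.d (m+1) (m+2))
        (ρ I ι r (m+2)) = I.cocomplex.d (m+1) (m+2) ≫ stepι (ι (m+2)) :=
    stepι_stepd (S := Ob m ⊞ S X Ob m) (ρ I ι r (m+1)) (ι (m+1)) (r (m+1)) (ι (m+2))
      (I.cocomplex.d (m+1) (m+2)) (hιr (m+1))
  have e2 : stepd (S := S X Ob m) (r m) (ι (m+1)) (I.cocomplex.d m (m+1)) (ρ I ι r (m+1)) ≫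
      stepr (r (m+1)) = stepr (r m) ≫ I.cocomplex.d m (m+1) :=
    stepd_stepr (S := S X Ob m) (r m) (ι (m+1)) (r (m+1)) (I.cocomplex.d m (m+1)) _ (hιr (m+1))
  have e3 : stepι (S := Ob m ⊞ S X Ob m) (ι (m+1)) ≫ stepr (r (m+1)) = 𝟙 _ :=
    stepι_stepr _ _ (hιr (m+1))
  have hx2 : (x ≫ f.map (stepι (S := Ob m ⊞ S X Ob m) (ι (m+1)))) ≫
      f.map (stepd (S := Ob m ⊞ S X Ob m) (r (m+1)) (ι (m+2)) (I.cocomplex.d (m+1) (m+2))
        (ρ I ι r (m+2))) = 0 := by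
    rw [Category.assoc, ← f.map_comp, e1, f.map_comp, reassoc_of% hx, zero_comp]
  have hx2' : (x ≫ f.map (stepι (S := Ob m ⊞ S X Ob m) (ι (m+1)))) ≫
      (((f.mapHomologicalComplex (ComplexShape.up ℕ)).obj (K I ι r hιr)).sc'
        (m+1) (m+2) (m+3)).g = 0 := by
    change _ ≫ f.map ((K I ι r hιr).d (m+2) (m+2+1)) = 0
    rw [K_d]
    exact hx2
  obtain ⟨Z', π, hπ, y, hy⟩ := hE.exact_up_to_refinements _ hx2'
  change Z' ⟶ f.obj (Ob m ⊞ S X Ob m) at y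
  change π ≫ x ≫ f.map (stepι (S := Ob m ⊞ S X Ob m) (ι (m+1))) =
    y ≫ f.map ((K I ι r hιr).d (m+1) (m+1+1)) at hy
  rw [K_d] at hy
  change π ≫ x ≫ f.map (stepι (S := Ob m ⊞ S X Ob m) (ι (m+1))) =
    y ≫ f.map (stepd (S := S X Ob m) (r m) (ι (m+1)) (I.cocomplex.d m (m+1))
      (ρ I ι r (m+1))) at hy
  refine ⟨Z', π, hπ, y ≫ f.map (stepr (r m)), ?_⟩
  change π ≫ x = (y ≫ f.map (stepr (r m))) ≫ f.map (I.cocomplex.d m (m+1))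
  have := hy =≫ f.map (stepr (r (m+1)))
  simp only [Category.assoc, ← f.map_comp, e2, e3] at this
  rw [f.map_id, Category.comp_id] at this
  rw [this, f.map_comp, Category.assoc]

end Final

end Groth.Agent.Lib.Helper15.AdaptedClass
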