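import Mathlib

/-!
# Exactness of the Amitsur complex (Čech conerve of a faithfully flat ring map) in positive degrees
(helper15)

The terms `W n` of the Čech conerve of `R → A` in `CommRingCat` are `R`-algebras; after base change
along `R → A` the alternating coface complex acquires a contracting homotopy `s` (multiply the
first two tensor factors), constructed from the universal property of wide pushouts.  Faithful
flatness then gives exactness of the original complex in degrees `≥ 1`.
-/

set_option autoImplicit false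
universe u
open CategoryTheory CategoryTheory.Limits Simplicial

namespace Groth.Agent.Lib.Helper15.Amitsur

variable (R A : Type u) [CommRing R] [CommRing A] [Algebra R A]

/-- The structure map as a morphism of `CommRingCat`. -/
abbrev f : CommRingCat.of R ⟶ CommRingCat.of A := CommRingCat.ofHom (algebraMap R A)

/-- The Čech conerve of `R → A`. -/
noncomputable abbrev C : CosimplicialObject CommRingCat.{u} := (Arrow.mk (f R A)).cechConerve

/-- Its terms. -/
noncomputable abbrev W (n : ℕ) : CommRingCat.{u} := (C R A).obj ⦋n⦌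

/-- The structure map `R → W n`. -/
noncomputable def hd (n : ℕ) : CommRingCat.of R ⟶ W R A n :=
  WidePushout.head (fun _ : Fin (n + 1) => (Arrow.mk (f R A)).hom)

/-- The `i`-th inclusion `A → W n`. -/
noncomputable def inc (n : ℕ) (i : Fin (n + 1)) : CommRingCat.of A ⟶ W R A n :=
  WidePushout.ι (fun _ : Fin (n + 1) => (Arrow.mk (f R A)).hom) i

@[reassoc (attr := simp)]
lemma f_inc (n : ℕ) (i : Fin (n + 1)) : f R A ≫ inc R A n i = hd R A n :=
  WidePushout.arrow_ι (fun _ : Fin (n + 1) => (Arrow.mk (f R A)).hom) i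

@[reassoc (attr := simp)]
lemma hd_map {m n : ℕ} (g : ⦋m⦌ ⟶ ⦋n⦌) : hd R A m ≫ (C R A).map g = hd R A n := by
  dsimp only [hd, C, Arrow.cechConerve_map]
  apply WidePushout.head_desc

@[reassoc (attr := simp)]
lemma inc_map {m n : ℕ} (g : ⦋m⦌ ⟶ ⦋n⦌) (i : Fin (m + 1)) :
    inc R A m i ≫ (C R A).map g = inc R A n (g.toOrderHom i) := by
  dsimp only [inc, C, Arrow.cechConerve_map]
  apply WidePushout.ι_desc

lemma hom_ext' {n : ℕ} {X : CommRingCat.{u}} (a b : W R A n ⟶ X)
    (h₀ : hd R A n ≫ a = hd R A n ≫ b) (h : ∀ i, inc R A n i ≫ a = inc R A n i ≫ b) : a = b :=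
  WidePushout.hom_ext _ _ _ h h₀


open TensorProduct

noncomputable instance algW (n : ℕ) : Algebra R (W R A n) := (hd R A n).hom.toAlgebra

lemma algebraMap_W (n : ℕ) : algebraMap R (W R A n) = (hd R A n).hom := rfl

/-- `C.map g` as an `R`-algebra homomorphism. -/
noncomputable def mapAlg {m n : ℕ} (g : ⦋m⦌ ⟶ ⦋n⦌) : W R A m →ₐ[R] W R A n :=
  { ((C R A).map g).hom with
    commutes' := fun r => by
      have := congrArg (fun φ => φ.hom r) (hd_map R A g)
      simpa [algebraMap_W] using this }

@[simp] lemma mapAlg_apply {m n : ℕ} (g : ⦋m⦌ ⟶ ⦋n⦌) (x : W R A m) :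
    mapAlg R A g x = ((C R A).map g).hom x := rfl

/-- The base-changed term `A ⊗[R] W n`. -/
abbrev T (n : ℕ) : Type u := A ⊗[R] (W R A n)

/-- The ring map `W (n+1) → A ⊗ W n` sending the `0`-th copy of `A` to the left factor. -/
noncomputable def ψ (n : ℕ) : W R A (n + 1) ⟶ CommRingCat.of (T R A n) :=
  WidePushout.desc (arrows := fun _ : Fin (n + 1 + 1) => (Arrow.mk (f R A)).hom)
    (CommRingCat.ofHom (algebraMap R (T R A n)))
    (fun i : Fin (n + 1 + 1) => Fin.cases
      (CommRingCat.ofHom (Algebra.TensorProduct.includeLeftRingHom :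
        A →+* T R A n))
      (fun j => inc R A n j ≫ CommRingCat.ofHom
        (Algebra.TensorProduct.includeRight : W R A n →ₐ[R] T R A n).toRingHom) i)
    (by
      intro i
      refine Fin.cases ?_ (fun j => ?_) i
      · ext r
        simp [Algebra.TensorProduct.algebraMap_apply]
      · ext r
        simp
        exact (Algebra.TensorProduct.includeRight : W R A n →ₐ[R] T R A n).commutes r)


@[reassoc (attr := simp)]
lemma hd_ψ (n : ℕ) : hd R A (n + 1) ≫ ψ R A n = CommRingCat.ofHom (algebraMap R (T R A n)) := by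
  dsimp only [hd, ψ]
  apply WidePushout.head_desc

@[reassoc (attr := simp)]
lemma inc_zero_ψ (n : ℕ) : inc R A (n + 1) 0 ≫ ψ R A n =
    CommRingCat.ofHom (Algebra.TensorProduct.includeLeftRingHom : A →+* T R A n) := by
  exact (WidePushout.ι_desc (arrows := fun _ : Fin (n + 1 + 1) => (Arrow.mk (f R A)).hom)
    _ _ _ (0 : Fin (n + 1 + 1)))

@[reassoc (attr := simp)]
lemma inc_succ_ψ (n : ℕ) (j : Fin (n + 1)) : inc R A (n + 1) j.succ ≫ ψ R A n =
    inc R A n j ≫ CommRingCat.ofHom
        (Algebra.TensorProduct.includeRight : W R A n →ₐ[R] T R A n).toRingHom := by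
  exact (WidePushout.ι_desc (arrows := fun _ : Fin (n + 1 + 1) => (Arrow.mk (f R A)).hom)
    _ _ _ (j.succ : Fin (n + 1 + 1)))


/-- The `i`-th coface as an `R`-algebra map. -/
noncomputable abbrev δA {n : ℕ} (i : Fin (n + 2)) : W R A n →ₐ[R] W R A (n + 1) :=
  mapAlg R A (SimplexCategory.δ i)

/-- `ψ` as an `R`-algebra homomorphism. -/
noncomputable def ψAlg (n : ℕ) : W R A (n + 1) →ₐ[R] T R A n :=
  { (ψ R A n).hom with
    commutes' := fun r => by
      change (hd R A (n + 1) ≫ ψ R A n).hom r = _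
      rw [hd_ψ]
      rfl }

@[simp] lemma ψAlg_apply (n : ℕ) (x : W R A (n + 1)) : ψAlg R A n x = (ψ R A n).hom x := rfl

/-- base change of a coface, as an `A`-algebra map -/
noncomputable abbrev mT {n : ℕ} (i : Fin (n + 2)) : T R A n →ₐ[A] T R A (n + 1) :=
  Algebra.TensorProduct.map (AlgHom.id A A) (δA R A i)

lemma δ_zero_ψ (n : ℕ) : (C R A).δ (0 : Fin (n + 2)) ≫ ψ R A n =
    CommRingCat.ofHom (Algebra.TensorProduct.includeRight : W R A n →ₐ[R] T R A n).toRingHom := by
  apply hom_ext'
  · dsimp only [CosimplicialObject.δ]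
    rw [hd_map_assoc, hd_ψ]
    ext r
    exact ((Algebra.TensorProduct.includeRight : W R A n →ₐ[R] T R A n).commutes r).symm
  · intro j
    dsimp only [CosimplicialObject.δ]
    rw [inc_map_assoc]
    have : (SimplexCategory.δ (0 : Fin (n + 2))).toOrderHom j = j.succ := by
      simp [SimplexCategory.δ]
    rw [this, inc_succ_ψ]
    rfl

lemma δ_succ_ψ (n : ℕ) (i : Fin (n + 2)) : (C R A).δ i.succ ≫ ψ R A (n + 1) =
    ψ R A n ≫ CommRingCat.ofHom (mT R A i).toRingHom := by
  apply hom_ext'
  · dsimp only [CosimplicialObject.δ]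
    rw [hd_map_assoc, hd_ψ, hd_ψ_assoc]
    ext r
    simp [Algebra.TensorProduct.algebraMap_apply]
  · intro j
    dsimp only [CosimplicialObject.δ]
    rw [inc_map_assoc]
    refine Fin.cases ?_ (fun k => ?_) j
    · have : (SimplexCategory.δ (i.succ : Fin (n + 3))).toOrderHom 0 = 0 := by
        simp [SimplexCategory.δ]
      rw [this, inc_zero_ψ, inc_zero_ψ_assoc]
      ext a
      simp
    · have : (SimplexCategory.δ (i.succ : Fin (n + 3))).toOrderHom k.succ =
          ((SimplexCategory.δ i).toOrderHom k).succ := by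
        simp [SimplexCategory.δ]
      rw [this, inc_succ_ψ, inc_succ_ψ_assoc, ← inc_map_assoc]
      congr 1


/-- The contracting map `A ⊗ W (n+1) → A ⊗ W n`, multiplying the first two tensor factors. -/
noncomputable def s (n : ℕ) : T R A (n + 1) →ₐ[A] T R A n :=
  Algebra.TensorProduct.lift (Algebra.ofId A (T R A n)) (ψAlg R A n) (fun _ _ => Commute.all _ _)

lemma s_tmul (n : ℕ) (a : A) (w : W R A (n + 1)) :
    s R A n (a ⊗ₜ w) = (a ⊗ₜ (1 : W R A n)) * (ψ R A n).hom w := by
  simp [s, Algebra.ofId_apply, Algebra.TensorProduct.algebraMap_apply]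

lemma s_mT_zero (n : ℕ) (x : T R A n) : s R A n (mT R A 0 x) = x := by
  induction x using TensorProduct.induction_on with
  | zero => simp
  | tmul a w =>
    rw [Algebra.TensorProduct.map_tmul, s_tmul]
    have h := congrArg (fun φ => φ.hom w) (δ_zero_ψ R A n)
    change (ψ R A n).hom (((C R A).δ 0).hom w) = (1 : A) ⊗ₜ w at h
    change a ⊗ₜ 1 * (ψ R A n).hom (((C R A).δ 0).hom w) = _
    rw [h]
    simp
  | add x y hx hy => simp only [map_add, hx, hy]

lemma s_mT_succ (n : ℕ) (i : Fin (n + 2)) (x : T R A (n + 1)) :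
    s R A (n + 1) (mT R A i.succ x) = mT R A i (s R A n x) := by
  induction x using TensorProduct.induction_on with
  | zero => simp
  | tmul a w =>
    rw [Algebra.TensorProduct.map_tmul, s_tmul, s_tmul, map_mul]
    have h := congrArg (fun φ => φ.hom w) (δ_succ_ψ R A n i)
    change (ψ R A (n + 1)).hom (((C R A).δ i.succ).hom w) = mT R A i ((ψ R A n).hom w) at h
    change a ⊗ₜ 1 * (ψ R A (n + 1)).hom (((C R A).δ i.succ).hom w) = _
    rw [h]
    simp
  | add x y hx hy => simp only [map_add, hx, hy]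


/-- The Amitsur differential `W n → W (n+1)`. -/
noncomputable def dW (n : ℕ) : W R A n →ₗ[R] W R A (n + 1) :=
  ∑ i : Fin (n + 2), (-1 : ℤ) ^ (i : ℕ) • (δA R A i).toLinearMap

lemma dW_apply (n : ℕ) (w : W R A n) :
    dW R A n w = ∑ i : Fin (n + 2), (-1 : ℤ) ^ (i : ℕ) • ((C R A).δ i).hom w := by
  simp [dW, LinearMap.sum_apply]
  rfl

/-- Its base change. -/
noncomputable def D (n : ℕ) : T R A n →ₗ[R] T R A (n + 1) := (dW R A n).lTensor A

lemma D_apply (n : ℕ) (x : T R A n) :
    D R A n x = ∑ i : Fin (n + 2), (-1 : ℤ) ^ (i : ℕ) • mT R A i x := by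
  induction x using TensorProduct.induction_on with
  | zero => simp
  | tmul a w =>
    simp only [D, LinearMap.lTensor_tmul, dW, LinearMap.sum_apply, LinearMap.smul_apply,
      TensorProduct.tmul_sum, TensorProduct.tmul_smul, Algebra.TensorProduct.map_tmul]
    rfl
  | add x y hx hy =>
    simp only [map_add, hx, hy, smul_add, Finset.sum_add_distrib]

lemma homotopy (n : ℕ) (x : T R A (n + 1)) :
    s R A (n + 1) (D R A (n + 1) x) = x - D R A n (s R A n x) := by
  rw [D_apply, D_apply, Fin.sum_univ_succ, map_add, map_sum]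
  have h0 : s R A (n + 1) ((-1 : ℤ) ^ ((0 : Fin (n + 3)) : ℕ) • mT R A 0 x) = x := by
    simp [s_mT_zero]
  have hi : ∀ i : Fin (n + 2), s R A (n + 1) ((-1 : ℤ) ^ ((i.succ : Fin (n + 3)) : ℕ) •
      mT R A i.succ x) = - ((-1 : ℤ) ^ (i : ℕ) • mT R A i (s R A n x)) := by
    intro i
    rw [map_zsmul, s_mT_succ, Fin.val_succ, pow_succ]
    simp
  rw [h0]
  simp_rw [hi]
  rw [Finset.sum_neg_distrib, sub_eq_add_neg]


/-- The cosimplicial abelian group underlying the Čech conerve. -/
noncomputable abbrev X : CosimplicialObject AddCommGrpCat.{u} :=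
  C R A ⋙ forget₂ CommRingCat RingCat ⋙ forget₂ RingCat AddCommGrpCat

lemma objD_apply (n : ℕ) (w : W R A n) :
    (AlgebraicTopology.AlternatingCofaceMapComplex.objD (X R A) n).hom w = dW R A n w := by
  rw [dW_apply]
  have h : (AlgebraicTopology.AlternatingCofaceMapComplex.objD (X R A) n).hom =
      ∑ i : Fin (n + 2), (-1 : ℤ) ^ (i : ℕ) • ((X R A).δ i).hom := by
    exact map_sum (AddCommGrpCat.homAddEquiv (M := (X R A).obj ⦋n⦌) (N := (X R A).obj ⦋n + 1⦌))
      (fun i : Fin (n + 2) => (-1 : ℤ) ^ (i : ℕ) • (X R A).δ i) Finset.univ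
  rw [h]
  simp only [AddMonoidHom.finsetSum_apply, AddMonoidHom.smul_apply]
  rfl


lemma dW_dW (n : ℕ) (w : W R A n) : dW R A (n + 1) (dW R A n w) = 0 := by
  rw [← objD_apply, ← objD_apply]
  have := AlgebraicTopology.AlternatingCofaceMapComplex.d_squared (X R A) n
  have h2 := congrArg (fun φ => φ.hom w) this
  simpa using h2

theorem exact_dW [Module.FaithfullyFlat R A] (n : ℕ) :
    Function.Exact (dW R A n) (dW R A (n + 1)) := by
  apply Module.FaithfullyFlat.lTensor_reflects_exact R A
  intro x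
  constructor
  · intro hx
    refine ⟨s R A n x, ?_⟩
    have := homotopy R A n x
    rw [show D R A (n + 1) x = 0 from hx, map_zero] at this
    exact (sub_eq_zero.mp this.symm).symm
  · rintro ⟨y, rfl⟩
    change ((dW R A (n + 1)).lTensor A) ((dW R A n).lTensor A y) = 0
    rw [← LinearMap.comp_apply, ← LinearMap.lTensor_comp]
    have : (dW R A (n + 1)).comp (dW R A n) = 0 := LinearMap.ext (dW_dW R A n)
    rw [this, LinearMap.lTensor_zero]
    rfl

theorem exactAt [Module.FaithfullyFlat R A] (n : ℕ) (hn : 0 < n) :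
    (AlgebraicTopology.AlternatingCofaceMapComplex.obj (X R A)).ExactAt n := by
  obtain ⟨m, rfl⟩ := Nat.exists_eq_succ_of_ne_zero hn.ne'
  have hd1 : (AlgebraicTopology.AlternatingCofaceMapComplex.obj (X R A)).d m (m + 1) =
      AlgebraicTopology.AlternatingCofaceMapComplex.objD (X R A) m :=
    (by dsimp only [AlgebraicTopology.AlternatingCofaceMapComplex.obj]; exact CochainComplex.of_d _ _ _)
  have hd2 : (AlgebraicTopology.AlternatingCofaceMapComplex.obj (X R A)).d (m + 1) (m + 1 + 1) =
      AlgebraicTopology.AlternatingCofaceMapComplex.objD (X R A) (m + 1) :=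
    (by dsimp only [AlgebraicTopology.AlternatingCofaceMapComplex.obj]; exact CochainComplex.of_d _ _ _)
  rw [HomologicalComplex.exactAt_iff' _ m (m + 1) (m + 1 + 1) (by simp) (by simp),
    ShortComplex.ab_exact_iff]
  intro x hx
  change ((AlgebraicTopology.AlternatingCofaceMapComplex.obj (X R A)).d (m + 1) (m + 1 + 1)).hom x
    = 0 at hx
  rw [hd2] at hx
  have hx' : dW R A (m + 1) x = 0 := by rw [← objD_apply]; exact hx
  obtain ⟨y, hy⟩ := (exact_dW R A m x).mp hx'
  refine ⟨y, ?_⟩
  change ((AlgebraicTopology.AlternatingCofaceMapComplex.obj (X R A)).d m (m + 1)).hom y = x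
  rw [hd1, ← hy, ← objD_apply]
  rfl

end Groth.Agent.Lib.Helper15.Amitsur
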