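import Mathlib
import Groth.Prelude.Def_CE

/-!
# Generic lemmas for Cartan–Eilenberg resolutions

* `mapExtendIso`: `F.mapHomologicalComplex` commutes with `extend`.
* `IsInjResolutionVia.of_iso`, `isInjResolutionVia_extend`, `isInjResolutionVia_map_extend`.
-/

set_option autoImplicit false
universe v u v' u'

namespace Groth.Agent.Lib.Helper15.CEGen

open CategoryTheory CategoryTheory.Limits HomologicalComplex

section MapExtend

variable {C : Type u} [Category.{v} C] [HasZeroMorphisms C] [HasZeroObject C]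
  {D : Type u'} [Category.{v'} D] [HasZeroMorphisms D] [HasZeroObject D]
  (F : C ⥤ D) [F.PreservesZeroMorphisms]
  {ι ι' : Type*} {c : ComplexShape ι} {c' : ComplexShape ι'}
  (K : HomologicalComplex C c) (e : c.Embedding c')

/-- auxiliary iso for `mapExtendIso` -/
noncomputable def xIso : ∀ o : Option ι,
    F.obj (extend.X K o) ≅ extend.X ((F.mapHomologicalComplex c).obj K) o
  | some _ => Iso.refl _
  | none => IsZero.iso (F.map_isZero (isZero_zero _)) (isZero_zero _)

lemma xIso_comm (o o' : Option ι) :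
    F.map (extend.d K o o') ≫ (xIso F K o').hom =
      (xIso F K o).hom ≫ extend.d ((F.mapHomologicalComplex c).obj K) o o' := by
  cases o with
  | none => exact (F.map_isZero (isZero_zero _)).eq_of_src _ _
  | some i =>
    cases o' with
    | none => exact (isZero_zero _).eq_of_tgt _ _
    | some j =>
      change F.map (K.d i j) ≫ 𝟙 _ = 𝟙 _ ≫ F.map (K.d i j)
      simp

lemma xIso_hom_eq {o : Option ι} {j : ι} (hj : o = some j) :
    (xIso F K o).hom = F.map (extend.XIso K hj).hom ≫
      (extend.XIso ((F.mapHomologicalComplex c).obj K) hj).inv := by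
  subst hj
  have h1 : (extend.XIso K (rfl : some j = some j)).hom = 𝟙 (K.X j) := rfl
  have h2 : (extend.XIso ((F.mapHomologicalComplex c).obj K) (rfl : some j = some j)).inv =
      𝟙 (F.obj (K.X j)) := rfl
  change 𝟙 (F.obj (K.X j)) = F.map (extend.XIso K (rfl : some j = some j)).hom ≫
      (extend.XIso ((F.mapHomologicalComplex c).obj K) (rfl : some j = some j)).inv
  rw [h1, h2]
  exact ((Category.comp_id (F.map (𝟙 (K.X j)))).trans (F.map_id (K.X j))).symm

/-- `F.mapHomologicalComplex` commutes with `extend`. -/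
noncomputable def mapExtendIso :
    (F.mapHomologicalComplex c').obj (K.extend e) ≅
      ((F.mapHomologicalComplex c).obj K).extend e :=
  Hom.isoOfComponents (fun i' => xIso F K (e.r i')) (fun _ _ _ => (xIso_comm F K _ _).symm)

lemma mapExtendIso_hom_f {i : ι} {i' : ι'} (h : e.f i = i') :
    (mapExtendIso F K e).hom.f i' = F.map (K.extendXIso e h).hom ≫
      (((F.mapHomologicalComplex c).obj K).extendXIso e h).inv :=
  xIso_hom_eq F K (e.r_eq_some h)

omit [HasZeroMorphisms D] [HasZeroObject D] in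
lemma inv_of_hom {X Y Z : D} (f : X ⟶ Y) (g : Y ⟶ X) (hfg : f ≫ g = 𝟙 X) (a : X ≅ Z)
    (b : Y ≅ Z) (hf : f = a.hom ≫ b.inv) : g = b.hom ≫ a.inv := by
  have : a.hom ≫ b.inv ≫ g = 𝟙 X := by rw [← Category.assoc, ← hf, hfg]
  calc g = b.hom ≫ a.inv ≫ (a.hom ≫ b.inv ≫ g) := by simp
    _ = b.hom ≫ a.inv := by rw [this, Category.comp_id]

lemma mapExtendIso_inv_f {i : ι} {i' : ι'} (h : e.f i = i') :
    (mapExtendIso F K e).inv.f i' =
      (((F.mapHomologicalComplex c).obj K).extendXIso e h).hom ≫
        F.map (K.extendXIso e h).inv :=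
  inv_of_hom ((mapExtendIso F K e).hom.f i') ((mapExtendIso F K e).inv.f i')
    (by rw [← HomologicalComplex.comp_f, Iso.hom_inv_id]; rfl)
    (F.mapIso (K.extendXIso e h)) (((F.mapHomologicalComplex c).obj K).extendXIso e h)
    (mapExtendIso_hom_f F K e h)

end MapExtend

section Via

variable {A : Type u} [Category.{v} A] [Abelian A]

theorem isInjResolutionVia_of_iso {C C' : CochainComplex A ℤ} {M : A} {a : M ⟶ C.X 0}
    (h : CE.IsInjResolutionVia C M a) (φ : C ≅ C') :
    CE.IsInjResolutionVia C' M (a ≫ φ.hom.f 0) := by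
  obtain ⟨h0, hGE, hinj, hex, hmono, hex0⟩ := h
  have h0' : (a ≫ φ.hom.f 0) ≫ C'.d 0 1 = 0 := by
    rw [Category.assoc, φ.hom.comm, ← Category.assoc, h0, zero_comp]
  refine ⟨h0', ?_, ?_, ?_, ?_, ?_⟩
  · exact CochainComplex.isStrictlyGE_of_iso φ 0
  · intro q
    exact Injective.of_iso ((HomologicalComplex.eval _ _ q).mapIso φ) (hinj q)
  · intro q hq
    exact (hex q hq).of_iso φ
  · have := hmono
    exact mono_comp _ _
  · refine ShortComplex.exact_of_iso ?_ hex0
    exact ShortComplex.isoMk (Iso.refl M) ((HomologicalComplex.eval _ _ 0).mapIso φ)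
      ((HomologicalComplex.eval _ _ 1).mapIso φ) (by simp) (by simp)

theorem isInjResolutionVia_of_iso' {C C' : CochainComplex A ℤ} {M : A} {a : M ⟶ C.X 0}
    (h : CE.IsInjResolutionVia C M a) (φ : C ≅ C') (a' : M ⟶ C'.X 0)
    (ha' : a ≫ φ.hom.f 0 = a') :
    CE.IsInjResolutionVia C' M a' := by
  subst ha'
  exact isInjResolutionVia_of_iso h φ

set_option backward.isDefEq.respectTransparency false in
/-- The `ℤ`-indexed extension of an injective resolution. -/
theorem isInjResolutionVia_extend {M : A} (R : InjectiveResolution M) :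
    CE.IsInjResolutionVia (R.cocomplex.extend ComplexShape.embeddingUpNat) M
      (R.ι.f 0 ≫ (R.cocomplex.extendXIso ComplexShape.embeddingUpNat
        (i := 0) (i' := 0) rfl).inv) := by
  have hd : (R.cocomplex.extend ComplexShape.embeddingUpNat).d 0 1 =
      (R.cocomplex.extendXIso ComplexShape.embeddingUpNat (i := 0) (i' := 0) rfl).hom ≫
        R.cocomplex.d 0 1 ≫
        (R.cocomplex.extendXIso ComplexShape.embeddingUpNat (i := 1) (i' := 1) rfl).inv :=
    R.cocomplex.extend_d_eq ComplexShape.embeddingUpNat rfl rfl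
  have h0 : (R.ι.f 0 ≫ (R.cocomplex.extendXIso ComplexShape.embeddingUpNat
        (i := 0) (i' := 0) rfl).inv) ≫
      (R.cocomplex.extend ComplexShape.embeddingUpNat).d 0 1 = 0 := by
    rw [hd, Category.assoc, Iso.inv_hom_id_assoc, ← Category.assoc,
      R.ι_f_zero_comp_complex_d, zero_comp]
  refine ⟨h0, ?_, ?_, ?_, ?_, ?_⟩
  · exact inferInstanceAs (R.cochainComplex.IsStrictlyGE 0)
  · intro q
    exact inferInstanceAs (Injective (R.cochainComplex.X q))
  · intro q hq
    by_cases hq0 : 0 ≤ q
    · obtain ⟨k, rfl⟩ := Int.eq_ofNat_of_zero_le hq0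
      obtain ⟨n, rfl⟩ : ∃ n, k = n + 1 := ⟨k - 1, by
        have : k ≠ 0 := fun h => hq (by simp [h])
        omega⟩
      exact (R.cocomplex.extend_exactAt_iff ComplexShape.embeddingUpNat
        (j := n + 1) rfl).2 (R.cocomplex_exactAt_succ n)
    · exact R.cocomplex.extend_exactAt ComplexShape.embeddingUpNat q (fun j hj => by
        apply hq0
        rw [← hj]
        exact Int.natCast_nonneg j)
  · exact mono_comp _ _
  · have hex : (ShortComplex.mk (R.ι.f 0) (R.cocomplex.d 0 1)
        R.ι_f_zero_comp_complex_d).Exact :=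
      ShortComplex.exact_of_f_is_kernel _ R.isLimitKernelFork
    refine ShortComplex.exact_of_iso ?_ hex
    refine ShortComplex.isoMk (Iso.refl M)
      (R.cocomplex.extendXIso ComplexShape.embeddingUpNat (i := 0) (i' := 0) rfl).symm
      (R.cocomplex.extendXIso ComplexShape.embeddingUpNat (i := 1) (i' := 1) rfl).symm ?_ ?_
    · simp
    · dsimp
      rw [hd]
      simp

set_option backward.isDefEq.respectTransparency false in
/-- Transport along an additive functor applied columnwise to an extension. -/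
theorem isInjResolutionVia_map_extend {C₁ : Type u'} [Category.{v'} C₁] [HasZeroMorphisms C₁]
    [HasZeroObject C₁] (F : C₁ ⥤ A) [F.PreservesZeroMorphisms] (L : CochainComplex C₁ ℕ)
    (K₀ : C₁) (ε' : K₀ ⟶ L.X 0) (R : InjectiveResolution (F.obj K₀))
    (θ : R.cocomplex ≅ (F.mapHomologicalComplex (ComplexShape.up ℕ)).obj L)
    (hθ : R.ι.f 0 ≫ θ.hom.f 0 = F.map ε') :
    CE.IsInjResolutionVia
      ((F.mapHomologicalComplex (ComplexShape.up ℤ)).obj (L.extend ComplexShape.embeddingUpNat))
      (F.obj K₀)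
      (F.map (ε' ≫ (L.extendXIso ComplexShape.embeddingUpNat (i := 0) (i' := 0) rfl).inv)) := by
  refine isInjResolutionVia_of_iso' (isInjResolutionVia_extend R)
    ((ComplexShape.embeddingUpNat.extendFunctor A).mapIso θ ≪≫
      (mapExtendIso F L ComplexShape.embeddingUpNat).symm) _ ?_
  dsimp [ComplexShape.Embedding.extendFunctor]
  rw [extendMap_f θ.hom ComplexShape.embeddingUpNat (i := 0) (i' := 0) rfl,
    mapExtendIso_inv_f F L ComplexShape.embeddingUpNat (i := 0) (i' := 0) rfl, F.map_comp, ← hθ]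
  simp

end Via

end Groth.Agent.Lib.Helper15.CEGen
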