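import Mathlib
import Groth.Prelude.Def_CE
import Groth.Agent.Lib.Helper83.Horseshoe
import Groth.Agent.Lib.Helper15.CEGen

/-!
# Construction of Cartan–Eilenberg resolutions
-/

set_option autoImplicit false
universe v u

noncomputable section

set_option backward.isDefEq.respectTransparency false

namespace Groth.Agent.Lib.Helper15.CERes

open CategoryTheory CategoryTheory.Limits HomologicalComplex
open Groth.Agent.Lib.Helper83

variable {A : Type u} [Category.{v} A] [Abelian A]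

/-- The zero resolution of a zero object. -/
def zeroRes {X : A} (h : IsZero X) : InjectiveResolution X where
  cocomplex := (CochainComplex.single₀ A).obj X
  ι := 𝟙 _
  injective n := IsZero.injective
    ((HomologicalComplex.eval A _ n).map_isZero ((CochainComplex.single₀ A).map_isZero h))

lemma zeroRes_isZero {X : A} (h : IsZero X) (n : ℕ) : IsZero ((zeroRes h).cocomplex.X n) :=
  (HomologicalComplex.eval A _ n).map_isZero ((CochainComplex.single₀ A).map_isZero h)

variable [EnoughInjectives A]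

open Classical in
/-- A chosen injective resolution, zero for zero objects. -/
def zres (X : A) : InjectiveResolution X :=
  if h : IsZero X then zeroRes h else Classical.choice (HasInjectiveResolution.out)

lemma zres_isZero {X : A} (h : IsZero X) (n : ℕ) : IsZero ((zres X).cocomplex.X n) := by
  unfold zres
  rw [dif_pos h]
  exact zeroRes_isZero h n

variable (K : CochainComplex A ℤ)

/-- boundaries, as the kernel of `cycles ⟶ homology` -/
abbrev B (p : ℤ) : A := kernel (K.homologyπ p)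

/-- `0 → B → Z → H → 0` -/
def ses1 (p : ℤ) : ShortComplex A :=
  ShortComplex.mk (kernel.ι (K.homologyπ p)) (K.homologyπ p) (kernel.condition _)

lemma ses1_shortExact (p : ℤ) : (ses1 K p).ShortExact where
  exact := ShortComplex.exact_of_f_is_kernel _ (kernelIsKernel _)
  mono_f := inferInstanceAs (Mono (kernel.ι (K.homologyπ p)))
  epi_g := inferInstanceAs (Epi (K.homologyπ p))

/-- `K.X p ⟶ B (p+1)` -/
def σ (p : ℤ) : K.X p ⟶ B K (p + 1) :=
  kernel.lift (K.homologyπ (p + 1)) (K.toCycles p (p + 1)) (K.toCycles_comp_homologyπ p (p + 1))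

lemma σ_ι (p : ℤ) : σ K p ≫ kernel.ι (K.homologyπ (p + 1)) = K.toCycles p (p + 1) :=
  kernel.lift_ι _ _ _

lemma σ_ι_i (p : ℤ) :
    σ K p ≫ kernel.ι (K.homologyπ (p + 1)) ≫ K.iCycles (p + 1) = K.d p (p + 1) := by
  rw [← Category.assoc, σ_ι, toCycles_i]

lemma iCycles_σ (p : ℤ) : K.iCycles p ≫ σ K p = 0 := by
  rw [← cancel_mono (kernel.ι (K.homologyπ (p + 1))), ← cancel_mono (K.iCycles (p + 1)),
    Category.assoc, Category.assoc, σ_ι_i, iCycles_d, zero_comp, zero_comp]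

/-- `0 → Z → K → B⁺ → 0` -/
def ses2 (p : ℤ) : ShortComplex A :=
  ShortComplex.mk (K.iCycles p) (σ K p) (iCycles_σ K p)

lemma ses2_shortExact (p : ℤ) : (ses2 K p).ShortExact where
  exact := by
    refine ShortComplex.exact_of_f_is_kernel _ ?_
    exact isKernelOfComp (kernel.ι (K.homologyπ (p + 1)) ≫ K.iCycles (p + 1)) (K.d p (p + 1))
      (K.cyclesIsKernel p (p + 1) (by simp)) (iCycles_σ K p) (σ_ι_i K p)
  mono_f := inferInstanceAs (Mono (K.iCycles p))
  epi_g := by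
    have h : (ShortComplex.mk (K.toCycles p (p + 1)) (K.homologyπ (p + 1))
        (K.toCycles_comp_homologyπ p (p + 1))).Exact :=
      ShortComplex.exact_of_g_is_cokernel _ (K.homologyIsCokernel p (p + 1) (by simp))
    exact (ShortComplex.exact_iff_epi_kernel_lift _).1 h

/-- resolutions -/
def RB (p : ℤ) : InjectiveResolution (B K p) := zres (B K p)
def RH (p : ℤ) : InjectiveResolution (K.homology p) := zres (K.homology p)
def RZ (p : ℤ) : InjectiveResolution (K.cycles p) :=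
  Horseshoe.midRes (ses1_shortExact K p) (RB K p) (RH K p)
def RK (p : ℤ) : InjectiveResolution (K.X p) :=
  Horseshoe.midRes (ses2_shortExact K p) (RZ K p) (RB K (p + 1))

/-- maps between resolution complexes -/
def ma (p : ℤ) : (RZ K p).cocomplex ⟶ (RK K p).cocomplex :=
  Horseshoe.fMap (ses2_shortExact K p) (RZ K p) (RB K (p + 1))
def mb (p : ℤ) : (RK K p).cocomplex ⟶ (RB K (p + 1)).cocomplex :=
  Horseshoe.gMap (ses2_shortExact K p) (RZ K p) (RB K (p + 1))
def mc (p : ℤ) : (RB K p).cocomplex ⟶ (RZ K p).cocomplex :=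
  Horseshoe.fMap (ses1_shortExact K p) (RB K p) (RH K p)
def mh (p : ℤ) : (RZ K p).cocomplex ⟶ (RH K p).cocomplex :=
  Horseshoe.gMap (ses1_shortExact K p) (RB K p) (RH K p)

lemma ma_mb (p : ℤ) : ma K p ≫ mb K p = 0 := Horseshoe.fMap_gMap _ _ _
lemma mc_mh (p : ℤ) : mc K p ≫ mh K p = 0 := Horseshoe.fMap_gMap _ _ _

lemma se_ab (p : ℤ) : (ShortComplex.mk (ma K p) (mb K p) (ma_mb K p)).ShortExact :=
  Horseshoe.shortExact_mid _ _ _
lemma se_ch (p : ℤ) : (ShortComplex.mk (mc K p) (mh K p) (mc_mh K p)).ShortExact :=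
  Horseshoe.shortExact_mid _ _ _


lemma ι_mb (p : ℤ) : (RK K p).ι.f 0 ≫ (mb K p).f 0 = σ K p ≫ (RB K (p + 1)).ι.f 0 := by
  have := congr_arg (fun φ => φ.f 0)
    (Horseshoe.ι_gMap (ses2_shortExact K p) (RZ K p) (RB K (p + 1)))
  simp at this
  exact this

lemma ι_ma (p : ℤ) : (RZ K p).ι.f 0 ≫ (ma K p).f 0 = K.iCycles p ≫ (RK K p).ι.f 0 := by
  have := congr_arg (fun φ => φ.f 0)
    (Horseshoe.ι_fMap (ses2_shortExact K p) (RZ K p) (RB K (p + 1)))
  simp at this
  exact this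

lemma ι_mc (p : ℤ) :
    (RB K p).ι.f 0 ≫ (mc K p).f 0 = kernel.ι (K.homologyπ p) ≫ (RZ K p).ι.f 0 := by
  have := congr_arg (fun φ => φ.f 0)
    (Horseshoe.ι_fMap (ses1_shortExact K p) (RB K p) (RH K p))
  simp at this
  exact this

lemma ι_mh (p : ℤ) : (RZ K p).ι.f 0 ≫ (mh K p).f 0 = K.homologyπ p ≫ (RH K p).ι.f 0 := by
  have := congr_arg (fun φ => φ.f 0)
    (Horseshoe.ι_gMap (ses1_shortExact K p) (RB K p) (RH K p))
  simp at this
  exact this

/-- horizontal differential -/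
def δ (p : ℤ) : (RK K p).cocomplex ⟶ (RK K (p + 1)).cocomplex :=
  mb K p ≫ mc K (p + 1) ≫ ma K (p + 1)

lemma δ_δ (p : ℤ) : δ K p ≫ δ K (p + 1) = 0 := by
  simp only [δ, Category.assoc]
  rw [reassoc_of% (ma_mb K (p + 1))]
  simp

lemma ι_δ (p : ℤ) : (RK K p).ι.f 0 ≫ (δ K p).f 0 = K.d p (p + 1) ≫ (RK K (p + 1)).ι.f 0 := by
  simp only [δ, HomologicalComplex.comp_f]
  rw [reassoc_of% (ι_mb K p), reassoc_of% (ι_mc K (p + 1)), ι_ma K (p + 1)]
  rw [← σ_ι_i K p]
  simp only [Category.assoc]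

/-- The double complex, columns first. -/
def D : HomologicalComplex₂ A (ComplexShape.up ℤ) (ComplexShape.up ℕ) :=
  CochainComplex.of (fun p => (RK K p).cocomplex) (δ K) (δ_δ K)

lemma D_d (p : ℤ) : (D K).d p (p + 1) = δ K p :=
  CochainComplex.of_d (fun p => (RK K p).cocomplex) (δ K) p

/-- The double complex, rows first (`ℕ`-indexed vertical direction). -/
def Dn : CochainComplex (CochainComplex A ℤ) ℕ := (D K).flip

lemma Dn_X_d (q : ℕ) (p : ℤ) : ((Dn K).X q).d p (p + 1) = (δ K p).f q := by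
  change ((D K).d p (p + 1)).f q = _
  rw [D_d]

lemma Dn_d_f (q q' : ℕ) (p : ℤ) : ((Dn K).d q q').f p = (RK K p).cocomplex.d q q' := rfl

/-- The augmentation at the `ℕ`-indexed level. -/
def ε' : K ⟶ (Dn K).X 0 where
  f p := (RK K p).ι.f 0
  comm' := by
    rintro p _ rfl
    rw [Dn_X_d]
    exact ι_δ K p

lemma ε'_f (p : ℤ) : (ε' K).f p = (RK K p).ι.f 0 := rfl

lemma ε'_d : ε' K ≫ (Dn K).d 0 1 = 0 := by
  ext p
  rw [HomologicalComplex.comp_f, ε'_f, Dn_d_f]
  exact (RK K p).ι_f_zero_comp_complex_d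


section LHD

variable {ι : Type*} {c : ComplexShape ι}

/-- Left homology data from a factorisation of the differential (canonical indices). -/
def lhd (R : HomologicalComplex A c) (j : ι) {Z' H' B' : A} (α : Z' ⟶ R.X j)
    (wα : α ≫ R.d j (c.next j) = 0) (hα : IsLimit (KernelFork.ofι α wα))
    (β : R.X (c.prev j) ⟶ B') [Epi β] (γ : B' ⟶ Z') (η : Z' ⟶ H') (wη : γ ≫ η = 0)
    (hη : IsColimit (CokernelCofork.ofπ η wη)) (fac : R.d (c.prev j) j = β ≫ γ ≫ α) :
    (R.sc j).LeftHomologyData :=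
  have hf' : hα.lift (KernelFork.ofι (R.sc j).f (R.sc j).zero) = β ≫ γ := by
    apply Fork.IsLimit.hom_ext hα
    rw [Fork.IsLimit.lift_ι]
    simp [fac]
  { K := Z'
    H := H'
    i := α
    π := η
    wi := wα
    hi := hα
    wπ := by rw [hf', Category.assoc, wη, comp_zero]
    hπ := isCokernelEpiComp hη β hf' }

/-- Left homology data from a factorisation of the differential (general indices). -/
def lhd' (R : HomologicalComplex A c) (i j k : ι) (hi : c.prev j = i) (hk : c.next j = k)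
    {Z' H' B' : A} (α : Z' ⟶ R.X j)
    (wα : α ≫ R.d j k = 0) (hα : IsLimit (KernelFork.ofι α wα))
    (β : R.X i ⟶ B') [Epi β] (γ : B' ⟶ Z') (η : Z' ⟶ H') (wη : γ ≫ η = 0)
    (hη : IsColimit (CokernelCofork.ofπ η wη)) (fac : R.d i j = β ≫ γ ≫ α) :
    (R.sc j).LeftHomologyData :=
  lhd R j α (by rw [← R.d_comp_XIsoOfEq_hom hk.symm, reassoc_of% wα, zero_comp])
    (isKernelCompMono hα (R.XIsoOfEq hk.symm).hom (R.d_comp_XIsoOfEq_hom hk.symm j).symm)
    ((R.XIsoOfEq hi).hom ≫ β) γ η wη hη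
    (by rw [Category.assoc, ← fac, R.XIsoOfEq_hom_comp_d])

variable (R : HomologicalComplex A c) (i j k : ι) (hi : c.prev j = i) (hk : c.next j = k)
    {Z' H' B' : A} (α : Z' ⟶ R.X j)
    (wα : α ≫ R.d j k = 0) (hα : IsLimit (KernelFork.ofι α wα))
    (β : R.X i ⟶ B') [Epi β] (γ : B' ⟶ Z') (η : Z' ⟶ H') (wη : γ ≫ η = 0)
    (hη : IsColimit (CokernelCofork.ofπ η wη)) (fac : R.d i j = β ≫ γ ≫ α)

/-- `Z' ≅ cycles` -/
def eZ : Z' ≅ R.cycles j := (lhd' R i j k hi hk α wα hα β γ η wη hη fac).cyclesIso.symm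

/-- `H' ≅ homology` -/
def eH : H' ≅ R.homology j := (lhd' R i j k hi hk α wα hα β γ η wη hη fac).homologyIso.symm

lemma eZ_hom_iCycles : (eZ R i j k hi hk α wα hα β γ η wη hη fac).hom ≫ R.iCycles j = α :=
  (lhd' R i j k hi hk α wα hα β γ η wη hη fac).cyclesIso_inv_comp_iCycles

lemma eZ_hom_homologyπ : (eZ R i j k hi hk α wα hα β γ η wη hη fac).hom ≫ R.homologyπ j =
    η ≫ (eH R i j k hi hk α wα hα β γ η wη hη fac).hom :=
  ((lhd' R i j k hi hk α wα hα β γ η wη hη fac).π_comp_homologyIso_inv).symm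

end LHD


section Row

lemma se_ab_f (p : ℤ) (q : ℕ) :
    (ShortComplex.mk ((ma K p).f q) ((mb K p).f q)
      (by rw [← HomologicalComplex.comp_f, ma_mb, HomologicalComplex.zero_f])).ShortExact :=
  (se_ab K p).map_of_exact (HomologicalComplex.eval A (ComplexShape.up ℕ) q)

lemma se_ch_f (p : ℤ) (q : ℕ) :
    (ShortComplex.mk ((mc K p).f q) ((mh K p).f q)
      (by rw [← HomologicalComplex.comp_f, mc_mh, HomologicalComplex.zero_f])).ShortExact :=
  (se_ch K p).map_of_exact (HomologicalComplex.eval A (ComplexShape.up ℕ) q)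

instance (p : ℤ) (q : ℕ) : Mono ((ma K p).f q) := (se_ab_f K p q).mono_f
instance (p : ℤ) (q : ℕ) : Epi ((mb K p).f q) := (se_ab_f K p q).epi_g
instance (p : ℤ) (q : ℕ) : Mono ((mc K p).f q) := (se_ch_f K p q).mono_f
instance (p : ℤ) (q : ℕ) : Epi ((mh K p).f q) := (se_ch_f K p q).epi_g

variable (p : ℤ) (q : ℕ)

lemma ma_mb_f : (ma K p).f q ≫ (mb K p).f q = 0 :=
  by rw [← HomologicalComplex.comp_f, ma_mb, HomologicalComplex.zero_f]

lemma row_d : ((Dn K).X q).d p (p + 1) =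
    (mb K p).f q ≫ (mc K (p + 1)).f q ≫ (ma K (p + 1)).f q := by
  rw [Dn_X_d]
  rfl

lemma row_wα : (ma K (p + 1)).f q ≫ ((Dn K).X q).d (p + 1) (p + 1 + 1) = 0 := by
  rw [row_d, reassoc_of% (ma_mb_f K (p + 1) q), zero_comp]

/-- kernel property -/
def row_hα : IsLimit (KernelFork.ofι ((ma K (p + 1)).f q) (row_wα K p q)) :=
  isKernelCompMono (se_ab_f K (p + 1) q).fIsKernel
    ((mc K (p + 1 + 1)).f q ≫ (ma K (p + 1 + 1)).f q) (row_d K (p + 1) q)

lemma row_wη : (mc K (p + 1)).f q ≫ (mh K (p + 1)).f q = 0 := by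
  rw [← HomologicalComplex.comp_f, mc_mh, HomologicalComplex.zero_f]

/-- cokernel property -/
def row_hη : IsColimit (CokernelCofork.ofπ ((mh K (p + 1)).f q) (row_wη K p q)) :=
  (se_ch_f K (p + 1) q).gIsCokernel

/-- row cycles -/
def rZ : (RZ K (p + 1)).cocomplex.X q ≅ ((Dn K).X q).cycles (p + 1) :=
  eZ ((Dn K).X q) p (p + 1) (p + 1 + 1) (by simp) (by simp) ((ma K (p + 1)).f q)
    (row_wα K p q) (row_hα K p q) ((mb K p).f q) ((mc K (p + 1)).f q) ((mh K (p + 1)).f q)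
    (row_wη K p q) (row_hη K p q) (row_d K p q)

/-- row homology -/
def rH : (RH K (p + 1)).cocomplex.X q ≅ ((Dn K).X q).homology (p + 1) :=
  eH ((Dn K).X q) p (p + 1) (p + 1 + 1) (by simp) (by simp) ((ma K (p + 1)).f q)
    (row_wα K p q) (row_hα K p q) ((mb K p).f q) ((mc K (p + 1)).f q) ((mh K (p + 1)).f q)
    (row_wη K p q) (row_hη K p q) (row_d K p q)

lemma rZ_i : (rZ K p q).hom ≫ ((Dn K).X q).iCycles (p + 1) = (ma K (p + 1)).f q :=
  eZ_hom_iCycles _ _ _ _ _ _ _ _ _ _ _ _ _ _ _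

lemma rZ_π : (rZ K p q).hom ≫ ((Dn K).X q).homologyπ (p + 1) =
    (mh K (p + 1)).f q ≫ (rH K p q).hom :=
  eZ_hom_homologyπ _ _ _ _ _ _ _ _ _ _ _ _ _ _ _

end Row


section Theta

variable (p : ℤ)

/-- column iso -/
def θK : (RK K p).cocomplex ≅
    ((HomologicalComplex.eval A (ComplexShape.up ℤ) p).mapHomologicalComplex
      (ComplexShape.up ℕ)).obj (Dn K) :=
  Hom.isoOfComponents (fun _ => Iso.refl _) (fun q q' _ => by
    dsimp
    rw [Category.id_comp, Category.comp_id]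
    rfl)

lemma hθK : (RK K p).ι.f 0 ≫ (θK K p).hom.f 0 =
    (HomologicalComplex.eval A (ComplexShape.up ℤ) p).map (ε' K) := by
  exact Category.comp_id ((RK K p).ι.f 0)

lemma rZ_comm (q q' : ℕ) :
    (rZ K p q).hom ≫ cyclesMap ((Dn K).d q q') (p + 1) =
      (RZ K (p + 1)).cocomplex.d q q' ≫ (rZ K p q').hom := by
  rw [← cancel_mono (((Dn K).X q').iCycles (p + 1)), Category.assoc, Category.assoc,
    cyclesMap_i, reassoc_of% (rZ_i K p q), rZ_i, Dn_d_f]
  exact ((ma K (p + 1)).comm q q')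

/-- cycles-column iso -/
def θZ : (RZ K (p + 1)).cocomplex ≅
    ((HomologicalComplex.cyclesFunctor A (ComplexShape.up ℤ) (p + 1)).mapHomologicalComplex
      (ComplexShape.up ℕ)).obj (Dn K) :=
  Hom.isoOfComponents (fun q => rZ K p q) (fun q q' _ => rZ_comm K p q q')

lemma hθZ : (RZ K (p + 1)).ι.f 0 ≫ (θZ K p).hom.f 0 =
    (HomologicalComplex.cyclesFunctor A (ComplexShape.up ℤ) (p + 1)).map (ε' K) := by
  change (RZ K (p + 1)).ι.f 0 ≫ (rZ K p 0).hom = cyclesMap (ε' K) (p + 1)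
  rw [← cancel_mono (((Dn K).X 0).iCycles (p + 1)), Category.assoc, rZ_i, cyclesMap_i, ε'_f]
  exact ι_ma K (p + 1)

lemma rH_comm (q q' : ℕ) :
    (rH K p q).hom ≫ homologyMap ((Dn K).d q q') (p + 1) =
      (RH K (p + 1)).cocomplex.d q q' ≫ (rH K p q').hom := by
  rw [← cancel_epi ((mh K (p + 1)).f q), ← reassoc_of% (rZ_π K p q), homologyπ_naturality,
    reassoc_of% (rZ_comm K p q q'), rZ_π]
  exact ((mh K (p + 1)).comm_assoc q q' _).symm

/-- homology-column iso -/
def θH : (RH K (p + 1)).cocomplex ≅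
    ((HomologicalComplex.homologyFunctor A (ComplexShape.up ℤ) (p + 1)).mapHomologicalComplex
      (ComplexShape.up ℕ)).obj (Dn K) :=
  Hom.isoOfComponents (fun q => rH K p q) (fun q q' _ => rH_comm K p q q')

lemma hθH : (RH K (p + 1)).ι.f 0 ≫ (θH K p).hom.f 0 =
    (HomologicalComplex.homologyFunctor A (ComplexShape.up ℤ) (p + 1)).map (ε' K) := by
  change (RH K (p + 1)).ι.f 0 ≫ (rH K p 0).hom = homologyMap (ε' K) (p + 1)
  rw [← cancel_epi (K.homologyπ (p + 1)), homologyπ_naturality, ← reassoc_of% (ι_mh K (p + 1)),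
    ← rZ_π]
  have := hθZ K p
  change (RZ K (p + 1)).ι.f 0 ≫ (rZ K p 0).hom = cyclesMap (ε' K) (p + 1) at this
  rw [reassoc_of% this]

end Theta


section Final

open CEGen

/-- The Cartan–Eilenberg double complex. -/
def I : CochainComplex (CochainComplex A ℤ) ℤ := (Dn K).extend ComplexShape.embeddingUpNat

/-- Its augmentation. -/
def ε : K ⟶ (I K).X 0 :=
  ε' K ≫ ((Dn K).extendXIso ComplexShape.embeddingUpNat (i := 0) (i' := 0) rfl).inv

lemma ε_d : ε K ≫ (I K).d 0 1 = 0 := by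
  have hd : ((Dn K).extend ComplexShape.embeddingUpNat).d 0 1 =
      ((Dn K).extendXIso ComplexShape.embeddingUpNat (i := 0) (i' := 0) rfl).hom ≫
        (Dn K).d 0 1 ≫
        ((Dn K).extendXIso ComplexShape.embeddingUpNat (i := 1) (i' := 1) rfl).inv :=
    (Dn K).extend_d_eq ComplexShape.embeddingUpNat rfl rfl
  unfold ε I
  rw [hd, Category.assoc, Iso.inv_hom_id_assoc, reassoc_of% (ε'_d K), zero_comp]

theorem via_X (p : ℤ) :
    CE.IsInjResolutionVia
      (((HomologicalComplex.eval A (ComplexShape.up ℤ) p).mapHomologicalComplex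
        (ComplexShape.up ℤ)).obj (I K)) (K.X p) ((ε K).f p) :=
  isInjResolutionVia_map_extend (HomologicalComplex.eval A (ComplexShape.up ℤ) p) (Dn K) K
    (ε' K) (RK K p) (θK K p) (hθK K p)

theorem via_Z (p : ℤ) :
    CE.IsInjResolutionVia
      (((HomologicalComplex.cyclesFunctor A (ComplexShape.up ℤ) (p + 1)).mapHomologicalComplex
        (ComplexShape.up ℤ)).obj (I K)) (K.cycles (p + 1)) (cyclesMap (ε K) (p + 1)) :=
  isInjResolutionVia_map_extend (HomologicalComplex.cyclesFunctor A (ComplexShape.up ℤ) (p + 1))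
    (Dn K) K (ε' K) (RZ K (p + 1)) (θZ K p) (hθZ K p)

theorem via_H (p : ℤ) :
    CE.IsInjResolutionVia
      (((HomologicalComplex.homologyFunctor A (ComplexShape.up ℤ) (p + 1)).mapHomologicalComplex
        (ComplexShape.up ℤ)).obj (I K)) (K.homology (p + 1)) (homologyMap (ε K) (p + 1)) :=
  isInjResolutionVia_map_extend
    (HomologicalComplex.homologyFunctor A (ComplexShape.up ℤ) (p + 1))
    (Dn K) K (ε' K) (RH K (p + 1)) (θH K p) (hθH K p)

lemma isZero_cycles_of_isZero {p : ℤ} (h : IsZero (K.X p)) : IsZero (K.cycles p) :=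
  IsZero.of_mono (K.iCycles p) h

lemma isZero_RB {p : ℤ} (h : IsZero (K.X p)) (m : ℕ) : IsZero ((RB K p).cocomplex.X m) :=
  zres_isZero (IsZero.of_mono (kernel.ι (K.homologyπ p)) (isZero_cycles_of_isZero K h)) m

lemma isZero_RH {p : ℤ} (h : IsZero (K.X p)) (m : ℕ) : IsZero ((RH K p).cocomplex.X m) :=
  zres_isZero (IsZero.of_epi (K.homologyπ p) (isZero_cycles_of_isZero K h)) m

lemma isZero_RZ {p : ℤ} (h : IsZero (K.X p)) (m : ℕ) : IsZero ((RZ K p).cocomplex.X m) :=
  (se_ch_f K p m).exact.isZero_of_both_zeros ((isZero_RB K h m).eq_of_src _ _)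
    ((isZero_RH K h m).eq_of_tgt _ _)

lemma isZero_RK {p : ℤ} (h : IsZero (K.X p)) (h' : IsZero (K.X (p + 1))) (m : ℕ) :
    IsZero ((RK K p).cocomplex.X m) :=
  (se_ab_f K p m).exact.isZero_of_both_zeros ((isZero_RZ K h m).eq_of_src _ _)
    ((isZero_RB K h' m).eq_of_tgt _ _)

theorem bounded (n : ℤ) [K.IsStrictlyGE n] (p q : ℤ) (hp : p < n - 1) :
    IsZero (((I K).X q).X p) := by
  by_cases hq : ∃ m : ℕ, ComplexShape.embeddingUpNat.f m = q
  · obtain ⟨m, hm⟩ := hq
    have e1 : ((I K).X q).X p ≅ ((Dn K).X m).X p :=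
      (HomologicalComplex.eval A (ComplexShape.up ℤ) p).mapIso
        ((Dn K).extendXIso ComplexShape.embeddingUpNat hm)
    refine IsZero.of_iso ?_ e1
    exact isZero_RK K (CochainComplex.isZero_of_isStrictlyGE K n p (by omega))
      (CochainComplex.isZero_of_isStrictlyGE K n (p + 1) (by omega)) m
  · have hz : IsZero ((I K).X q) :=
      (Dn K).isZero_extend_X ComplexShape.embeddingUpNat q (fun i hi => hq ⟨i, hi⟩)
    exact (HomologicalComplex.eval A (ComplexShape.up ℤ) p).map_isZero hz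

/-- Existence of Cartan–Eilenberg resolutions. -/
theorem exists_CE (n : ℤ) [K.IsStrictlyGE n] :
    ∃ (I : CochainComplex (CochainComplex A ℤ) ℤ) (ε : K ⟶ I.X 0) (_ : ε ≫ I.d 0 1 = 0),
      (∃ i : ℤ, ∀ p q : ℤ, p < i → IsZero ((I.X q).X p)) ∧
      (∀ p : ℤ, CE.IsInjResolutionVia (((HomologicalComplex.eval A (ComplexShape.up ℤ) p).mapHomologicalComplex (ComplexShape.up ℤ)).obj I) (K.X p) (ε.f p)) ∧
      (∀ p : ℤ, CE.IsInjResolutionVia (((HomologicalComplex.cyclesFunctor A (ComplexShape.up ℤ) p).mapHomologicalComplex (ComplexShape.up ℤ)).obj I) (K.cycles p) (HomologicalComplex.cyclesMap ε p)) ∧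
      (∀ p : ℤ, CE.IsInjResolutionVia (((HomologicalComplex.homologyFunctor A (ComplexShape.up ℤ) p).mapHomologicalComplex (ComplexShape.up ℤ)).obj I) (K.homology p) (HomologicalComplex.homologyMap ε p)) := by
  refine ⟨I K, ε K, ε_d K, ⟨n - 1, fun p q hp => bounded K n p q hp⟩, fun p => via_X K p,
    fun p => ?_, fun p => ?_⟩
  · obtain ⟨p', rfl⟩ : ∃ p', p = p' + 1 := ⟨p - 1, by omega⟩
    exact via_Z K p'
  · obtain ⟨p', rfl⟩ : ∃ p', p = p' + 1 := ⟨p - 1, by omega⟩
    exact via_H K p'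

end Final

end Groth.Agent.Lib.Helper15.CERes
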