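import Groth.Agent.Lib.Lead.CechSES
import Groth.Agent.Lib.Helper15.AbHmk

/-!
# Classes of explicit Čech cocycles in Čech cohomology; restriction from the whole space (helper15)
-/

set_option autoImplicit false
universe u

namespace Groth.Agent.Lib.Helper15.CechClass

open CategoryTheory CategoryTheory.Limits TopologicalSpace Opposite
open Groth.Agent.Lib.Lead Groth.Agent.Lib.Helper15.AbHmk

variable {X : TopCat.{u}} {ι : Type u} (U : ι → Opens X) (F : (Opens X)ᵒᵖ ⥤ AddCommGrpCat.{u})

lemma cechd_symm_eq_zero (p : ℕ) (e : CechCochain U F p) (he : cechCoboundary U F p e = 0) :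
    (cechCx U F).d p (p + 1) ((cechEquiv U F p).symm e) = 0 := by
  have h : cechd U F p ((cechEquiv U F p).symm e) = 0 := by
    apply (cechEquiv U F (p + 1)).injective
    rw [cechEquiv_cechd, AddEquiv.apply_symm_apply, he, map_zero]
  exact h

lemma cechCoboundary_cechEquiv_eq_zero (p : ℕ) (x : (cechCx U F).X p)
    (hx : (cechCx U F).d p (p + 1) x = 0) :
    cechCoboundary U F p (cechEquiv U F p x) = 0 := by
  have hx' : cechd U F p x = 0 := hx
  rw [← cechEquiv_cechd, hx', map_zero]

/-- the class of an explicit Čech cocycle -/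
noncomputable def cechClass (p : ℕ) (e : CechCochain U F p) (he : cechCoboundary U F p e = 0) :
    ((cechCx U F).homology p : AddCommGrpCat.{u}) :=
  hmk (cechCx U F) ((ComplexShape.up ℕ).prev p) p (p + 1) rfl (by simp)
    ((cechEquiv U F p).symm e) (cechd_symm_eq_zero U F p e he)

lemma cechClass_surjective (p : ℕ) (y : ((cechCx U F).homology p : AddCommGrpCat.{u})) :
    ∃ (e : CechCochain U F p) (he : cechCoboundary U F p e = 0), cechClass U F p e he = y := by
  obtain ⟨x, hx, h⟩ := hmk_surjective (cechCx U F) ((ComplexShape.up ℕ).prev p) p (p + 1) rfl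
    (by simp) y
  have he : cechCoboundary U F p (cechEquiv U F p x) = 0 :=
    cechCoboundary_cechEquiv_eq_zero U F p x hx
  refine ⟨cechEquiv U F p x, he, ?_⟩
  unfold cechClass
  rw [← h]
  exact hmk_congr _ _ _ _ _ _ _ _ _ (AddEquiv.symm_apply_apply _ x)

lemma cechClass_add (p : ℕ) (e e' : CechCochain U F p) (he : cechCoboundary U F p e = 0)
    (he' : cechCoboundary U F p e' = 0) :
    cechClass U F p (e + e') (by rw [cechCoboundary_add, he, he', add_zero]) =
      cechClass U F p e he + cechClass U F p e' he' := by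
  unfold cechClass
  rw [← hmk_add]
  exact hmk_congr _ _ _ _ _ _ _ _ _ (map_add _ e e')

lemma cechClass_succ_eq_zero_iff (k : ℕ) (e : CechCochain U F (k + 1))
    (he : cechCoboundary U F (k + 1) e = 0) :
    cechClass U F (k + 1) e he = 0 ↔ ∃ e' : CechCochain U F k, cechCoboundary U F k e' = e := by
  unfold cechClass
  rw [hmk_eq_zero_iff' _ _ _ _ _ _ _ _ k (by simp)]
  constructor
  · rintro ⟨w, hw⟩
    refine ⟨cechEquiv U F k w, ?_⟩
    have hw' : cechd U F k w = (cechEquiv U F (k + 1)).symm e := hw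
    rw [← cechEquiv_cechd, hw', AddEquiv.apply_symm_apply]
  · rintro ⟨e', rfl⟩
    refine ⟨(cechEquiv U F k).symm e', ?_⟩
    have h : cechd U F k ((cechEquiv U F k).symm e') =
        (cechEquiv U F (k + 1)).symm (cechCoboundary U F k e') := by
      apply (cechEquiv U F (k + 1)).injective
      rw [cechEquiv_cechd, AddEquiv.apply_symm_apply, AddEquiv.apply_symm_apply]
    exact h

lemma cechClass_zero_eq_zero_iff (e : CechCochain U F 0) (he : cechCoboundary U F 0 e = 0) :
    cechClass U F 0 e he = 0 ↔ e = 0 := by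
  unfold cechClass
  rw [hmk_eq_zero_iff' _ _ _ _ _ _ _ _ 0 (by simp)]
  have hd : (cechCx U F).d 0 0 = 0 := (cechCx U F).shape 0 0 (by simp)
  constructor
  · rintro ⟨w, hw⟩
    rw [hd] at hw
    have h0 : (cechEquiv U F 0).symm e = 0 := hw.symm
    have := congrArg (cechEquiv U F 0) h0
    rwa [AddEquiv.apply_symm_apply, map_zero] at this
  · rintro rfl
    refine ⟨0, ?_⟩
    rw [map_zero]
    exact (map_zero (cechEquiv U F 0).symm).symm

/-! ### restriction from the whole space -/

/-- the cochain of restrictions of a global section -/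
noncomputable def resTop (j : ℕ) (t : F.obj (op ⊤)) : CechCochain U F j :=
  fun x => res F (le_top : cechOpen U x ≤ ⊤) t

lemma resTop_apply (j : ℕ) (t : F.obj (op ⊤)) (x : Fin (j + 1) → ι) :
    resTop U F j t x = res F (le_top : cechOpen U x ≤ ⊤) t := rfl

lemma resTop_add (j : ℕ) (t t' : F.obj (op ⊤)) :
    resTop U F j (t + t') = resTop U F j t + resTop U F j t' := by
  funext x
  simp only [resTop_apply, Pi.add_apply, map_add]

lemma resTop_zero (j : ℕ) : resTop U F j 0 = 0 := by
  funext x
  simp only [resTop_apply, Pi.zero_apply, map_zero]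

lemma resTop_neg (j : ℕ) (t : F.obj (op ⊤)) : resTop U F j (-t) = -resTop U F j t := by
  funext x
  simp only [resTop_apply, Pi.neg_apply, map_neg]

lemma cechCoboundary_resTop (t : F.obj (op ⊤)) :
    cechCoboundary U F 0 (resTop U F 0 t) = 0 := by
  funext y
  have h : ∀ i : Fin 2, (F.map (homOfLE (cechOpen_face_le U y i)).op)
      (resTop U F 0 t (y ∘ Fin.succAbove i)) = res F (le_top : cechOpen U y ≤ ⊤) t := by
    intro i
    rw [← res_apply, resTop_apply, res_res]
  change ∑ i : Fin 2, (-1 : ℤ) ^ (i : ℕ) • (F.map (homOfLE (cechOpen_face_le U y i)).op)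
      (resTop U F 0 t (y ∘ Fin.succAbove i)) = 0
  simp only [h, Fin.sum_univ_two]
  simp

lemma cochainMap_resTop {P Q : (Opens X)ᵒᵖ ⥤ AddCommGrpCat.{u}} (φ : P ⟶ Q) (j : ℕ)
    (t : P.obj (op ⊤)) :
    cochainMap U φ j (resTop U P j t) = resTop U Q j (φ.app (op ⊤) t) := by
  funext x
  simp only [cochainMap, resTop_apply]
  exact res_naturality φ _ t

lemma cochainMap_add {P Q : (Opens X)ᵒᵖ ⥤ AddCommGrpCat.{u}} (φ : P ⟶ Q) (j : ℕ)
    (c c' : CechCochain U P j) :
    cochainMap U φ j (c + c') = cochainMap U φ j c + cochainMap U φ j c' := by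
  funext x
  simp only [cochainMap, Pi.add_apply, map_add]

lemma cochainMap_neg {P Q : (Opens X)ᵒᵖ ⥤ AddCommGrpCat.{u}} (φ : P ⟶ Q) (j : ℕ)
    (c : CechCochain U P j) :
    cochainMap U φ j (-c) = -cochainMap U φ j c := by
  funext x
  simp only [cochainMap, Pi.neg_apply, map_neg]

lemma cechCoboundary_neg (j : ℕ) (c : CechCochain U F j) :
    cechCoboundary U F j (-c) = -cechCoboundary U F j c := by
  have := cechCoboundary_sub U F j 0 c
  rw [zero_sub, cechCoboundary_zero, zero_sub] at this
  exact this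

/-- gluing a Čech 0-cocycle of a sheaf to a global section when the family covers -/
lemma exists_resTop_eq (hcov : iSup U = ⊤) (G : CohTop.Ab X) (q : CechCochain U G.obj 0)
    (hq : cechCoboundary U G.obj 0 q = 0) :
    ∃ s : G.obj.obj (op ⊤), resTop U G.obj 0 s = q := by
  obtain ⟨s₀, hs₀⟩ := exists_cechRes_eq U G q hq
  refine ⟨res G.obj (le_of_eq hcov.symm) s₀, ?_⟩
  funext x
  rw [resTop_apply, res_res, ← hs₀, cechRes_apply]

/-- a global section of a sheaf which vanishes on the members of a covering family is zero -/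
lemma eq_zero_of_resTop_eq_zero (hcov : iSup U = ⊤) (G : CohTop.Ab X) (s : G.obj.obj (op ⊤))
    (hs : resTop U G.obj 0 s = 0) : s = 0 := by
  have hx1 : ∀ k : ι, U k ≤ cechOpen U (fun _ : Fin 1 => k) := by
    intro k
    rw [cechOpen_eq]
    exact le_iInf fun _ => le_rfl
  apply TopCat.Sheaf.eq_of_locally_eq' G U ⊤ (fun k => homOfLE le_top) (le_of_eq hcov.symm)
  intro k
  have h1 := congrFun hs (fun _ : Fin 1 => k)
  rw [resTop_apply] at h1
  have h2 := congrArg (res G.obj (hx1 k)) h1
  rw [res_res, Pi.zero_apply, map_zero] at h2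
  rw [map_zero]
  exact h2

lemma cechClass_congr (p : ℕ) {e e' : CechCochain U F p} (h : e = e')
    (he : cechCoboundary U F p e = 0) :
    cechClass U F p e he = cechClass U F p e' (h ▸ he) := by
  subst h
  rfl

end Groth.Agent.Lib.Helper15.CechClass
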