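import Mathlib
set_option autoImplicit false
universe v u
open CategoryTheory CategoryTheory.Limits Opposite Simplicial SimplexCategory

namespace Groth.Agent.Lib.Helper15.CechCosk

variable {C : Type u} [Category.{v} C] [HasFiniteProducts C] (X : C)

/-- the terms -/
noncomputable abbrev E : SimplicialObject C := cechNerveTerminalFrom X

/-- projection to the `i`-th factor -/
noncomputable def pr (m : SimplexCategory) (i : Fin (m.len + 1)) : (E X).obj (op m) ⟶ X :=
  Pi.π (fun _ : Fin (m.len + 1) => X) i

set_option backward.isDefEq.respectTransparency false in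
@[reassoc (attr := simp)]
lemma map_pr {m m' : SimplexCategory} (f : m' ⟶ m) (i : Fin (m'.len + 1)) :
    (E X).map f.op ≫ pr X m' i = pr X m (f.toOrderHom i) := by
  simp [E, pr, cechNerveTerminalFrom]

set_option backward.isDefEq.respectTransparency false in
lemma hom_ext {m : SimplexCategory} {Z : C} (a b : Z ⟶ (E X).obj (op m))
    (h : ∀ i, a ≫ pr X m i = b ≫ pr X m i) : a = b :=
  Pi.hom_ext _ _ h

set_option backward.isDefEq.respectTransparency false in
/-- lift into a term -/
noncomputable def lft {m : SimplexCategory} {Z : C} (a : Fin (m.len + 1) → (Z ⟶ X)) :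
    Z ⟶ (E X).obj (op m) := Pi.lift a

set_option backward.isDefEq.respectTransparency false in
@[reassoc (attr := simp)]
lemma lft_pr {m : SimplexCategory} {Z : C} (a : Fin (m.len + 1) → (Z ⟶ X)) (i) :
    lft X a ≫ pr X m i = a i := by
  simp [lft, pr]

variable {X} (G : SimplicialObject C) (b : G.obj (op ⦋0⦌) ⟶ X)

/-- the map `G ⟶ E X` attached to `b : G₀ ⟶ X` -/
noncomputable def lift : G ⟶ E X where
  app m := lft X (fun i => G.map (SimplexCategory.const ⦋0⦌ m.unop i).op ≫ b)
  naturality m m' f := by
    apply hom_ext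
    intro i
    have : f = f.unop.op := rfl
    rw [this]
    simp only [Category.assoc, map_pr, lft_pr]
    rw [← G.map_comp_assoc, ← op_comp, SimplexCategory.const_comp]

@[reassoc (attr := simp)]
lemma lift_app_pr (m : SimplexCategory) (i : Fin (m.len + 1)) :
    (lift G b).app (op m) ≫ pr X m i = G.map (SimplexCategory.const ⦋0⦌ m i).op ≫ b := by
  simp [lift]

end Groth.Agent.Lib.Helper15.CechCosk

namespace Groth.Agent.Lib.Helper15.CechCosk

variable {C : Type u} [Category.{v} C] [HasFiniteProducts C] (X : C)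

open SimplexCategory.Truncated Functor

/-- the zero-th truncated simplex -/
abbrev z (n : ℕ) : SimplexCategory.Truncated n := ⟨⦋0⦌, by simp⟩

variable {X} in
lemma lift_restr (n : ℕ) (G : SimplicialObject C)
    (α : (Truncated.inclusion n).op ⋙ G ⟶ (Truncated.inclusion n).op ⋙ E X)
    (m : SimplexCategory) (hm : m.len ≤ n) :
    (lift G (α.app (op (z n)) ≫ pr X ⦋0⦌ 0)).app (op m) = α.app (op ⟨m, hm⟩) := by
  apply hom_ext
  intro i
  rw [lift_app_pr]
  have := α.naturality (Hom.tr (SimplexCategory.const ⦋0⦌ m i) (by simp) hm).op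
  dsimp at this
  rw [reassoc_of% this]
  have h2 := map_pr X (SimplexCategory.const ⦋0⦌ m i) 0
  rw [h2]
  rfl

variable {X} in
lemma eq_lift (G : SimplicialObject C) (φ : G ⟶ E X) :
    φ = lift G (φ.app (op ⦋0⦌) ≫ pr X ⦋0⦌ 0) := by
  ext m
  induction m using Opposite.rec with | _ m => ?_
  apply hom_ext
  intro i
  rw [lift_app_pr, φ.naturality_assoc, map_pr]
  rfl

theorem isCoskeletal (n : ℕ) : (E X).IsCoskeletal n := by
  refine ⟨⟨⟨?_⟩⟩⟩
  refine IsTerminal.ofUniqueHom (fun G => ?_) (fun G φ => ?_)
  · refine CostructuredArrow.homMk (lift G.left (G.hom.app (op (z n)) ≫ pr X ⦋0⦌ 0)) ?_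
    ext m
    obtain ⟨⟨m, hm⟩⟩ := m
    exact (Category.comp_id _).trans (lift_restr n G.left G.hom m hm)
  · apply CostructuredArrow.hom_ext
    have h1 := eq_lift G.left φ.left
    have h2 := CostructuredArrow.w φ
    have h3 : φ.left.app (op ⦋0⦌) = G.hom.app (op (z n)) := by
      have := congr_app h2 (op (z n))
      exact (Category.comp_id _).symm.trans this
    refine h1.trans ?_
    rw [h3]
    rfl

end Groth.Agent.Lib.Helper15.CechCosk
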