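import Groth.Agent.Lib.Helper15.HDUcl
import Groth.Agent.Lib.Helper15.CechClass

/-!
# Zigzags in the Čech double complex of a complex of sheaves (helper15)

`L` is a K-injective complex of abelian sheaves on a space `X` with a quasi-isomorphism
`α : K ⟶ L`, `U` a family of opens.  A zigzag of length `p` ending in degree `n` is a global
cocycle `s ∈ Lⁿ(X)` with Čech cochains `c_j ∈ Č^j(U, L^{n-1-j})` (`j < p`) such that
`d c_0 = s|_U` and `d c_{j+1} = δ c_j`.  The classes of the `s` admitting a zigzag of length `p`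
form the `p`-th step of the filtration of `Hⁿ(X, K)` induced by the Čech-to-derived spectral
sequence.
-/

set_option autoImplicit false
universe u

namespace Groth.Agent.Lib.Helper15.CechZig

open CategoryTheory CategoryTheory.Limits TopologicalSpace Opposite DerivedCategory
open Groth.Agent.Lib.Lead Groth.Agent.Lib.Helper15.CechClass Groth.Agent.Lib.Helper15.HDUcl

variable {X : TopCat.{u}} {ι : Type u} (U : ι → Opens X) (L : CochainComplex (CohTop.Ab X) ℤ)

/-- the presheaf `L^m` -/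
abbrev P (m : ℤ) : (Opens X)ᵒᵖ ⥤ AddCommGrpCat.{u} := (L.X m).obj

/-- the differential, as a morphism of presheaves -/
abbrev dP (a b : ℤ) : P L a ⟶ P L b := (L.d a b).hom

/-- Čech cochains of `L^m` -/
abbrev Coch (m : ℤ) (j : ℕ) : Type u := CechCochain U (P L m) j

/-- the sheaf degree of the `j`-th member of a zigzag ending in degree `n` -/
abbrev q (n : ℤ) (j : ℕ) : ℤ := n - 1 - j

lemma q_succ (n : ℤ) (j : ℕ) : q n (j + 1) + 1 = q n j := by
  simp only [q, Nat.cast_add, Nat.cast_one]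
  ring

lemma q_zero (n : ℤ) : q n 0 + 1 = n := by
  simp [q]

/-- `d ∘ d = 0` on cochains -/
lemma cochainMap_dP_dP (a b c : ℤ) (j : ℕ) (x : Coch U L a j) :
    cochainMap U (dP L b c) j (cochainMap U (dP L a b) j x) = 0 := by
  funext y
  have h : L.d a b ≫ L.d b c = 0 := L.d_comp_d _ _ _
  have h2 := congrArg (fun φ => φ.hom.app (op (cechOpen U y)) (x y)) h
  exact h2

/-- the ambient group of zigzags -/
abbrev Amb (n : ℤ) : Type u := (P L n).obj (op ⊤) × (∀ j : ℕ, Coch U L (q n j) j)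

/-- zigzags of length `p` -/
def IsZig (n : ℤ) (p : ℕ) (y : Amb U L n) : Prop :=
  IsCoc L n (⊤ : Opens X) y.1 ∧
  (0 < p → cochainMap U (dP L (q n 0) n) 0 (y.2 0) = resTop U (P L n) 0 y.1) ∧
  ∀ k : ℕ, k + 1 < p →
    cochainMap U (dP L (q n (k + 1)) (q n k)) (k + 1) (y.2 (k + 1)) =
      cechCoboundary U (P L (q n k)) k (y.2 k)

/-- the group of zigzags of length `p` -/
def Zig (n : ℤ) (p : ℕ) : AddSubgroup (Amb U L n) where
  carrier := {y | IsZig U L n p y}
  zero_mem' := by
    refine ⟨isCoc_zero n _, fun _ => ?_, fun k _ => ?_⟩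
    · change cochainMap U (dP L (q n 0) n) 0 0 = resTop U (P L n) 0 0
      rw [cochainMap_zero, resTop_zero]
    · change cochainMap U (dP L (q n (k + 1)) (q n k)) (k + 1) 0 =
        cechCoboundary U (P L (q n k)) k 0
      rw [cochainMap_zero, cechCoboundary_zero]
  add_mem' := by
    rintro y y' ⟨h1, h2, h3⟩ ⟨h1', h2', h3'⟩
    refine ⟨isCoc_add h1 h1', fun hp => ?_, fun k hk => ?_⟩
    · change cochainMap U (dP L (q n 0) n) 0 (y.2 0 + y'.2 0) = resTop U (P L n) 0 (y.1 + y'.1)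
      rw [cochainMap_add, resTop_add, h2 hp, h2' hp]
    · change cochainMap U (dP L (q n (k + 1)) (q n k)) (k + 1) (y.2 (k + 1) + y'.2 (k + 1)) =
        cechCoboundary U (P L (q n k)) k (y.2 k + y'.2 k)
      rw [cochainMap_add, cechCoboundary_add, h3 k hk, h3' k hk]
  neg_mem' := by
    rintro y ⟨h1, h2, h3⟩
    refine ⟨isCoc_neg h1, fun hp => ?_, fun k hk => ?_⟩
    · change cochainMap U (dP L (q n 0) n) 0 (-(y.2 0)) = resTop U (P L n) 0 (-y.1)
      rw [cochainMap_neg, resTop_neg, h2 hp]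
    · change cochainMap U (dP L (q n (k + 1)) (q n k)) (k + 1) (-(y.2 (k + 1))) =
        cechCoboundary U (P L (q n k)) k (-(y.2 k))
      rw [cochainMap_neg, cechCoboundary_neg, h3 k hk]

lemma mem_Zig {n : ℤ} {p : ℕ} {y : Amb U L n} : y ∈ Zig U L n p ↔ IsZig U L n p y := Iff.rfl

lemma isZig_of_le {n : ℤ} {p p' : ℕ} (h : p ≤ p') {y : Amb U L n} (hy : IsZig U L n p' y) :
    IsZig U L n p y :=
  ⟨hy.1, fun hp => hy.2.1 (lt_of_lt_of_le hp h), fun k hk => hy.2.2 k (lt_of_lt_of_le hk h)⟩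

/-- cochains with values in cocycles -/
def IsCocC (m : ℤ) (j : ℕ) (b : Coch U L m j) : Prop :=
  ∀ x, IsCoc L m (cechOpen U x) (b x)

variable {U L}

lemma isCocC_iff {m : ℤ} {j : ℕ} {b : Coch U L m j} (c : ℤ) (hc : m + 1 = c) :
    IsCocC U L m j b ↔ cochainMap U (dP L m c) j b = 0 := by
  constructor
  · intro h
    funext x
    exact (h x).d_eq_zero c
  · intro h x
    exact isCoc_of_d_eq_zero c hc (congrFun h x)

lemma IsCocC.cochainMap_eq_zero {m : ℤ} {j : ℕ} {b : Coch U L m j} (h : IsCocC U L m j b)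
    (c : ℤ) : cochainMap U (dP L m c) j b = 0 := by
  funext x
  exact (h x).d_eq_zero c

lemma isCocC_cochainMap (a m : ℤ) (j : ℕ) (w : Coch U L a j) :
    IsCocC U L m j (cochainMap U (dP L a m) j w) := fun x => isCoc_d _ (w x)

lemma isCocC_zero (m : ℤ) (j : ℕ) : IsCocC U L m j 0 := fun _ => isCoc_zero m _

lemma IsCocC.add {m : ℤ} {j : ℕ} {b b' : Coch U L m j} (h : IsCocC U L m j b)
    (h' : IsCocC U L m j b') : IsCocC U L m j (b + b') := fun x => isCoc_add (h x) (h' x)

lemma IsCocC.neg {m : ℤ} {j : ℕ} {b : Coch U L m j} (h : IsCocC U L m j b) :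
    IsCocC U L m j (-b) := fun x => isCoc_neg (h x)

lemma IsCocC.sub {m : ℤ} {j : ℕ} {b b' : Coch U L m j} (h : IsCocC U L m j b)
    (h' : IsCocC U L m j b') : IsCocC U L m j (b - b') := by
  rw [sub_eq_add_neg]
  exact h.add h'.neg

lemma IsCocC.coboundary {m : ℤ} {j : ℕ} {b : Coch U L m j} (h : IsCocC U L m j b) :
    IsCocC U L m (j + 1) (cechCoboundary U (P L m) j b) := by
  rw [isCocC_iff (m + 1) rfl] at h ⊢
  rw [cochainMap_coboundary, h, cechCoboundary_zero]

lemma isCocC_resTop {n : ℤ} {s : (P L n).obj (op ⊤)} (hs : IsCoc L n (⊤ : Opens X) s) (j : ℕ) :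
    IsCocC U L n j (resTop U (P L n) j s) := fun _ => isCoc_map (homOfLE le_top) hs

section Cl

variable [HasDerivedCategory.{u} (CohTop.Ab X)] {K : CochainComplex (CohTop.Ab X) ℤ}
  (α : K ⟶ L) [QuasiIso α] [L.IsKInjective]

/-- the presheaf `V ↦ H^m(V, K)` -/
noncomputable abbrev HP (K : CochainComplex (CohTop.Ab X) ℤ) (m : ℤ) : (Opens X)ᵒᵖ ⥤ AddCommGrpCat.{u} :=
  CohCx.HDUPresheaf (Q.obj K) m

lemma HP_map_apply (m : ℤ) {V W : Opens X} (h : W ≤ V) (x : CohCx.HDU (Q.obj K) m V) :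
    (HP K m).map (homOfLE h).op x = CohCx.HDUres (Q.obj K) m (homOfLE h) x := rfl

/-- the classes of a cochain with values in cocycles -/
noncomputable def clC (m : ℤ) (j : ℕ) (b : Coch U L m j) (hb : IsCocC U L m j b) :
    CechCochain U (HP K m) j :=
  fun x => clS α m (cechOpen U x) (b x) (hb x)

lemma clC_apply (m : ℤ) (j : ℕ) (b : Coch U L m j) (hb : IsCocC U L m j b)
    (x : Fin (j + 1) → ι) : clC α m j b hb x = clS α m (cechOpen U x) (b x) (hb x) := rfl

lemma clC_congr (m : ℤ) (j : ℕ) {b b' : Coch U L m j} (h : b = b') (hb : IsCocC U L m j b) :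
    clC α m j b hb = clC α m j b' (h ▸ hb) := by
  subst h
  rfl

lemma clC_zero (m : ℤ) (j : ℕ) : clC α m j (0 : Coch U L m j) (isCocC_zero m j) = 0 := by
  funext x
  exact clS_zero α m _

lemma clC_add (m : ℤ) (j : ℕ) (b b' : Coch U L m j) (hb : IsCocC U L m j b)
    (hb' : IsCocC U L m j b') :
    clC α m j (b + b') (hb.add hb') = clC α m j b hb + clC α m j b' hb' := by
  funext x
  exact clS_add α m _ _ _ (hb x) (hb' x)

lemma clC_surjective (m : ℤ) (j : ℕ) (e : CechCochain U (HP K m) j) :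
    ∃ (b : Coch U L m j) (hb : IsCocC U L m j b), clC α m j b hb = e := by
  choose b hb h using fun x => clS_surjective α m (cechOpen U x) (e x)
  exact ⟨b, hb, funext h⟩

lemma exists_of_clC_eq_zero (m : ℤ) (j : ℕ) (b : Coch U L m j) (hb : IsCocC U L m j b)
    (h : clC α m j b hb = 0) (m' : ℤ) (hm : m' + 1 = m) :
    ∃ w : Coch U L m' j, cochainMap U (dP L m' m) j w = b := by
  have h1 : ∀ x, ∃ w : (L.X m').obj.obj (op (cechOpen U x)),
      (L.d m' m).hom.app (op (cechOpen U x)) w = b x := fun x =>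
    (clS_eq_zero_iff α m (cechOpen U x) (b x) (hb x) m' hm).1 (congrFun h x)
  choose w hw using h1
  exact ⟨w, funext hw⟩

lemma clC_coboundary (m : ℤ) (j : ℕ) (b : Coch U L m j) (hb : IsCocC U L m j b) :
    cechCoboundary U (HP K m) j (clC α m j b hb) =
      clC α m (j + 1) (cechCoboundary U (P L m) j b) hb.coboundary := by
  funext y
  have hz : ∀ i : Fin (j + 2), IsCoc L m (cechOpen U y)
      ((P L m).map (homOfLE (cechOpen_face_le U y i)).op (b (y ∘ Fin.succAbove i))) :=
    fun i => isCoc_map _ (hb _)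
  have h1 : ∀ i : Fin (j + 2),
      (HP K m).map (homOfLE (cechOpen_face_le U y i)).op (clC α m j b hb (y ∘ Fin.succAbove i)) =
        clHom α m (cechOpen U y) ⟨_, hz i⟩ := by
    intro i
    rw [HP_map_apply, clC_apply, clS_res]
    rfl
  change ∑ i : Fin (j + 2), (-1 : ℤ) ^ (i : ℕ) •
      ((HP K m).map (homOfLE (cechOpen_face_le U y i)).op) (clC α m j b hb (y ∘ Fin.succAbove i)) = _
  simp only [h1]
  rw [clC_apply, ← clHom_apply]
  have h2 : (⟨cechCoboundary U (P L m) j b y, hb.coboundary y⟩ : Zc L m (cechOpen U y)) =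
      ∑ i : Fin (j + 2), (-1 : ℤ) ^ (i : ℕ) •
        (⟨(P L m).map (homOfLE (cechOpen_face_le U y i)).op (b (y ∘ Fin.succAbove i)), hz i⟩ :
          Zc L m (cechOpen U y)) := by
    apply Subtype.ext
    rw [AddSubgroup.val_finsetSum]
    rfl
  rw [h2, map_sum]
  refine Finset.sum_congr rfl (fun i _ => ?_)
  rw [map_zsmul]
  rfl

lemma clC_neg (m : ℤ) (j : ℕ) (b : Coch U L m j) (hb : IsCocC U L m j b) :
    clC α m j (-b) hb.neg = -clC α m j b hb := by
  have h := clC_add α m j b (-b) hb hb.neg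
  have h0 : clC α m j (b + -b) (hb.add hb.neg) = 0 :=
    (clC_congr α m j (add_neg_cancel b) _).trans (clC_zero α m j)
  rw [h0] at h
  exact (neg_eq_of_add_eq_zero_right h.symm).symm

lemma clC_sub (m : ℤ) (j : ℕ) (b b' : Coch U L m j) (hb : IsCocC U L m j b)
    (hb' : IsCocC U L m j b') :
    clC α m j (b - b') (hb.sub hb') = clC α m j b hb - clC α m j b' hb' := by
  rw [sub_eq_add_neg (clC α m j b hb), ← clC_neg, ← clC_add]
  exact clC_congr α m j (sub_eq_add_neg b b') _

end Cl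

section Fil

set_option linter.unusedSectionVars false
set_option linter.style.haveILetI false

variable (U)
variable [HasDerivedCategory.{u} (CohTop.Ab X)] {K : CochainComplex (CohTop.Ab X) ℤ}
  (α : K ⟶ L) [QuasiIso α] [L.IsKInjective]

/-- the class in `Hⁿ(X, K)` of (the global cocycle of) a zigzag -/
noncomputable def zcl (n : ℤ) (p : ℕ) :
    Zig U L n p →+ CohCx.HDU (Q.obj K) n (⊤ : Opens X) where
  toFun y := clS α n ⊤ y.1.1 y.2.1
  map_zero' := clS_zero α n ⊤
  map_add' y y' := clS_add α n ⊤ _ _ y.2.1 y'.2.1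

lemma zcl_apply (n : ℤ) (p : ℕ) (y : Zig U L n p) : zcl U α n p y = clS α n ⊤ y.1.1 y.2.1 := rfl

/-- the filtration of `Hⁿ(X, K)` by the length of zigzags -/
noncomputable def Gs (n : ℤ) (p : ℕ) : AddSubgroup (CohCx.HDU (Q.obj K) n (⊤ : Opens X)) :=
  (zcl U α n p).range

lemma mem_Gs_iff (n : ℤ) (p : ℕ) (x : CohCx.HDU (Q.obj K) n (⊤ : Opens X)) :
    x ∈ Gs U α n p ↔ ∃ (y : Amb U L n) (hy : IsZig U L n p y), clS α n ⊤ y.1 hy.1 = x := by
  constructor
  · rintro ⟨y, rfl⟩
    exact ⟨y.1, y.2, rfl⟩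
  · rintro ⟨y, hy, rfl⟩
    exact ⟨⟨y, hy⟩, rfl⟩

lemma Gs_antitone (n : ℤ) {p p' : ℕ} (h : p ≤ p') : Gs U α n p' ≤ Gs U α n p := by
  intro x hx
  rw [mem_Gs_iff] at hx ⊢
  obtain ⟨y, hy, rfl⟩ := hx
  exact ⟨y, isZig_of_le U L h hy, rfl⟩

lemma Gs_zero (n : ℤ) : Gs U α n 0 = ⊤ := by
  rw [eq_top_iff]
  intro x _
  rw [mem_Gs_iff]
  obtain ⟨s, hs, rfl⟩ := clS_surjective α n (⊤ : Opens X) x
  exact ⟨(s, 0), ⟨hs, fun h => absurd h (lt_irrefl 0), fun k hk => absurd hk (Nat.not_lt_zero _)⟩,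
    rfl⟩

omit [HasDerivedCategory.{u} (CohTop.Ab X)] in
lemma le_cechOpen_const (i : ι) : U i ≤ cechOpen U (fun _ : Fin 1 => i) := by
  rw [cechOpen_eq]
  exact le_iInf fun _ => le_rfl

lemma mem_Gs_one_iff (n : ℤ) (x : CohCx.HDU (Q.obj K) n (⊤ : Opens X)) :
    x ∈ Gs U α n 1 ↔
      ∀ i, CohCx.HDUres (Q.obj K) n (homOfLE (le_top : U i ≤ ⊤)) x = 0 := by
  constructor
  · rw [mem_Gs_iff]
    rintro ⟨y, hy, rfl⟩ i
    rw [clS_res, clS_eq_zero_iff α n (U i) _ _ (q n 0) (q_zero n)]
    refine ⟨res (P L (q n 0)) (le_cechOpen_const U i) (y.2 0 (fun _ => i)), ?_⟩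
    have h := congrFun (hy.2.1 Nat.one_pos) (fun _ => i)
    rw [cochainMap_apply, resTop_apply] at h
    have h2 := res_naturality (dP L (q n 0) n) (le_cechOpen_const U i) (y.2 0 (fun _ => i))
    refine h2.trans ?_
    rw [h, res_res]
    rfl
  · intro h
    obtain ⟨s, hs, rfl⟩ := clS_surjective α n (⊤ : Opens X) x
    have h1 : ∀ x₁ : Fin 1 → ι, ∃ w : (L.X (q n 0)).obj.obj (op (cechOpen U x₁)),
        (L.d (q n 0) n).hom.app (op (cechOpen U x₁)) w =
          res (P L n) (le_top : cechOpen U x₁ ≤ ⊤) s := by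
      intro x₁
      refine (clS_eq_zero_iff α n (cechOpen U x₁) _ (isCoc_map (homOfLE le_top) hs) (q n 0)
        (q_zero n)).1 ?_
      have h0 := h (x₁ 0)
      rw [clS_res] at h0
      have h2 := congrArg (CohCx.HDUres (Q.obj K) n (homOfLE (cechOpen_le U x₁ 0))) h0
      rw [clS_res, map_zero] at h2
      refine (clS_congr α n _ ?_ _).trans h2
      exact (res_res (P L n) (cechOpen_le U x₁ 0) (le_top : U (x₁ 0) ≤ ⊤) s).symm
    choose w hw using h1
    rw [mem_Gs_iff]
    refine ⟨(s, Function.update (0 : ∀ j : ℕ, Coch U L (q n j) j) 0 w), ⟨hs, fun _ => ?_,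
      fun k hk => absurd hk (by omega)⟩, rfl⟩
    change cochainMap U (dP L (q n 0) n) 0
      (Function.update (0 : ∀ j : ℕ, Coch U L (q n j) j) 0 w 0) = resTop U (P L n) 0 s
    rw [Function.update_self]
    exact funext hw

omit [HasDerivedCategory.{u} (CohTop.Ab X)] in
lemma subsingleton_sections_of_isZero {m : ℤ} (h : IsZero (L.X m)) (V : Opens X) :
    Subsingleton ((L.X m).obj.obj (op V)) := by
  have h1 : IsZero ((sheafToPresheaf (Opens.grothendieckTopology X) AddCommGrpCat.{u} ⋙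
      (evaluation (Opens X)ᵒᵖ AddCommGrpCat.{u}).obj (op V)).obj (L.X m)) :=
    Functor.map_isZero _ h
  exact AddCommGrpCat.subsingleton_of_isZero h1

omit [HasDerivedCategory.{u} (CohTop.Ab X)] in
/-- descending modification of a zigzag whose last member vanishes -/
lemma exists_modified (hinj : ∀ m, Injective (L.X m)) (n : ℤ) (M : ℕ)
    (hz : IsZero (L.X (q n M))) (y : Amb U L n) (hy : IsZig U L n (M + 1) y) :
    ∀ (t k : ℕ), k + t = M → ∃ c' : Coch U L (q n k) k,
      (∀ b, cochainMap U (dP L (q n k) b) k c' = cochainMap U (dP L (q n k) b) k (y.2 k)) ∧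
        cechCoboundary U (P L (q n k)) k c' = 0 := by
  intro t
  induction t with
  | zero =>
    intro k hk
    obtain rfl : k = M := by omega
    refine ⟨y.2 k, fun b => rfl, ?_⟩
    funext x
    haveI := subsingleton_sections_of_isZero hz (cechOpen U x)
    exact Subsingleton.elim _ _
  | succ t ih =>
    intro k hk
    obtain ⟨c'', h1, h2⟩ := ih (k + 1) (by omega)
    haveI := hinj (q n (k + 1))
    haveI := injective_presheaf_of_injective_sheaf (L.X (q n (k + 1)))
    obtain ⟨b, hb⟩ := cech_exact_of_injective_presheaf U (P L (q n (k + 1))) k c'' h2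
    refine ⟨y.2 k - cochainMap U (dP L (q n (k + 1)) (q n k)) k b, fun b' => ?_, ?_⟩
    · rw [cochainMap_sub, cochainMap_dP_dP, sub_zero]
    · rw [cechCoboundary_sub, ← cochainMap_coboundary, hb, h1 (q n k), hy.2.2 k (by omega),
        sub_self]

lemma Gs_eq_bot (hcov : iSup U = ⊤) (hinj : ∀ m, Injective (L.X m)) (n : ℤ) (M : ℕ)
    (hz : IsZero (L.X (q n M))) : Gs U α n (M + 1) = ⊥ := by
  rw [eq_bot_iff]
  intro x hx
  rw [mem_Gs_iff] at hx
  obtain ⟨y, hy, rfl⟩ := hx
  rw [AddSubgroup.mem_bot]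
  obtain ⟨c', h1, h2⟩ := exists_modified U hinj n M hz y hy M 0 (by omega)
  obtain ⟨t, ht⟩ := exists_resTop_eq U hcov (L.X (q n 0)) c' h2
  rw [clS_eq_zero_iff α n (⊤ : Opens X) _ _ (q n 0) (q_zero n)]
  refine ⟨t, ?_⟩
  have h3 : resTop U (P L n) 0 ((L.d (q n 0) n).hom.app (op ⊤) t) = resTop U (P L n) 0 y.1 := by
    rw [← cochainMap_resTop U (dP L (q n 0) n) 0 t, ht, h1 n]
    exact hy.2.1 (Nat.succ_pos M)
  have h4 : resTop U (P L n) 0 ((L.d (q n 0) n).hom.app (op ⊤) t - y.1) = 0 := by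
    rw [sub_eq_add_neg, resTop_add, resTop_neg, h3, add_neg_cancel]
  exact sub_eq_zero.1 (eq_zero_of_resTop_eq_zero U hcov (L.X n) _ h4)

variable (L) in
/-- cochains with values in cocycles which are Čech cocycles -/
def ZC (m : ℤ) (j : ℕ) : AddSubgroup (Coch U L m j) where
  carrier := {b | IsCocC U L m j b ∧ cechCoboundary U (P L m) j b = 0}
  zero_mem' := ⟨isCocC_zero m j, cechCoboundary_zero U (P L m) j⟩
  add_mem' := fun h h' => ⟨h.1.add h'.1, by rw [cechCoboundary_add, h.2, h'.2, add_zero]⟩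
  neg_mem' := fun h => ⟨h.1.neg, by rw [cechCoboundary_neg, h.2, neg_zero]⟩

lemma clC_cocycle (m : ℤ) (j : ℕ) (b : Coch U L m j) (hb : b ∈ ZC U L m j) :
    cechCoboundary U (HP K m) j (clC α m j b hb.1) = 0 := by
  rw [clC_coboundary]
  exact (clC_congr α m (j + 1) hb.2 _).trans (clC_zero α m (j + 1))

/-- the Čech cohomology class (with coefficients in `V ↦ H^m(V, K)`) of a Čech cocycle with values
in cocycles of `L^m` -/
noncomputable def clClass (m : ℤ) (j : ℕ) :
    ZC U L m j →+ ((cechCx U (HP K m)).homology j : AddCommGrpCat.{u}) :=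
  AddMonoidHom.mk' (fun b => cechClass U (HP K m) j (clC α m j b.1 b.2.1)
    (clC_cocycle U α m j b.1 b.2)) (by
    intro b b'
    rw [← cechClass_add]
    exact cechClass_congr U (HP K m) j (clC_add α m j b.1 b'.1 b.2.1 b'.2.1) _)

lemma clClass_apply (m : ℤ) (j : ℕ) (b : ZC U L m j) :
    clClass U α m j b = cechClass U (HP K m) j (clC α m j b.1 b.2.1)
      (clC_cocycle U α m j b.1 b.2) := rfl

lemma exists_of_clClass_zero_eq_zero (m : ℤ) (b : ZC U L m 0) (h : clClass U α m 0 b = 0)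
    (m' : ℤ) (hm : m' + 1 = m) :
    ∃ w : Coch U L m' 0, cochainMap U (dP L m' m) 0 w = b.1 := by
  rw [clClass_apply, cechClass_zero_eq_zero_iff] at h
  exact exists_of_clC_eq_zero α m 0 b.1 b.2.1 h m' hm

lemma exists_of_clClass_succ_eq_zero (m : ℤ) (k : ℕ) (b : ZC U L m (k + 1))
    (h : clClass U α m (k + 1) b = 0) (m' : ℤ) (hm : m' + 1 = m) :
    ∃ (e : Coch U L m k) (_ : IsCocC U L m k e) (w : Coch U L m' (k + 1)),
      cochainMap U (dP L m' m) (k + 1) w = b.1 - cechCoboundary U (P L m) k e := by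
  rw [clClass_apply, cechClass_succ_eq_zero_iff] at h
  obtain ⟨e', he'⟩ := h
  obtain ⟨e, he, rfl⟩ := clC_surjective α m k e'
  rw [clC_coboundary] at he'
  have h0 : clC α m (k + 1) (b.1 - cechCoboundary U (P L m) k e) (b.2.1.sub he.coboundary) = 0 := by
    rw [clC_sub α m (k + 1) _ _ b.2.1 he.coboundary, he', sub_self]
  obtain ⟨w, hw⟩ := exists_of_clC_eq_zero α m (k + 1) _ _ h0 m' hm
  exact ⟨e, he, w, hw⟩

omit [HasDerivedCategory.{u} (CohTop.Ab X)] in
/-- the Čech coboundary of the last member of a zigzag has values in cocycles -/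
lemma isCocC_coboundary_last (n : ℤ) (k : ℕ) (y : Amb U L n) (hy : IsZig U L n (k + 1) y) :
    IsCocC U L (q n k) (k + 1) (cechCoboundary U (P L (q n k)) k (y.2 k)) := by
  cases k with
  | zero =>
    rw [isCocC_iff n (q_zero n), cochainMap_coboundary, hy.2.1 Nat.one_pos, cechCoboundary_resTop]
  | succ j =>
    rw [isCocC_iff (q n j) (q_succ n j), cochainMap_coboundary, hy.2.2 j (by omega),
      cechCoboundary_comp]

variable (L) in
/-- from zigzags of length `0` to Čech `0`-cocycles with values in cocycles of `Lⁿ` -/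
noncomputable def φ₀ (n : ℤ) : Zig U L n 0 →+ ZC U L n 0 :=
  AddMonoidHom.mk' (fun y => ⟨resTop U (P L n) 0 y.1.1,
    isCocC_resTop y.2.1 0, cechCoboundary_resTop U (P L n) y.1.1⟩) (by
    intro y y'
    apply Subtype.ext
    exact resTop_add U (P L n) 0 y.1.1 y'.1.1)

variable (L) in
/-- from zigzags of length `k + 1` to Čech `(k+1)`-cocycles with values in cocycles -/
noncomputable def φs (n : ℤ) (k : ℕ) : Zig U L n (k + 1) →+ ZC U L (q n k) (k + 1) :=
  AddMonoidHom.mk' (fun y => ⟨cechCoboundary U (P L (q n k)) k (y.1.2 k),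
    isCocC_coboundary_last U n k y.1 y.2, cechCoboundary_comp U (P L (q n k)) k (y.1.2 k)⟩) (by
    intro y y'
    apply Subtype.ext
    exact cechCoboundary_add U (P L (q n k)) k (y.1.2 k) (y'.1.2 k))

lemma gr_zero (n : ℤ) (y : Zig U L n 0) (h : clClass U α n 0 (φ₀ U L n y) = 0) :
    zcl U α n 0 y ∈ Gs U α n 1 := by
  obtain ⟨w, hw⟩ := exists_of_clClass_zero_eq_zero U α n (φ₀ U L n y) h (q n 0) (q_zero n)
  rw [mem_Gs_iff]
  refine ⟨(y.1.1, Function.update y.1.2 0 w), ⟨y.2.1, fun _ => ?_,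
    fun k hk => absurd hk (by omega)⟩, rfl⟩
  change cochainMap U (dP L (q n 0) n) 0 (Function.update y.1.2 0 w 0) = resTop U (P L n) 0 y.1.1
  rw [Function.update_self]
  exact hw

lemma gr_succ (n : ℤ) (k : ℕ) (y : Zig U L n (k + 1))
    (h : clClass U α (q n k) (k + 1) (φs U L n k y) = 0) :
    zcl U α n (k + 1) y ∈ Gs U α n (k + 2) := by
  obtain ⟨e, he, w, hw⟩ := exists_of_clClass_succ_eq_zero U α (q n k) k (φs U L n k y) h
    (q n (k + 1)) (q_succ n k)
  change cochainMap U (dP L (q n (k + 1)) (q n k)) (k + 1) w =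
    cechCoboundary U (P L (q n k)) k (y.1.2 k) - cechCoboundary U (P L (q n k)) k e at hw
  rw [mem_Gs_iff]
  obtain ⟨⟨s, c⟩, hy⟩ := y
  change cochainMap U (dP L (q n (k + 1)) (q n k)) (k + 1) w =
    cechCoboundary U (P L (q n k)) k (c k) - cechCoboundary U (P L (q n k)) k e at hw
  have hk1 : k ≠ k + 1 := by omega
  refine ⟨(s, Function.update (Function.update c k (c k - e)) (k + 1) w), ⟨hy.1, fun _ => ?_,
    fun j hj => ?_⟩, rfl⟩
  · change cochainMap U (dP L (q n 0) n) 0
      (Function.update (Function.update c k (c k - e)) (k + 1) w 0) = resTop U (P L n) 0 s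
    rw [Function.update_of_ne (by omega : (0 : ℕ) ≠ k + 1)]
    by_cases hk0 : k = 0
    · subst hk0
      rw [Function.update_self, cochainMap_sub, he.cochainMap_eq_zero n, sub_zero]
      exact hy.2.1 Nat.one_pos
    · rw [Function.update_of_ne (Ne.symm hk0)]
      exact hy.2.1 (Nat.succ_pos k)
  · change cochainMap U (dP L (q n (j + 1)) (q n j)) (j + 1)
      (Function.update (Function.update c k (c k - e)) (k + 1) w (j + 1)) =
        cechCoboundary U (P L (q n j)) j
          (Function.update (Function.update c k (c k - e)) (k + 1) w j)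
    by_cases hjk : j = k
    · subst hjk
      rw [Function.update_self, Function.update_of_ne hk1, Function.update_self,
        cechCoboundary_sub]
      exact hw
    · by_cases hjk' : j + 1 = k
      · subst hjk'
        rw [Function.update_of_ne (by omega : j + 1 ≠ j + 1 + 1), Function.update_self,
          Function.update_of_ne (by omega : j ≠ j + 1 + 1),
          Function.update_of_ne (by omega : j ≠ j + 1), cochainMap_sub,
          he.cochainMap_eq_zero (q n j), sub_zero]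
        exact hy.2.2 j (by omega)
      · rw [Function.update_of_ne (by omega : j + 1 ≠ k + 1),
          Function.update_of_ne (by omega : j + 1 ≠ k),
          Function.update_of_ne (by omega : j ≠ k + 1),
          Function.update_of_ne (by omega : j ≠ k)]
        exact hy.2.2 j (by omega)

end Fil

end Groth.Agent.Lib.Helper15.CechZig
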