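import Groth.Agent.Lib.Helper15.AcyclicSheaf

/-!
# Dimension shifting for the cohomology of an object of a site (helper15)

For a short exact sequence `0 → F → I → Q → 0` of abelian sheaves with `I` injective:
`H^{q+2}(X, F) = 0 ↔ H^{q+1}(X, Q) = 0`, and `H^1(X, F) = 0 ↔ I(X) → Q(X)` is surjective.
-/

set_option autoImplicit false
universe u
open CategoryTheory CategoryTheory.Limits Opposite

namespace Groth.Agent.Lib.Helper15.CohShift

open CategoryTheory.Abelian Groth.Agent.Lib.Helper15.AcyclicSheaf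

variable {C : Type u} [SmallCategory C] {J : GrothendieckTopology C}
  {S : ShortComplex (Sheaf J AddCommGrpCat.{u})} (hS : S.ShortExact)

lemma subsingleton_iff_forall_zero (F : Sheaf J AddCommGrpCat.{u}) (q : ℕ) (X : C) :
    Subsingleton (CohSite.HU F q X) ↔ ∀ x : Ext (ZU J X) F q, x = 0 := by
  constructor
  · intro h x
    exact Subsingleton.elim (α := CohSite.HU F q X) x 0
  · intro h
    exact ⟨fun a b => (h a).trans (h b).symm⟩

include hS in
theorem shift [Injective S.X₂] (q : ℕ) (X : C) :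
    Subsingleton (CohSite.HU S.X₁ (q + 2) X) ↔ Subsingleton (CohSite.HU S.X₃ (q + 1) X) := by
  rw [subsingleton_iff_forall_zero, subsingleton_iff_forall_zero]
  constructor
  · intro h x
    have h0 : x.comp hS.extClass (rfl : q + 1 + 1 = q + 2) = 0 := h _
    obtain ⟨x₂, hx₂⟩ := Ext.covariant_sequence_exact₃ _ hS x rfl h0
    rw [← hx₂, Ext.eq_zero_of_injective x₂, Ext.zero_comp]
  · intro h y
    have h0 : y.comp (Ext.mk₀ S.f) (add_zero (q + 2)) = 0 := Ext.eq_zero_of_injective _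
    obtain ⟨x, hx⟩ := Ext.covariant_sequence_exact₁ _ hS y h0 (rfl : q + 1 + 1 = q + 2)
    rw [← hx, h x, Ext.zero_comp]

/-- a morphism out of the free presheaf on a representable is determined by a section -/
lemma eq_liftP (G : Cᵒᵖ ⥤ AddCommGrpCat.{u}) {U : C} (η : ZP U ⟶ G) :
    η = liftP G ((η.app (op U)).hom (FreeAbelianGroup.of (𝟙 U))) := by
  ext V : 2
  apply AddCommGrpCat.hom_ext
  apply FreeAbelianGroup.lift_ext
  intro h
  change (η.app V).hom (FreeAbelianGroup.of h) =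
    FreeAbelianGroup.lift _ (FreeAbelianGroup.of h)
  rw [FreeAbelianGroup.lift_apply_of]
  have hn := congrArg (fun φ => φ.hom (FreeAbelianGroup.of (𝟙 U))) (η.naturality h.op)
  change (η.app V).hom (FreeAbelianGroup.map _ (FreeAbelianGroup.of (𝟙 U))) = _ at hn
  rw [FreeAbelianGroup.map_of_apply] at hn
  refine Eq.trans ?_ hn
  congr 2
  exact (Category.comp_id (Y := U) h).symm

lemma liftP_comp {G G' : Cᵒᵖ ⥤ AddCommGrpCat.{u}} (γ : G ⟶ G') {U : C} (s : G.obj (op U)) :
    liftP G s ≫ γ = liftP G' ((γ.app (op U)).hom s) := by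
  rw [eq_liftP G' (liftP G s ≫ γ)]
  congr 1
  change (γ.app (op U)).hom (((liftP G s).app (op U)).hom (FreeAbelianGroup.of (𝟙 U))) = _
  rw [liftP_app_one]

include hS in
theorem h1_iff [Injective S.X₂] (X : C) :
    Subsingleton (CohSite.HU S.X₁ 1 X) ↔ Function.Surjective (S.g.hom.app (op X)).hom := by
  rw [subsingleton_iff_forall_zero]
  let adj := sheafificationAdjunction J AddCommGrpCat.{u}
  constructor
  · intro h t
    let φ : ZU J X ⟶ S.X₃ := (adj.homEquiv (ZP X) S.X₃).symm (liftP S.X₃.obj t)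
    have h0 : (Ext.mk₀ φ).comp hS.extClass (rfl : 0 + 1 = 1) = 0 := h _
    obtain ⟨x₂, hx₂⟩ := Ext.covariant_sequence_exact₃ _ hS (Ext.mk₀ φ) rfl h0
    obtain ⟨ψ, rfl⟩ := (Ext.mk₀_bijective _ _).2 x₂
    rw [Ext.mk₀_comp_mk₀] at hx₂
    have hψ : ψ ≫ S.g = φ := (Ext.mk₀_bijective _ _).1 hx₂
    have h2 : adj.homEquiv (ZP X) S.X₂ ψ ≫ S.g.hom = liftP S.X₃.obj t := by
      have := adj.homEquiv_naturality_right ψ S.g
      rw [hψ, Equiv.apply_symm_apply] at this
      exact this.symm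
    refine ⟨((adj.homEquiv (ZP X) S.X₂ ψ).app (op X)).hom (FreeAbelianGroup.of (𝟙 X)), ?_⟩
    have h3 := congrArg (fun η => (η.app (op X)).hom (FreeAbelianGroup.of (𝟙 X))) h2
    exact h3.trans (liftP_app_one _ t)
  · intro hsurj y
    have h0 : y.comp (Ext.mk₀ S.f) (add_zero 1) = 0 := Ext.eq_zero_of_injective _
    obtain ⟨x, hx⟩ := Ext.covariant_sequence_exact₁ _ hS y h0 (rfl : 0 + 1 = 1)
    obtain ⟨φ, rfl⟩ := (Ext.mk₀_bijective _ _).2 x
    -- φ corresponds to a section t of X₃ over X, which lifts to s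
    obtain ⟨s, hs⟩ := hsurj (((adj.homEquiv (ZP X) S.X₃ φ).app (op X)).hom
      (FreeAbelianGroup.of (𝟙 X)))
    let ψ : ZU J X ⟶ S.X₂ := (adj.homEquiv (ZP X) S.X₂).symm (liftP S.X₂.obj s)
    have hψ : ψ ≫ S.g = φ := by
      apply (adj.homEquiv (ZP X) S.X₃).injective
      rw [adj.homEquiv_naturality_right, Equiv.apply_symm_apply]
      change liftP S.X₂.obj s ≫ S.g.hom = _
      rw [liftP_comp, hs]
      exact (eq_liftP _ _).symm
    rw [← hx, ← hψ, ← Ext.mk₀_comp_mk₀, Ext.comp_assoc_of_second_deg_zero,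
      hS.comp_extClass, Ext.comp_zero]

end Groth.Agent.Lib.Helper15.CohShift
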