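import Mathlib.AlgebraicTopology.AlternatingFaceMapComplex
import Mathlib.AlgebraicTopology.SimplicialObject.Basic
import Mathlib.Algebra.Homology.ShortComplex.HomologicalComplex
import Mathlib.CategoryTheory.Abelian.Refinements

/-!
# Décalage of cosimplicial objects and acyclicity

`decFunctor : SimplexCategory ⥤ SimplexCategory` is `[n] ↦ [n+1]` (adding an initial vertex).
For a cosimplicial object `X`, `Dec X = decFunctor ⋙ X` receives a (levelwise split mono) map from
`X`, and the alternating coface map complex of `Dec X` is exact in positive degrees.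
-/

universe v u

namespace Groth.Agent.Lib.Helper15.CosimpDec

open CategoryTheory CategoryTheory.Limits Simplicial

/-- adding an initial vertex to a monotone map -/
def decMap {n m : ℕ} (f : Fin (n + 1) →o Fin (m + 1)) : Fin (n + 2) →o Fin (m + 2) where
  toFun := Fin.cases 0 (fun i => (f i).succ)
  monotone' := by
    intro a b hab
    induction a using Fin.cases with
    | zero => exact Fin.zero_le _
    | succ a =>
      induction b using Fin.cases with
      | zero => exact absurd hab (by simp [Fin.succ_ne_zero])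
      | succ b =>
        simp only [Fin.cases_succ]
        exact Fin.succ_le_succ_iff.2 (f.monotone (Fin.succ_le_succ_iff.1 hab))

@[simp] lemma decMap_zero {n m : ℕ} (f : Fin (n + 1) →o Fin (m + 1)) : decMap f 0 = 0 := rfl

@[simp] lemma decMap_succ {n m : ℕ} (f : Fin (n + 1) →o Fin (m + 1)) (i : Fin (n + 1)) :
    decMap f i.succ = (f i).succ := rfl

/-- The décalage functor `[n] ↦ [n+1]`. -/
def decFunctor : SimplexCategory ⥤ SimplexCategory where
  obj x := SimplexCategory.mk (x.len + 1)
  map {x y} f := SimplexCategory.Hom.mk (decMap f.toOrderHom)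
  map_id x := by
    ext i
    induction i using Fin.cases with
    | zero => rfl
    | succ i => rfl
  map_comp f g := by
    ext i
    induction i using Fin.cases with
    | zero => rfl
    | succ i => rfl

lemma decFunctor_map_δ {n : ℕ} (i : Fin (n + 2)) :
    decFunctor.map (SimplexCategory.δ i) = SimplexCategory.δ i.succ := by
  ext j
  induction j using Fin.cases with
  | zero =>
    refine congrArg Fin.val (?_ : (0 : Fin (n + 3)) = i.succ.succAbove 0)
    rw [Fin.succ_succAbove_zero]
  | succ j =>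
    exact congrArg Fin.val (Fin.succ_succAbove_succ i (show Fin (n + 1) from j)).symm

/-- The natural transformation `[n] ⟶ [n+1]` given by the `0`-th coface. -/
def decUnit : 𝟭 SimplexCategory ⟶ decFunctor where
  app x := (SimplexCategory.δ (0 : Fin (x.len + 2)) :
    SimplexCategory.mk x.len ⟶ SimplexCategory.mk (x.len + 1))
  naturality x y f := by
    ext i
    refine congrArg Fin.val (?_ : (0 : Fin (y.len + 2)).succAbove (f.toOrderHom i) =
      decMap f.toOrderHom ((0 : Fin (x.len + 2)).succAbove i))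
    rw [Fin.succAbove_zero, Fin.succAbove_zero]
    rfl

variable {𝒜 : Type u} [Category.{v} 𝒜]

/-- The décalage of a cosimplicial object. -/
abbrev Dec (X : CosimplicialObject 𝒜) : CosimplicialObject 𝒜 := decFunctor ⋙ X

/-- The canonical morphism `X ⟶ Dec X`. -/
def toDec (X : CosimplicialObject 𝒜) : X ⟶ Dec X where
  app x := X.map (decUnit.app x)
  naturality x y f := by
    dsimp [Dec]
    rw [← X.map_comp, ← X.map_comp]
    exact congrArg X.map (decUnit.naturality f)

lemma toDec_app_mk (X : CosimplicialObject 𝒜) (n : ℕ) :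
    (toDec X).app (SimplexCategory.mk n) = X.δ 0 := rfl

/-- `toDec` is functorial. -/
lemma toDec_naturality {X Y : CosimplicialObject 𝒜} (φ : X ⟶ Y) :
    φ ≫ toDec Y = toDec X ≫ Functor.whiskerLeft decFunctor φ := by
  ext x
  exact (φ.naturality _).symm

instance (X : CosimplicialObject 𝒜) (x : SimplexCategory) : IsSplitMono ((toDec X).app x) :=
  ⟨⟨⟨X.σ (0 : Fin (x.len + 1)), by
    show X.δ (0 : Fin (x.len + 2)) ≫ X.σ 0 = 𝟙 _
    exact X.δ_comp_σ_self (i := (0 : Fin (x.len + 1)))⟩⟩⟩

lemma Dec_δ (X : CosimplicialObject 𝒜) {n : ℕ} (i : Fin (n + 2)) :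
    (Dec X).δ i = X.δ i.succ := by
  show X.map (decFunctor.map (SimplexCategory.δ i)) = X.map (SimplexCategory.δ i.succ)
  exact congrArg X.map (decFunctor_map_δ i)

section Preadditive

variable [Preadditive 𝒜] (X : CosimplicialObject 𝒜)

open AlgebraicTopology

lemma contraction' (p : ℕ) :
    (∑ i : Fin (p + 3), (-1 : ℤ) ^ (i : ℕ) • X.δ i.succ) ≫ X.σ (0 : Fin (p + 3)) +
      X.σ (0 : Fin (p + 2)) ≫ (∑ i : Fin (p + 2), (-1 : ℤ) ^ (i : ℕ) • X.δ i.succ) =
      𝟙 (X.obj (SimplexCategory.mk (p + 2))) := by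
  rw [Preadditive.sum_comp, Preadditive.comp_sum, Fin.sum_univ_succ]
  have h0 : ((-1 : ℤ) ^ ((0 : Fin (p + 3)) : ℕ) • X.δ (0 : Fin (p + 3)).succ) ≫
      X.σ (0 : Fin (p + 3)) = 𝟙 _ := by
    simp only [Fin.val_zero, pow_zero, one_smul]
    exact X.δ_comp_σ_succ (i := (0 : Fin (p + 3)))
  rw [h0, add_assoc, ← Finset.sum_add_distrib]
  have : ∀ k : Fin (p + 2), ((-1 : ℤ) ^ (k.succ : ℕ) • X.δ k.succ.succ) ≫ X.σ (0 : Fin (p + 3)) +
      X.σ (0 : Fin (p + 2)) ≫ ((-1 : ℤ) ^ (k : ℕ) • X.δ k.succ) = 0 := by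
    intro k
    have hk : X.δ k.succ.succ ≫ X.σ (Fin.castSucc (0 : Fin (p + 2))) =
        X.σ (0 : Fin (p + 2)) ≫ X.δ k.succ :=
      X.δ_comp_σ_of_gt (i := k.succ) (j := (0 : Fin (p + 2))) (by
        rw [Fin.castSucc_zero]
        exact Fin.succ_pos k)
    rw [Fin.castSucc_zero] at hk
    rw [Preadditive.zsmul_comp, Preadditive.comp_zsmul, hk, Fin.val_succ, pow_succ]
    simp
  rw [Finset.sum_congr rfl (fun k _ => this k), Finset.sum_const_zero, add_zero]

lemma objD_Dec (n : ℕ) :
    AlternatingCofaceMapComplex.objD (Dec X) n = ∑ i : Fin (n + 2), (-1 : ℤ) ^ (i : ℕ) • X.δ i.succ := by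
  dsimp only [AlternatingCofaceMapComplex.objD]
  exact Finset.sum_congr rfl (fun i _ => by rw [Dec_δ]; rfl)

end Preadditive

section Abelian

variable [Abelian 𝒜]

open AlgebraicTopology

lemma exactAt_of_contraction (K : CochainComplex 𝒜 ℕ) (p : ℕ) (h : K.X (p + 2) ⟶ K.X (p + 1))
    (h' : K.X (p + 1) ⟶ K.X p)
    (H : K.d (p + 1) (p + 2) ≫ h + h' ≫ K.d p (p + 1) = 𝟙 _) : K.ExactAt (p + 1) := by
  rw [HomologicalComplex.exactAt_iff' K p (p + 1) (p + 2) (by simp) (by simp)]
  rw [ShortComplex.exact_iff_exact_up_to_refinements]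
  intro A x₂ hx₂
  let y : A ⟶ K.X (p + 1) := x₂
  have hy : y ≫ K.d (p + 1) (p + 2) = 0 := hx₂
  refine ⟨A, 𝟙 A, inferInstance, y ≫ h', ?_⟩
  show 𝟙 A ≫ y = (y ≫ h') ≫ K.d p (p + 1)
  rw [Category.id_comp, Category.assoc]
  calc y = y ≫ 𝟙 _ := (Category.comp_id _).symm
    _ = y ≫ (K.d (p + 1) (p + 2) ≫ h + h' ≫ K.d p (p + 1)) := by rw [H]
    _ = _ := by rw [Preadditive.comp_add, ← Category.assoc, hy, zero_comp, zero_add]

lemma exactAt_Dec (X : CosimplicialObject 𝒜) (p : ℕ) :
    ((alternatingCofaceMapComplex 𝒜).obj (Dec X)).ExactAt (p + 1) := by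
  refine exactAt_of_contraction _ p (X.σ (0 : Fin (p + 3))) (X.σ (0 : Fin (p + 2))) ?_
  have h1 : ((alternatingCofaceMapComplex 𝒜).obj (Dec X)).d (p + 1) (p + 2) =
      ∑ i : Fin (p + 3), (-1 : ℤ) ^ (i : ℕ) • X.δ i.succ := by
    rw [← objD_Dec]
    exact CochainComplex.of_d (fun n => (Dec X).obj (SimplexCategory.mk n))
      (AlternatingCofaceMapComplex.objD (Dec X)) (p + 1)
  have h2 : ((alternatingCofaceMapComplex 𝒜).obj (Dec X)).d p (p + 1) =
      ∑ i : Fin (p + 2), (-1 : ℤ) ^ (i : ℕ) • X.δ i.succ := by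
    rw [← objD_Dec]
    exact CochainComplex.of_d (fun n => (Dec X).obj (SimplexCategory.mk n))
      (AlternatingCofaceMapComplex.objD (Dec X)) p
  rw [h1, h2]
  exact contraction' X p

lemma isZero_homology_Dec (X : CosimplicialObject 𝒜) (p : ℕ) :
    IsZero (((alternatingCofaceMapComplex 𝒜).obj (Dec X)).homology (p + 1)) :=
  (exactAt_Dec X p).isZero_homology

/-- If `X ⟶ Dec X` has a retraction (e.g. if `X` is injective), the alternating coface map
complex of `X` is exact in positive degrees. -/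
lemma isZero_homology_of_retraction (X : CosimplicialObject 𝒜) (r : Dec X ⟶ X)
    (hr : toDec X ≫ r = 𝟙 X) (p : ℕ) :
    IsZero (((alternatingCofaceMapComplex 𝒜).obj X).homology (p + 1)) := by
  rw [IsZero.iff_id_eq_zero]
  have h1 : HomologicalComplex.homologyMap ((alternatingCofaceMapComplex 𝒜).map (toDec X)) (p + 1) ≫
      HomologicalComplex.homologyMap ((alternatingCofaceMapComplex 𝒜).map r) (p + 1) = 𝟙 _ := by
    rw [← HomologicalComplex.homologyMap_comp, ← CategoryTheory.Functor.map_comp, hr,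
      CategoryTheory.Functor.map_id, HomologicalComplex.homologyMap_id]
  rw [← h1, (isZero_homology_Dec X p).eq_of_tgt
    (HomologicalComplex.homologyMap ((alternatingCofaceMapComplex 𝒜).map (toDec X)) (p + 1)) 0,
    zero_comp]

instance (X : CosimplicialObject 𝒜) : Mono (toDec X) := by
  have : ∀ x, Mono ((toDec X).app x) := fun x => inferInstance
  exact NatTrans.mono_of_mono_app _

lemma isZero_homology_of_injective (X : CosimplicialObject 𝒜) [Injective X] (p : ℕ) :
    IsZero (((alternatingCofaceMapComplex 𝒜).obj X).homology (p + 1)) :=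
  isZero_homology_of_retraction X (Injective.factorThru (𝟙 X) (toDec X))
    (Injective.comp_factorThru _ _) p

end Abelian

end Groth.Agent.Lib.Helper15.CosimpDec
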