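import Groth.Agent.Lib.Helper15.CosimpLim
import Groth.Agent.S6773
import Groth.Agent.S16465
import Groth.Agent.Lib.Helper83.DerivedLES
import Mathlib.Algebra.Homology.HomologySequenceLemmas
import Mathlib.CategoryTheory.Abelian.FunctorCategory
import Mathlib.CategoryTheory.Abelian.RightDerived

/-!
# The cohomology of the alternating coface map complex as a universal δ-functor;
`Rⁿ lim_Δ X ≅ Hⁿ(s X)`.
-/

universe v u

namespace Groth.Agent.Lib.Helper15.CosimpDelta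

open CategoryTheory CategoryTheory.Limits Simplicial AlgebraicTopology
open Groth.Agent.Lib.Helper15.CosimpDec Groth.Agent.Lib.Helper15.CosimpLim

variable {𝒜 : Type u} [Category.{v} 𝒜] [Abelian 𝒜]

/-- The alternating coface map complex functor, on the functor category. -/
noncomputable def sFun : (SimplexCategory ⥤ 𝒜) ⥤ CochainComplex 𝒜 ℕ :=
  alternatingCofaceMapComplex 𝒜

instance : (sFun (𝒜 := 𝒜)).Additive where
  map_add {X Y} {f g} := by
    ext n
    rfl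

/-- A short exact sequence of cosimplicial objects gives a short exact sequence of complexes. -/
theorem s_shortExact (S : ShortComplex (SimplexCategory ⥤ 𝒜)) (hS : S.ShortExact) :
    (S.map (sFun (𝒜 := 𝒜))).ShortExact := by
  apply HomologicalComplex.shortExact_of_degreewise_shortExact
  intro n
  exact hS.map_of_exact ((evaluation SimplexCategory 𝒜).obj ⦋n⦌)

/-- `X ↦ Hⁿ(s X)` as a cohomological δ-functor. -/
noncomputable def T : DeltaF.CohDeltaFunctor (SimplexCategory ⥤ 𝒜) 𝒜 ℕ where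
  F n := sFun ⋙ HomologicalComplex.homologyFunctor 𝒜 _ n
  additive n := inferInstance
  δ S hS n₀ n₁ h := (s_shortExact S hS).δ n₀ n₁ h
  δ_natural {S S'} hS hS' φ n₀ n₁ h :=
    (HomologicalComplex.HomologySequence.δ_naturality ((sFun (𝒜 := 𝒜)).mapShortComplex.map φ)
      (s_shortExact S hS) (s_shortExact S' hS') n₀ n₁ h).symm
  exact₂ S hS n := (s_shortExact S hS).homology_exact₂ n
  comp_δ S hS n₀ n₁ h := (s_shortExact S hS).comp_δ n₀ n₁ h
  exact₃ S hS n₀ n₁ h := (s_shortExact S hS).homology_exact₃ n₀ n₁ h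
  δ_comp S hS n₀ n₁ h := (s_shortExact S hS).δ_comp n₀ n₁ h
  exact₁ S hS n₀ n₁ h := (s_shortExact S hS).homology_exact₁ n₀ n₁ h

theorem T_isEffaceable [EnoughInjectives (SimplexCategory ⥤ 𝒜)] : (T (𝒜 := 𝒜)).IsEffaceable := by
  intro n X
  refine ⟨Injective.under X, Injective.ι X, inferInstance, ?_⟩
  let I : SimplexCategory ⥤ 𝒜 := Injective.under X
  have hI : Injective I := inferInstance
  have hz : IsZero (((T (𝒜 := 𝒜)).F (n + 1)).obj I) :=
    @isZero_homology_of_injective 𝒜 _ _ I hI n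
  exact hz.eq_of_tgt _ _

theorem T_isUniversal [EnoughInjectives (SimplexCategory ⥤ 𝒜)] : (T (𝒜 := 𝒜)).IsUniversal :=
  Groth.Agent.S6773.result _ T_isEffaceable

section Generic

variable {A : Type*} [Category A] [Abelian A] {B : Type*} [Category B] [Abelian B]

/-- Two universal δ-functors which agree in degree `0` agree (as functors) in all degrees.
(Copied from `Groth.Agent.Lib.Lead.CechDelta`.) -/
theorem nonempty_iso_of_isUniversal (T T' : DeltaF.CohDeltaFunctor A B ℕ) (hT : T.IsUniversal)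
    (hT' : T'.IsUniversal) (e : T.F 0 ≅ T'.F 0) (n : ℕ) : Nonempty (T.F n ≅ T'.F n) := by
  obtain ⟨τ, hτ, -⟩ := hT T' e.hom
  obtain ⟨τ', hτ', -⟩ := hT' T e.inv
  obtain ⟨σ, -, hσ⟩ := hT T (𝟙 _)
  obtain ⟨σ', -, hσ'⟩ := hT' T' (𝟙 _)
  have h1 : τ ≫ τ' = 𝟙 T := by
    rw [hσ (τ ≫ τ') (by
        change (τ ≫ τ').app 0 = 𝟙 _
        rw [DeltaF.CohDeltaFunctor.comp_app, hτ, hτ', e.hom_inv_id]),
      hσ (𝟙 T) (DeltaF.CohDeltaFunctor.id_app T 0)]
  have h2 : τ' ≫ τ = 𝟙 T' := by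
    rw [hσ' (τ' ≫ τ) (by
        change (τ' ≫ τ).app 0 = 𝟙 _
        rw [DeltaF.CohDeltaFunctor.comp_app, hτ, hτ', e.inv_hom_id]),
      hσ' (𝟙 T') (DeltaF.CohDeltaFunctor.id_app T' 0)]
  refine ⟨⟨τ.app n, τ'.app n, ?_, ?_⟩⟩
  · rw [← DeltaF.CohDeltaFunctor.comp_app, h1, DeltaF.CohDeltaFunctor.id_app]
  · rw [← DeltaF.CohDeltaFunctor.comp_app, h2, DeltaF.CohDeltaFunctor.id_app]

end Generic

/-- `Rⁿ lim_Δ X ≅ Hⁿ(s X)`. -/
theorem nonempty_rightDerived_lim_iso [HasLimitsOfShape SimplexCategory 𝒜]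
    [EnoughInjectives (SimplexCategory ⥤ 𝒜)]
    [(lim : (SimplexCategory ⥤ 𝒜) ⥤ 𝒜).Additive] (X : SimplexCategory ⥤ 𝒜) (n : ℕ) :
    Nonempty (((lim : (SimplexCategory ⥤ 𝒜) ⥤ 𝒜).rightDerived n).obj X ≅
      ((alternatingCofaceMapComplex 𝒜).obj X).homology n) := by
  obtain ⟨e⟩ := nonempty_iso_of_isUniversal (T (𝒜 := 𝒜))
    (Groth.Agent.Lib.Helper83.derivedLES (lim : (SimplexCategory ⥤ 𝒜) ⥤ 𝒜)).toCohDeltaFunctor
    T_isUniversal (Groth.Agent.S16465.result _ _)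
    (H0IsoLim ≪≫ (Functor.rightDerivedZeroIsoSelf (lim : (SimplexCategory ⥤ 𝒜) ⥤ 𝒜)).symm) n
  exact ⟨(e.app X).symm⟩

end Groth.Agent.Lib.Helper15.CosimpDelta
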