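import Groth.Agent.Lib.Helper15.CosimpDec
import Mathlib.CategoryTheory.Limits.HasLimits

/-!
# `H⁰` of the alternating coface map complex is the limit over the simplex category
-/

universe v u

set_option backward.isDefEq.respectTransparency false

namespace Groth.Agent.Lib.Helper15.CosimpLim

open CategoryTheory CategoryTheory.Limits Simplicial AlgebraicTopology

variable {𝒜 : Type u} [Category.{v} 𝒜]

section General

variable (X : CosimplicialObject 𝒜)

lemma δ_one_mkOfLe {n : ℕ} (i j : Fin (n + 1)) (h : i ≤ j) :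
    SimplexCategory.δ (1 : Fin 2) ≫ SimplexCategory.mkOfLe i j h =
      SimplexCategory.const ⦋0⦌ ⦋n⦌ i := by
  rw [SimplexCategory.eq_const_of_zero (SimplexCategory.δ (1 : Fin 2) ≫ SimplexCategory.mkOfLe i j h)]
  rfl

lemma δ_zero_mkOfLe {n : ℕ} (i j : Fin (n + 1)) (h : i ≤ j) :
    SimplexCategory.δ (0 : Fin 2) ≫ SimplexCategory.mkOfLe i j h =
      SimplexCategory.const ⦋0⦌ ⦋n⦌ j := by
  rw [SimplexCategory.eq_const_of_zero (SimplexCategory.δ (0 : Fin 2) ≫ SimplexCategory.mkOfLe i j h)]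
  rfl

variable {X}

lemma cycle_const_le {Z : 𝒜} (z : Z ⟶ X.obj ⦋0⦌) (hz : z ≫ X.δ 0 = z ≫ X.δ 1) {n : ℕ}
    (i j : Fin (n + 1)) (h : i ≤ j) :
    z ≫ X.map (SimplexCategory.const ⦋0⦌ ⦋n⦌ i) = z ≫ X.map (SimplexCategory.const ⦋0⦌ ⦋n⦌ j) := by
  rw [← δ_one_mkOfLe i j h, ← δ_zero_mkOfLe i j h, X.map_comp, X.map_comp, ← Category.assoc,
    ← Category.assoc]
  congr 1
  exact hz.symm

lemma cycle_const {Z : 𝒜} (z : Z ⟶ X.obj ⦋0⦌) (hz : z ≫ X.δ 0 = z ≫ X.δ 1)
    (y : SimplexCategory) (i j : Fin (y.len + 1)) :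
    z ≫ X.map (SimplexCategory.const ⦋0⦌ y i) = z ≫ X.map (SimplexCategory.const ⦋0⦌ y j) := by
  rcases le_total i j with h | h
  · exact cycle_const_le z hz i j h
  · exact (cycle_const_le z hz j i h).symm

/-- The cone over `X` attached to a `0`-cocycle. -/
def coneOfCycle {Z : 𝒜} (z : Z ⟶ X.obj ⦋0⦌) (hz : z ≫ X.δ 0 = z ≫ X.δ 1) : Cone X where
  pt := Z
  π :=
    { app := fun y => z ≫ X.map (SimplexCategory.const ⦋0⦌ y 0)
      naturality := fun y y' f => by
        dsimp
        rw [Category.id_comp, Category.assoc, ← X.map_comp, SimplexCategory.const_comp]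
        exact cycle_const z hz y' _ _ }

end General

section Abelian

variable [Abelian 𝒜] [HasLimitsOfShape SimplexCategory 𝒜]

/-- the alternating coface map complex -/
noncomputable abbrev sC (X : CosimplicialObject 𝒜) : CochainComplex 𝒜 ℕ :=
  (alternatingCofaceMapComplex 𝒜).obj X

omit [HasLimitsOfShape SimplexCategory 𝒜] in
lemma sC_d_zero (X : CosimplicialObject 𝒜) : (sC X).d 0 1 = X.δ 0 - X.δ 1 := by
  have : (sC X).d 0 1 = AlternatingCofaceMapComplex.objD X 0 :=
    CochainComplex.of_d (fun n => X.obj ⦋n⦌) (AlternatingCofaceMapComplex.objD X) 0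
  rw [this]
  simp [AlternatingCofaceMapComplex.objD, Fin.sum_univ_two, ← sub_eq_add_neg]

lemma iCycles_cond (X : CosimplicialObject 𝒜) :
    (sC X).iCycles 0 ≫ X.δ 0 = (sC X).iCycles 0 ≫ X.δ 1 := by
  have := (sC X).iCycles_d 0 1
  rw [sC_d_zero, Preadditive.comp_sub, sub_eq_zero] at this
  exact this

/-- cycles to limit -/
noncomputable def cyclesToLim (X : CosimplicialObject 𝒜) : (sC X).cycles 0 ⟶ limit X :=
  limit.lift X (coneOfCycle ((sC X).iCycles 0) (iCycles_cond X))

@[reassoc]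
lemma cyclesToLim_π (X : CosimplicialObject 𝒜) (y : SimplexCategory) :
    cyclesToLim X ≫ limit.π X y =
      (sC X).iCycles 0 ≫ X.map (SimplexCategory.const ⦋0⦌ y 0) :=
  limit.lift_π _ _

lemma limit_π_d (X : CosimplicialObject 𝒜) : limit.π X ⦋0⦌ ≫ (sC X).d 0 1 = 0 := by
  rw [sC_d_zero, Preadditive.comp_sub, sub_eq_zero]
  exact (limit.w X (SimplexCategory.δ (0 : Fin 2))).trans (limit.w X (SimplexCategory.δ (1 : Fin 2))).symm

/-- limit to cycles -/
noncomputable def limToCycles (X : CosimplicialObject 𝒜) : limit X ⟶ (sC X).cycles 0 :=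
  (sC X).liftCycles (limit.π X ⦋0⦌) 1 (by simp) (limit_π_d X)

@[reassoc]
lemma limToCycles_i (X : CosimplicialObject 𝒜) :
    limToCycles X ≫ (sC X).iCycles 0 = limit.π X ⦋0⦌ :=
  (sC X).liftCycles_i _ _ _ _

/-- `Z⁰(sX) ≅ lim X`. -/
noncomputable def cyclesIsoLim (X : CosimplicialObject 𝒜) : (sC X).cycles 0 ≅ limit X where
  hom := cyclesToLim X
  inv := limToCycles X
  hom_inv_id := by
    rw [← cancel_mono ((sC X).iCycles 0), Category.assoc, limToCycles_i, cyclesToLim_π,
      Category.id_comp, SimplexCategory.const_eq_id, X.map_id]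
    exact Category.comp_id _
  inv_hom_id := by
    apply limit.hom_ext
    intro y
    rw [Category.assoc, cyclesToLim_π, limToCycles_i_assoc, Category.id_comp]
    exact limit.w X _

lemma cyclesToLim_naturality {X Y : CosimplicialObject 𝒜} (φ : X ⟶ Y) :
    HomologicalComplex.cyclesMap ((alternatingCofaceMapComplex 𝒜).map φ) 0 ≫ cyclesToLim Y =
      cyclesToLim X ≫ limMap φ := by
  apply limit.hom_ext
  intro y
  rw [Category.assoc, cyclesToLim_π, Category.assoc, limMap_π, cyclesToLim_π_assoc,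
    HomologicalComplex.cyclesMap_i_assoc, φ.naturality]
  rfl

/-- `H⁰(s -) ≅ lim` as functors. -/
noncomputable def H0IsoLim :
    (alternatingCofaceMapComplex 𝒜 ⋙ HomologicalComplex.homologyFunctor 𝒜 _ 0) ≅
      (lim : (SimplexCategory ⥤ 𝒜) ⥤ 𝒜) :=
  NatIso.ofComponents (fun X => (sC X).isoHomologyπ₀.symm ≪≫ cyclesIsoLim X) (by
    intro X Y φ
    show HomologicalComplex.homologyMap ((alternatingCofaceMapComplex 𝒜).map φ) 0 ≫
        ((sC Y).isoHomologyπ₀.inv ≫ cyclesToLim Y) =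
      ((sC X).isoHomologyπ₀.inv ≫ cyclesToLim X) ≫ limMap φ
    have h1 := CochainComplex.isoHomologyπ₀_inv_naturality
      ((alternatingCofaceMapComplex 𝒜).map φ)
    have h2 := cyclesToLim_naturality φ
    rw [← Category.assoc, h1, Category.assoc, h2, Category.assoc])

end Abelian

end Groth.Agent.Lib.Helper15.CosimpLim
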