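import Mathlib
import Groth.Agent.Lib.Helper15.CechCosk

set_option autoImplicit false
universe v u
open CategoryTheory CategoryTheory.Limits Opposite Simplicial

namespace Groth.Agent.Lib.Helper15.CoskZero

open Groth.Agent.Lib.Helper15.CechCosk

variable {𝒟 : Type u} [Category.{v} 𝒟] [HasFiniteProducts 𝒟]
  (K : SimplicialObject 𝒟)

/-- the canonical map to the Cech nerve of `K_0` -/
noncomputable abbrev L : K ⟶ E (K _⦋0⦌) := lift K (𝟙 (K _⦋0⦌))

lemma const_zero_zero : SimplexCategory.const ⦋0⦌ ⦋0⦌ 0 = 𝟙 ⦋0⦌ := by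
  ext i
  fin_cases i
  rfl

instance isIso_L_zero : IsIso ((L K).app (op ⦋0⦌)) := by
  refine ⟨pr (K _⦋0⦌) ⦋0⦌ 0, ?_, ?_⟩
  · rw [lift_app_pr, const_zero_zero]
    simp
  · apply hom_ext
    intro i
    have hi : i = 0 := by
      have : ∀ j : Fin 1, j = 0 := fun j => Subsingleton.elim _ _
      exact this i
    subst hi
    rw [Category.assoc, lift_app_pr, const_zero_zero]
    simp

instance isIso_trunc_L : IsIso ((SimplicialObject.truncation 0).map (L K)) := by
  have : ∀ m, IsIso (((SimplicialObject.truncation 0).map (L K)).app m) := by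
    intro m
    induction m using Opposite.rec with | _ m => ?_
    obtain ⟨m, hm⟩ := m
    have h0 : m = ⦋0⦌ := by
      ext
      have : m.len ≤ 0 := hm
      simpa using this
    subst h0
    exact isIso_L_zero K
  exact NatIso.isIso_of_isIso_app _

variable [∀ (n : ℕ) (F : (SimplexCategory.Truncated n)ᵒᵖ ⥤ 𝒟),
    (SimplexCategory.Truncated.inclusion n).op.HasRightKanExtension F]

theorem exists_iso_cosk_zero :
    ∃ e : (SimplicialObject.cosk 0).obj K ≅ E (K _⦋0⦌),
      (SimplicialObject.coskAdj 0).unit.app K ≫ e.hom = L K := by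
  have : (E (K _⦋0⦌)).IsCoskeletal 0 := isCoskeletal (K _⦋0⦌) 0
  have : IsIso ((SimplicialObject.cosk 0).map (L K)) := by
    change IsIso ((SimplicialObject.Truncated.cosk 0).map ((SimplicialObject.truncation 0).map (L K)))
    infer_instance
  refine ⟨asIso ((SimplicialObject.cosk 0).map (L K)) ≪≫
    (asIso ((SimplicialObject.coskAdj 0).unit.app (E (K _⦋0⦌)))).symm, ?_⟩
  have nat := (SimplicialObject.coskAdj 0).unit.naturality (L K)
  simp only [Iso.trans_hom, asIso_hom, Iso.symm_hom, asIso_inv]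
  rw [← Category.assoc, IsIso.comp_inv_eq]
  exact nat.symm

end Groth.Agent.Lib.Helper15.CoskZero
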