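import Mathlib

/-!
# Morphisms out of an extension of a homological complex
-/

set_option autoImplicit false

namespace Groth.Agent.Lib.Helper15.DescExtend

open CategoryTheory CategoryTheory.Limits HomologicalComplex

variable {ι ι' : Type*} {c : ComplexShape ι} {c' : ComplexShape ι'} (e : c.Embedding c')
  {C : Type*} [Category C] [HasZeroMorphisms C] [HasZeroObject C]
  (L : HomologicalComplex C c) (K : HomologicalComplex C c')
  (ψ : ∀ i, L.X i ⟶ K.X (e.f i))

open scoped Classical in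
/-- components -/
noncomputable def f (i' : ι') : (L.extend e).X i' ⟶ K.X i' :=
  if hi' : ∃ i, e.f i = i' then
    (L.extendXIso e hi'.choose_spec).hom ≫ ψ hi'.choose ≫ (K.XIsoOfEq hi'.choose_spec).hom
  else 0

lemma aux {i' : ι'} {k i : ι} (hk : e.f k = i') (hi : e.f i = i') :
    (L.extendXIso e hk).hom ≫ ψ k ≫ (K.XIsoOfEq hk).hom =
      (L.extendXIso e hi).hom ≫ ψ i ≫ (K.XIsoOfEq hi).hom := by
  obtain rfl : k = i := e.injective_f (hk.trans hi.symm)
  rfl

lemma f_eq {i' : ι'} {i : ι} (hi : e.f i = i') :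
    f e L K ψ i' = (L.extendXIso e hi).hom ≫ ψ i ≫ (K.XIsoOfEq hi).hom := by
  have hi' : ∃ k, e.f k = i' := ⟨i, hi⟩
  unfold f
  rw [dif_pos hi']
  exact aux e L K ψ _ _

variable (hψ : ∀ i j, c.Rel i j → ψ i ≫ K.d (e.f i) (e.f j) = L.d i j ≫ ψ j)
  (hb : ∀ (i : ι) (j' : ι'), c'.Rel (e.f i) j' → (∀ j, e.f j ≠ j') → ψ i ≫ K.d (e.f i) j' = 0)

include hψ hb in
lemma comm [e.IsRelIff] (i' j' : ι') (hij' : c'.Rel i' j') :
    f e L K ψ i' ≫ K.d i' j' = (L.extend e).d i' j' ≫ f e L K ψ j' := by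
  by_cases hi' : ∃ i, e.f i = i'
  · obtain ⟨i, rfl⟩ := hi'
    rw [f_eq e L K ψ rfl]
    by_cases hj' : ∃ j, e.f j = j'
    · obtain ⟨j, rfl⟩ := hj'
      rw [f_eq e L K ψ rfl, L.extend_d_eq e rfl rfl]
      have hij : c.Rel i j := (e.rel_iff i j).1 hij'
      simp [XIsoOfEq, hψ i j hij]
    · have h0 : (L.extend e).d (e.f i) j' = 0 :=
        (L.isZero_extend_X e j' (by simpa using hj')).eq_of_tgt _ _
      rw [h0, zero_comp]
      simp [XIsoOfEq, hb i j' hij' (by simpa using hj')]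
  · have hz : IsZero ((L.extend e).X i') := L.isZero_extend_X e i' (by simpa using hi')
    exact hz.eq_of_src _ _

/-- The morphism `L.extend e ⟶ K` defined by a family `ψ`. -/
noncomputable def descExtend [e.IsRelIff] : L.extend e ⟶ K where
  f i' := f e L K ψ i'
  comm' i' j' hij' := comm e L K ψ hψ hb i' j' hij'

lemma descExtend_f [e.IsRelIff] {i' : ι'} {i : ι} (hi : e.f i = i') :
    (descExtend e L K ψ hψ hb).f i' = (L.extendXIso e hi).hom ≫ ψ i ≫ (K.XIsoOfEq hi).hom :=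
  f_eq e L K ψ hi

end Groth.Agent.Lib.Helper15.DescExtend
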