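import Groth.Prelude.Def_EtMod2
import Groth.Prelude.Def_ARSys
import Groth.Agent.Lib.Helper6.EtPullExact
import Groth.Agent.Lib.Helper43.EtConstrMod
import Groth.Agent.Lib.Helper15.ExactAR
import Mathlib

/-!
# Inverse image of étale sheaves of `Λ`-modules: exact, `Λ`-linear; transport of AR-adic systems
(helper15)
-/

set_option autoImplicit false
universe u

namespace Groth.Agent.Lib.Helper15.EtModFun

open CategoryTheory CategoryTheory.Limits Opposite AlgebraicGeometry ARSys
open Groth.Agent.Lib.Helper15.ExactAR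

variable (Λ : Type (u + 1)) [CommRing Λ] {X Y : Scheme.{u}} (f : X ⟶ Y)

instance push_linear : (EtModW.push Λ f).Linear Λ where
  map_smul φ a := by
    ext U : 3
    rfl

instance pull_additive : (EtModW.pull Λ f).Additive :=
  (Groth.Agent.Lib.Helper43.EtConstrMod.pullPushAdj Λ f).left_adjoint_additive

instance pull_linear : (EtModW.pull Λ f).Linear Λ :=
  linear_of_adj (Groth.Agent.Lib.Helper43.EtConstrMod.pullPushAdj Λ f)

instance pull_preservesFiniteLimits : PreservesFiniteLimits (EtModW.pull Λ f) :=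
  Groth.Agent.Lib.Helper6.EtPullExact.preservesFiniteLimits_pullMod f Λ

instance pull_preservesFiniteColimits : PreservesFiniteColimits (EtModW.pull Λ f) :=
  have := (Groth.Agent.Lib.Helper43.EtConstrMod.pullPushAdj Λ f).leftAdjoint_preservesColimits
  inferInstance

variable {Λ}

theorem termKilled_pull (I : Ideal Λ) {F : PS (EtModW.Mod Λ Y)} (h : TermKilled I F) :
    TermKilled I (F ⋙ EtModW.pull Λ f) :=
  termKilled_comp (EtModW.pull Λ f) h

theorem isAdic_pull (I : Ideal Λ) {F : PS (EtModW.Mod Λ Y)} (h : IsAdic I F) :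
    IsAdic I (F ⋙ EtModW.pull Λ f) :=
  isAdic_comp_of_adj (Groth.Agent.Lib.Helper43.EtConstrMod.pullPushAdj Λ f) h

theorem isARIso_pull {F G : PS (EtModW.Mod Λ Y)} (v : F ⟶ G) (h : IsARIso v) :
    IsARIso (Functor.whiskerRight v (EtModW.pull Λ f)) :=
  isARIso_whiskerRight (EtModW.pull Λ f) v h

end Groth.Agent.Lib.Helper15.EtModFun
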