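import Groth.Prelude.Def_EtMod2
import Groth.Prelude.Def_ARSys
import Groth.Agent.Lib.Helper43.EtStalk
import Groth.Agent.Lib.Helper15.ExactAR
import Mathlib

/-!
# Stalks of étale sheaves of `Λ`-modules at geometric points: exact, `Λ`-linear, jointly conservative
(helper15)
-/

set_option autoImplicit false
universe u

namespace Groth.Agent.Lib.Helper15.EtModStalk

open CategoryTheory CategoryTheory.Limits Opposite AlgebraicGeometry ARSys
open Groth.Agent.Lib.Helper15.ExactAR
open scoped ZeroObject

variable (Λ : Type (u + 1)) [CommRing Λ] {X : Scheme.{u}}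

instance ab5Mod : AB5OfSize.{u, u} (ModuleCat.{u + 1} Λ) :=
  AB5OfSize_shrink.{u, u, u + 1, u + 1} (ModuleCat.{u + 1} Λ)

instance forgetPresFiltered :
    PreservesFilteredColimitsOfSize.{u, u} (forget (ModuleCat.{u + 1} Λ)) :=
  preservesFilteredColimitsOfSize_shrink.{u, u + 1, u, u + 1} _

instance hasLimitsMod : HasLimitsOfSize.{u, u} (ModuleCat.{u + 1} Λ) :=
  hasLimitsOfSizeShrink.{u, u, u + 1, u + 1} _

instance hasColimitsMod : HasColimitsOfSize.{u, u} (ModuleCat.{u + 1} Λ) :=
  hasColimitsOfSizeShrink.{u, u, u + 1, u + 1} _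

section

variable {Ω : Type u} [Field Ω] [IsSepClosed Ω] (s : Spec (CommRingCat.of Ω) ⟶ X)

instance stalk_preservesFiniteLimits : PreservesFiniteLimits (EtModW.stalk Λ s) :=
  inferInstanceAs (PreservesFiniteLimits
    ((Scheme.pointSmallEtale s).sheafFiber (A := ModuleCat.{u + 1} Λ)))

instance stalk_preservesFiniteColimits : PreservesFiniteColimits (EtModW.stalk Λ s) :=
  inferInstanceAs (PreservesFiniteColimits
    ((Scheme.pointSmallEtale s).sheafFiber (A := ModuleCat.{u + 1} Λ)))

instance stalk_additive : (EtModW.stalk Λ s).Additive :=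
  Functor.additive_of_preserves_binary_products _

instance stalk_linear : (EtModW.stalk Λ s).Linear Λ where
  map_smul {F G} φ a := by
    change (Scheme.pointSmallEtale s).presheafFiber.map (a • φ).hom =
      a • (Scheme.pointSmallEtale s).presheafFiber.map φ.hom
    apply (Scheme.pointSmallEtale s).presheafFiber_hom_ext
    intro U x
    rw [Linear.comp_smul, GrothendieckTopology.Point.toPresheafFiber_naturality,
      GrothendieckTopology.Point.toPresheafFiber_naturality]
    change (a • φ.hom.app (op U)) ≫ _ = _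
    rw [Linear.smul_comp]

end

variable {Λ}

theorem mono_of_stalks {F G : EtModW.Mod Λ X} (v : F ⟶ G)
    (h : ∀ (Ω : Type u) [Field Ω] [IsSepClosed Ω] (ξ : Spec (CommRingCat.of Ω) ⟶ X),
      Function.Injective ((EtModW.stalk Λ ξ).map v)) :
    Mono v := by
  have : Presheaf.IsLocallyInjective X.smallEtaleTopology v.hom :=
    Groth.Agent.H53.isLocallyInjective_of_points
      Groth.Agent.Lib.Helper43.EtStalk.detectsCoverings_geomPts v.hom (by
      rintro Φ ⟨Ω, _, _, ξ, rfl⟩
      exact h Ω ξ)
  exact Sheaf.mono_of_isLocallyInjective v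

theorem isZero_of_stalks (H : EtModW.Mod Λ X)
    (h : ∀ (Ω : Type u) [Field Ω] [IsSepClosed Ω] (ξ : Spec (CommRingCat.of Ω) ⟶ X),
      IsZero ((EtModW.stalk Λ ξ).obj H)) :
    IsZero H := by
  have : Mono (0 : H ⟶ 0) := mono_of_stalks _ (fun Ω _ _ ξ x y _ => by
    have := ModuleCat.subsingleton_of_isZero (h Ω ξ)
    exact Subsingleton.elim _ _)
  exact IsZero.of_mono (0 : H ⟶ 0) (isZero_zero _)

end Groth.Agent.Lib.Helper15.EtModStalk

namespace Groth.Agent.Lib.Helper15.EtModStalk

open CategoryTheory CategoryTheory.Limits Opposite ARSys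

section Generic

universe w v' u'

variable {C : Type u'} [Category.{v'} C]

/-- The limit of a system that is null up to translation is zero. -/
theorem isZero_limit_of_isARNull [HasZeroMorphisms C] {Z : PS C} [HasLimit Z] (h : IsARNull Z) :
    IsZero (limit Z) := by
  obtain ⟨r, hr⟩ := h
  rw [IsZero.iff_id_eq_zero]
  apply limit.hom_ext
  rintro ⟨n⟩
  rw [Category.id_comp, zero_comp]
  have h1 : limit.π Z (op (n + r)) ≫ shiftMap Z r n = limit.π Z (op n) :=
    limit.w Z (homOfLE (Nat.le_add_right n r)).op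
  rw [← h1, hr n]
  exact comp_zero

variable {A : Type w} [CommRing A] [Preadditive C] [Linear A C]

/-- If `X ⧸ I X = 0` and `I ^ k` kills `X` then `X = 0`. -/
theorem isZero_of_isQuot_zero {I : Ideal A} {X Q : C} {p : X ⟶ Q} (hp : IsQuot I p)
    (hQ : IsZero Q) (k : ℕ) (hX : KilledBy (I ^ k) X) : IsZero X := by
  induction k with
  | zero =>
    rw [IsZero.iff_id_eq_zero]
    have := hX 1 (by simp)
    rwa [one_smul] at this
  | succ k ih =>
    apply ih
    intro a ha
    have hφ : HomKilledBy I (a • 𝟙 X) := by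
      intro b hb
      rw [smul_smul]
      exact hX (b * a) (by rw [pow_succ']; exact Ideal.mul_mem_mul hb ha)
    obtain ⟨ψ, hψ, -⟩ := hp.2 X _ hφ
    rw [← hψ, hQ.eq_of_src ψ 0, comp_zero]

end Generic

end Groth.Agent.Lib.Helper15.EtModStalk
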