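import Mathlib

/-!
# Fibres of sheaves at points of sites: constant sheaves and restriction to slices (helper15)

* `constFiberIso`: the fibre of a constant sheaf is its value.
* `overFiberIso`: the fibre of `F` at `Φ` is the fibre of `F.over U` at `Φ.over x`.
* `linear_of_adj_right`: a right adjoint of a linear functor is linear.
-/

set_option autoImplicit false
universe w v' u' v u

namespace Groth.Agent.Lib.Helper15.PointFiberLemmas

open CategoryTheory CategoryTheory.Limits Opposite GrothendieckTopology

section Const

variable {C : Type u} [Category.{v} C] {J : GrothendieckTopology C} (Φ : Point.{w} J)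
  {A : Type u'} [Category.{v'} A] [HasColimitsOfSize.{w, w} A]

/-- The presheaf fibre of a constant presheaf is its value. -/
noncomputable def constPresheafFiberIso (M : A) :
    Φ.presheafFiber.obj ((Functor.const Cᵒᵖ).obj M) ≅ M :=
  IsColimit.coconePointUniqueUpToIso
    (Φ.isColimitPresheafFiberCocone ((Functor.const Cᵒᵖ).obj M))
    (isColimitConstCocone Φ.fiber.Elementsᵒᵖ M)

variable [HasProducts.{w} A] [HasWeakSheafify J A]

/-- The fibre of a constant sheaf is its value. -/
noncomputable def constFiberIso (M : A) :
    Φ.sheafFiber.obj ((constantSheaf J A).obj M) ≅ M :=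
  (Φ.presheafToSheafCompSheafFiberIso A).app ((Functor.const Cᵒᵖ).obj M) ≪≫
    constPresheafFiberIso Φ M

end Const

section Over

variable {C : Type u} [Category.{v} C] {J : GrothendieckTopology C}
  [LocallySmall.{w} C] (Φ : Point.{w} J) {U : C} (x : Φ.fiber.obj U)
  {A : Type u'} [Category.{v'} A] [HasColimitsOfSize.{w, w} A]

/-- The forgetful functor from elements of the slice point to elements of the point. -/
def elementsForget : (Φ.over x).fiber.Elements ⥤ Φ.fiber.Elements :=
  (FunctorToTypes.fromOverFunctorElementsEquivalence Φ.fiber x).functor ⋙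
    Over.forget (Φ.fiber.elementsMk U x)

instance : (elementsForget Φ x).Initial := by
  dsimp only [elementsForget]
  infer_instance

/-- The presheaf fibre of the restriction of `P` to the slice over `U`, at the slice point, is the
presheaf fibre of `P`. -/
noncomputable def overPresheafFiberIso (P : Cᵒᵖ ⥤ A) :
    (Φ.over x).presheafFiber.obj ((Over.forget U).op ⋙ P) ≅ Φ.presheafFiber.obj P :=
  Functor.Final.colimitIso (elementsForget Φ x).op ((CategoryOfElements.π Φ.fiber).op ⋙ P)

/-- The fibre of `F.over U` at `Φ.over x` is the fibre of `F` at `Φ`. -/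
noncomputable def overFiberIso (F : Sheaf J A) :
    (Φ.over x).sheafFiber.obj (F.over U) ≅ Φ.sheafFiber.obj F :=
  overPresheafFiberIso Φ x F.obj

end Over

section Linear

variable {R : Type w} [CommRing R]
  {C : Type u} [Category.{v} C] {D : Type u'} [Category.{v'} D]
  [Preadditive C] [Linear R C] [Preadditive D] [Linear R D]

/-- A right adjoint of a linear functor is linear. -/
theorem linear_of_adj_right {L : C ⥤ D} {G : D ⥤ C} (adj : L ⊣ G) [L.Additive] [L.Linear R]
    [G.Additive] : G.Linear R where
  map_smul {X Y} f a := by
    apply (adj.homEquiv (G.obj X) Y).symm.injective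
    rw [adj.homEquiv_counit, adj.homEquiv_counit, L.map_smul, Linear.smul_comp,
      adj.counit_naturality, adj.counit_naturality, Linear.comp_smul]

end Linear

end Groth.Agent.Lib.Helper15.PointFiberLemmas
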