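import Groth.Prelude.Def_EtMod2
import Groth.Agent.Lib.Helper15.EtModStalk
import Groth.Agent.Lib.Helper15.PointFiberLemmas
import Groth.Agent.S0100
import Mathlib

/-!
# Stalks of étale sheaves of `Λ`-modules: inverse images, locally constant and constructible sheaves
(helper15)

* `stalk_pull_iso`: `(f⁻¹ G)_ξ ≅ G_{f ξ}` for sheaves of modules.
* `exists_fac_of_isPreimmersion`: geometric points lift along preimmersions through points of
  the image.
* `finite_stalk_of_isFTLocConst`, `finite_stalk_of_isConstructible`: stalks are finite modules.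
-/

set_option autoImplicit false
universe u

namespace Groth.Agent.Lib.Helper15.EtModStalkFin

open CategoryTheory CategoryTheory.Limits Opposite AlgebraicGeometry GrothendieckTopology
open Groth.Agent.Lib.Helper15.PointFiberLemmas Groth.Agent.Lib.Helper15.EtModStalk

variable (Λ : Type (u + 1)) [CommRing Λ]

theorem stalk_pull_iso {X Y : Scheme.{u}} (f : X ⟶ Y) (G : EtModW.Mod Λ Y)
    {Ω : Type u} [Field Ω] [IsSepClosed Ω] (ξ : Spec (CommRingCat.of Ω) ⟶ X) :
    Nonempty ((EtModW.stalk Λ ξ).obj ((EtModW.pull Λ f).obj G) ≅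
      (EtModW.stalk Λ (ξ ≫ f)).obj G) := by
  have hF := EtCoh.coverPreserving_bc f
  have hsm : InitiallySmall.{u} (EtCoh.bc f ⋙ (Scheme.pointSmallEtale ξ).fiber).Elements := by
    have := (Scheme.pointSmallEtale (ξ ≫ f)).initiallySmall
    exact Groth.Agent.S0100.initiallySmall_of_iso (Groth.Agent.S0100.fiberIso f ξ)
  let e1 : ((Scheme.pointSmallEtale ξ).comap (EtCoh.bc f) hF).sheafFiber ≅
      EtModW.pull Λ f ⋙ (Scheme.pointSmallEtale ξ).sheafFiber :=
    (Scheme.pointSmallEtale ξ).sheafFiberComapIso (EtCoh.bc f) hF (ModuleCat.{u + 1} Λ)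
  let e2 : (Scheme.pointSmallEtale (ξ ≫ f)).sheafFiber (A := ModuleCat.{u + 1} Λ) ≅
      ((Scheme.pointSmallEtale ξ).comap (EtCoh.bc f) hF).sheafFiber :=
    Groth.Agent.S0100.sheafFiberIso _ _ (Groth.Agent.S0100.fiberIso f ξ)
  exact ⟨(e1.symm ≪≫ e2.symm).app G⟩

variable {Λ}

theorem exists_fac_of_isPreimmersion {T X : Scheme.{u}} (g : T ⟶ X) [IsPreimmersion g]
    {Ω : Type u} [Field Ω] (s : Spec (CommRingCat.of Ω) ⟶ X) (t : T) (ht : g t = s default) :
    ∃ l : Spec (CommRingCat.of Ω) ⟶ T, l ≫ g = s := by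
  obtain ⟨⟨s₀, a⟩, rfl⟩ := (Scheme.SpecToEquivOfField Ω X).symm.surjective s
  obtain rfl : g t = s₀ := by simp [ht, Scheme.SpecToEquivOfField]
  have hsurj : Function.Surjective (g.residueFieldMap t).hom := by
    intro y
    obtain ⟨b, rfl⟩ := T.residue_surjective t y
    obtain ⟨c, rfl⟩ := g.stalkMap_surjective t b
    refine ⟨X.residue (g t) c, ?_⟩
    have := congrArg (fun φ => φ.hom c) (Scheme.residue_residueFieldMap g t)
    exact this
  have hbij : Function.Bijective (g.residueFieldMap t).hom :=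
    ⟨RingHom.injective _, hsurj⟩
  let eq : X.residueField (g t) ≃+* T.residueField t := RingEquiv.ofBijective _ hbij
  let b : T.residueField t →+* Ω := a.hom.comp eq.symm.toRingHom
  have hb : g.residueFieldMap t ≫ CommRingCat.ofHom b = a := by
    ext z
    change a.hom (eq.symm (eq z)) = a.hom z
    rw [RingEquiv.symm_apply_apply]
  refine ⟨Spec.map (CommRingCat.ofHom b) ≫ T.fromSpecResidueField t, ?_⟩
  simp [Scheme.SpecToEquivOfField, ← hb]
  rfl

variable (Λ)

theorem finite_stalk_of_isFTLocConst {T : Scheme.{u}} (G : EtModW.Mod Λ T)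
    (hG : EtModW.IsFTLocConst Λ G)
    {Ω : Type u} [Field Ω] [IsSepClosed Ω] (ξ : Spec (CommRingCat.of Ω) ⟶ T) :
    Module.Finite Λ ((EtModW.stalk Λ ξ).obj G) := by
  obtain ⟨ι, U, hU, h⟩ := hG
  obtain ⟨i, y, hy⟩ := hU (ξ default)
  obtain ⟨M, _, _, hfin, ⟨e⟩⟩ := h i
  haveI : Etale (U i).hom := (U i).prop
  obtain ⟨l, hl, -⟩ := Scheme.exists_fac_of_etale_of_isSepClosed (U i).hom ξ y hy
  let x : (Scheme.pointSmallEtale ξ).fiber.obj (U i) := Over.homMk l hl
  let Ψ := (Scheme.pointSmallEtale ξ).over x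
  have e1 : Ψ.sheafFiber.obj (G.over (U i)) ≅ (Scheme.pointSmallEtale ξ).sheafFiber.obj G :=
    overFiberIso (Scheme.pointSmallEtale ξ) x G
  have e2 := Ψ.sheafFiber.mapIso e
  have e3 := constFiberIso Ψ (ModuleCat.of Λ M)
  have e4 : (EtModW.stalk Λ ξ).obj G ≅ ModuleCat.of Λ M := e1.symm ≪≫ e2 ≪≫ e3
  exact Module.Finite.equiv e4.symm.toLinearEquiv

theorem finite_stalk_of_isConstructible {X : Scheme.{u}} (E : EtModW.Mod Λ X)
    (hE : EtModW.IsConstructible Λ E)
    {Ω : Type u} [Field Ω] [IsSepClosed Ω] (s : Spec (CommRingCat.of Ω) ⟶ X) :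
    Module.Finite Λ ((EtModW.stalk Λ s).obj E) := by
  obtain ⟨W, hW, hxW, -⟩ := exists_isAffineOpen_mem_and_subset (X := X) (x := s default)
    (U := ⊤) trivial
  obtain ⟨n, T, g, himm, -, -, hcov, hlc⟩ := hE W hW
  have hmem : s default ∈ ⋃ i, Set.range (g i) := by
    rw [hcov]; exact hxW
  obtain ⟨i, t, ht⟩ := Set.mem_iUnion.1 hmem
  haveI := himm i
  obtain ⟨l, hl⟩ := exists_fac_of_isPreimmersion (g i) s t ht
  subst hl
  obtain ⟨e⟩ := stalk_pull_iso Λ (g i) E l
  have hfin := finite_stalk_of_isFTLocConst Λ _ (hlc i) l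
  exact Module.Finite.equiv e.toLinearEquiv

end Groth.Agent.Lib.Helper15.EtModStalkFin
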