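import Groth.Agent.Lib.Helper15.ARReflect
import Groth.Agent.Lib.Helper15.EtModFun
import Groth.Agent.Lib.Helper15.EtModStalkFin
import Groth.Agent.Lib.Helper43.EtFTLCSerre
import Groth.Agent.Lib.Helper43.EtConstrMod
import Groth.Agent.Lib.Helper43.StrataInf

/-!
# Classes of étale sheaves of `Λ`-modules closed under kernels and cokernels; zero-reflection
(helper15)

* `kcClosed_isFTLC`, `kcClosed_isConstructible`: finite type locally constant, resp. constructible,
  sheaves of `Λ`-modules (`Λ` Noetherian) are closed under isomorphisms, kernels and cokernels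
  (built on helper43's `EtFTLCSerre`, `EtConstrMod`, `StrataInf`).
* `isConstructible_of_isFTLC`.
* `isZero_of_isFTLC_of_stalk`: on a connected scheme a finite type locally constant sheaf with one
  vanishing geometric stalk vanishes.
* `isZero_of_pull_etale`, `isZero_of_pull_immersion`: jointly surjective families of étale maps /
  preimmersions detect zero sheaves.
-/

set_option autoImplicit false
universe u

namespace Groth.Agent.Lib.Helper15.EtModSerre

open CategoryTheory CategoryTheory.Limits Opposite AlgebraicGeometry GrothendieckTopology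
open Groth.Agent.Lib.Helper15 Groth.Agent.Lib.Helper15.ARReflect
open Groth.Agent.Lib.Helper15.PointFiberLemmas Groth.Agent.Lib.Helper15.EtModStalk
open Groth.Agent.Lib.Helper15.EtModStalkFin Groth.Agent.Lib.Helper15.EtModFun
open Groth.Agent.Lib.Helper43.StrataLib Groth.Agent.Lib.Helper43.EtConstrMod
open Groth.Agent.Lib.Helper43.EtFTLCSerre

variable {Λ : Type (u + 1)} [CommRing Λ]

section Classes

variable [IsNoetherianRing Λ] {X : Scheme.{u}}

theorem kcClosed_isFTLC : KCClosed (fun F : EtModW.Mod Λ X => EtModW.IsFTLocConst Λ F) where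
  iso e h := isFTLC_of_iso e h
  ker f hX hY := (isFTLC_kernel_cokernel _ _ f hX hY).1
  coker f hX hY := (isFTLC_kernel_cokernel _ _ f hX hY).2

theorem P_kernel_cokernel {F G : EtModW.Mod Λ X} (φ : F ⟶ G) (T : Scheme.{u}) (g : T ⟶ X)
    (h : P Λ F T g ∧ P Λ G T g) : P Λ (kernel φ) T g ∧ P Λ (cokernel φ) T g := by
  have hk := isFTLC_kernel_cokernel _ _ ((EtModW.pull Λ g).map φ) h.1 h.2
  exact ⟨isFTLC_of_iso (PreservesKernel.iso (EtModW.pull Λ g) φ).symm hk.1,
    isFTLC_of_iso (PreservesCokernel.iso (EtModW.pull Λ g) φ).symm hk.2⟩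

theorem Strata.mono' {P Q : ∀ (T : Scheme.{u}), (T ⟶ X) → Prop}
    (hPQ : ∀ (T : Scheme.{u}) (g : T ⟶ X), P T g → Q T g) {S : Set X} (h : Strata P S) :
    Strata Q S := by
  obtain ⟨n, T, g, h1, h2, h3, h4, h5⟩ := h
  exact ⟨n, T, g, h1, h2, h3, h4, fun i => hPQ _ _ (h5 i)⟩

theorem constructible_kernel_cokernel {F G : EtModW.Mod Λ X} (φ : F ⟶ G)
    (hF : EtModW.IsConstructible Λ F) (hG : EtModW.IsConstructible Λ G) :
    EtModW.IsConstructible Λ (kernel φ) ∧ EtModW.IsConstructible Λ (cokernel φ) := by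
  constructor
  · intro W hW
    have h := Strata.inf (P_comp F) (P_comp G) (P_congr G) (hF W hW) (hG W hW)
    exact (adaptedStrata_iff _ _).2
      (Strata.mono' (Q := P Λ (kernel φ)) (fun T g hT => (P_kernel_cokernel φ T g hT).1) h)
  · intro W hW
    have h := Strata.inf (P_comp F) (P_comp G) (P_congr G) (hF W hW) (hG W hW)
    exact (adaptedStrata_iff _ _).2
      (Strata.mono' (Q := P Λ (cokernel φ)) (fun T g hT => (P_kernel_cokernel φ T g hT).2) h)

theorem kcClosed_isConstructible :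
    KCClosed (fun F : EtModW.Mod Λ X => EtModW.IsConstructible Λ F) where
  iso e h := isConstructible_of_iso e h
  ker f hX hY := (constructible_kernel_cokernel f hX hY).1
  coker f hX hY := (constructible_kernel_cokernel f hX hY).2

end Classes

section FTLC

variable {X : Scheme.{u}}

/-- A finite type locally constant sheaf is constructible. -/
theorem isConstructible_of_isFTLC (F : EtModW.Mod Λ X) (hF : EtModW.IsFTLocConst Λ F) :
    EtModW.IsConstructible Λ F := by
  intro W _
  refine Strata.of_finite (P := P Λ F) Unit (fun _ => W.toScheme) (fun _ => W.ι)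
    (fun _ => inferInstance) (fun _ => ?_) ?_ ?_ (fun _ => isFTLC_pull W.ι F hF)
  · have : (Subtype.val : ↥(W : Set X) → X) ⁻¹' Set.range W.ι = Set.univ := by
      ext ⟨x, hx⟩
      simp only [Set.mem_preimage, Set.mem_univ, iff_true]
      rw [Scheme.Opens.range_ι]
      exact hx
    rw [this]
    exact Topology.IsConstructible.univ
  · intro a b hab
    exact (hab (Subsingleton.elim a b)).elim
  · ext x
    simp only [Set.mem_iUnion, exists_const]
    rw [Scheme.Opens.range_ι]

/-- the stalk of a sheaf trivialized on an étale neighbourhood of the point -/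
theorem stalk_iso_of_triv (G : EtModW.Mod Λ X) (U : X.Etale) (M : ModuleCat.{u + 1} Λ)
    (e : EtModW.restr Λ G U ≅
      (constantSheaf (X.smallEtaleTopology.over U) (ModuleCat.{u + 1} Λ)).obj M)
    {Ω : Type u} [Field Ω] [IsSepClosed Ω] (ξ : Spec (CommRingCat.of Ω) ⟶ X) (y : U.left)
    (hy : U.hom y = ξ default) :
    Nonempty ((EtModW.stalk Λ ξ).obj G ≅ M) := by
  have : Etale U.hom := U.prop
  obtain ⟨l, hl, -⟩ := Scheme.exists_fac_of_etale_of_isSepClosed U.hom ξ y hy
  let x : (Scheme.pointSmallEtale ξ).fiber.obj U := Over.homMk l hl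
  let Ψ := (Scheme.pointSmallEtale ξ).over x
  have e1 : Ψ.sheafFiber.obj (G.over U) ≅ (Scheme.pointSmallEtale ξ).sheafFiber.obj G :=
    overFiberIso (Scheme.pointSmallEtale ξ) x G
  have e2 := Ψ.sheafFiber.mapIso e
  have e3 := constFiberIso Ψ M
  exact ⟨e1.symm ≪≫ e2 ≪≫ e3⟩

/-- every point carries a geometric point -/
theorem exists_geomPt (t : X) :
    ∃ (Ω : Type u) (_ : Field Ω) (_ : IsSepClosed Ω) (ξ : Spec (CommRingCat.of Ω) ⟶ X),
      ξ default = t := by
  let Ω := SeparableClosure (X.residueField t)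
  let s : Spec (CommRingCat.of Ω) ⟶ X :=
    (Scheme.SpecToEquivOfField Ω X).2 ⟨t, CommRingCat.ofHom (algebraMap (X.residueField t) Ω)⟩
  have hs : s default = t := by simp [s, Scheme.SpecToEquivOfField]
  exact ⟨Ω, inferInstance, inferInstance, s, hs⟩

/-- On a connected scheme, a finite type locally constant sheaf one of whose geometric stalks
vanishes is zero. -/
theorem isZero_of_isFTLC_of_stalk [PreconnectedSpace X] (G : EtModW.Mod Λ X)
    (hG : EtModW.IsFTLocConst Λ G)
    {Ω₀ : Type u} [Field Ω₀] [IsSepClosed Ω₀] (s : Spec (CommRingCat.of Ω₀) ⟶ X)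
    (hs : IsZero ((EtModW.stalk Λ s).obj G)) : IsZero G := by
  obtain ⟨ι, U, hcov, hU⟩ := hG
  choose M iM mM fM hα using hU
  let N : ι → ModuleCat.{u + 1} Λ := fun i => ModuleCat.of Λ (M i)
  have key : ∀ (i : ι) (y : (U i).left) (Ω : Type u) [Field Ω] [IsSepClosed Ω]
      (ξ : Spec (CommRingCat.of Ω) ⟶ X), (U i).hom y = ξ default →
      (IsZero ((EtModW.stalk Λ ξ).obj G) ↔ IsZero (N i)) := by
    intro i y Ω _ _ ξ hy
    obtain ⟨α⟩ := hα i
    obtain ⟨e⟩ := stalk_iso_of_triv G (U i) (N i) α ξ y hy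
    exact ⟨fun h => IsZero.of_iso h e.symm, fun h => IsZero.of_iso h e⟩
  let A : Set ι := {i | IsZero (N i)}
  let Z : Set X := ⋃ i ∈ A, Set.range (U i).hom
  let Z' : Set X := ⋃ i ∈ Aᶜ, Set.range (U i).hom
  have hZo : IsOpen Z := isOpen_biUnion (fun i _ => (U i).hom.isOpenMap.isOpen_range)
  have hZ'o : IsOpen Z' := isOpen_biUnion (fun i _ => (U i).hom.isOpenMap.isOpen_range)
  have hcovZ : Z ∪ Z' = Set.univ := by
    ext t
    simp only [Set.mem_union, Set.mem_univ, iff_true]
    obtain ⟨i, y, hy⟩ := hcov t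
    by_cases hi : i ∈ A
    · exact Or.inl (Set.mem_biUnion hi ⟨y, hy⟩)
    · exact Or.inr (Set.mem_biUnion (show i ∈ Aᶜ from hi) ⟨y, hy⟩)
  have hmemZ : ∀ t ∈ Z, ∀ (Ω : Type u) [Field Ω] [IsSepClosed Ω]
      (ξ : Spec (CommRingCat.of Ω) ⟶ X), ξ default = t → IsZero ((EtModW.stalk Λ ξ).obj G) := by
    intro t ht Ω _ _ ξ hξ
    obtain ⟨i, hi, y, hy⟩ := Set.mem_iUnion₂.1 ht
    exact (key i y Ω ξ (hy.trans hξ.symm)).2 hi
  have hmemZ' : ∀ t ∈ Z', ∀ (Ω : Type u) [Field Ω] [IsSepClosed Ω]
      (ξ : Spec (CommRingCat.of Ω) ⟶ X), ξ default = t → ¬ IsZero ((EtModW.stalk Λ ξ).obj G) := by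
    intro t ht Ω _ _ ξ hξ hz
    obtain ⟨i, hi, y, hy⟩ := Set.mem_iUnion₂.1 ht
    exact hi ((key i y Ω ξ (hy.trans hξ.symm)).1 hz)
  have hdisj : Disjoint Z Z' := by
    rw [Set.disjoint_left]
    intro t h1 h2
    obtain ⟨Ω, _, _, ξ, hξ⟩ := exists_geomPt t
    exact hmemZ' t h2 Ω ξ hξ (hmemZ t h1 Ω ξ hξ)
  have hs0 : s default ∈ Z := by
    have : s default ∈ Z ∪ Z' := by rw [hcovZ]; trivial
    rcases this with h | h
    · exact h
    · exact (hmemZ' _ h Ω₀ s rfl hs).elim
  have hZuniv : Z = Set.univ := by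
    have hclopen : IsClopen Z := by
      refine ⟨?_, hZo⟩
      have : Z = Z'ᶜ := by
        ext t
        constructor
        · intro h1 h2
          exact (Set.disjoint_left.1 hdisj) h1 h2
        · intro h
          have : t ∈ Z ∪ Z' := by rw [hcovZ]; trivial
          rcases this with h' | h'
          · exact h'
          · exact (h h').elim
      rw [this]
      exact hZ'o.isClosed_compl
    exact hclopen.eq_univ ⟨_, hs0⟩
  apply isZero_of_stalks
  intro Ω _ _ ξ
  exact hmemZ (ξ default) (by rw [hZuniv]; trivial) Ω ξ rfl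

end FTLC

section Pull

variable {X : Scheme.{u}}

/-- A sheaf whose inverse images along a jointly surjective family of étale morphisms vanish is
zero. -/
theorem isZero_of_pull_etale {ι : Type*} (U : ι → Scheme.{u}) (g : ∀ i, U i ⟶ X)
    [∀ i, Etale (g i)] (hsurj : ∀ x : X, ∃ (i : ι) (t : U i), g i t = x)
    (G : EtModW.Mod Λ X) (h : ∀ i, IsZero ((EtModW.pull Λ (g i)).obj G)) : IsZero G := by
  apply isZero_of_stalks
  intro Ω _ _ ξ
  obtain ⟨i, t, ht⟩ := hsurj (ξ default)
  obtain ⟨l, hl, -⟩ := Scheme.exists_fac_of_etale_of_isSepClosed (g i) ξ t ht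
  subst hl
  obtain ⟨e⟩ := stalk_pull_iso Λ (g i) G l
  exact IsZero.of_iso ((EtModW.stalk Λ l).map_isZero (h i)) e.symm

/-- A sheaf whose inverse images along a jointly surjective family of preimmersions vanish is
zero. -/
theorem isZero_of_pull_immersion {ι : Type*} (U : ι → Scheme.{u}) (g : ∀ i, U i ⟶ X)
    [∀ i, IsPreimmersion (g i)] (hsurj : ∀ x : X, ∃ (i : ι) (t : U i), g i t = x)
    (G : EtModW.Mod Λ X) (h : ∀ i, IsZero ((EtModW.pull Λ (g i)).obj G)) : IsZero G := by
  apply isZero_of_stalks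
  intro Ω _ _ ξ
  obtain ⟨i, t, ht⟩ := hsurj (ξ default)
  obtain ⟨l, hl⟩ := exists_fac_of_isPreimmersion (g i) ξ t ht
  subst hl
  obtain ⟨e⟩ := stalk_pull_iso Λ (g i) G l
  exact IsZero.of_iso ((EtModW.stalk Λ l).map_isZero (h i)) e.symm

end Pull

end Groth.Agent.Lib.Helper15.EtModSerre
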