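import Mathlib

/-!
# Maps from a finite module into complexes with `I`-power-killed bounded cohomology die on `I^n N`
(helper15)

`Dies I Z`: every morphism `N[0] ⟶ Z` in `D(A)`, `N` a finite module, vanishes on `I^n N` for some `n`.
-/

set_option autoImplicit false

open CategoryTheory Limits Pretriangulated DerivedCategory

namespace Groth.Agent.Lib.Helper15.ExtDie

universe w u

variable {A : Type u} [CommRing A] [HasDerivedCategory.{w} (ModuleCat.{u} A)]

/-- `X[0]` in the derived category. -/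
noncomputable abbrev sgD (X : ModuleCat.{u} A) : DerivedCategory (ModuleCat.{u} A) :=
  Q.obj ((HomologicalComplex.single (ModuleCat.{u} A) (ComplexShape.up ℤ) 0).obj X)

/-- `f[0]` in the derived category. -/
noncomputable abbrev sgMap {X Y : ModuleCat.{u} A} (f : X ⟶ Y) : sgD X ⟶ sgD Y :=
  Q.map ((HomologicalComplex.single (ModuleCat.{u} A) (ComplexShape.up ℤ) 0).map f)

lemma sgMap_comp {X Y Z : ModuleCat.{u} A} (f : X ⟶ Y) (g : Y ⟶ Z) :
    sgMap (f ≫ g) = sgMap f ≫ sgMap g := by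
  dsimp only [sgMap]
  rw [Functor.map_comp, Functor.map_comp]

lemma sgMap_zero {X Y : ModuleCat.{u} A} : sgMap (0 : X ⟶ Y) = 0 := by
  dsimp only [sgMap]
  rw [Functor.map_zero, Functor.map_zero]

variable (I : Ideal A)

/-- The inclusion `I^n N ⟶ N`. -/
noncomputable def incl (N : Type u) [AddCommGroup N] [Module A N] (n : ℕ) :
    ModuleCat.of A ↥(I ^ n • (⊤ : Submodule A N)) ⟶ ModuleCat.of A N :=
  ModuleCat.ofHom (I ^ n • (⊤ : Submodule A N)).subtype

/-- The inclusion `I^m N ⟶ I^n N`, `n ≤ m`. -/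
noncomputable def inclLE (N : Type u) [AddCommGroup N] [Module A N] {n m : ℕ} (h : n ≤ m) :
    ModuleCat.of A ↥(I ^ m • (⊤ : Submodule A N)) ⟶ ModuleCat.of A ↥(I ^ n • (⊤ : Submodule A N)) :=
  ModuleCat.ofHom (Submodule.inclusion (Submodule.smul_mono_left (Ideal.pow_le_pow_right h)))

lemma inclLE_incl (N : Type u) [AddCommGroup N] [Module A N] {n m : ℕ} (h : n ≤ m) :
    inclLE I N h ≫ incl I N n = incl I N m := rfl

/-- Every map from a finite module (in degree `0`) to `Z` vanishes on `I^n N` for `n` large. -/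
def Dies (Z : DerivedCategory (ModuleCat.{u} A)) : Prop :=
  ∀ (N : Type u) [AddCommGroup N] [Module A N] [Module.Finite A N]
    (w : sgD (ModuleCat.of A N) ⟶ Z), ∃ n : ℕ, sgMap (incl I N n) ≫ w = 0

lemma dies_mono {Z : DerivedCategory (ModuleCat.{u} A)} (N : Type u) [AddCommGroup N] [Module A N]
    (w : sgD (ModuleCat.of A N) ⟶ Z) {n m : ℕ} (h : n ≤ m) (hn : sgMap (incl I N n) ≫ w = 0) :
    sgMap (incl I N m) ≫ w = 0 := by
  rw [← inclLE_incl I N h, sgMap_comp, Category.assoc, hn, comp_zero]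

lemma Dies.of_iso {Z Z' : DerivedCategory (ModuleCat.{u} A)} (h : Dies I Z) (e : Z ≅ Z') :
    Dies I Z' := by
  intro N _ _ _ w
  obtain ⟨n, hn⟩ := h N (w ≫ e.inv)
  refine ⟨n, ?_⟩
  rw [← cancel_mono e.inv, zero_comp, Category.assoc, hn]

lemma dies_of_isZero {Z : DerivedCategory (ModuleCat.{u} A)} (h : IsZero Z) : Dies I Z := by
  intro N _ _ _ w
  exact ⟨0, h.eq_of_tgt _ _⟩

/-- `T` is killed by the ideal `J`. -/
def Killed (J : Ideal A) (T : ModuleCat.{u} A) : Prop := ∀ x ∈ J, ∀ t : T, x • t = 0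

lemma Killed.of_iso {J : Ideal A} {T T' : ModuleCat.{u} A} (h : Killed J T) (e : T ≅ T') :
    Killed J T' := by
  intro x hx t
  have : t = e.hom.hom (e.inv.hom t) := by
    have := LinearMap.congr_fun (congrArg ModuleCat.Hom.hom e.inv_hom_id) t
    simpa using this.symm
  rw [this, ← map_smul, h x hx, map_zero]

lemma killed_of_isZero {J : Ideal A} {T : ModuleCat.{u} A} (h : IsZero T) : Killed J T := by
  intro x _ t
  have : Subsingleton T := ModuleCat.subsingleton_of_isZero h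
  exact Subsingleton.elim _ _

section Ext

variable {I}

lemma mem_pow_smul_top_sub (N : Type u) [AddCommGroup N] [Module A N] (n1 n2 : ℕ)
    (x : N) (hx : x ∈ I ^ (n1 + n2) • (⊤ : Submodule A N)) :
    ∃ y : ↥(I ^ n1 • (⊤ : Submodule A N)),
      y ∈ I ^ n2 • (⊤ : Submodule A ↥(I ^ n1 • (⊤ : Submodule A N))) ∧ (y : N) = x := by
  have h1 : Submodule.map (I ^ n1 • (⊤ : Submodule A N)).subtype
      (I ^ n2 • (⊤ : Submodule A ↥(I ^ n1 • (⊤ : Submodule A N)))) =
      I ^ (n1 + n2) • (⊤ : Submodule A N) := by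
    rw [Submodule.map_smul'', Submodule.map_subtype_top, ← mul_smul, ← pow_add, add_comm]
  rw [← h1] at hx
  obtain ⟨y, hy, rfl⟩ := hx
  exact ⟨y, hy, rfl⟩

/-- `I^(n1+n2) N ⟶ I^n2 (I^n1 N)`. -/
noncomputable def inclTwo (N : Type u) [AddCommGroup N] [Module A N] (n1 n2 : ℕ) :
    ModuleCat.of A ↥(I ^ (n1 + n2) • (⊤ : Submodule A N)) ⟶
      ModuleCat.of A ↥(I ^ n2 • (⊤ : Submodule A ↥(I ^ n1 • (⊤ : Submodule A N)))) :=
  ModuleCat.ofHom (LinearMap.codRestrict _
    (Submodule.inclusion (Submodule.smul_mono_left (Ideal.pow_le_pow_right (Nat.le_add_right n1 n2))))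
    (fun x => by
      obtain ⟨y, hy, hyx⟩ := mem_pow_smul_top_sub N n1 n2 x.1 x.2
      have : Submodule.inclusion
          (Submodule.smul_mono_left (Ideal.pow_le_pow_right (Nat.le_add_right n1 n2))) x = y :=
        Subtype.ext hyx.symm
      rw [this]
      exact hy))

lemma inclTwo_comp (N : Type u) [AddCommGroup N] [Module A N] (n1 n2 : ℕ) :
    inclTwo (I := I) N n1 n2 ≫ incl I ↥(I ^ n1 • (⊤ : Submodule A N)) n2 ≫ incl I N n1 =
      incl I N (n1 + n2) := rfl

variable [IsNoetherianRing A]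

theorem Dies.of_triangle (T : Triangle (DerivedCategory (ModuleCat.{u} A)))
    (hT : T ∈ distTriang _) (h1 : Dies I T.obj₁) (h3 : Dies I T.obj₃) : Dies I T.obj₂ := by
  intro N _ _ _ w
  obtain ⟨n1, hn1⟩ := h3 N (w ≫ T.mor₂)
  rw [← Category.assoc] at hn1
  obtain ⟨w', hw'⟩ := Triangle.coyoneda_exact₂ T hT _ hn1
  haveI : IsNoetherian A N := isNoetherian_of_isNoetherianRing_of_finite A N
  obtain ⟨n2, hn2⟩ := h1 ↥(I ^ n1 • (⊤ : Submodule A N)) w'
  refine ⟨n1 + n2, ?_⟩
  rw [← inclTwo_comp N n1 n2, sgMap_comp, sgMap_comp, Category.assoc, Category.assoc, hw',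
    reassoc_of% hn2, zero_comp, comp_zero]

end Ext

section SES

variable {I}
variable {F N : Type u} [AddCommGroup F] [Module A F] [AddCommGroup N] [Module A N]

/-- The short complex `0 → ker π → F → N → 0`. -/
noncomputable def sesOf (π : F →ₗ[A] N) : ShortComplex (ModuleCat.{u} A) :=
  ShortComplex.mk (ModuleCat.ofHom (LinearMap.ker π).subtype) (ModuleCat.ofHom π) (by
    ext x
    exact x.2)

lemma sesOf_shortExact (π : F →ₗ[A] N) (hπ : Function.Surjective π) : (sesOf π).ShortExact where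
  exact := by
    rw [ShortComplex.moduleCat_exact_iff]
    intro x hx
    exact ⟨⟨x, hx⟩, rfl⟩
  mono_f := (ModuleCat.mono_iff_injective _).2 (Submodule.injective_subtype _)
  epi_g := (ModuleCat.epi_iff_surjective _).2 hπ

lemma map_mem_pow_smul_top (π : F →ₗ[A] N) (n : ℕ) (x : F) (hx : x ∈ I ^ n • (⊤ : Submodule A F)) :
    π x ∈ I ^ n • (⊤ : Submodule A N) := by
  have h : Submodule.map π (I ^ n • (⊤ : Submodule A F)) ≤ I ^ n • (⊤ : Submodule A N) := by
    rw [Submodule.map_smul'']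
    exact Submodule.smul_mono le_rfl le_top
  exact h ⟨x, hx, rfl⟩

/-- The restriction `I^n F → I^n N` of `π`. -/
noncomputable def restrictPow (π : F →ₗ[A] N) (n : ℕ) :
    ↥(I ^ n • (⊤ : Submodule A F)) →ₗ[A] ↥(I ^ n • (⊤ : Submodule A N)) :=
  π.restrict (fun x hx => map_mem_pow_smul_top π n x hx)

lemma restrictPow_surjective (π : F →ₗ[A] N) (hπ : Function.Surjective π) (n : ℕ) :
    Function.Surjective (restrictPow (I := I) π n) := by
  rintro ⟨y, hy⟩
  have h : Submodule.map π (I ^ n • (⊤ : Submodule A F)) = I ^ n • (⊤ : Submodule A N) := by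
    rw [Submodule.map_smul'', Submodule.map_top, LinearMap.range_eq_top.2 hπ]
  rw [← h] at hy
  obtain ⟨x, hx, rfl⟩ := hy
  exact ⟨⟨x, hx⟩, rfl⟩

lemma kerMap_mem (π : F →ₗ[A] N) (n : ℕ) (x : ↥(LinearMap.ker (restrictPow (I := I) π n))) :
    ((x : ↥(I ^ n • (⊤ : Submodule A F))) : F) ∈ LinearMap.ker π := by
  have := x.2
  rw [LinearMap.mem_ker] at this
  show π ((x : ↥(I ^ n • (⊤ : Submodule A F))) : F) = 0
  exact congrArg Subtype.val this

/-- `ker (I^n F → I^n N) → ker π`. -/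
noncomputable def kerMap (π : F →ₗ[A] N) (n : ℕ) :
    ↥(LinearMap.ker (restrictPow (I := I) π n)) →ₗ[A] ↥(LinearMap.ker π) :=
  LinearMap.codRestrict (LinearMap.ker π)
    ((I ^ n • (⊤ : Submodule A F)).subtype ∘ₗ (LinearMap.ker (restrictPow (I := I) π n)).subtype)
    (fun x => kerMap_mem π n x)

/-- The morphism of short complexes from the `I^n`-level sequence to the original one. -/
noncomputable def sesMap (π : F →ₗ[A] N) (n : ℕ) : sesOf (restrictPow (I := I) π n) ⟶ sesOf π where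
  τ₁ := ModuleCat.ofHom (kerMap π n)
  τ₂ := incl I F n
  τ₃ := incl I N n
  comm₁₂ := rfl
  comm₂₃ := rfl

lemma kerMap_mem_pow (π : F →ₗ[A] N) (k n' : ℕ)
    (hk : ∀ n ≥ k, I ^ n • (⊤ : Submodule A F) ⊓ LinearMap.ker π =
      I ^ (n - k) • (I ^ k • (⊤ : Submodule A F) ⊓ LinearMap.ker π))
    (x : ↥(LinearMap.ker (restrictPow (I := I) π (n' + k)))) :
    kerMap π (n' + k) x ∈ I ^ n' • (⊤ : Submodule A ↥(LinearMap.ker π)) := by
  have hx1 : ((x : ↥(I ^ (n' + k) • (⊤ : Submodule A F))) : F) ∈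
      I ^ (n' + k) • (⊤ : Submodule A F) ⊓ LinearMap.ker π :=
    ⟨x.1.2, kerMap_mem π _ x⟩
  rw [hk (n' + k) (Nat.le_add_left _ _), Nat.add_sub_cancel] at hx1
  have hx2 : ((x : ↥(I ^ (n' + k) • (⊤ : Submodule A F))) : F) ∈ I ^ n' • LinearMap.ker π :=
    Submodule.smul_mono le_rfl inf_le_right hx1
  have h : Submodule.map (LinearMap.ker π).subtype
      (I ^ n' • (⊤ : Submodule A ↥(LinearMap.ker π))) = I ^ n' • LinearMap.ker π := by
    rw [Submodule.map_smul'', Submodule.map_subtype_top]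
  rw [← h] at hx2
  obtain ⟨y, hy, hyx⟩ := hx2
  have : kerMap π (n' + k) x = y := Subtype.ext hyx.symm
  rw [this]
  exact hy

/-- Artin–Rees: the kernel of the `I^(n'+k)`-level sequence maps into `I^n' (ker π)`. -/
noncomputable def sesMapFactor (π : F →ₗ[A] N) (k n' : ℕ)
    (hk : ∀ n ≥ k, I ^ n • (⊤ : Submodule A F) ⊓ LinearMap.ker π =
      I ^ (n - k) • (I ^ k • (⊤ : Submodule A F) ⊓ LinearMap.ker π)) :
    (sesOf (restrictPow (I := I) π (n' + k))).X₁ ⟶
      ModuleCat.of A ↥(I ^ n' • (⊤ : Submodule A ↥(LinearMap.ker π))) :=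
  ModuleCat.ofHom (LinearMap.codRestrict _ (kerMap π (n' + k)) (kerMap_mem_pow π k n' hk))

lemma sesMapFactor_comp (π : F →ₗ[A] N) (k n' : ℕ)
    (hk : ∀ n ≥ k, I ^ n • (⊤ : Submodule A F) ⊓ LinearMap.ker π =
      I ^ (n - k) • (I ^ k • (⊤ : Submodule A F) ⊓ LinearMap.ker π)) :
    sesMapFactor π k n' hk ≫ incl I ↥(LinearMap.ker π) n' = (sesMap (I := I) π (n' + k)).τ₁ := rfl

end SES

section LemmaE

variable [IsNoetherianRing A]

lemma hom_projective_eq_zero (F T : ModuleCat.{u} A) [Projective F] (p : ℕ)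
    (w : (singleFunctor (ModuleCat.{u} A) 0).obj F ⟶
      ((singleFunctor (ModuleCat.{u} A) 0).obj T)⟦((p + 1 : ℕ) : ℤ)⟧) : w = 0 := by
  haveI : HasExt.{w} (ModuleCat.{u} A) := hasExt_of_hasDerivedCategory _
  obtain ⟨e, rfl⟩ := (Abelian.Ext.homEquiv (C := ModuleCat.{u} A) (X := F) (Y := T)
    (n := p + 1)).surjective w
  have he : e = 0 := Abelian.Ext.eq_zero_of_projective (C := ModuleCat.{u} A) e
  rw [he]
  exact Abelian.Ext.zero_hom (C := ModuleCat.{u} A) F T (p + 1)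

lemma incl_comp_eq_zero_of_killed (c : ℕ) (T : ModuleCat.{u} A) (hT : Killed (I ^ c) T)
    (N : Type u) [AddCommGroup N] [Module A N] (φ : ModuleCat.of A N ⟶ T) :
    incl I N c ≫ φ = 0 := by
  ext ⟨x, hx⟩
  show φ.hom x = 0
  refine Submodule.smul_induction_on hx ?_ ?_
  · intro r hr n _
    rw [map_smul]
    exact hT r hr _
  · intro x y hx hy
    rw [map_add, hx, hy, add_zero]

theorem dies_single_shift_zero (c : ℕ) (T : ModuleCat.{u} A) (hT : Killed (I ^ c) T) :
    Dies I (((singleFunctor (ModuleCat.{u} A) 0).obj T)⟦((0 : ℕ) : ℤ)⟧) := by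
  intro N _ _ _ w
  let α := (shiftFunctorZero' (DerivedCategory (ModuleCat.{u} A)) ((0 : ℕ) : ℤ) Nat.cast_zero).app
    ((singleFunctor (ModuleCat.{u} A) 0).obj T)
  let φ : ModuleCat.of A N ⟶ T := (singleFunctor (ModuleCat.{u} A) 0).preimage (w ≫ α.hom)
  have hφ : (singleFunctor (ModuleCat.{u} A) 0).map φ = w ≫ α.hom := Functor.map_preimage _ _
  refine ⟨c, ?_⟩
  rw [← cancel_mono α.hom, zero_comp, Category.assoc, ← hφ]
  change (singleFunctor (ModuleCat.{u} A) 0).map (incl I N c) ≫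
    (singleFunctor (ModuleCat.{u} A) 0).map φ = 0
  rw [← Functor.map_comp, incl_comp_eq_zero_of_killed I c T hT N φ, Functor.map_zero]

set_option backward.isDefEq.respectTransparency false in
theorem dies_single_shift_succ (T : ModuleCat.{u} A) (p : ℕ)
    (hp : Dies I (((singleFunctor (ModuleCat.{u} A) 0).obj T)⟦(p : ℤ)⟧)) :
    Dies I (((singleFunctor (ModuleCat.{u} A) 0).obj T)⟦((p + 1 : ℕ) : ℤ)⟧) := by
  intro N _ _ _ w
  obtain ⟨k0, π, hπ⟩ := Module.Finite.exists_fin' A N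
  haveI : Projective (ModuleCat.of A (Fin k0 → A)) :=
    (IsProjective.iff_projective (R := A) (P := Fin k0 → A)).1 inferInstance
  have hS := sesOf_shortExact π hπ
  have h0 : (hS.singleTriangle).mor₂ ≫ w = 0 :=
    hom_projective_eq_zero (ModuleCat.of A (Fin k0 → A)) T p _
  obtain ⟨w'', hw''⟩ : ∃ w'' : (sgD (ModuleCat.of A ↥(LinearMap.ker π)))⟦(1 : ℤ)⟧ ⟶
      ((singleFunctor (ModuleCat.{u} A) 0).obj T)⟦((p + 1 : ℕ) : ℤ)⟧, w = hS.singleδ ≫ w'' :=
    Triangle.yoneda_exact₃ _ hS.singleTriangle_distinguished w h0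
  let β := (shiftFunctorAdd' (DerivedCategory (ModuleCat.{u} A)) (p : ℤ) 1 ((p + 1 : ℕ) : ℤ)
    (by push_cast; rfl)).app ((singleFunctor (ModuleCat.{u} A) 0).obj T)
  let w' : sgD (ModuleCat.of A ↥(LinearMap.ker π)) ⟶
      ((singleFunctor (ModuleCat.{u} A) 0).obj T)⟦(p : ℤ)⟧ :=
    (shiftFunctor (DerivedCategory (ModuleCat.{u} A)) (1 : ℤ)).preimage (w'' ≫ β.hom)
  have hw' : w'⟦(1 : ℤ)⟧' = w'' ≫ β.hom := Functor.map_preimage _ _
  haveI : IsNoetherian A (Fin k0 → A) := isNoetherian_of_isNoetherianRing_of_finite A _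
  obtain ⟨n', hn'⟩ := hp ↥(LinearMap.ker π) w'
  obtain ⟨k, hk⟩ := Ideal.exists_pow_inf_eq_pow_smul I (LinearMap.ker π)
  refine ⟨n' + k, ?_⟩
  have hSn := sesOf_shortExact (restrictPow (I := I) π (n' + k)) (restrictPow_surjective π hπ _)
  let t1 : sgD (ModuleCat.of A ↥(LinearMap.ker (restrictPow (I := I) π (n' + k)))) ⟶
      sgD (ModuleCat.of A ↥(LinearMap.ker π)) := sgMap (ModuleCat.ofHom (kerMap π (n' + k)))
  have nat : hSn.singleδ ≫ t1⟦(1 : ℤ)⟧' = sgMap (incl I N (n' + k)) ≫ hS.singleδ :=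
    (ShortComplex.ShortExact.singleTriangle.map hSn hS (sesMap π (n' + k))).comm₃
  have hfac : t1 ≫ w' = 0 := by
    show sgMap (sesMapFactor π k n' hk ≫ incl I ↥(LinearMap.ker π) n') ≫ w' = 0
    rw [sgMap_comp, Category.assoc, hn', comp_zero]
  have hfac' : t1⟦(1 : ℤ)⟧' ≫ w'' = 0 := by
    have h1 : t1⟦(1 : ℤ)⟧' ≫ (w'' ≫ β.hom) = 0 := by
      rw [← hw', ← Functor.map_comp, hfac, Functor.map_zero]
    rw [← cancel_mono β.hom, zero_comp, Category.assoc]
    exact h1
  have h2 : (sgMap (incl I N (n' + k)) ≫ hS.singleδ) ≫ w'' = 0 := by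
    rw [← nat, Category.assoc, hfac', comp_zero]
  rw [hw'']
  exact (Category.assoc _ _ _).symm.trans h2

theorem dies_single_shift (c : ℕ) (T : ModuleCat.{u} A) (hT : Killed (I ^ c) T) (p : ℕ) :
    Dies I (((singleFunctor (ModuleCat.{u} A) 0).obj T)⟦(p : ℤ)⟧) := by
  induction p with
  | zero => exact dies_single_shift_zero I c T hT
  | succ p ih => exact dies_single_shift_succ I T p ih

end LemmaE

section LemmaM

variable [IsNoetherianRing A]

lemma dies_Q_single (c : ℕ) (T : ModuleCat.{u} A) (hT : Killed (I ^ c) T) (p : ℕ) :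
    Dies I (Q.obj ((CochainComplex.singleFunctor (ModuleCat.{u} A) (-(p : ℤ))).obj T)) :=
  (dies_single_shift I c T hT p).of_iso I
    (((DerivedCategory.singleFunctors (ModuleCat.{u} A)).shiftIso (p : ℤ) (-(p : ℤ)) 0
      (by omega)).app T)

lemma killed_homology_of_isZero_X {J : Ideal A} (K : CochainComplex (ModuleCat.{u} A) ℤ) (k : ℤ)
    (h : IsZero (K.X k)) : Killed J (K.homology k) :=
  killed_of_isZero (ShortComplex.isZero_homology_of_isZero_X₂ _ h)

theorem dies_of_bounded (c : ℕ) : ∀ (r p : ℕ) (K : CochainComplex (ModuleCat.{u} A) ℤ),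
    K.IsStrictlyLE (-(p : ℤ)) → K.IsStrictlyGE (-(p : ℤ) - r + 1) →
    (∀ k, Killed (I ^ c) (K.homology k)) → Dies I (Q.obj K) := by
  intro r
  induction r with
  | zero =>
    intro p K hLE hGE _
    apply dies_of_isZero
    have h0 : 𝟙 K = 0 := by
      refine HomologicalComplex.hom_ext _ _ (fun i => ?_)
      rcases le_or_gt i (-(p : ℤ)) with hi | hi
      · exact (K.isZero_of_isStrictlyGE (-(p : ℤ) - ((0 : ℕ) : ℤ) + 1) i
          (by push_cast; omega)).eq_of_src _ _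
      · exact (K.isZero_of_isStrictlyLE (-(p : ℤ)) i hi).eq_of_src _ _
    rw [IsZero.iff_id_eq_zero, ← CategoryTheory.Functor.map_id, h0, Functor.map_zero]
  | succ r ih =>
    intro p K hLE hGE hkill
    have hS := K.shortComplexTruncLE_shortExact (-(p : ℤ) - 1)
    have hT := triangleOfSES_distinguished hS
    refine Dies.of_triangle (triangleOfSES hS) hT ?_ ?_
    · -- the truncation
      have e1 : -(p : ℤ) - 1 = -((p + 1 : ℕ) : ℤ) := by push_cast; ring
      have e2 : -(p : ℤ) - ((r + 1 : ℕ) : ℤ) + 1 = -((p + 1 : ℕ) : ℤ) - (r : ℤ) + 1 := by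
        push_cast; ring
      have hGE' : K.IsStrictlyGE (-((p + 1 : ℕ) : ℤ) - (r : ℤ) + 1) := e2 ▸ hGE
      refine ih (p + 1) (K.truncLE (-(p : ℤ) - 1)) (e1 ▸ inferInstance) inferInstance ?_
      intro k
      rcases le_or_gt k (-(p : ℤ) - 1) with hk | hk
      · have := K.quasiIsoAt_ιTruncLE (-(p : ℤ) - 1) k hk
        rw [quasiIsoAt_iff_isIso_homologyMap] at this
        exact (hkill k).of_iso (asIso (HomologicalComplex.homologyMap
          (K.ιTruncLE (-(p : ℤ) - 1)) k)).symm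
      · exact killed_homology_of_isZero_X _ k
          ((K.truncLE (-(p : ℤ) - 1)).isZero_of_isStrictlyLE (-(p : ℤ) - 1) k hk)
    · -- the top cohomology
      have hpp : -(p : ℤ) - 1 + 1 = -(p : ℤ) := by omega
      have hq : IsIso (Q.map (K.shortComplexTruncLEX₃ToTruncGE (-(p : ℤ) - 1) (-(p : ℤ))
          hpp)) := by
        rw [DerivedCategory.isIso_Q_map_iff_quasiIso]
        infer_instance
      obtain ⟨T, ⟨e⟩⟩ := (K.truncGE (-(p : ℤ))).exists_iso_single (-(p : ℤ))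
      have hTk : Killed (I ^ c) T := by
        have i1 := (HomologicalComplex.homologyFunctor (ModuleCat.{u} A) _ (-(p : ℤ))).mapIso e
        have i2 : ((CochainComplex.singleFunctor (ModuleCat.{u} A) (-(p : ℤ))).obj T).homology
            (-(p : ℤ)) ≅ T := HomologicalComplex.singleObjHomologySelfIso _ _ _
        have i3 := asIso (HomologicalComplex.homologyMap (K.πTruncGE (-(p : ℤ))) (-(p : ℤ)))
        exact (hkill (-(p : ℤ))).of_iso (i3 ≪≫ i1 ≪≫ i2)
      exact (dies_Q_single I c T hTk p).of_iso I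
        ((asIso (Q.map (K.shortComplexTruncLEX₃ToTruncGE (-(p : ℤ) - 1) (-(p : ℤ)) hpp)) ≪≫
          Q.mapIso e).symm)

end LemmaM

end Groth.Agent.Lib.Helper15.ExtDie
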