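import Groth.Agent.Lib.Helper15.FPMod
import Mathlib.CategoryTheory.Limits.Preserves.Shapes.Products
import Mathlib.CategoryTheory.Limits.Preserves.Shapes.Kernels
import Mathlib.CategoryTheory.Limits.Preserves.Shapes.Zero
import Mathlib.CategoryTheory.Limits.Preserves.Shapes.Biproducts
import Mathlib.Algebra.Module.Projective

/-!
# Free objects and presentations in the category of finitely presented modules
-/

universe u

namespace Groth.Agent.Lib.Helper15.FPFree

open CategoryTheory CategoryTheory.Limits
open Groth.Agent.Lib.Helper15.FPMod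

variable (A : Type u) [CommRing A]

/-- The category of finitely presented `A`-modules. -/
abbrev Cfp := (fp A).FullSubcategory

/-- `A` as a finitely presented module. -/
abbrev X₀ : Cfp A := ⟨ModuleCat.of A A, inferInstance⟩

/-- `A^n` as a finitely presented module. -/
abbrev free (n : ℕ) : Cfp A := ⟨ModuleCat.of A (Fin n → A), inferInstance⟩

/-- Multiplication by `a`. -/
abbrev mulHom (a : A) : X₀ A ⟶ X₀ A :=
  ObjectProperty.homMk (ModuleCat.ofHom (LinearMap.lsmul A A a))

/-- The `i`-th inclusion `A ⟶ A^n`. -/
def inj (n : ℕ) (i : Fin n) : X₀ A ⟶ free A n :=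
  ObjectProperty.homMk (ModuleCat.ofHom (LinearMap.single A (fun _ : Fin n => A) i))

lemma inj_apply (n : ℕ) (i : Fin n) (a : A) :
    (inj A n i).hom.hom a = Pi.single i a := rfl

lemma mulHom_apply (a b : A) : (mulHom A a).hom.hom b = a * b := rfl

/-- `A^n` is the coproduct of `n` copies of `A`. -/
def isColimitCofan (n : ℕ) : IsColimit (Cofan.mk (free A n) (inj A n)) :=
  Cofan.IsColimit.mk _
    (fun s => ObjectProperty.homMk (ModuleCat.ofHom
      (LinearMap.lsum A (fun _ : Fin n => A) A (fun i => (s.inj i).hom.hom))))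
    (fun s i => by
      apply ObjectProperty.hom_ext
      apply ModuleCat.hom_ext
      apply LinearMap.ext
      intro a
      show (LinearMap.lsum A (fun _ : Fin n => A) A (fun i => (s.inj i).hom.hom))
        (Pi.single i a) = (s.inj i).hom.hom a
      exact LinearMap.lsum_piSingle A (fun _ : Fin n => A) A (fun i => (s.inj i).hom.hom) i a)
    (fun s m hm => by
      apply ObjectProperty.hom_ext
      apply ModuleCat.hom_ext
      apply LinearMap.pi_ext
      intro i a
      have := congrArg (fun k => k.hom.hom a) (hm i)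
      dsimp at this
      show m.hom.hom (Pi.single i a) = (LinearMap.lsum A (fun _ : Fin n => A) A
        (fun i => (s.inj i).hom.hom)) (Pi.single i a)
      rw [show m.hom.hom (Pi.single i a) = (s.inj i).hom.hom a from this]
      exact (LinearMap.lsum_piSingle A (fun _ : Fin n => A) A (fun i => (s.inj i).hom.hom) i a).symm)

/-- Every endomorphism of `A` is a multiplication. -/
lemma end_eq_mulHom (k : X₀ A ⟶ X₀ A) : k = mulHom A (k.hom.hom (1 : A)) := by
  apply ObjectProperty.hom_ext
  apply ModuleCat.hom_ext
  apply LinearMap.ext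
  intro a
  show k.hom.hom a = k.hom.hom (1 : A) * a
  have : a = a • (1 : A) := by simp
  conv_lhs => rw [this, map_smul]
  simp [mul_comm]

/-- Decomposition of a morphism `A ⟶ A^n` through the inclusions. -/
lemma decomp (n : ℕ) (h : X₀ A ⟶ free A n) :
    h = ∑ i : Fin n, mulHom A (h.hom.hom (1 : A) i) ≫ inj A n i := by
  apply (fp A).ι.map_injective
  rw [Functor.map_sum]
  apply ModuleCat.hom_ext
  apply LinearMap.ext
  intro (a : A)
  funext j
  have h1 : h.hom.hom a = a • h.hom.hom (1 : A) := by
    have : a = a • (1 : A) := by simp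
    conv_lhs => rw [this]
    exact map_smul _ _ _
  show h.hom.hom a j = _
  rw [h1]
  simp only [ObjectProperty.ι_map, ObjectProperty.FullSubcategory.comp_hom]
  rw [ModuleCat.hom_sum]
  simp only [LinearMap.coe_sum, Finset.sum_apply, ModuleCat.hom_comp, LinearMap.comp_apply]
  have h2 : ∀ c : Fin n, (inj A n c).hom.hom ((mulHom A (h.hom.hom (1 : A) c)).hom.hom a) j =
      if c = j then a * h.hom.hom (1 : A) c else 0 := by
    intro c
    rw [inj_apply, mulHom_apply, Pi.single_apply, mul_comm]
    simp [eq_comm]
  rw [Finset.sum_apply, Finset.sum_congr rfl (fun c _ => h2 c)]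
  simp

/-- A presentation of a finitely presented module in the category `Cfp A`. -/
structure Pres (M : Cfp A) where
  n : ℕ
  m : ℕ
  π : free A n ⟶ M
  R : free A m ⟶ free A n
  w : R ≫ π = 0
  hc : IsColimit (CokernelCofork.ofπ π w)
  surj : Function.Surjective π.hom.hom

lemma nonempty_pres (M : Cfp A) : Nonempty (Pres A M) := by
  haveI : Module.FinitePresentation A M.obj := M.property
  obtain ⟨n, m, f, g, hf, hfg⟩ := Module.FinitePresentation.exists_fin' A M.obj
  let S : ShortComplex (ModuleCat.{u} A) :=
    ShortComplex.mk (ModuleCat.ofHom g) (ModuleCat.ofHom f)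
      (ModuleCat.hom_ext (LinearMap.ext fun x => hfg.apply_apply_eq_zero x))
  have hS : S.Exact := (ShortComplex.ShortExact.moduleCat_exact_iff_function_exact S).2 hfg
  haveI : Epi S.g := (ModuleCat.epi_iff_surjective _).2 hf
  have hc : IsColimit (CokernelCofork.ofπ S.g S.zero) := hS.gIsCokernel
  let π : free A n ⟶ M := ObjectProperty.homMk (ModuleCat.ofHom f)
  let R : free A m ⟶ free A n := ObjectProperty.homMk (ModuleCat.ofHom g)
  have w : R ≫ π = 0 := by
    apply (fp A).ι.map_injective
    rw [Functor.map_zero]
    exact S.zero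
  refine ⟨⟨n, m, π, R, w, ?_, hf⟩⟩
  refine isColimitOfReflects (fp A).ι ?_
  exact (isColimitMapCoconeCoforkEquiv' (fp A).ι w).symm hc

/-- Lifting a morphism from a free module through a surjection. -/
lemma exists_lift {M N : Cfp A} (n : ℕ) (p : free A n ⟶ N) (q : M ⟶ N)
    (hq : Function.Surjective q.hom.hom) : ∃ l : free A n ⟶ M, l ≫ q = p := by
  obtain ⟨h, hh⟩ := Module.projective_lifting_property q.hom.hom p.hom.hom hq
  refine ⟨ObjectProperty.homMk (ModuleCat.ofHom h), ?_⟩
  apply ObjectProperty.hom_ext
  apply ModuleCat.hom_ext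
  exact hh

end Groth.Agent.Lib.Helper15.FPFree
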