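import Mathlib.Algebra.Category.ModuleCat.Biproducts
import Mathlib.Algebra.Category.ModuleCat.Abelian
import Mathlib.Algebra.Category.ModuleCat.Ulift
import Mathlib.Algebra.Module.FinitePresentation
import Mathlib.CategoryTheory.ObjectProperty.Kernels
import Mathlib.CategoryTheory.ObjectProperty.FiniteProducts
import Mathlib.CategoryTheory.ObjectProperty.ContainsZero
import Mathlib.CategoryTheory.Preadditive.LeftExact

/-!
# The full subcategory of finitely presented modules

Closure properties of `Module.FinitePresentation` as an `ObjectProperty (ModuleCat A)`.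
-/

universe u

namespace Groth.Agent.Lib.Helper15.FPMod

open CategoryTheory CategoryTheory.Limits

variable (A : Type u) [CommRing A]

/-- The property of being a finitely presented module. -/
abbrev fp : ObjectProperty (ModuleCat.{u} A) := fun M => Module.FinitePresentation A M

instance : (fp A).IsClosedUnderIsomorphisms where
  of_iso {X Y} e hX := by
    haveI : Module.FinitePresentation A X := hX
    exact Module.FinitePresentation.of_equiv e.toLinearEquiv

instance : (fp A).ContainsZero where
  exists_zero := ⟨ModuleCat.of A PUnit, ModuleCat.isZero_of_subsingleton _, by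
    show Module.FinitePresentation A PUnit
    infer_instance⟩

instance : (fp A).IsClosedUnderCokernels where
  cokernels_le := by
    rintro Q ⟨f, k, hk, hX, hY⟩
    haveI : Module.FinitePresentation A _ := hX
    haveI : Module.FinitePresentation A _ := hY
    have hepi : Epi k.π := Cofork.IsColimit.epi hk
    have hsurj : Function.Surjective k.π.hom := (ModuleCat.epi_iff_surjective _).1 hepi
    have hex : (ShortComplex.mk f k.π k.condition).Exact :=
      ShortComplex.exact_of_g_is_cokernel _ (IsColimit.ofIsoColimit hk
        (Cofork.ext (Iso.refl _) (by simp)))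
    rw [ShortComplex.moduleCat_exact_iff_range_eq_ker] at hex
    refine Module.finitePresentation_of_surjective k.π.hom hsurj ?_
    dsimp at hex
    rw [← hex, LinearMap.range_eq_map]
    exact (Module.Finite.fg_top).map _

instance : (fp A).IsClosedUnderBinaryCoproducts where
  colimitsOfShape_le := by
    rintro Y ⟨hY⟩
    have h₁ := hY.prop_diag_obj ⟨WalkingPair.left⟩
    have h₂ := hY.prop_diag_obj ⟨WalkingPair.right⟩
    have e : Y ≅ hY.diag.obj ⟨WalkingPair.left⟩ ⊞ hY.diag.obj ⟨WalkingPair.right⟩ :=
      (IsColimit.coconePointUniqueUpToIso hY.isColimit (colimit.isColimit hY.diag)) ≪≫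
        (HasColimit.isoOfNatIso (diagramIsoPair hY.diag)) ≪≫ (biprod.isoCoprod _ _).symm
    refine (fp A).prop_of_iso (e ≪≫ ModuleCat.biprodIsoProd _ _).symm ?_
    haveI : Module.FinitePresentation A _ := h₁
    haveI : Module.FinitePresentation A _ := h₂
    show Module.FinitePresentation A (_ × _)
    infer_instance

instance : (fp A).IsClosedUnderFiniteCoproducts := ObjectProperty.IsClosedUnderFiniteCoproducts.mk'

end Groth.Agent.Lib.Helper15.FPMod
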