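import Groth.Agent.Lib.Helper15.PartialAdjColim
import Groth.Agent.Lib.Helper15.FPMod

/-!
# `M ↦ M ⊗_A K` on finitely presented modules, for `K` an object of an additive category with an
`A`-action: constructed as the partial left adjoint of `X ↦ Hom(K, X)`.
-/

universe u v' u'

namespace Groth.Agent.Lib.Helper15.FunMorK

open CategoryTheory CategoryTheory.Limits Opposite
open Groth.Agent.Lib.Helper15.FPMod

variable {A : Type u} [CommRing A] {B : Type u'} [Category.{v'} B] [Preadditive B] {K : B}
  (κ : A →+* End K)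

/-- `Hom(K, X)` (universe lifted), as an `A`-module through `κ`. -/
def HomMod (_ : A →+* End K) (X : B) : Type (max u v') := ULift.{u} (K ⟶ X)

instance (X : B) : AddCommGroup (HomMod κ X) :=
  inferInstanceAs (AddCommGroup (ULift.{u} (K ⟶ X)))

@[ext]
lemma HomMod.ext {X : B} {f g : HomMod κ X} (h : f.down = g.down) : f = g := ULift.ext _ _ h

@[simp] lemma HomMod.add_down {X : B} (f g : HomMod κ X) : (f + g).down = f.down + g.down := rfl
@[simp] lemma HomMod.zero_down {X : B} : (0 : HomMod κ X).down = 0 := rfl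

instance (X : B) : SMul A (HomMod κ X) := ⟨fun a f => ⟨κ a ≫ f.down⟩⟩

@[simp] lemma HomMod.smul_down {X : B} (a : A) (f : HomMod κ X) : (a • f).down = κ a ≫ f.down :=
  rfl

instance (X : B) : Module A (HomMod κ X) where
  one_smul f := by ext; simp [End.one_def]
  mul_smul a b f := by
    ext
    simp only [HomMod.smul_down]
    rw [mul_comm, map_mul, End.mul_def, Category.assoc]
  smul_zero a := by ext; simp
  smul_add a f g := by ext; simp
  add_smul a b f := by
    ext
    simp only [HomMod.smul_down, HomMod.add_down, map_add]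
    exact Preadditive.add_comp _ _ _ _ _ _
  zero_smul f := by ext; simp

/-- The functor `X ↦ Hom(K, X)` to `A`-modules. -/
def G : B ⥤ ModuleCat.{max u v'} A where
  obj X := ModuleCat.of A (HomMod κ X)
  map {X Y} g := ModuleCat.ofHom
    { toFun := fun f => (⟨f.down ≫ g⟩ : HomMod κ Y)
      map_add' := fun f f' => by ext; simp [Preadditive.add_comp]
      map_smul' := fun a f => by ext; simp }
  map_id X := by ext f; exact HomMod.ext κ (Category.comp_id _)
  map_comp g g' := by ext f; exact HomMod.ext κ (Category.assoc _ _ _).symm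

@[simp] lemma G_map_apply_down {X Y : B} (g : X ⟶ Y) (f : HomMod κ X) :
    (((G κ).map g).hom f : HomMod κ Y).down = f.down ≫ g := rfl

lemma G_map_zero {X Y : B} : (G κ).map (0 : X ⟶ Y) = 0 := by
  ext f
  refine HomMod.ext κ ?_
  show f.down ≫ (0 : X ⟶ Y) = 0
  simp

/-- `A` lifted to the universe `max u v'`. -/
abbrev uA : ModuleCat.{max u v'} A := (ModuleCat.uliftFunctor.{v'} A).obj (ModuleCat.of A A)

/-- `K` corepresents `X ↦ Hom_A(A, Hom(K, X))`. -/
def corep : ((G κ) ⋙ coyoneda.obj (op (uA.{u, v'} (A := A)))).CorepresentableBy K where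
  homEquiv {Y} :=
    { toFun := fun f => ModuleCat.ofHom
        { toFun := fun a => (⟨κ a.down ≫ f⟩ : HomMod κ Y)
          map_add' := fun a b => by
            ext
            show κ (a.down + b.down) ≫ f = κ a.down ≫ f + κ b.down ≫ f
            rw [map_add, Preadditive.add_comp]
          map_smul' := fun a b => by
            ext
            show κ (a * b.down) ≫ f = κ a ≫ κ b.down ≫ f
            rw [mul_comm, map_mul, End.mul_def, Category.assoc] }
      invFun := fun φ => (φ.hom ⟨1⟩ : HomMod κ Y).down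
      left_inv := fun f => by
        show κ 1 ≫ f = f
        rw [map_one, End.one_def, Category.id_comp]
      right_inv := fun φ => by
        apply ModuleCat.hom_ext
        apply LinearMap.ext
        intro a
        have h1 : (ModuleCat.Hom.hom φ) (a.down • (⟨1⟩ : ULift.{v'} A)) =
            a.down • (ModuleCat.Hom.hom φ) (⟨1⟩ : ULift.{v'} A) := map_smul _ _ _
        have h2 : a.down • (⟨1⟩ : ULift.{v'} A) = a := by ext; simp
        rw [h2] at h1
        refine HomMod.ext κ ?_
        exact (congrArg ULift.down h1).symm }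
  homEquiv_comp g f := by
    apply ModuleCat.hom_ext
    apply LinearMap.ext
    intro a
    refine HomMod.ext κ ?_
    show κ a.down ≫ f ≫ g = (κ a.down ≫ f) ≫ g
    rw [Category.assoc]

lemma defined_uA : (G κ).leftAdjointObjIsDefined (uA.{u, v'} (A := A)) :=
  (corep κ).isCorepresentable

lemma defined_of_iso {X Y : ModuleCat.{max u v'} A} (e : X ≅ Y)
    (h : (G κ).leftAdjointObjIsDefined X) : (G κ).leftAdjointObjIsDefined Y := by
  rw [Functor.leftAdjointObjIsDefined_iff] at h ⊢
  exact corepresentable_of_natIso _ (Functor.isoWhiskerLeft (G κ) (coyoneda.mapIso e.symm.op))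

variable [HasFiniteBiproducts B] [HasCokernels B]

omit [HasCokernels B] in
lemma defined_free (n : ℕ) : (G κ).leftAdjointObjIsDefined
    ((ModuleCat.uliftFunctor.{v'} A).obj (ModuleCat.of A (Fin n → A))) := by
  have h1 : (G κ).leftAdjointObjIsDefined ((ModuleCat.uliftFunctor.{v'} A).obj
      (⨁ (fun _ : Fin n => ModuleCat.of A A))) := by
    refine Functor.leftAdjointObjIsDefined_of_isColimit
      (isColimitOfPreserves (ModuleCat.uliftFunctor.{v'} A)
        (biproduct.isColimit (fun _ : Fin n => ModuleCat.of A A))) ?_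
    rintro ⟨j⟩
    exact defined_uA κ
  exact defined_of_iso κ ((ModuleCat.uliftFunctor.{v'} A).mapIso
    (ModuleCat.biproductIsoPi (fun _ : Fin n => ModuleCat.of A A))) h1

lemma defined_fp (M : ModuleCat.{u} A) [Module.FinitePresentation A M] :
    (G κ).leftAdjointObjIsDefined ((ModuleCat.uliftFunctor.{v'} A).obj M) := by
  obtain ⟨n, m, f, g, hf, hfg⟩ := Module.FinitePresentation.exists_fin' A M
  let S : ShortComplex (ModuleCat.{u} A) :=
    ShortComplex.mk (ModuleCat.ofHom g) (ModuleCat.ofHom f)
      (ModuleCat.hom_ext (LinearMap.ext fun x => hfg.apply_apply_eq_zero x))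
  have hS : S.Exact := (ShortComplex.ShortExact.moduleCat_exact_iff_function_exact S).2 hfg
  haveI : Epi S.g := (ModuleCat.epi_iff_surjective _).2 hf
  have hc : IsColimit (CokernelCofork.ofπ S.g S.zero) := hS.gIsCokernel
  haveI : HasCoequalizers B := Preadditive.hasCoequalizers_of_hasCokernels
  refine Functor.leftAdjointObjIsDefined_of_isColimit
    (isColimitOfPreserves (ModuleCat.uliftFunctor.{v'} A) hc) ?_
  rintro (_ | _)
  · exact defined_free κ m
  · exact defined_free κ n

/-- The lift of `M ↦ ULift M` to the source of the partial left adjoint. -/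
noncomputable def liftFun : (fp A).FullSubcategory ⥤ (G κ).PartialLeftAdjointSource :=
  ObjectProperty.lift _ ((fp A).ι ⋙ ModuleCat.uliftFunctor.{v'} A) (fun M => by
    haveI : Module.FinitePresentation A M.obj := M.property
    exact defined_fp κ M.obj)

/-- The functor `M ↦ M ⊗_A K` on finitely presented modules. -/
noncomputable def Ffun : (fp A).FullSubcategory ⥤ B :=
  liftFun κ ⋙ (G κ).partialLeftAdjoint

omit [HasFiniteBiproducts B] [HasCokernels B] in
lemma homEquiv_zero {X : (G κ).PartialLeftAdjointSource} {Y : B} :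
    (G κ).partialLeftAdjointHomEquiv (0 : (G κ).partialLeftAdjointObj X ⟶ Y) = 0 := by
  have := (G κ).partialLeftAdjointHomEquiv_comp (𝟙 ((G κ).partialLeftAdjointObj X))
    (0 : (G κ).partialLeftAdjointObj X ⟶ Y)
  rw [Category.id_comp, G_map_zero, comp_zero] at this
  exact this

instance : (Ffun κ).PreservesZeroMorphisms where
  map_zero X Y := by
    show (G κ).partialLeftAdjointMap ((liftFun κ).map 0) =
      (0 : (G κ).partialLeftAdjointObj ((liftFun κ).obj X) ⟶
        (G κ).partialLeftAdjointObj ((liftFun κ).obj Y))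
    apply (G κ).partialLeftAdjointHomEquiv.injective
    rw [homEquiv_zero, Functor.partialLeftAdjointHomEquiv_map]
    have : ((liftFun κ).map (0 : X ⟶ Y)).hom = 0 := by
      show (ModuleCat.uliftFunctor.{v'} A).map ((fp A).ι.map 0) = 0
      rw [Functor.map_zero, Functor.map_zero]
    rw [this, zero_comp]

instance preservesCokernel {X Y : (fp A).FullSubcategory} (f : X ⟶ Y) :
    PreservesColimit (parallelPair f 0) (Ffun κ) := by
  haveI := (fp A).preservesCokernels_ι f
  have hc := colimit.isColimit (parallelPair f 0)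
  refine preservesColimit_of_preserves_colimit_cocone hc ?_
  have h1 : IsColimit ((ModuleCat.uliftFunctor.{v'} A).mapCocone
      ((fp A).ι.mapCocone (colimit.cocone (parallelPair f 0)))) :=
    isColimitOfPreserves _ (isColimitOfPreserves _ hc)
  exact PartialAdjColim.isColimitMapCocone (G κ) ((liftFun κ).mapCocone _) h1

instance : PreservesFiniteColimits (Ffun κ) := by
  haveI : HasCoequalizers (fp A).FullSubcategory := Preadditive.hasCoequalizers_of_hasCokernels
  haveI : HasBinaryBiproducts (fp A).FullSubcategory :=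
    HasBinaryBiproducts.of_hasBinaryCoproducts
  exact Functor.preservesFiniteColimits_of_preservesCokernels (Ffun κ)

/-- The object `A` of the category of finitely presented modules. -/
abbrev X₀ : (fp A).FullSubcategory := ⟨ModuleCat.of A A, inferInstance⟩

/-- `F(A)`. -/
noncomputable abbrev L : B := (G κ).partialLeftAdjointObj ((liftFun κ).obj X₀)

/-- The adjunction bijection for `F(A)`. -/
noncomputable def hEq {Y : B} : (L κ ⟶ Y) ≃ (uA.{u, v'} (A := A) ⟶ (G κ).obj Y) :=
  (G κ).partialLeftAdjointHomEquiv (X := (liftFun κ).obj X₀)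

lemma hEq_comp {Y Y' : B} (f : L κ ⟶ Y) (g : Y ⟶ Y') :
    hEq κ (f ≫ g) = hEq κ f ≫ (G κ).map g :=
  (G κ).partialLeftAdjointHomEquiv_comp (X := (liftFun κ).obj X₀) f g

omit [HasFiniteBiproducts B] [HasCokernels B] in
/-- The corepresentability bijection for `K`. -/
def cEq {Y : B} : (K ⟶ Y) ≃ (uA.{u, v'} (A := A) ⟶ (G κ).obj Y) := (corep κ).homEquiv

omit [HasFiniteBiproducts B] [HasCokernels B] in
lemma cEq_comp {Y Y' : B} (f : K ⟶ Y) (g : Y ⟶ Y') :
    cEq κ (f ≫ g) = cEq κ f ≫ (G κ).map g :=
  (corep κ).homEquiv_comp g f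

/-- `F(A) ≅ K`. -/
noncomputable def eIso : L κ ≅ K where
  hom := (hEq κ).symm (cEq κ (𝟙 K))
  inv := (cEq κ).symm (hEq κ (𝟙 _))
  hom_inv_id := by
    apply (hEq κ).injective
    rw [hEq_comp, Equiv.apply_symm_apply, ← cEq_comp, Category.id_comp, Equiv.apply_symm_apply]
  inv_hom_id := by
    apply (cEq κ).injective
    rw [cEq_comp, Equiv.apply_symm_apply, ← hEq_comp, Category.id_comp, Equiv.apply_symm_apply]

lemma hEq_eIso_hom : hEq κ (eIso κ).hom = cEq κ (𝟙 K) :=
  Equiv.apply_symm_apply _ _

/-- Multiplication by `a` on `A`, as an endomorphism in the category of f.p. modules. -/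
abbrev mulHom (a : A) : (X₀ (A := A)) ⟶ X₀ :=
  ObjectProperty.homMk (ModuleCat.ofHom (LinearMap.lsmul A A a))

/-- `F(a ·) : F(A) ⟶ F(A)`. -/
noncomputable def mapMul (a : A) : L κ ⟶ L κ := (Ffun κ).map (mulHom a)

lemma hEq_map_comp (a : A) {Y : B} (g : L κ ⟶ Y) :
    hEq κ (mapMul κ a ≫ g) = ((liftFun κ).map (mulHom a)).hom ≫ hEq κ g :=
  (G κ).partialLeftAdjointHomEquiv_map_comp ((liftFun κ).map (mulHom a)) g

lemma mapMul_comp_eIso (a : A) :
    mapMul κ a ≫ (eIso κ).hom = (eIso κ).hom ≫ κ a := by
  apply (hEq κ).injective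
  rw [hEq_map_comp, hEq_comp, hEq_eIso_hom]
  apply ModuleCat.hom_ext
  apply LinearMap.ext
  intro b
  refine HomMod.ext κ ?_
  show κ (@HMul.hMul A A A _ a b.down) ≫ 𝟙 K = (κ b.down ≫ 𝟙 K) ≫ κ a
  rw [Category.comp_id, Category.comp_id, map_mul, End.mul_def]

end Groth.Agent.Lib.Helper15.FunMorK
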