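import Groth.Agent.Lib.Helper15.FPFree

/-!
# Natural transformations between right exact functors on finitely presented modules
are determined by (and can be constructed from) their component at `A`.
-/

universe u v' u'

namespace Groth.Agent.Lib.Helper15.FunMorNat

open CategoryTheory CategoryTheory.Limits
open Groth.Agent.Lib.Helper15.FPMod Groth.Agent.Lib.Helper15.FPFree

variable {A : Type u} [CommRing A] {B : Type u'} [Category.{v'} B] [Preadditive B]
  [HasFiniteBiproducts B] [HasCokernels B]

section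

variable (F : Cfp A ⥤ B) [PreservesFiniteColimits F]

lemma additive : F.Additive := by
  haveI : HasBinaryBiproducts (Cfp A) := HasBinaryBiproducts.of_hasBinaryCoproducts
  haveI : F.PreservesZeroMorphisms := inferInstance
  haveI := preservesBinaryBiproducts_of_preservesBinaryCoproducts F
  exact Functor.additive_of_preservesBinaryBiproducts F

/-- `F(A^n)` is the coproduct of `n` copies of `F(A)`. -/
noncomputable def isColimitF (n : ℕ) :
    IsColimit (Cofan.mk (F.obj (free A n)) (fun i => F.map (inj A n i))) :=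
  isColimitCofanMkObjOfIsColimit F _ _ (isColimitCofan A n)

lemma map_w {M : Cfp A} (P : Pres A M) : F.map P.R ≫ F.map P.π = 0 := by
  haveI := additive F
  rw [← F.map_comp, P.w, F.map_zero]

/-- `F(M)` is the cokernel of `F(R)`. -/
noncomputable def cokerF {M : Cfp A} (P : Pres A M) :
    IsColimit (CokernelCofork.ofπ (F.map P.π) (map_w F P)) :=
  isColimitCoforkMapOfIsColimit' F P.w P.hc

lemma epi_map_π {M : Cfp A} (P : Pres A M) : Epi (F.map P.π) :=
  Cofork.IsColimit.epi (cokerF F P)

end

variable {F F' : Cfp A ⥤ B} [PreservesFiniteColimits F] [PreservesFiniteColimits F']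

/-- Natural transformations are determined by their component at `A`. -/
lemma natTrans_ext (t t' : F ⟶ F') (h : t.app (X₀ A) = t'.app (X₀ A)) : t = t' := by
  have hfree : ∀ n : ℕ, t.app (free A n) = t'.app (free A n) := by
    intro n
    apply Cofan.IsColimit.hom_ext (isColimitF F n)
    intro i
    show F.map (inj A n i) ≫ _ = F.map (inj A n i) ≫ _
    rw [t.naturality, t'.naturality, h]
  ext M
  obtain ⟨P⟩ := nonempty_pres A M
  haveI := epi_map_π F P
  rw [← cancel_epi (F.map P.π), t.naturality, t'.naturality, hfree]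

variable (φ : F.obj (X₀ A) ⟶ F'.obj (X₀ A))

/-- The component at `A^n` of the natural transformation extending `φ`. -/
noncomputable def tFree (n : ℕ) : F.obj (free A n) ⟶ F'.obj (free A n) :=
  Cofan.IsColimit.desc (isColimitF F n) (fun i => φ ≫ F'.map (inj A n i))

lemma inj_tFree (n : ℕ) (i : Fin n) :
    F.map (inj A n i) ≫ tFree φ n = φ ≫ F'.map (inj A n i) :=
  Cofan.IsColimit.fac (isColimitF F n) _ i

variable (hφ : ∀ a : A, F.map (mulHom A a) ≫ φ = φ ≫ F'.map (mulHom A a))

include hφ

lemma tuple_tFree (n : ℕ) (h : X₀ A ⟶ free A n) :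
    F.map h ≫ tFree φ n = φ ≫ F'.map h := by
  haveI := additive F
  haveI := additive F'
  obtain ⟨c, hc⟩ : ∃ c : Fin n → A, h = ∑ i, mulHom A (c i) ≫ inj A n i := ⟨_, decomp A n h⟩
  rw [hc, F.map_sum, F'.map_sum, Preadditive.sum_comp, Preadditive.comp_sum]
  refine Finset.sum_congr rfl (fun i _ => ?_)
  rw [F.map_comp, F'.map_comp, Category.assoc, inj_tFree, ← Category.assoc, hφ, Category.assoc]

lemma nat_free {m n : ℕ} (g : free A m ⟶ free A n) :
    F.map g ≫ tFree φ n = tFree φ m ≫ F'.map g := by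
  apply Cofan.IsColimit.hom_ext (isColimitF F m)
  intro j
  show F.map (inj A m j) ≫ _ = F.map (inj A m j) ≫ _
  rw [← Category.assoc, ← F.map_comp, tuple_tFree φ hφ, ← Category.assoc, inj_tFree,
    Category.assoc, ← F'.map_comp]

lemma toA_tFree (n : ℕ) (p : free A n ⟶ X₀ A) :
    F.map p ≫ φ = tFree φ n ≫ F'.map p := by
  apply Cofan.IsColimit.hom_ext (isColimitF F n)
  intro i
  show F.map (inj A n i) ≫ _ = F.map (inj A n i) ≫ _
  obtain ⟨c, hc⟩ : ∃ c : A, inj A n i ≫ p = mulHom A c := ⟨_, end_eq_mulHom A _⟩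
  rw [← Category.assoc, ← F.map_comp, hc, hφ, ← Category.assoc, inj_tFree, Category.assoc,
    ← F'.map_comp, hc]

lemma tM_aux {M : Cfp A} (P : Pres A M) :
    F.map P.R ≫ tFree φ P.n ≫ F'.map P.π = 0 := by
  rw [← Category.assoc, nat_free φ hφ, Category.assoc, map_w, comp_zero]

/-- The component at `M` (depending on a presentation). -/
noncomputable def tM {M : Cfp A} (P : Pres A M) : F.obj M ⟶ F'.obj M :=
  (cokerF F P).desc (CokernelCofork.ofπ (tFree φ P.n ≫ F'.map P.π) (tM_aux φ hφ P))

lemma π_tM {M : Cfp A} (P : Pres A M) :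
    F.map P.π ≫ tM φ hφ P = tFree φ P.n ≫ F'.map P.π :=
  (cokerF F P).fac (CokernelCofork.ofπ (tFree φ P.n ≫ F'.map P.π) (tM_aux φ hφ P))
    WalkingParallelPair.one

lemma tM_naturality {M N : Cfp A} (f : M ⟶ N) (P : Pres A M) (Q : Pres A N) :
    F.map f ≫ tM φ hφ Q = tM φ hφ P ≫ F'.map f := by
  haveI := epi_map_π F P
  obtain ⟨l, hl⟩ := exists_lift A P.n (P.π ≫ f) Q.π Q.surj
  rw [← cancel_epi (F.map P.π), ← Category.assoc, ← F.map_comp, ← hl, F.map_comp, Category.assoc,
    π_tM, ← Category.assoc, nat_free φ hφ, Category.assoc, ← F'.map_comp, hl, F'.map_comp,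
    ← Category.assoc, ← π_tM φ hφ P, Category.assoc]

lemma tM_X₀ (P : Pres A (X₀ A)) : tM φ hφ P = φ := by
  haveI := epi_map_π F P
  rw [← cancel_epi (F.map P.π), π_tM, toA_tFree φ hφ]

/-- The natural transformation extending `φ`. -/
noncomputable def natTrans : F ⟶ F' where
  app M := tM φ hφ (nonempty_pres A M).some
  naturality _ _ f := tM_naturality φ hφ f _ _

lemma natTrans_app_X₀ : (natTrans φ hφ).app (X₀ A) = φ := tM_X₀ φ hφ _

end Groth.Agent.Lib.Helper15.FunMorNat
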