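import Mathlib
import Groth.Prelude.Def_CohCx
import Groth.Agent.Lib.Helper5.SiteCoh

/-!
# Classes of cocycles in `Hom_D(S[0], (Q L)⟦n⟧)` for a K-injective complex `L` (helper15)

* `classEquiv K L n : CohomologyClass K L n ≃+ (Q K ⟶ (Q L)⟦n⟧)` for `L` K-injective;
* `cl L n z hz`: the class of a cocycle `z : S ⟶ Lⁿ`; additivity, surjectivity, kernel, naturality;
* `clS α n V s hs : CohCx.HDU (Q K) n V` for a quasi-isomorphism `α : K ⟶ L` of complexes of
  abelian sheaves on a site with `L` K-injective and a cocycle `s ∈ Lⁿ(V)`; same properties, and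
  compatibility with restriction `CohCx.HDUres`.
-/

set_option autoImplicit false
universe w v u

namespace Groth.Agent.Lib.Helper15.HDUcl

open CategoryTheory CategoryTheory.Limits CochainComplex HomComplex DerivedCategory

variable {A : Type u} [Category.{v} A] [Abelian A] [HasDerivedCategory.{w} A]

/-- conjugation by isomorphisms, additively -/
def homCongrAdd {D : Type*} [Category D] [Preadditive D] {X X' Y Y' : D} (a : X ≅ X') (b : Y ≅ Y') :
    (X ⟶ Y) ≃+ (X' ⟶ Y') where
  toFun f := a.inv ≫ f ≫ b.hom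
  invFun g := a.hom ≫ g ≫ b.inv
  left_inv f := by simp
  right_inv g := by simp
  map_add' f g := by simp

/-- `Hom_K(K, L⟦n⟧) ≃+ Hom_D(Q K, (Q L)⟦n⟧)` for `L` K-injective -/
noncomputable def classEquiv (K L : CochainComplex A ℤ) [L.IsKInjective] (n : ℤ) :
    CohomologyClass K L n ≃+ (Q.obj K ⟶ (Q.obj L)⟦n⟧) :=
  (CohomologyClass.homAddEquiv (K := K) (L := L) (n := n)).trans
    ((AddEquiv.ofBijective (Qh (C := A)).mapAddHom
      (CochainComplex.IsKInjective.Qh_map_bijective _ (L⟦n⟧))).trans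
      (homCongrAdd ((quotientCompQhIso A).app K)
        ((quotientCompQhIso A).app (L⟦n⟧) ≪≫ (Q.commShiftIso n).app L)))

lemma classEquiv_mk (K L : CochainComplex A ℤ) [L.IsKInjective] (n : ℤ) (z : Cocycle K L n) :
    classEquiv K L n (CohomologyClass.mk z) =
      Q.map (Cocycle.equivHomShift.symm z) ≫ (Q.commShiftIso n).hom.app L := by
  have h := quotientCompQhIso_hom_naturality (C := A) (Cocycle.equivHomShift.symm z)
  change ((quotientCompQhIso A).app K).inv ≫
    Qh.map (CohomologyClass.toHom (CohomologyClass.mk z)) ≫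
      ((quotientCompQhIso A).app (L⟦n⟧) ≪≫ (Q.commShiftIso n).app L).hom = _
  rw [CohomologyClass.toHom_mk]
  simp only [Iso.app_inv, Iso.trans_hom, Iso.app_hom]
  rw [← Category.assoc (Qh.map _), h]
  simp

lemma classEquiv_precomp {K' K : CochainComplex A ℤ} (L : CochainComplex A ℤ) [L.IsKInjective]
    (n : ℤ) (g : K' ⟶ K) (z : Cocycle K L n) :
    classEquiv K' L n (CohomologyClass.mk (z.precomp g)) =
      Q.map g ≫ classEquiv K L n (CohomologyClass.mk z) := by
  rw [classEquiv_mk, classEquiv_mk, Cocycle.equivHomShift_symm_precomp, Functor.map_comp,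
    Category.assoc]

/-- the single complex -/
noncomputable abbrev sg (S : A) : CochainComplex A ℤ := (CochainComplex.singleFunctor A 0).obj S

variable (L : CochainComplex A ℤ) [L.IsKInjective]

/-- the class in `Hom_D(S[0], (Q L)⟦n⟧)` of a cocycle `S ⟶ Lⁿ` -/
noncomputable def cl {S : A} (n : ℤ) (z : S ⟶ L.X n) (hz : z ≫ L.d n (n + 1) = 0) :
    ((DerivedCategory.singleFunctor A 0).obj S ⟶ (Q.obj L)⟦n⟧) :=
  (singleFunctorIsoCompQ A 0).hom.app S ≫ classEquiv (sg S) L n
    (CohomologyClass.mk (Cocycle.fromSingleMk z (zero_add n) (n + 1) rfl hz))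

lemma cl_add {S : A} (n : ℤ) (z z' : S ⟶ L.X n) (hz : z ≫ L.d n (n + 1) = 0)
    (hz' : z' ≫ L.d n (n + 1) = 0) :
    cl L n (z + z') (by rw [Preadditive.add_comp, hz, hz', add_zero]) = cl L n z hz + cl L n z' hz' := by
  unfold cl
  rw [Cocycle.fromSingleMk_add _ _ _ _ _ hz hz', CohomologyClass.mk_add, map_add,
    Preadditive.comp_add]

lemma cl_surjective {S : A} (n : ℤ)
    (φ : (DerivedCategory.singleFunctor A 0).obj S ⟶ (Q.obj L)⟦n⟧) :
    ∃ (z : S ⟶ L.X n) (hz : z ≫ L.d n (n + 1) = 0), cl L n z hz = φ := by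
  obtain ⟨x, hx⟩ := (classEquiv (sg S) L n).surjective ((singleFunctorIsoCompQ A 0).inv.app S ≫ φ)
  obtain ⟨c, rfl⟩ := x.mk_surjective
  obtain ⟨f, hf, rfl⟩ := Cocycle.fromSingleMk_surjective c n (zero_add n) (n + 1) rfl
  refine ⟨f, hf, ?_⟩
  unfold cl
  rw [hx]
  simp

lemma cl_eq_zero_iff {S : A} (n : ℤ) (z : S ⟶ L.X n) (hz : z ≫ L.d n (n + 1) = 0)
    (m : ℤ) (hm : m + 1 = n) :
    cl L n z hz = 0 ↔ ∃ w : S ⟶ L.X m, w ≫ L.d m n = z := by
  unfold cl
  rw [← Cocycle.fromSingleMk_mem_coboundaries_iff z (zero_add n) (n + 1) rfl hz m hm,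
    ← CohomologyClass.mk_eq_zero_iff]
  constructor
  · intro h
    have h1 : classEquiv (sg S) L n
        (CohomologyClass.mk (Cocycle.fromSingleMk z (zero_add n) (n + 1) rfl hz)) = 0 := by
      have := congrArg (fun t => (singleFunctorIsoCompQ A 0).inv.app S ≫ t) h
      simpa using this
    exact (classEquiv (sg S) L n).injective (h1.trans (map_zero _).symm)
  · intro h
    rw [h, map_zero, comp_zero]

lemma cl_precomp {S' S : A} (g : S' ⟶ S) (n : ℤ) (z : S ⟶ L.X n) (hz : z ≫ L.d n (n + 1) = 0) :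
    cl L n (g ≫ z) (by rw [Category.assoc, hz, comp_zero]) =
      (DerivedCategory.singleFunctor A 0).map g ≫ cl L n z hz := by
  unfold cl
  rw [Cocycle.fromSingleMk_precomp g z (zero_add n) (n + 1) rfl hz, classEquiv_precomp]
  have := (singleFunctorIsoCompQ A 0).hom.naturality g
  simp only [Functor.comp_map] at this
  rw [← Category.assoc, ← this, Category.assoc]

section Coc

open Opposite Groth.Agent.Lib.Helper5.SiteCoh

variable {C : Type u} [SmallCategory C] {J : GrothendieckTopology C}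
  {L : CochainComplex (Sheaf J AddCommGrpCat.{u}) ℤ}

/-- sections which are cocycles -/
def IsCoc (L : CochainComplex (Sheaf J AddCommGrpCat.{u}) ℤ) (n : ℤ) (V : C)
    (s : (L.X n).obj.obj (op V)) : Prop :=
  (L.d n (n + 1)).hom.app (op V) s = 0

lemma isCoc_comp {n : ℤ} {V : C} {s : (L.X n).obj.obj (op V)} (hs : IsCoc L n V s) :
    (βAdd V (L.X n)).symm s ≫ L.d n (n + 1) = 0 := by
  rw [← βAdd_symm_naturality, hs, map_zero]

lemma isCoc_add {n : ℤ} {V : C} {s s' : (L.X n).obj.obj (op V)} (hs : IsCoc L n V s)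
    (hs' : IsCoc L n V s') : IsCoc L n V (s + s') := by
  unfold IsCoc at *
  rw [map_add, hs, hs', add_zero]

lemma isCoc_zero (n : ℤ) (V : C) : IsCoc L n V 0 := by
  unfold IsCoc
  rw [map_zero]

lemma isCoc_neg {n : ℤ} {V : C} {s : (L.X n).obj.obj (op V)} (hs : IsCoc L n V s) :
    IsCoc L n V (-s) := by
  unfold IsCoc at *
  rw [map_neg, hs, neg_zero]

lemma isCoc_map {n : ℤ} {V W : C} (f : W ⟶ V) {s : (L.X n).obj.obj (op V)} (hs : IsCoc L n V s) :
    IsCoc L n W ((L.X n).obj.map f.op s) := by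
  unfold IsCoc at *
  have := ConcreteCategory.congr_hom ((L.d n (n + 1)).hom.naturality f.op) s
  rw [ConcreteCategory.comp_apply, ConcreteCategory.comp_apply] at this
  rw [this, hs, map_zero]

lemma isCoc_d {m n : ℤ} (V : C) (w : (L.X m).obj.obj (op V)) :
    IsCoc L n V ((L.d m n).hom.app (op V) w) := by
  unfold IsCoc
  have h : L.d m n ≫ L.d n (n + 1) = 0 := L.d_comp_d _ _ _
  have h2 := congrArg (fun φ => φ.hom.app (op V) w) h
  exact h2

/-- a cocycle is killed by every differential out of its degree -/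
lemma IsCoc.d_eq_zero {n : ℤ} {V : C} {s : (L.X n).obj.obj (op V)} (hs : IsCoc L n V s) (b : ℤ) :
    (L.d n b).hom.app (op V) s = 0 := by
  by_cases hb : n + 1 = b
  · subst hb
    exact hs
  · have h0 : L.d n b = 0 := L.shape n b hb
    rw [h0]
    rfl

lemma isCoc_of_d_eq_zero {n : ℤ} {V : C} {s : (L.X n).obj.obj (op V)} (b : ℤ) (hb : n + 1 = b)
    (h : (L.d n b).hom.app (op V) s = 0) : IsCoc L n V s := by
  subst hb
  exact h

/-- the group of cocycles over `V` -/
def Zc (L : CochainComplex (Sheaf J AddCommGrpCat.{u}) ℤ) (n : ℤ) (V : C) :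
    AddSubgroup ((L.X n).obj.obj (op V)) where
  carrier := {s | IsCoc L n V s}
  zero_mem' := isCoc_zero n V
  add_mem' := fun ha hb => isCoc_add ha hb
  neg_mem' := fun ha => isCoc_neg ha

lemma mem_Zc {n : ℤ} {V : C} {s : (L.X n).obj.obj (op V)} : s ∈ Zc L n V ↔ IsCoc L n V s :=
  Iff.rfl

end Coc

section Site

set_option linter.unusedSectionVars false

open Opposite Groth.Agent.Lib.Helper5.SiteCoh

variable {C : Type u} [SmallCategory C] {J : GrothendieckTopology C}
  [HasDerivedCategory.{w} (Sheaf J AddCommGrpCat.{u})]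
  {K L : CochainComplex (Sheaf J AddCommGrpCat.{u}) ℤ} (α : K ⟶ L) [QuasiIso α] [L.IsKInjective]

instance isIso_Q_map_of_quasiIso : IsIso (Q.map α) :=
  (isIso_Q_map_iff_quasiIso _ α).2 inferInstance

/-- the class in `H^n(V, K)` of a cocycle of the K-injective resolution `L` over `V` -/
noncomputable def clS (n : ℤ) (V : C) (s : (L.X n).obj.obj (op V)) (hs : IsCoc L n V s) :
    CohCx.HDU (Q.obj K) n V :=
  cl L n ((βAdd V (L.X n)).symm s) (isCoc_comp hs) ≫ (inv (Q.map α))⟦n⟧'

lemma clS_add (n : ℤ) (V : C) (s s' : (L.X n).obj.obj (op V)) (hs : IsCoc L n V s)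
    (hs' : IsCoc L n V s') :
    clS α n V (s + s') (isCoc_add hs hs') = clS α n V s hs + clS α n V s' hs' := by
  unfold clS
  rw [← Preadditive.add_comp, ← cl_add]
  congr 2
  rw [map_add]

lemma clS_surjective (n : ℤ) (V : C) (x : CohCx.HDU (Q.obj K) n V) :
    ∃ (s : (L.X n).obj.obj (op V)) (hs : IsCoc L n V s), clS α n V s hs = x := by
  obtain ⟨z, hz, h⟩ := cl_surjective L n (x ≫ (Q.map α)⟦n⟧')
  refine ⟨βAdd V (L.X n) z, ?_, ?_⟩
  · unfold IsCoc
    rw [← βAdd_naturality, hz, map_zero]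
  · unfold clS
    have e : (βAdd V (L.X n)).symm (βAdd V (L.X n) z) = z := AddEquiv.symm_apply_apply _ _
    have : cl L n ((βAdd V (L.X n)).symm (βAdd V (L.X n) z))
        (isCoc_comp (by unfold IsCoc; rw [← βAdd_naturality, hz, map_zero])) = cl L n z hz := by
      congr 1
    rw [this, h, Category.assoc, ← Functor.map_comp, IsIso.hom_inv_id,
      CategoryTheory.Functor.map_id, Category.comp_id]

lemma clS_eq_zero_iff (n : ℤ) (V : C) (s : (L.X n).obj.obj (op V)) (hs : IsCoc L n V s)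
    (m : ℤ) (hm : m + 1 = n) :
    clS α n V s hs = 0 ↔ ∃ w : (L.X m).obj.obj (op V), (L.d m n).hom.app (op V) w = s := by
  unfold clS
  have h1 : cl L n ((βAdd V (L.X n)).symm s) (isCoc_comp hs) ≫ (inv (Q.map α))⟦n⟧' = 0 ↔
      cl L n ((βAdd V (L.X n)).symm s) (isCoc_comp hs) = 0 := by
    constructor
    · intro h
      have := congrArg (fun t => t ≫ (Q.map α)⟦n⟧') h
      simpa [← Functor.map_comp] using this
    · intro h
      rw [h, zero_comp]
  rw [h1, cl_eq_zero_iff L n _ _ m hm]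
  constructor
  · rintro ⟨w, hw⟩
    refine ⟨βAdd V (L.X m) w, ?_⟩
    rw [← βAdd_naturality, hw, AddEquiv.apply_symm_apply]
  · rintro ⟨w, hw⟩
    refine ⟨(βAdd V (L.X m)).symm w, ?_⟩
    rw [← βAdd_symm_naturality, hw]

lemma clS_res (n : ℤ) {V W : C} (f : W ⟶ V) (s : (L.X n).obj.obj (op V)) (hs : IsCoc L n V s) :
    CohCx.HDUres (Q.obj K) n f (clS α n V s hs) =
      clS α n W ((L.X n).obj.map f.op s) (isCoc_map f hs) := by
  unfold clS
  change (DerivedCategory.singleFunctor _ 0).map (CohCx.freeSheafMap J f) ≫ _ = _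
  rw [← Category.assoc]
  congr 1
  have h := cl_precomp L (freeMap J f) n ((βAdd V (L.X n)).symm s) (isCoc_comp hs)
  refine h.symm.trans ?_
  congr 1
  exact (βAdd_symm_map f (L.X n) s).symm

lemma clS_congr (n : ℤ) (V : C) {s s' : (L.X n).obj.obj (op V)} (h : s = s')
    (hs : IsCoc L n V s) : clS α n V s hs = clS α n V s' (h ▸ hs) := by
  subst h
  rfl

lemma clS_zero (n : ℤ) (V : C) : clS α n V 0 (isCoc_zero n V) = 0 := by
  have h := clS_add α n V 0 0 (isCoc_zero n V) (isCoc_zero n V)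
  have h' : clS α n V (0 + 0) (isCoc_add (isCoc_zero n V) (isCoc_zero n V)) =
      clS α n V 0 (isCoc_zero n V) := (clS_congr α n V (add_zero 0) _).trans rfl
  rw [h'] at h
  exact left_eq_add.mp h

/-- `clS` as an additive map on cocycles -/
noncomputable def clHom (n : ℤ) (V : C) : Zc L n V →+ CohCx.HDU (Q.obj K) n V where
  toFun s := clS α n V s.1 s.2
  map_zero' := clS_zero α n V
  map_add' s s' := clS_add α n V s.1 s'.1 s.2 s'.2

lemma clHom_apply (n : ℤ) (V : C) (s : (L.X n).obj.obj (op V)) (hs : IsCoc L n V s) :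
    clHom α n V ⟨s, hs⟩ = clS α n V s hs := rfl

end Site

end Groth.Agent.Lib.Helper15.HDUcl
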