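import Mathlib

/-!
# Chains of homology-zero maps vanish in the derived category (helper15)

* `eq_zero_of_homologyMap_eq_zero`: a map from a strictly `≤ k` complex to a strictly `≥ k` complex
  which is zero on `H^k` is zero.
* `exists_factor_truncLE`: if `W` is strictly `≤ k` and `f : W ⟶ X` is zero on `H^k`, then `Q(f)`
  factors through `Q(τ_{≤ k-1} X) ⟶ Q(X)`.
-/

set_option autoImplicit false

open CategoryTheory Limits

namespace Groth.Agent.Lib.Helper15.HZeroChain

universe w v u

variable {C : Type u} [Category.{v} C] [Abelian C]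

lemma eq_zero_of_homologyMap_eq_zero {W Z : CochainComplex C ℤ} (φ : W ⟶ Z) (k : ℤ)
    [W.IsStrictlyLE k] [Z.IsStrictlyGE k] (h : HomologicalComplex.homologyMap φ k = 0) :
    φ = 0 := by
  ext i
  rcases lt_trichotomy i k with hi | rfl | hi
  · exact (Z.isZero_of_isStrictlyGE k i hi).eq_of_tgt _ _
  · have h1 : IsIso (W.iCycles i) :=
      W.isIso_iCycles i (i + 1) (by simp) ((W.isZero_of_isStrictlyLE i (i + 1)).eq_of_tgt _ _)
    have h2 : IsIso (Z.pOpcycles i) :=
      Z.isIso_pOpcycles (i - 1) i (by simp) ((Z.isZero_of_isStrictlyGE i (i - 1)).eq_of_src _ _)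
    rw [← cancel_epi (W.iCycles i), ← cancel_mono (Z.pOpcycles i)]
    rw [HomologicalComplex.zero_f, comp_zero, zero_comp, Category.assoc]
    rw [← HomologicalComplex.cyclesMap_i_assoc, ← HomologicalComplex.homology_π_ι,
      ← HomologicalComplex.homologyπ_naturality_assoc, h, zero_comp, comp_zero]
  · exact (W.isZero_of_isStrictlyLE k i hi).eq_of_src _ _

variable [HasDerivedCategory.{w} C]

open DerivedCategory

set_option backward.isDefEq.respectTransparency false in
lemma exists_factor_truncLE {W X : CochainComplex C ℤ} (f : W ⟶ X) (k₀ k : ℤ) (hk : k₀ + 1 = k)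
    [W.IsStrictlyLE k] (h : HomologicalComplex.homologyMap f k = 0) :
    ∃ φ : Q.obj W ⟶ Q.obj (X.truncLE k₀), Q.map f = φ ≫ Q.map (X.ιTruncLE k₀) := by
  have h0 : f ≫ X.πTruncGE k = 0 := by
    apply eq_zero_of_homologyMap_eq_zero _ k
    rw [HomologicalComplex.homologyMap_comp, h, zero_comp]
  have hS := X.shortComplexTruncLE_shortExact k₀
  have h1 : Q.map f ≫ Q.map (X.shortComplexTruncLE k₀).g = 0 := by
    have : IsIso (Q.map (X.shortComplexTruncLEX₃ToTruncGE k₀ k hk)) := by
      rw [DerivedCategory.isIso_Q_map_iff_quasiIso]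
      infer_instance
    rw [← cancel_mono (Q.map (X.shortComplexTruncLEX₃ToTruncGE k₀ k hk)), zero_comp,
      Category.assoc, ← Functor.map_comp, ← Functor.map_comp,
      X.g_shortComplexTruncLEX₃ToTruncGE k₀ k hk, h0, Functor.map_zero]
  exact Pretriangulated.Triangle.coyoneda_exact₂ _ (triangleOfSES_distinguished hS) (Q.map f) h1

/-- In a decreasing filtration by complexes strictly `≥ a` in which going down `s` steps kills
homology, going down `r * s` steps kills (in the derived category) every map from a complex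
concentrated in `[a, a + r - 1]`. -/
theorem chain_vanish (X : ℕ → CochainComplex C ℤ) (ι : ∀ p q, q ≤ p → (X p ⟶ X q))
    (hι : ∀ p q r (h1 : q ≤ p) (h2 : r ≤ q), ι p q h1 ≫ ι q r h2 = ι p r (h2.trans h1))
    (a : ℤ) (hX : ∀ p, (X p).IsStrictlyGE a) (s : ℕ)
    (hs : ∀ q i, HomologicalComplex.homologyMap (ι (q + s) q (Nat.le_add_right q s)) i = 0) :
    ∀ (r q p : ℕ) (hp : q + r * s ≤ p) (W : CochainComplex C ℤ) (h : W ⟶ X p),
      W.IsStrictlyLE (a + r - 1) → W.IsStrictlyGE a →
      Q.map (h ≫ ι p q (le_trans (Nat.le_add_right _ _) hp)) = 0 := by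
  intro r
  induction r with
  | zero =>
    intro q p hp W h hW hW'
    have h0 : h = 0 := by
      ext i
      rcases lt_or_ge i a with hi | hi
      · exact (W.isZero_of_isStrictlyGE a i hi).eq_of_src _ _
      · exact (W.isZero_of_isStrictlyLE (a + ((0 : ℕ) : ℤ) - 1) i (by push_cast; omega)).eq_of_src _ _
    rw [h0, zero_comp, Functor.map_zero]
  | succ r ih =>
    intro q p hp W h hW hW'
    have e : a + ((r + 1 : ℕ) : ℤ) - 1 = a + r := by push_cast; ring
    have : W.IsStrictlyLE (a + r) := e ▸ hW
    have hp1 : q + r * s + s ≤ p := by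
      have : (r + 1) * s = r * s + s := by ring
      omega
    have hfac : ι p q (le_trans (Nat.le_add_right _ _) hp) =
        (ι p (q + r * s + s) hp1 ≫ ι (q + r * s + s) (q + r * s) (Nat.le_add_right _ _)) ≫
          ι (q + r * s) q (Nat.le_add_right _ _) := by
      rw [hι, hι]
    have hf : HomologicalComplex.homologyMap
        (h ≫ ι p (q + r * s + s) hp1 ≫ ι (q + r * s + s) (q + r * s) (Nat.le_add_right _ _))
        (a + r) = 0 := by
      rw [HomologicalComplex.homologyMap_comp, HomologicalComplex.homologyMap_comp, hs,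
        comp_zero, comp_zero]
    obtain ⟨φ, hφ⟩ := exists_factor_truncLE
      (h ≫ ι p (q + r * s + s) hp1 ≫ ι (q + r * s + s) (q + r * s) (Nat.le_add_right _ _))
      (a + r - 1) (a + r) (by ring) hf
    have := hX (q + r * s)
    have ih' := ih q (q + r * s) le_rfl ((X (q + r * s)).truncLE (a + r - 1))
      ((X (q + r * s)).ιTruncLE (a + r - 1)) inferInstance inferInstance
    rw [hfac, ← Category.assoc, Functor.map_comp, hφ, Category.assoc,
      ← Functor.map_comp, ih', comp_zero]

end Groth.Agent.Lib.Helper15.HZeroChain
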