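import Groth.Prelude.Def_Dyn
import Groth.Prelude.Def_Lie2
import Groth.Prelude.Def_LieHopf

/-!
# Sweedler-style formulas for the convolution of points of an affine group (helper15)
-/

set_option autoImplicit false
universe u
open TensorProduct

namespace Groth.Agent.Lib.Helper15

variable (k : Type u) [CommRing k] (A : Type u) [CommRing A] [HopfAlgebra k A]
variable {C : Type u} [CommRing C] [Algebra k C]

/-- The convolution product of two points, as a function. -/
noncomputable def conv2 (f g : A →ₐ[k] C) : A →ₐ[k] C :=
  (Algebra.TensorProduct.lmul' (S := C) k).comp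
    ((Algebra.TensorProduct.map f g).comp (Bialgebra.comulAlgHom k A))

theorem conv2_apply {ι : Type*} (f g : A →ₐ[k] C) (a : A) (r : Coalgebra.Repr k a ι) :
    conv2 k A f g a = ∑ i ∈ r.index, f (r.left i) * g (r.right i) := by
  simp only [conv2, AlgHom.comp_apply, Bialgebra.comulAlgHom_apply, ← r.eq, map_sum,
    Algebra.TensorProduct.map_tmul, Algebra.TensorProduct.lmul'_apply_tmul]

theorem conv3_apply {ι : Type*} (f g h : A →ₐ[k] C) (a : A) (r : Coalgebra.Repr k a ι) :
    Dyn.conv3 k A f g h a = ∑ i ∈ r.index, conv2 k A f g (r.left i) * h (r.right i) := by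
  simp only [Dyn.conv3, conv2, AlgHom.comp_apply, Bialgebra.comulAlgHom_apply, ← r.eq, map_sum,
    Algebra.TensorProduct.map_tmul, Algebra.TensorProduct.lmul'_apply_tmul, AlgHom.id_apply]

/-- Multiplying by the unit point on the right does nothing. -/
theorem conv3_counit (f g : A →ₐ[k] C) (a : A) :
    Dyn.conv3 k A f g ((Algebra.ofId k C).comp (Bialgebra.counitAlgHom k A)) a = conv2 k A f g a := by
  rw [conv3_apply k A f g _ a (Coalgebra.Repr.arbitrary k a)]
  have h := Coalgebra.sum_map_tmul_counit_eq (R := k) (conv2 k A f g).toLinearMap a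
    (repr := Coalgebra.Repr.arbitrary k a)
  have h2 := congrArg (TensorProduct.lift ((LinearMap.lsmul k C).flip)) h
  simp only [map_sum, TensorProduct.lift.tmul, LinearMap.flip_apply, LinearMap.lsmul_apply,
    one_smul, AlgHom.toLinearMap_apply] at h2
  rw [← h2]
  apply Finset.sum_congr rfl
  intro i _
  simp [Algebra.smul_def, mul_comm, Algebra.ofId_apply]

end Groth.Agent.Lib.Helper15
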