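import Mathlib
import Groth.Prelude.Def_Hyper

set_option autoImplicit false
universe u
open CategoryTheory CategoryTheory.Limits Opposite Simplicial

namespace Groth.Agent.Lib.Helper15.HyperH0

variable {D : Type u} [SmallCategory D] (P : Dᵒᵖ ⥤ AddCommGrpCat.{u})

/-- the extension of `P` to formal coproducts -/
noncomputable abbrev E : (FormalCoproduct.{u} D)ᵒᵖ ⥤ AddCommGrpCat.{u} :=
  (FormalCoproduct.evalOp.{u} D AddCommGrpCat.{u}).obj P

/-- evaluation of a family at a "point" `m : incl Y ⟶ T` -/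
noncomputable def ev {T : FormalCoproduct.{u} D} {Y : D}
    (m : (FormalCoproduct.incl D).obj Y ⟶ T) : (E P).obj (op T) ⟶ P.obj (op Y) :=
  Pi.π _ (m.f PUnit.unit) ≫ P.map (m.φ PUnit.unit).op

set_option backward.isDefEq.respectTransparency false in
lemma ev_comp {T T' : FormalCoproduct.{u} D} {Y : D}
    (m : (FormalCoproduct.incl D).obj Y ⟶ T) (f : T ⟶ T') :
    (E P).map f.op ≫ ev P m = ev P (m ≫ f) := by
  simp [ev, E]

set_option backward.isDefEq.respectTransparency false in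
lemma ev_res {T : FormalCoproduct.{u} D} {Y Y' : D} (g : Y' ⟶ Y)
    (m : (FormalCoproduct.incl D).obj Y ⟶ T) :
    ev P m ≫ P.map g.op = ev P ((FormalCoproduct.incl D).map g ≫ m) := by
  simp [ev]
  rfl

lemma ev_comp_apply {T T' : FormalCoproduct.{u} D} {Y : D}
    (m : (FormalCoproduct.incl D).obj Y ⟶ T) (f : T ⟶ T') (s : (E P).obj (op T')) :
    ev P m ((E P).map f.op s) = ev P (m ≫ f) s := by
  rw [← ev_comp]; rfl

lemma ev_res_apply {T : FormalCoproduct.{u} D} {Y Y' : D} (g : Y' ⟶ Y)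
    (m : (FormalCoproduct.incl D).obj Y ⟶ T) (s : (E P).obj (op T)) :
    P.map g.op (ev P m s) = ev P ((FormalCoproduct.incl D).map g ≫ m) s := by
  rw [← ev_res]; rfl

set_option backward.isDefEq.respectTransparency false in
lemma ev_fromIncl_id {T : FormalCoproduct.{u} D} (i : T.I) :
    ev P (FormalCoproduct.Hom.fromIncl i (𝟙 (T.obj i))) = Pi.π _ i := by
  change Pi.π (fun i : T.I => P.obj (op (T.obj i))) i ≫ P.map (𝟙 (T.obj i)).op = _
  rw [op_id, P.map_id, Category.comp_id]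

lemma E_ext {T : FormalCoproduct.{u} D} (s s' : (E P).obj (op T))
    (h : ∀ i : T.I, (Pi.π (fun i : T.I => P.obj (op (T.obj i))) i) s =
      (Pi.π (fun i : T.I => P.obj (op (T.obj i))) i) s') : s = s' :=
  Concrete.limit_ext _ s s' (fun ⟨j⟩ => h j)

section Cone

variable {P} (c : Cone P)

/-- the map from the vertex of a cone to the families -/
noncomputable def iota (T : FormalCoproduct.{u} D) : c.pt ⟶ (E P).obj (op T) :=
  Pi.lift fun i => c.π.app (op (T.obj i))

set_option backward.isDefEq.respectTransparency false in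
lemma iota_ev {T : FormalCoproduct.{u} D} {Y : D}
    (m : (FormalCoproduct.incl D).obj Y ⟶ T) : iota c T ≫ ev P m = c.π.app (op Y) := by
  simp [iota, ev]

set_option backward.isDefEq.respectTransparency false in
lemma iota_map {T T' : FormalCoproduct.{u} D} (f : T ⟶ T') :
    iota c T' ≫ (E P).map f.op = iota c T := by
  apply Pi.hom_ext
  intro i
  simp [iota, E]

lemma iota_ev_apply {T : FormalCoproduct.{u} D} {Y : D}
    (m : (FormalCoproduct.incl D).obj Y ⟶ T) (y : c.pt) :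
    ev P m (iota c T y) = c.π.app (op Y) y := by
  rw [← iota_ev c m]; rfl

end Cone

variable (K : SimplicialObject (FormalCoproduct.{u} D))

/-- the Cech complex -/
noncomputable abbrev Cx : CochainComplex AddCommGrpCat.{u} ℕ :=
  (FormalCoproduct.cochainComplexFunctor K).obj P

/-- the first differential -/
noncomputable def d01 : (E P).obj (op (K _⦋0⦌)) ⟶ (E P).obj (op (K _⦋1⦌)) :=
  (E P).map (K.δ 0).op - (E P).map (K.δ 1).op

lemma d01_apply (s : (E P).obj (op (K _⦋0⦌))) :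
    d01 P K s = (E P).map (K.δ 0).op s - (E P).map (K.δ 1).op s := rfl

lemma d_zero_one : (Cx P K).d 0 1 = d01 P K := by
  change CochainComplex.of.d _ _ 0 (0 + 1) = (E P).map (K.δ 0).op - (E P).map (K.δ 1).op
  rw [CochainComplex.of_d]
  rw [AlgebraicTopology.AlternatingCofaceMapComplex.objD, Fin.sum_univ_two]
  simp only [Fin.val_zero, pow_zero, one_smul, Fin.val_one, pow_one, neg_smul]
  exact (sub_eq_add_neg _ _).symm

variable (J : GrothendieckTopology D)

/-- `K_0` covers every object locally. -/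
def Cov0 : Prop := ∀ Y : D, ∃ S ∈ J Y, ∀ ⦃Y' : D⦄ (g : Y' ⟶ Y), S g →
  Nonempty ((FormalCoproduct.incl D).obj Y' ⟶ K _⦋0⦌)

/-- pairs of points of `K_0` lift locally to `K_1`. -/
def Cov1 : Prop := ∀ (Y : D) (a b : (FormalCoproduct.incl D).obj Y ⟶ K _⦋0⦌), ∃ S ∈ J Y,
  ∀ ⦃Y' : D⦄ (g : Y' ⟶ Y), S g → ∃ c : (FormalCoproduct.incl D).obj Y' ⟶ K _⦋1⦌,
    c ≫ K.δ 1 = (FormalCoproduct.incl D).map g ≫ a ∧
    c ≫ K.δ 0 = (FormalCoproduct.incl D).map g ≫ b

variable {P J K}

lemma sep (hP : Presheaf.IsSheaf J P) {Y : D} (S : Sieve Y) (hS : S ∈ J Y)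
    (x y : P.obj (op Y))
    (h : ∀ ⦃Y' : D⦄ (g : Y' ⟶ Y), S g → P.map g.op x = P.map g.op y) : x = y := by
  have hQ := (Presheaf.isSheaf_iff_isSheaf_forget J P (forget AddCommGrpCat.{u})).1 hP
  rw [isSheaf_iff_isSheaf_of_type] at hQ
  exact (hQ S hS).isSeparatedFor.ext (fun Y' g hg => h g hg)

lemma glue (hP : Presheaf.IsSheaf J P) {Y : D} (S : Sieve Y) (hS : S ∈ J Y)
    (x : ∀ ⦃Y' : D⦄ (g : Y' ⟶ Y), S g → P.obj (op Y'))
    (hx : ∀ ⦃Y' Y'' : D⦄ (g : Y' ⟶ Y) (h : Y'' ⟶ Y') (hg : S g),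
      P.map h.op (x g hg) = x (h ≫ g) (S.downward_closed hg h)) :
    ∃ t : P.obj (op Y), ∀ ⦃Y' : D⦄ (g : Y' ⟶ Y) (hg : S g), P.map g.op t = x g hg := by
  have hQ := (Presheaf.isSheaf_iff_isSheaf_forget J P (forget AddCommGrpCat.{u})).1 hP
  rw [isSheaf_iff_isSheaf_of_type] at hQ
  let fam : Presieve.FamilyOfElements (P ⋙ forget AddCommGrpCat.{u}) (S : Presieve Y) :=
    fun Y' g hg => x g hg
  have hfam : fam.Compatible := by
    rw [Presieve.compatible_iff_sieveCompatible]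
    intro Y' Y'' g h hg
    exact (hx g h hg).symm
  exact ⟨(hQ S hS).amalgamate fam hfam, fun Y' g hg => (hQ S hS).valid_glue hfam g hg⟩


/-- points of `K_0` give equal values on a cocycle -/
lemma sigma_eq (hP : Presheaf.IsSheaf J P) (h1 : Cov1 K J)
    (s : (E P).obj (op (K _⦋0⦌))) (hs : (E P).map (K.δ 0).op s = (E P).map (K.δ 1).op s)
    {Y : D} (a b : (FormalCoproduct.incl D).obj Y ⟶ K _⦋0⦌) : ev P a s = ev P b s := by
  obtain ⟨S, hS, H⟩ := h1 Y a b
  apply sep hP S hS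
  intro Y' g hg
  obtain ⟨c, hc1, hc0⟩ := H g hg
  rw [ev_res_apply, ev_res_apply, ← hc1, ← hc0, ← ev_comp_apply, ← ev_comp_apply, hs]

theorem h0_iso (hP : Presheaf.IsSheaf J P) (h0 : Cov0 K J) (h1 : Cov1 K J)
    (c : Cone P) (hc : IsLimit c) : Nonempty ((Cx P K).homology 0 ≅ c.pt) := by
  classical
  -- injectivity
  have hmono : Mono (iota c (K _⦋0⦌)) := by
    rw [AddCommGrpCat.mono_iff_injective]
    intro y y' hyy
    apply Concrete.isLimit_ext _ hc
    intro ⟨Y⟩
    obtain ⟨S, hS, H⟩ := h0 Y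
    apply sep hP S hS
    intro Y' g hg
    obtain ⟨m⟩ := H g hg
    have e1 : P.map g.op (c.π.app (op Y) y) = c.π.app (op Y') y := by
      have := c.w g.op
      rw [← this]; rfl
    have e2 : P.map g.op (c.π.app (op Y) y') = c.π.app (op Y') y' := by
      have := c.w g.op
      rw [← this]; rfl
    rw [e1, e2, ← iota_ev_apply c m, ← iota_ev_apply c m, hyy]
  have hzero' : iota c (K _⦋0⦌) ≫ d01 P K = 0 := by
    rw [d01, Preadditive.comp_sub, iota_map, iota_map, sub_self]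
  have hzero : iota c (K _⦋0⦌) ≫ (Cx P K).d 0 1 = 0 := by
    rw [d_zero_one]; exact hzero'
  -- exactness
  have hex : (ShortComplex.mk _ _ hzero).Exact := by
    rw [ShortComplex.ab_exact_iff]
    intro s hs0
    have hs : (E P).map (K.δ 0).op s = (E P).map (K.δ 1).op s := by
      have : ((Cx P K).d 0 1) s = 0 := hs0
      rw [d_zero_one] at this
      exact sub_eq_zero.1 ((d01_apply P K s).symm.trans this)
    have hσ := fun {Y : D} (a b : (FormalCoproduct.incl D).obj Y ⟶ K _⦋0⦌) =>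
      sigma_eq hP h1 s hs a b
    -- local sections
    have key : ∀ Y : D, ∃ t : P.obj (op Y), ∀ ⦃Y' : D⦄ (g : Y' ⟶ Y)
        (m : (FormalCoproduct.incl D).obj Y' ⟶ K _⦋0⦌), P.map g.op t = ev P m s := by
      intro Y
      obtain ⟨S, hS, H⟩ := h0 Y
      obtain ⟨t, ht⟩ := glue hP S hS (fun Y' g hg => ev P (H g hg).some s) (by
        intro Y' Y'' g h hg
        rw [ev_res_apply]
        exact hσ _ _)
      refine ⟨t, fun Y' g m => ?_⟩
      -- check on the pulled back sieve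
      apply sep hP (S.pullback g) (J.pullback_stable g hS)
      intro Y'' h hh
      have h1' : P.map h.op (P.map g.op t) = P.map (h ≫ g).op t := by
        rw [op_comp, P.map_comp]; rfl
      rw [h1', ht (h ≫ g) hh, ev_res_apply]
      exact hσ _ _
    choose t ht using key
    have hnat : ∀ ⦃Y Z : D⦄ (f : Z ⟶ Y), P.map f.op (t Y) = t Z := by
      intro Y Z f
      obtain ⟨S, hS, H⟩ := h0 Z
      apply sep hP S hS
      intro Z' g hg
      obtain ⟨m⟩ := H g hg
      have h1' : P.map g.op (P.map f.op (t Y)) = P.map (g ≫ f).op (t Y) := by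
        rw [op_comp, P.map_comp]; rfl
      rw [h1', ht Y (g ≫ f) m, ht Z g m]
    let sec : (P ⋙ forget AddCommGrpCat.{u}).sections :=
      ⟨fun Y => t Y.unop, fun {Y Z} f => hnat f.unop⟩
    let y : c.pt := (Types.isLimitEquivSections
      (isLimitOfPreserves (forget AddCommGrpCat.{u}) hc)).symm sec
    have hy : ∀ Y : D, c.π.app (op Y) y = t Y := fun Y =>
      Types.isLimitEquivSections_symm_apply
        (isLimitOfPreserves (forget AddCommGrpCat.{u}) hc) sec (op Y)
    refine ⟨y, ?_⟩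
    apply E_ext
    intro i
    have e1 := iota_ev_apply c (FormalCoproduct.Hom.fromIncl i (𝟙 ((K _⦋0⦌).obj i))) y
    have e2 := ht ((K _⦋0⦌).obj i) (𝟙 _) (FormalCoproduct.Hom.fromIncl i (𝟙 ((K _⦋0⦌).obj i)))
    have e3 : P.map (𝟙 ((K _⦋0⦌).obj i)).op (t ((K _⦋0⦌).obj i)) = t ((K _⦋0⦌).obj i) := by
      rw [op_id, P.map_id]; rfl
    have e4 : ev P (FormalCoproduct.Hom.fromIncl i (𝟙 ((K _⦋0⦌).obj i))) (iota c (K _⦋0⦌) y) =
        ev P (FormalCoproduct.Hom.fromIncl i (𝟙 ((K _⦋0⦌).obj i))) s := by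
      rw [e1, hy, ← e3, e2]
    rw [ev_fromIncl_id] at e4
    exact e4
  have hker := hex.fIsKernel
  exact ⟨(CochainComplex.isoHomologyπ₀ (Cx P K)).symm ≪≫
    IsLimit.conePointUniqueUpToIso ((Cx P K).cyclesIsKernel 0 1 (by simp)) hker⟩

end Groth.Agent.Lib.Helper15.HyperH0
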