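import Mathlib
import Groth.Prelude.Def_Hyper
import Groth.Agent.Lib.Helper15.HyperH0
import Groth.Agent.Lib.Helper15.CoskZero

set_option autoImplicit false
universe u
open CategoryTheory CategoryTheory.Limits Opposite Simplicial

namespace Groth.Agent.Lib.Helper15.HyperOver

open Groth.Agent.Lib.Helper15.HyperH0 Groth.Agent.Lib.Helper15.CechCosk
  Groth.Agent.Lib.Helper15.CoskZero

section General

variable {D : Type u} [SmallCategory D] (J : GrothendieckTopology D)

/-- lifting form of a covering of formal coproducts -/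
def LiftCov {A B : FormalCoproduct.{u} D} (f : A ⟶ B) : Prop :=
  ∀ (Y : D) (b : (FormalCoproduct.incl D).obj Y ⟶ B), ∃ S ∈ J Y, ∀ ⦃Y' : D⦄ (g : Y' ⟶ Y), S g →
    ∃ a : (FormalCoproduct.incl D).obj Y' ⟶ A, a ≫ f = (FormalCoproduct.incl D).map g ≫ b

variable {J}

lemma liftCov_of_isSRCovering {A B : FormalCoproduct.{u} D} (f : A ⟶ B)
    (h : Hyper.IsSRCovering J f) : LiftCov J f := by
  intro Y b
  refine ⟨Sieve.pullback (b.φ PUnit.unit) _, J.pullback_stable _ (h (b.f PUnit.unit)),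
    fun Y' g hg => ?_⟩
  obtain ⟨i, k, hk⟩ := (Sieve.mem_ofArrows_iff _ _ _).1 hg
  refine ⟨FormalCoproduct.Hom.fromIncl i.1 k, ?_⟩
  refine FormalCoproduct.hom_ext ?_ ?_
  · funext x
    exact i.2
  · intro x
    change (k ≫ f.φ i.1) ≫ eqToHom _ = g ≫ b.φ PUnit.unit
    rw [hk, Category.assoc]

lemma liftCov_of_comp_iso {A B B' : FormalCoproduct.{u} D} (f : A ⟶ B) (e : B ≅ B')
    (h : LiftCov J (f ≫ e.hom)) : LiftCov J f := by
  intro Y b
  obtain ⟨S, hS, H⟩ := h Y (b ≫ e.hom)
  refine ⟨S, hS, fun Y' g hg => ?_⟩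
  obtain ⟨a, ha⟩ := H g hg
  refine ⟨a, ?_⟩
  rw [← cancel_mono e.hom, Category.assoc, ha, Category.assoc]

end General


section Over

variable {C : Type u} [SmallCategory C] [HasPullbacks C] (J : GrothendieckTopology C) (X : C)
  (K : SimplicialObject (FormalCoproduct.{u} (Over X)))

instance hasFiniteProducts_fc : HasFiniteProducts (FormalCoproduct.{u} (Over X)) := by
  have : HasBinaryProducts (FormalCoproduct.{u} (Over X)) :=
    hasBinaryProducts_of_hasTerminal_and_pullbacks _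
  exact hasFiniteProducts_of_has_binary_and_terminal

lemma cov0_over
    (h : Sieve.ofArrows (fun i => ((K.obj (op (SimplexCategory.mk 0))).obj i).left)
      (fun i => ((K.obj (op (SimplexCategory.mk 0))).obj i).hom) ∈ J X) :
    Cov0 K (J.over X) := by
  intro Y
  let S : Sieve Y :=
    { arrows := fun Y' _ => Nonempty ((FormalCoproduct.incl (Over X)).obj Y' ⟶ K _⦋0⦌)
      downward_closed := fun {Y' Z} g hg k => by
        obtain ⟨m⟩ := hg
        exact ⟨(FormalCoproduct.incl (Over X)).map k ≫ m⟩ }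
  refine ⟨S, ?_, fun Y' g hg => hg⟩
  rw [GrothendieckTopology.mem_over_iff]
  refine J.superset_covering ?_ (J.pullback_stable Y.hom h)
  intro Z k hk
  obtain ⟨i, a, ha⟩ := (Sieve.mem_ofArrows_iff _ _ _).1 hk
  rw [Sieve.overEquiv_iff]
  exact ⟨FormalCoproduct.Hom.fromIncl i (Over.homMk a ha.symm)⟩

variable [∀ (n : ℕ) (F : (SimplexCategory.Truncated n)ᵒᵖ ⥤ FormalCoproduct.{u} (Over X)),
      (SimplexCategory.Truncated.inclusion n).op.HasRightKanExtension F]

lemma cov1_over
    (h : Hyper.IsSRCovering (J.over X)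
      (((SimplicialObject.coskAdj 0).unit.app K).app (op (SimplexCategory.mk (0 + 1))))) :
    Cov1 K (J.over X) := by
  obtain ⟨e, he⟩ := exists_iso_cosk_zero K
  have h1 : LiftCov (J.over X) ((L K).app (op ⦋1⦌)) := by
    apply liftCov_of_comp_iso _ ((e.app (op ⦋1⦌)).symm)
    have : (L K).app (op ⦋1⦌) ≫ ((e.app (op ⦋1⦌)).symm).hom =
        ((SimplicialObject.coskAdj 0).unit.app K).app (op ⦋1⦌) := by
      rw [← he]
      simp
    rw [this]
    exact liftCov_of_isSRCovering _ h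
  intro Y a b
  obtain ⟨S, hS, H⟩ := h1 Y (lft (K _⦋0⦌) (m := ⦋1⦌) ![a, b])
  refine ⟨S, hS, fun Y' g hg => ?_⟩
  obtain ⟨c, hc⟩ := H g hg
  refine ⟨c, ?_, ?_⟩
  · have := congrArg (fun φ => φ ≫ pr (K _⦋0⦌) ⦋1⦌ 0) hc
    simp only [Category.assoc, lift_app_pr, lft_pr, Category.comp_id] at this
    rw [← SimplexCategory.δ_one_eq_const] at this
    exact this
  · have := congrArg (fun φ => φ ≫ pr (K _⦋0⦌) ⦋1⦌ 1) hc
    simp only [Category.assoc, lift_app_pr, lft_pr, Category.comp_id] at this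
    rw [← SimplexCategory.δ_zero_eq_const] at this
    exact this

end Over

end Groth.Agent.Lib.Helper15.HyperOver
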