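import Groth.Agent.Lib.Helper15.HyperConeChain

/-!
# Homology sheaves of the free chain complex of a locally Kan simplicial presheaf (helper15)

* `exact_map_presheafToSheaf_of_locally`: a short complex of presheaves of abelian groups in which
  cycles are locally boundaries becomes exact after sheafification.
* `isZero_homology_succ`, `homology_zero_iso`: for a simplicial presheaf of sets `X` with local
  sphere filling (`LocalKan`), the chain complex of abelian sheaves `ℤ[X]^#` has no homology in
  positive degrees and its `H₀` is the sheafification of the constant presheaf `ℤ`.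
-/

set_option autoImplicit false
universe u
open CategoryTheory CategoryTheory.Limits Opposite Simplicial

namespace Groth.Agent.Lib.Helper15.HyperCone

variable {C : Type u} [SmallCategory C] (J : GrothendieckTopology C)

/-- **Local exactness criterion.** -/
theorem exact_map_presheafToSheaf_of_locally (S : ShortComplex (Cᵒᵖ ⥤ AddCommGrpCat.{u}))
    (h : ∀ (U : C) (x : S.X₂.obj (op U)), S.g.app (op U) x = 0 →
      ∃ R ∈ J U, ∀ ⦃V : C⦄ (g : V ⟶ U), R g →
        ∃ y : S.X₁.obj (op V), S.f.app (op V) y = S.X₂.map g.op x) :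
    (S.map (presheafToSheaf J AddCommGrpCat.{u})).Exact := by
  let F := presheafToSheaf J AddCommGrpCat.{u}
  let f' : S.X₁ ⟶ kernel S.g := kernel.lift S.g S.f S.zero
  have hf'ι : f' ≫ kernel.ι S.g = S.f := kernel.lift_ι _ _ _
  have hι : ∀ U : C, Function.Injective ((kernel.ι S.g).app (op U)) := fun U => by
    have : Mono ((kernel.ι S.g).app (op U)) := (NatTrans.mono_iff_mono_app _).1 inferInstance _
    exact (AddCommGrpCat.mono_iff_injective _).1 this
  have hf' : Presheaf.IsLocallySurjective J f' := ⟨fun {U} z => by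
    have hz : S.g.app (op U) ((kernel.ι S.g).app (op U) z) = 0 := by
      have := congrArg (fun φ => φ.app (op U) z) (kernel.condition S.g)
      exact this
    obtain ⟨R, hR, hR'⟩ := h U _ hz
    refine J.superset_covering ?_ hR
    intro V g hg
    obtain ⟨y, hy⟩ := hR' g hg
    refine ⟨y, hι V ?_⟩
    have h1 : (kernel.ι S.g).app (op V) (f'.app (op V) y) = S.f.app (op V) y :=
      congrArg (fun φ => φ.app (op V) y) hf'ι
    have h2 : (kernel.ι S.g).app (op V) ((kernel S.g).map g.op z) =
        S.X₂.map g.op ((kernel.ι S.g).app (op U) z) :=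
      congrArg (fun φ => φ z) ((kernel.ι S.g).naturality g.op)
    rw [h1, h2, hy]⟩
  have hepi : Epi (F.map f') := by
    have : Sheaf.IsLocallySurjective (F.map f') :=
      (Presheaf.isLocallySurjective_presheafToSheaf_map_iff J f').2 hf'
    infer_instance
  rw [ShortComplex.exact_iff_epi_kernel_lift]
  have e := map_lift_kernelComparison (G := F) (f := S.g) (h := S.f) S.zero
  have : kernel.lift (S.map F).g (S.map F).f (S.map F).zero =
      F.map f' ≫ kernelComparison S.g F := e.symm
  rw [this]
  have h2 : Epi (kernelComparison S.g F) := inferInstance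
  exact epi_comp' hepi h2

variable (X : SimplicialObject (Cᵒᵖ ⥤ Type u))

/-- the free simplicial presheaf of abelian groups on `X` -/
abbrev freeP : SimplicialObject (Cᵒᵖ ⥤ AddCommGrpCat.{u}) :=
  X ⋙ (Functor.whiskeringRight Cᵒᵖ (Type u) AddCommGrpCat.{u}).obj AddCommGrpCat.free.{u}

/-- its chain complex -/
noncomputable abbrev freeCx : ChainComplex (Cᵒᵖ ⥤ AddCommGrpCat.{u}) ℕ :=
  (AlgebraicTopology.alternatingFaceMapComplex _).obj (freeP X)

lemma hom_sum_apply {M N : AddCommGrpCat.{u}} {ι : Type*} (s : Finset ι) (g : ι → (M ⟶ N))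
    (x : M) : (∑ i ∈ s, g i).hom x = ∑ i ∈ s, (g i).hom x := by
  classical
  induction s using Finset.induction_on with
  | empty => simp
  | insert a s ha ih =>
    rw [Finset.sum_insert ha, Finset.sum_insert ha, AddCommGrpCat.hom_add, AddMonoidHom.add_apply, ih]

lemma alt_sum_apply {A B : Type u} (m : ℕ) (f : Fin m → (A → B)) (z : FreeAbelianGroup A) :
    (∑ i : Fin m, ((-1 : ℤ) ^ (i : ℕ)) • AddCommGrpCat.free.map (↾(f i)) :
      AddCommGrpCat.free.obj A ⟶ AddCommGrpCat.free.obj B).hom z =
    (∑ i : Fin m, ((-1 : ℤ) ^ (i : ℕ)) • FreeAbelianGroup.map (f i)) z := by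
  rw [hom_sum_apply, AddMonoidHom.finsetSum_apply]
  rfl

lemma hom_congr_apply {M N : AddCommGrpCat.{u}} {φ ψ : M ⟶ N} (h : φ = ψ) (m : M) :
    φ.hom m = ψ.hom m := by rw [h]

lemma d_apply (n : ℕ) (U : C) (z : FreeAbelianGroup (sx X (n + 1) U)) :
    (((freeCx X).d (n + 1) n).app (op U)).hom z = dch X n U z := by
  have h : (freeCx X).d (n + 1) n = ∑ i : Fin (n + 2), (-1 : ℤ) ^ (i : ℕ) • (freeP X).δ i :=
    AlgebraicTopology.AlternatingFaceMapComplex.obj_d_eq _ _
  have h2 : ((freeCx X).d (n + 1) n).app (op U) =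
      ∑ i : Fin (n + 2), (-1 : ℤ) ^ (i : ℕ) • ((freeP X).δ i).app (op U) := by
    rw [h, NatTrans.app_sum]
    rfl
  exact (hom_congr_apply h2 z).trans (alt_sum_apply (n + 2) (fun i => face i) z)

lemma map_apply (n : ℕ) {U V : C} (g : V ⟶ U) (z : FreeAbelianGroup (sx X n U)) :
    (((freeCx X).X n).map g.op).hom z = FreeAbelianGroup.map (res g) z := rfl

variable {X} {J}

/-- exactness of the sheafified complex in positive degrees -/
theorem exactAt_succ (hX : LocalKan J X) (n : ℕ) :
    (((presheafToSheaf J AddCommGrpCat.{u}).mapHomologicalComplex _).obj (freeCx X)).ExactAt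
      (n + 1) := by
  rw [HomologicalComplex.exactAt_iff' _ (n + 2) (n + 1) n (by simp) (by simp)]
  refine exact_map_presheafToSheaf_of_locally J ((freeCx X).sc' (n + 2) (n + 1) n) ?_
  intro U x hx
  have hx' : dch X n U x = 0 := (d_apply X n U x).symm.trans hx
  obtain ⟨R, hR, h⟩ := local_exact_succ hX n U x hx'
  refine ⟨R, hR, fun V g hg => ?_⟩
  obtain ⟨w, hw⟩ := h g hg
  exact ⟨w, (d_apply X (n + 1) V w).trans hw⟩

theorem isZero_homology_succ (hX : LocalKan J X) (n : ℕ) :
    IsZero (((AlgebraicTopology.alternatingFaceMapComplex (Sheaf J AddCommGrpCat.{u})).obj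
      (freeP X ⋙ presheafToSheaf J AddCommGrpCat.{u})).homology (n + 1)) := by
  have e := Functor.congr_obj
    (AlgebraicTopology.map_alternatingFaceMapComplex (presheafToSheaf J AddCommGrpCat.{u}))
    (freeP X)
  have h := (exactAt_succ hX n).isZero_homology
  exact IsZero.of_iso h ((HomologicalComplex.homologyFunctor _ _ (n + 1)).mapIso (eqToIso e.symm))

section H0

variable (X)

lemma aug_map {U V : C} (g : V ⟶ U) (z : FreeAbelianGroup (sx X 0 U)) :
    aug X V (FreeAbelianGroup.map (res g) z) = aug X U z := by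
  induction z using FreeAbelianGroup.induction_on with
  | zero => simp
  | of x => simp [aug]
  | neg x ih => simp only [map_neg, ih]
  | add x y hx hy => simp only [map_add, hx, hy]

lemma aug_dch (U : C) (z : FreeAbelianGroup (sx X 1 U)) : aug X U (dch X 0 U z) = 0 := by
  induction z using FreeAbelianGroup.induction_on with
  | zero => simp
  | of x =>
    rw [dch_of, Fin.sum_univ_two]
    simp [aug]
  | neg x ih => simp only [map_neg, ih, neg_zero]
  | add x y hx hy => simp only [map_add, hx, hy, add_zero]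

variable (M : AddCommGrpCat.{u}) (e : M ≃+ ℤ)

/-- the augmentation to the constant presheaf -/
noncomputable def augP : (freeCx X).X 0 ⟶ (Functor.const Cᵒᵖ).obj M where
  app U := AddCommGrpCat.ofHom (e.symm.toAddMonoidHom.comp (aug X U.unop))
  naturality U V g := by
    ext z
    change e.symm (aug X V.unop (FreeAbelianGroup.map (res g.unop) z)) = e.symm (aug X U.unop z)
    rw [aug_map]

lemma augP_apply (U : C) (z : FreeAbelianGroup (sx X 0 U)) :
    ((augP X M e).app (op U)).hom z = e.symm (aug X U z) := rfl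

lemma d_augP : (freeCx X).d 1 0 ≫ augP X M e = 0 := by
  ext U z
  induction U using Opposite.rec with
  | op U =>
    change ((augP X M e).app (op U)).hom ((((freeCx X).d 1 0).app (op U)).hom z) = 0
    rw [d_apply, augP_apply, aug_dch, map_zero]

variable {X}

include e in
theorem homology_zero_iso (hX : LocalKan J X) :
    Nonempty (((AlgebraicTopology.alternatingFaceMapComplex (Sheaf J AddCommGrpCat.{u})).obj
      (freeP X ⋙ presheafToSheaf J AddCommGrpCat.{u})).homology 0 ≅
        (presheafToSheaf J AddCommGrpCat.{u}).obj ((Functor.const Cᵒᵖ).obj M)) := by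
  let F := presheafToSheaf J AddCommGrpCat.{u}
  let S₀ : ShortComplex (Cᵒᵖ ⥤ AddCommGrpCat.{u}) :=
    ShortComplex.mk ((freeCx X).d 1 0) (augP X M e) (d_augP X M e)
  have hex : (S₀.map F).Exact := by
    refine exact_map_presheafToSheaf_of_locally J S₀ ?_
    intro U x hx
    have hx' : aug X U x = 0 := by
      have h1 : e.symm (aug X U x) = 0 := hx
      simpa using h1
    obtain ⟨R, hR, h⟩ := local_exact_zero hX U x hx'
    refine ⟨R, hR, fun V g hg => ?_⟩
    obtain ⟨w, hw⟩ := h g hg
    exact ⟨w, (d_apply X 0 V w).trans hw⟩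
  have hsurj : Presheaf.IsLocallySurjective J (augP X M e) := ⟨fun {U} m => by
    obtain ⟨R, hR, h⟩ := hX.vertex U
    refine J.superset_covering ?_ hR
    intro V g hg
    obtain ⟨v⟩ := h g hg
    refine ⟨(e m) • FreeAbelianGroup.of v, ?_⟩
    change e.symm (aug X V ((e m) • FreeAbelianGroup.of v)) = m
    simp [aug]⟩
  have hepi : Epi (S₀.map F).g := by
    have : Sheaf.IsLocallySurjective (F.map (augP X M e)) :=
      (Presheaf.isLocallySurjective_presheafToSheaf_map_iff J (augP X M e)).2 hsurj
    exact (inferInstance : Epi (F.map (augP X M e)))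
  let A' := (F.mapHomologicalComplex (ComplexShape.down ℕ)).obj (freeCx X)
  have c1 : IsColimit (CokernelCofork.ofπ (S₀.map F).g (S₀.map F).zero) := hex.gIsCokernel
  have c2 := A'.opcyclesIsCokernel 1 0 (by simp)
  have i1 : A'.opcycles 0 ≅ F.obj ((Functor.const Cᵒᵖ).obj M) :=
    IsColimit.coconePointUniqueUpToIso c2 c1
  have e' := Functor.congr_obj
    (AlgebraicTopology.map_alternatingFaceMapComplex (presheafToSheaf J AddCommGrpCat.{u}))
    (freeP X)
  exact ⟨(HomologicalComplex.homologyFunctor _ _ 0).mapIso (eqToIso e'.symm) ≪≫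
    ChainComplex.isoHomologyι₀ A' ≪≫ i1⟩

end H0

end Groth.Agent.Lib.Helper15.HyperCone
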