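import Groth.Agent.Lib.Helper15.HyperHomEval
import Groth.Agent.Lib.Helper15.HyperConeSheaf

/-!
# Čech cohomology of an injective sheaf with respect to an acyclic simplicial formal coproduct
(helper15)

If the complex of abelian sheaves `ℤ[F(K)]^#` is exact in degree `p + 1` and `I` is an injective
abelian sheaf, then the Čech complex of `I` with respect to `K` is exact in degree `p + 1`.
-/

set_option autoImplicit false
universe u
open CategoryTheory CategoryTheory.Limits Opposite Simplicial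

namespace Groth.Agent.Lib.Helper15.HyperCechInj

open Groth.Agent.Lib.Helper15.HyperH0 Groth.Agent.Lib.Helper15.HyperYon
  Groth.Agent.Lib.Helper15.HyperYon2 Groth.Agent.Lib.Helper15.HyperHomEval

variable {D : Type u} [SmallCategory D] (J : GrothendieckTopology D)

/-- the free abelian sheaf on the coproduct of representables attached to a formal coproduct -/
noncomputable abbrev ZFs : FormalCoproduct.{u} D ⥤ Sheaf J AddCommGrpCat.{u} :=
  ZF ⋙ presheafToSheaf J AddCommGrpCat.{u}

variable {J} (I : Sheaf J AddCommGrpCat.{u})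

/-- the family attached to a morphism of sheaves `ℤ[F(T)]^# ⟶ I`, as an additive map -/
noncomputable def evS (T : FormalCoproduct.{u} D) :
    ((ZFs J).obj T ⟶ I) →+ (E I.obj).obj (op T) where
  toFun φ := evP (P := I.obj)
    ((sheafificationAdjunction J AddCommGrpCat.{u}).homAddEquiv (ZF.obj T) I φ)
  map_zero' := by
    rw [map_zero]
    have := evP_zsmul (P := I.obj) (T := T) 0 0
    rw [zero_smul, zero_smul] at this
    exact this
  map_add' φ φ' := by
    rw [map_add]
    exact evP_add _ _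

lemma evS_apply (T : FormalCoproduct.{u} D) (φ : (ZFs J).obj T ⟶ I) :
    evS I T φ = evP (P := I.obj)
      ((sheafificationAdjunction J AddCommGrpCat.{u}).homEquiv (ZF.obj T) I φ) := rfl

lemma evS_injective (T : FormalCoproduct.{u} D) : Function.Injective (evS I T) := by
  intro φ φ' h
  exact ((sheafificationAdjunction J AddCommGrpCat.{u}).homEquiv (ZF.obj T) I).injective
    (evP_injective h)

lemma evS_surjective (T : FormalCoproduct.{u} D) : Function.Surjective (evS I T) := by
  intro s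
  refine ⟨((sheafificationAdjunction J AddCommGrpCat.{u}).homEquiv (ZF.obj T) I).symm
    (ofFam (P := I.obj) s), ?_⟩
  rw [evS_apply, Equiv.apply_symm_apply]
  exact evP_ofFam s

lemma evS_map {T T' : FormalCoproduct.{u} D} (f : T ⟶ T') (φ : (ZFs J).obj T' ⟶ I) :
    evS I T ((ZFs J).map f ≫ φ) = (E I.obj).map f.op (evS I T' φ) := by
  rw [evS_apply, evS_apply]
  have := (sheafificationAdjunction J AddCommGrpCat.{u}).homEquiv_naturality_left (ZF.map f) φ
  rw [← evP_map]
  exact congrArg _ this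

variable (K : SimplicialObject (FormalCoproduct.{u} D))

lemma cech_d_eq (P : Dᵒᵖ ⥤ AddCommGrpCat.{u}) (n : ℕ) :
    (Cx P K).d n (n + 1) = ∑ i : Fin (n + 2), (-1 : ℤ) ^ (i : ℕ) • (E P).map (K.δ i).op := by
  have h : (Cx P K).d n (n + 1) = AlgebraicTopology.AlternatingCofaceMapComplex.objD
      ((FormalCoproduct.cosimplicialObjectFunctor K).obj P) n :=
    CochainComplex.of_d (fun n => ((FormalCoproduct.cosimplicialObjectFunctor K).obj P).obj ⦋n⦌)
      (AlgebraicTopology.AlternatingCofaceMapComplex.objD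
        ((FormalCoproduct.cosimplicialObjectFunctor K).obj P)) n
  rw [h]
  rfl

lemma cech_d_apply (P : Dᵒᵖ ⥤ AddCommGrpCat.{u}) (n : ℕ) (s : (E P).obj (op (K _⦋n⦌))) :
    ((Cx P K).d n (n + 1)).hom s =
      ∑ i : Fin (n + 2), (-1 : ℤ) ^ (i : ℕ) • ((E P).map (K.δ i).op).hom s := by
  refine (congrArg (fun φ : (E P).obj (op (K _⦋n⦌)) ⟶ (E P).obj (op (K _⦋n + 1⦌)) => φ.hom s)
    (cech_d_eq K P n)).trans ?_
  change (∑ i : Fin (n + 2), (-1 : ℤ) ^ (i : ℕ) • (E P).map (K.δ i).op :
    (E P).obj (op (K _⦋n⦌)) ⟶ (E P).obj (op (K _⦋n + 1⦌))).hom s = _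
  rw [Groth.Agent.Lib.Helper15.HyperCone.hom_sum_apply]
  rfl

lemma free_d_eq (n : ℕ) :
    (Hyper.freeChainCx J K).d (n + 1) n =
      ∑ i : Fin (n + 2), (-1 : ℤ) ^ (i : ℕ) • (ZFs J).map (K.δ i) :=
  AlgebraicTopology.AlternatingFaceMapComplex.obj_d_eq _ _

lemma evS_d (n : ℕ) (φ : (ZFs J).obj (K _⦋n⦌) ⟶ I) :
    evS I (K _⦋n + 1⦌) ((Hyper.freeChainCx J K).d (n + 1) n ≫ φ) =
      ((Cx I.obj K).d n (n + 1)).hom (evS I (K _⦋n⦌) φ) := by
  rw [free_d_eq, cech_d_apply, Preadditive.sum_comp, map_sum]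
  refine Finset.sum_congr rfl fun i _ => ?_
  rw [Preadditive.zsmul_comp, map_zsmul, evS_map]

/-- **Main lemma**: exactness of `ℤ[F(K)]^#` in degree `p + 1` implies the vanishing of the Čech
cohomology of an injective sheaf in degree `p + 1`. -/
theorem isZero_cech_homology_succ [Injective I] (p : ℕ)
    (h : (Hyper.freeChainCx J K).ExactAt (p + 1)) :
    IsZero ((Hyper.cechCxSite K I.obj).homology (p + 1)) := by
  rw [← HomologicalComplex.exactAt_iff_isZero_homology,
    HomologicalComplex.exactAt_iff' _ p (p + 1) (p + 2) (by simp) (by simp),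
    ShortComplex.ab_exact_iff]
  rw [HomologicalComplex.exactAt_iff' _ (p + 2) (p + 1) p (by simp) (by simp)] at h
  intro x₂ hx₂
  obtain ⟨φ, hφ⟩ := evS_surjective I (K _⦋p + 1⦌) x₂
  have hφ0 : (Hyper.freeChainCx J K).d (p + 2) (p + 1) ≫ φ = 0 := by
    apply evS_injective I
    rw [evS_d, hφ, map_zero]
    exact hx₂
  let ψ := h.descToInjective φ hφ0
  have hψ : (Hyper.freeChainCx J K).d (p + 1) p ≫ ψ = φ := h.comp_descToInjective φ hφ0
  refine ⟨evS I (K _⦋p⦌) ψ, ?_⟩
  have := evS_d I K p ψ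
  rw [hψ, hφ] at this
  exact this.symm

end Groth.Agent.Lib.Helper15.HyperCechInj
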