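import Mathlib
import Groth.Agent.Lib.Helper26.LanMono

/-!
# Restriction of an injective abelian sheaf to a slice site is injective (helper15)

For a small site `(C, J)` and an object `X`, the restriction functor
`J.overPullback AddCommGrpCat X : Sheaf J Ab ⥤ Sheaf (J.over X) Ab` has a left adjoint
(`j_!`, constructed with a left Kan extension along `(Over.forget X).op`) which preserves
monomorphisms, so restriction preserves injective objects.
-/

set_option autoImplicit false
open CategoryTheory CategoryTheory.Limits Opposite
universe v u

namespace Groth.Agent.Lib.Helper15.OverForgetInj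

section Comma

variable {C : Type u} [Category.{v} C] {X : C} {U : C}

/-- The canonical object of the comma category attached to a morphism `U ⟶ X`. -/
def objOf (φ : U ⟶ X) : CostructuredArrow (Over.forget X).op (op U) :=
  CostructuredArrow.mk (Y := op (Over.mk φ)) ((𝟙 U).op)

/-- The morphism `U ⟶ X` attached to an object of the comma category. -/
def idx (j : CostructuredArrow (Over.forget X).op (op U)) : U ⟶ X :=
  j.hom.unop ≫ j.left.unop.hom

/-- The canonical morphism to the terminal object of the component. -/
def toObjOf (j : CostructuredArrow (Over.forget X).op (op U)) : j ⟶ objOf (idx j) :=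
  CostructuredArrow.homMk
    ((Over.homMk j.hom.unop rfl : Over.mk (idx j) ⟶ j.left.unop).op) (by
      apply Quiver.Hom.unop_inj
      simp [objOf])

lemma left_eq (j : CostructuredArrow (Over.forget X).op (op U)) (φ : U ⟶ X)
    (m : j ⟶ objOf φ) : m.left.unop.left = j.hom.unop := by
  have h1 := congrArg (fun t => t.unop) (CostructuredArrow.w m)
  simp [objOf] at h1
  exact h1

lemma idx_eq_of_hom (j : CostructuredArrow (Over.forget X).op (op U)) (φ : U ⟶ X)
    (m : j ⟶ objOf φ) : idx j = φ := by
  have h2 : m.left.unop.left ≫ j.left.unop.hom = φ := Over.w m.left.unop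
  rw [idx, ← left_eq j φ m]
  exact h2

lemma hom_objOf_ext (j : CostructuredArrow (Over.forget X).op (op U)) (φ : U ⟶ X)
    (m m' : j ⟶ objOf φ) : m = m' := by
  apply CostructuredArrow.hom_ext
  apply Quiver.Hom.unop_inj
  apply Over.OverMorphism.ext
  exact (left_eq j φ m).trans (left_eq j φ m').symm

instance final_objOf : (Discrete.functor (objOf (X := X) (U := U))).Final :=
  Groth.Agent.Lib.Helper26.LanMono.final_discrete_of_unique objOf idx toObjOf idx_eq_of_hom
    hom_objOf_ext

end Comma

section Lan

variable {C : Type u} [SmallCategory C] (X : C)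

instance : AB4OfSize.{u} AddCommGrpCat.{u} := inferInstance

/-- The left Kan extension along `(Over.forget X).op` preserves monomorphisms of abelian
presheaves. -/
theorem mono_lan_map {P P' : (Over X)ᵒᵖ ⥤ AddCommGrpCat.{u}} (α : P ⟶ P') [Mono α] :
    Mono ((Over.forget X).op.lan.map α) := by
  have : ∀ V, Mono (α.app V) := fun V => inferInstance
  have : ∀ Y, Mono (((Over.forget X).op.lan.map α).app Y) := fun Y => by
    obtain ⟨U⟩ := Y
    exact Groth.Agent.Lib.Helper26.LanMono.mono_lan_map_app (Over.forget X).op α (op U)
      (Discrete.functor (objOf (X := X) (U := U)))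
  exact NatTrans.mono_of_mono_app _

instance : ((Over.forget X).op.lan :
    ((Over X)ᵒᵖ ⥤ AddCommGrpCat.{u}) ⥤ (Cᵒᵖ ⥤ AddCommGrpCat.{u})).PreservesMonomorphisms where
  preserves α _ := mono_lan_map X α

end Lan

section Sheaf

variable {C : Type u} [SmallCategory C] (J : GrothendieckTopology C) (X : C)

instance : (Functor.sheafPullbackConstruction.sheafPullback (Over.forget X) AddCommGrpCat.{u}
    (J.over X) J).PreservesMonomorphisms := by
  unfold Functor.sheafPullbackConstruction.sheafPullback
  have h1 : (sheafToPresheaf (J.over X) AddCommGrpCat.{u}).PreservesMonomorphisms := inferInstance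
  have h2 : ((Over.forget X).op.lan :
    ((Over X)ᵒᵖ ⥤ AddCommGrpCat.{u}) ⥤ (Cᵒᵖ ⥤ AddCommGrpCat.{u})).PreservesMonomorphisms :=
    inferInstance
  have h3 : (presheafToSheaf J AddCommGrpCat.{u}).PreservesMonomorphisms := inferInstance
  have h23 : ((Over.forget X).op.lan ⋙ presheafToSheaf J AddCommGrpCat.{u}).PreservesMonomorphisms :=
    Functor.preservesMonomorphisms_comp _ _
  exact Functor.preservesMonomorphisms_comp _ _

/-- Restriction of abelian sheaves to a slice site preserves injective objects. -/
theorem preservesInjectiveObjects_overPullback :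
    (J.overPullback AddCommGrpCat.{u} X).PreservesInjectiveObjects :=
  Functor.preservesInjectiveObjects_of_adjunction_of_preservesMonomorphisms
    (Functor.sheafPullbackConstruction.sheafAdjunctionContinuous (Over.forget X)
      AddCommGrpCat.{u} (J.over X) J)

instance injective_overPullback (I : Sheaf J AddCommGrpCat.{u}) [Injective I] :
    Injective ((J.overPullback AddCommGrpCat.{u} X).obj I) := by
  have := preservesInjectiveObjects_overPullback J X
  exact Functor.injective_obj _ _

end Sheaf

end Groth.Agent.Lib.Helper15.OverForgetInj
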