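import Mathlib
import Groth.Prelude.Def_Hyper
import Groth.Agent.Lib.Helper15.HyperH0

set_option autoImplicit false
universe u
open CategoryTheory CategoryTheory.Limits Opposite Simplicial

namespace Groth.Agent.Lib.Helper15.HyperYon

variable {D : Type u} [SmallCategory D]

/-- the presheaf of "points" of a formal coproduct -/
abbrev pts (T : FormalCoproduct.{u} D) : Dᵒᵖ ⥤ Type u :=
  (FormalCoproduct.incl D).op ⋙ CategoryTheory.yoneda.obj T

/-- the element of the coproduct of representables attached to a point -/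
noncomputable def elt {T : FormalCoproduct.{u} D} {Y : D}
    (m : (FormalCoproduct.incl D).obj Y ⟶ T) : (FormalCoproduct.yoneda.obj T).obj (op Y) :=
  (Sigma.ι (fun i : T.I => yoneda.obj (T.obj i)) (m.f PUnit.unit)).app (op Y) (m.φ PUnit.unit)

/-- components of `rho` -/
def rhoComp (T : FormalCoproduct.{u} D) (i : T.I) : yoneda.obj (T.obj i) ⟶ pts T where
  app V := ↾fun h => FormalCoproduct.Hom.fromIncl i h
  naturality V W g := by
    ext h
    rfl

/-- the retraction from the coproduct of representables to points -/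
noncomputable def rho (T : FormalCoproduct.{u} D) : FormalCoproduct.yoneda.obj T ⟶ pts T :=
  Sigma.desc (rhoComp T)


lemma rho_elt {T : FormalCoproduct.{u} D} {Y : D}
    (m : (FormalCoproduct.incl D).obj Y ⟶ T) : (rho T).app (op Y) (elt m) = m := by
  have h : Sigma.ι (fun i : T.I => yoneda.obj (T.obj i)) (m.f PUnit.unit) ≫ rho T =
      rhoComp T (m.f PUnit.unit) := Sigma.ι_desc _ _
  have h2 := congrArg (fun (φ : yoneda.obj (T.obj (m.f PUnit.unit)) ⟶ pts T) =>
    φ.app (op Y) (m.φ PUnit.unit)) h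
  exact h2

set_option backward.isDefEq.respectTransparency false in
lemma rho_nat {T T' : FormalCoproduct.{u} D} (f : T ⟶ T') :
    FormalCoproduct.yoneda.map f ≫ rho T' =
      rho T ≫ Functor.whiskerLeft (FormalCoproduct.incl D).op (CategoryTheory.yoneda.map f) := by
  apply Sigma.hom_ext
  intro i
  have e1 : Sigma.ι (fun i : T.I => yoneda.obj (T.obj i)) i ≫ FormalCoproduct.yoneda.map f =
      yoneda.map (f.φ i) ≫ Sigma.ι (fun i : T'.I => yoneda.obj (T'.obj i)) (f.f i) :=
    Sigma.ι_desc _ _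
  have e2 : Sigma.ι (fun i : T'.I => yoneda.obj (T'.obj i)) (f.f i) ≫ rho T' =
      rhoComp T' (f.f i) := Sigma.ι_desc _ _
  have e3 : Sigma.ι (fun i : T.I => yoneda.obj (T.obj i)) i ≫ rho T = rhoComp T i :=
    Sigma.ι_desc _ _
  rw [reassoc_of% e1, e2, reassoc_of% e3]
  rfl

lemma rho_nat_apply {T T' : FormalCoproduct.{u} D} (f : T ⟶ T') {Y : D}
    (x : (FormalCoproduct.yoneda.obj T).obj (op Y)) :
    (rho T').app (op Y) ((FormalCoproduct.yoneda.map f).app (op Y) x) =
      (rho T).app (op Y) x ≫ f := by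
  have := congrArg (fun φ => φ.app (op Y) x) (rho_nat f)
  exact this

lemma elt_res {T : FormalCoproduct.{u} D} {Y Y' : D} (g : Y' ⟶ Y)
    (m : (FormalCoproduct.incl D).obj Y ⟶ T) :
    (FormalCoproduct.yoneda.obj T).map g.op (elt m) =
      elt ((FormalCoproduct.incl D).map g ≫ m) := by
  have := (Sigma.ι (fun i : T.I => yoneda.obj (T.obj i)) (m.f PUnit.unit)).naturality g.op
  have h2 := congrArg (fun φ => φ (m.φ PUnit.unit)) this
  exact h2.symm


open Groth.Agent.Lib.Helper15.HyperH0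

lemma prod_key {A B F : Dᵒᵖ ⥤ Type u} (α : F ⟶ A) (β : F ⟶ B) {Y Y' : D} (g : Y' ⟶ Y)
    (x : A.obj (op Y)) (y : B.obj (op Y)) (t : F.obj (op Y'))
    (ht : (prod.lift α β).app (op Y') t = (A ⨯ B).map g.op
      (yonedaEquiv (prod.lift (yonedaEquiv.symm x) (yonedaEquiv.symm y)))) :
    α.app _ t = A.map g.op x ∧ β.app _ t = B.map g.op y := by
  constructor
  · have h1 : (prod.fst : A ⨯ B ⟶ A).app (op Y') ((prod.lift α β).app (op Y') t) = α.app _ t :=
      congrArg (fun φ => φ.app (op Y') t) (prod.lift_fst α β)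
    have h2 : (prod.fst : A ⨯ B ⟶ A).app (op Y') ((A ⨯ B).map g.op
        (yonedaEquiv (prod.lift (yonedaEquiv.symm x) (yonedaEquiv.symm y)))) =
        A.map g.op ((prod.fst : A ⨯ B ⟶ A).app (op Y)
          (yonedaEquiv (prod.lift (yonedaEquiv.symm x) (yonedaEquiv.symm y)))) :=
      congrArg (fun φ => φ (yonedaEquiv (prod.lift (yonedaEquiv.symm x) (yonedaEquiv.symm y))))
        ((prod.fst : A ⨯ B ⟶ A).naturality g.op)
    have h3 : (prod.fst : A ⨯ B ⟶ A).app (op Y)
        (yonedaEquiv (prod.lift (yonedaEquiv.symm x) (yonedaEquiv.symm y))) = x := by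
      have e : yonedaEquiv (prod.lift (yonedaEquiv.symm x) (yonedaEquiv.symm y) ≫
          (prod.fst : A ⨯ B ⟶ A)) = x := by
        rw [prod.lift_fst]; exact Equiv.apply_symm_apply _ _
      exact (yonedaEquiv_comp _ _).symm.trans e
    rw [← h1, ht, h2, h3]
  · have h1 : (prod.snd : A ⨯ B ⟶ B).app (op Y') ((prod.lift α β).app (op Y') t) = β.app _ t :=
      congrArg (fun φ => φ.app (op Y') t) (prod.lift_snd α β)
    have h2 : (prod.snd : A ⨯ B ⟶ B).app (op Y') ((A ⨯ B).map g.op
        (yonedaEquiv (prod.lift (yonedaEquiv.symm x) (yonedaEquiv.symm y)))) =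
        B.map g.op ((prod.snd : A ⨯ B ⟶ B).app (op Y)
          (yonedaEquiv (prod.lift (yonedaEquiv.symm x) (yonedaEquiv.symm y)))) :=
      congrArg (fun φ => φ (yonedaEquiv (prod.lift (yonedaEquiv.symm x) (yonedaEquiv.symm y))))
        ((prod.snd : A ⨯ B ⟶ B).naturality g.op)
    have h3 : (prod.snd : A ⨯ B ⟶ B).app (op Y)
        (yonedaEquiv (prod.lift (yonedaEquiv.symm x) (yonedaEquiv.symm y))) = y := by
      have e : yonedaEquiv (prod.lift (yonedaEquiv.symm x) (yonedaEquiv.symm y) ≫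
          (prod.snd : A ⨯ B ⟶ B)) = y := by
        rw [prod.lift_snd]; exact Equiv.apply_symm_apply _ _
      exact (yonedaEquiv_comp _ _).symm.trans e
    rw [← h1, ht, h2, h3]

variable (J : GrothendieckTopology D) (K : SimplicialObject (FormalCoproduct.{u} D))

lemma cov0_of_locSurj
    (h : Presheaf.IsLocallySurjective J
      (terminal.from (FormalCoproduct.yoneda.obj (K.obj (op (SimplexCategory.mk 0)))))) :
    Cov0 K J := by
  intro Y
  let pt : (⊤_ (Dᵒᵖ ⥤ Type u)).obj (op Y) := (terminal.from (yoneda.obj Y)).app (op Y) (𝟙 Y)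
  refine ⟨_, h.imageSieve_mem pt, fun Y' g hg => ?_⟩
  obtain ⟨t, -⟩ := hg
  exact ⟨(rho _).app (op Y') t⟩

lemma cov1_of_locSurj
    (h : Presheaf.IsLocallySurjective J
      (prod.lift (FormalCoproduct.yoneda.map (K.δ (1 : Fin 2)))
        (FormalCoproduct.yoneda.map (K.δ (0 : Fin 2))))) :
    Cov1 K J := by
  intro Y a b
  let pair : ((FormalCoproduct.yoneda.obj (K _⦋0⦌)) ⨯ (FormalCoproduct.yoneda.obj (K _⦋0⦌))).obj
      (op Y) := yonedaEquiv (prod.lift (yonedaEquiv.symm (elt a)) (yonedaEquiv.symm (elt b)))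
  refine ⟨_, h.imageSieve_mem pair, fun Y' g hg => ?_⟩
  obtain ⟨t, ht⟩ := hg
  obtain ⟨h1, h2⟩ := prod_key _ _ g (elt a) (elt b) t ht
  refine ⟨(rho _).app (op Y') t, ?_, ?_⟩
  · rw [← rho_nat_apply, h1, elt_res, rho_elt]
  · rw [← rho_nat_apply, h2, elt_res, rho_elt]

end Groth.Agent.Lib.Helper15.HyperYon
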