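import Mathlib
import Groth.Prelude.Def_Hyper
import Groth.Agent.Lib.Helper15.HyperYon
import Groth.Agent.Lib.Helper15.HyperOver

set_option autoImplicit false
universe u
open CategoryTheory CategoryTheory.Limits Opposite Simplicial

namespace Groth.Agent.Lib.Helper15.HyperYon2

open Groth.Agent.Lib.Helper15.HyperH0 Groth.Agent.Lib.Helper15.HyperYon
  Groth.Agent.Lib.Helper15.HyperOver

variable {D : Type u} [SmallCategory D]

/-- points to elements, as a natural transformation -/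
noncomputable def eltNat (T : FormalCoproduct.{u} D) : pts T ⟶ FormalCoproduct.yoneda.obj T where
  app V := ↾fun m => elt (Y := V.unop) m
  naturality V W g := by
    ext m
    exact (elt_res g.unop m).symm

set_option backward.isDefEq.respectTransparency false in
lemma rho_eltNat (T : FormalCoproduct.{u} D) : rho T ≫ eltNat T = 𝟙 _ := by
  apply Sigma.hom_ext
  intro i
  have e3 : Sigma.ι (fun i : T.I => yoneda.obj (T.obj i)) i ≫ rho T = rhoComp T i :=
    Sigma.ι_desc _ _
  rw [reassoc_of% e3]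
  refine Eq.trans ?_ (Category.comp_id _).symm
  rfl

lemma elt_rho {T : FormalCoproduct.{u} D} {Y : D}
    (x : (FormalCoproduct.yoneda.obj T).obj (op Y)) : elt ((rho T).app (op Y) x) = x := by
  have := congrArg (fun φ => φ.app (op Y) x) (rho_eltNat T)
  exact this

lemma elt_map {T T' : FormalCoproduct.{u} D} (f : T ⟶ T') {Y : D}
    (m : (FormalCoproduct.incl D).obj Y ⟶ T) :
    (FormalCoproduct.yoneda.map f).app (op Y) (elt m) = elt (m ≫ f) := by
  rw [← elt_rho ((FormalCoproduct.yoneda.map f).app (op Y) (elt m)), rho_nat_apply, rho_elt]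

lemma prod_ext_elt {A B : Dᵒᵖ ⥤ Type u} {V : D} (x y : (A ⨯ B).obj (op V))
    (h1 : (prod.fst : A ⨯ B ⟶ A).app _ x = (prod.fst : A ⨯ B ⟶ A).app _ y)
    (h2 : (prod.snd : A ⨯ B ⟶ B).app _ x = (prod.snd : A ⨯ B ⟶ B).app _ y) : x = y := by
  apply yonedaEquiv.symm.injective
  apply Limits.prod.hom_ext
  · apply yonedaEquiv.injective
    rw [yonedaEquiv_comp, yonedaEquiv_comp, Equiv.apply_symm_apply, Equiv.apply_symm_apply]
    exact h1
  · apply yonedaEquiv.injective
    rw [yonedaEquiv_comp, yonedaEquiv_comp, Equiv.apply_symm_apply, Equiv.apply_symm_apply]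
    exact h2

lemma prod_lift_fst_apply {A B F : Dᵒᵖ ⥤ Type u} (α : F ⟶ A) (β : F ⟶ B) {V : D}
    (t : F.obj (op V)) :
    (prod.fst : A ⨯ B ⟶ A).app (op V) ((prod.lift α β).app (op V) t) = α.app (op V) t :=
  congrArg (fun (φ : F ⟶ A) => φ.app (op V) t) (prod.lift_fst α β)

lemma prod_lift_snd_apply {A B F : Dᵒᵖ ⥤ Type u} (α : F ⟶ A) (β : F ⟶ B) {V : D}
    (t : F.obj (op V)) :
    (prod.snd : A ⨯ B ⟶ B).app (op V) ((prod.lift α β).app (op V) t) = β.app (op V) t :=
  congrArg (fun (φ : F ⟶ B) => φ.app (op V) t) (prod.lift_snd α β)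

lemma nat_apply {A B : Dᵒᵖ ⥤ Type u} (α : A ⟶ B) {V W : D} (g : W ⟶ V) (s : A.obj (op V)) :
    α.app (op W) (A.map g.op s) = B.map g.op (α.app (op V) s) :=
  congrArg (fun (φ : A.obj (op V) ⟶ B.obj (op W)) => φ s) (α.naturality g.op)

variable (J : GrothendieckTopology D)

lemma locSurj_of_liftCov {A B : FormalCoproduct.{u} D} (f : A ⟶ B) (h : LiftCov J f) :
    Presheaf.IsLocallySurjective J (FormalCoproduct.yoneda.map f) := by
  constructor
  intro Y s
  obtain ⟨S, hS, H⟩ := h Y ((rho B).app (op Y) s)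
  refine J.superset_covering ?_ hS
  intro Y' g hg
  obtain ⟨a, ha⟩ := H g hg
  refine ⟨elt a, ?_⟩
  rw [elt_map, ha, ← elt_res, elt_rho]

lemma locSurj_terminal_of_cov0 (K : SimplicialObject (FormalCoproduct.{u} D)) (h : Cov0 K J) :
    Presheaf.IsLocallySurjective J
      (terminal.from (FormalCoproduct.yoneda.obj (K.obj (op (SimplexCategory.mk 0))))) := by
  constructor
  intro Y s
  obtain ⟨S, hS, H⟩ := h Y
  refine J.superset_covering ?_ hS
  intro Y' g hg
  obtain ⟨m⟩ := H g hg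
  refine ⟨elt m, ?_⟩
  have hT : IsTerminal (((evaluation Dᵒᵖ (Type u)).obj (op Y')).obj (⊤_ (Dᵒᵖ ⥤ Type u))) :=
    IsTerminal.isTerminalObj _ _ terminalIsTerminal
  have : Subsingleton ((⊤_ (Dᵒᵖ ⥤ Type u)).obj (op Y')) :=
    (Types.isTerminalEquivUnique _ hT).instSubsingleton
  exact Subsingleton.elim _ _

lemma locSurj_prod_of_cov1 (K : SimplicialObject (FormalCoproduct.{u} D)) (h : Cov1 K J) :
    Presheaf.IsLocallySurjective J
      (prod.lift (FormalCoproduct.yoneda.map (K.δ (1 : Fin 2)))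
        (FormalCoproduct.yoneda.map (K.δ (0 : Fin 2)))) := by
  constructor
  intro Y s
  obtain ⟨S, hS, H⟩ := h Y ((rho _).app (op Y) ((prod.fst :
      FormalCoproduct.yoneda.obj (K _⦋0⦌) ⨯ FormalCoproduct.yoneda.obj (K _⦋0⦌) ⟶ _).app (op Y) s))
    ((rho _).app (op Y) ((prod.snd :
      FormalCoproduct.yoneda.obj (K _⦋0⦌) ⨯ FormalCoproduct.yoneda.obj (K _⦋0⦌) ⟶ _).app (op Y) s))
  refine J.superset_covering ?_ hS
  intro Y' g hg
  obtain ⟨c, hc1, hc0⟩ := H g hg
  refine ⟨elt c, ?_⟩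
  apply prod_ext_elt
  · rw [prod_lift_fst_apply, nat_apply, elt_map, hc1, ← elt_res, elt_rho]
  · rw [prod_lift_snd_apply, nat_apply, elt_map, hc0, ← elt_res, elt_rho]

end Groth.Agent.Lib.Helper15.HyperYon2
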