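import Groth.Agent.Lib.Helper15.HyperH0b
import Groth.Agent.Lib.Helper15.AcyclicSheaf
import Groth.Agent.Lib.Helper15.HyperOver
import Groth.Agent.S0895

/-!
# Čech cohomology of an acyclic sheaf with respect to a hypercovering vanishes (helper15)

Dimension shifting, using the vanishing for injective sheaves (`S0895`).
-/

set_option autoImplicit false
universe u
open CategoryTheory CategoryTheory.Limits Opposite Simplicial

namespace Groth.Agent.Lib.Helper15.HyperAcyclic

open Groth.Agent.Lib.Helper15.HyperH0 Groth.Agent.Lib.Helper15.HyperChase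
  Groth.Agent.Lib.Helper15.HyperH0b Groth.Agent.Lib.Helper15.AcyclicSheaf

variable {C : Type u} [SmallCategory C] [HasPullbacks C] (J : GrothendieckTopology C) (X : C)
  [∀ (n : ℕ) (F : (SimplexCategory.Truncated n)ᵒᵖ ⥤ FormalCoproduct.{u} (Over X)),
    (SimplexCategory.Truncated.inclusion n).op.HasRightKanExtension F]
  (K : SimplicialObject (FormalCoproduct.{u} (Over X)))

/-- restriction of a presheaf to the slice -/
abbrev rs (P : Cᵒᵖ ⥤ AddCommGrpCat.{u}) : (Over X)ᵒᵖ ⥤ AddCommGrpCat.{u} :=
  (Over.forget X).op ⋙ P

/-- the cone with vertex the sections over `X` -/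
noncomputable abbrev cn (P : Cᵒᵖ ⥤ AddCommGrpCat.{u}) : Cone (rs X P) :=
  coneOfDiagramInitial (initialOpOfTerminal Over.mkIdTerminal) (rs X P)

theorem acyclic_cech (hK : Hyper.IsHypercovering J X K) (p : ℕ) :
    ∀ F : Sheaf J AddCommGrpCat.{u}, Acyc F → CechExact K (rs X F.obj) p := by
  induction p with
  | zero =>
    intro F hF
    let ι := Injective.ι F
    let S : ShortComplex (Sheaf J AddCommGrpCat.{u}) :=
      ShortComplex.mk ι (cokernel.π ι) (cokernel.condition ι)
    have hS : S.ShortExact :=
      { exact := ShortComplex.exact_cokernel ι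
        mono_f := inferInstanceAs (Mono ι)
        epi_g := inferInstanceAs (Epi (cokernel.π ι)) }
    have hI : Injective S.X₂ := inferInstanceAs (Injective (Injective.under F))
    refine chase K 0 (α := Functor.whiskerLeft (Over.forget X).op S.f.hom)
      (β := Functor.whiskerLeft (Over.forget X).op S.g.hom)
      (fun Y => injective_of_shortExact hS Y.left)
      (fun Y => exact_of_shortExact hS Y.left)
      (fun Y => zero_of_shortComplex S Y.left)
      ((cechExact_iff K _ 0).1 (Groth.Agent.S0895.result J X K hK S.X₂ 0)) ?_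
    intro b hb
    have hP : Presheaf.IsSheaf (J.over X) (rs X S.X₃.obj) :=
      ((J.overPullback AddCommGrpCat.{u} X).obj S.X₃).2
    obtain ⟨t, ht⟩ := exists_iota_eq hP
      (Groth.Agent.Lib.Helper15.HyperOver.cov0_over J X K hK.1)
      (Groth.Agent.Lib.Helper15.HyperOver.cov1_over J X K (hK.2 0))
      (cn X S.X₃.obj) (limitOfDiagramInitial _ _) b hb
    obtain ⟨t', ht'⟩ := surjective_of_shortExact hS hF X t
    refine ⟨(iota (cn X S.X₂.obj) (K _⦋0⦌)).hom t', iota_d_apply _ _, ?_⟩
    rw [Emap_iota (Functor.whiskerLeft (Over.forget X).op S.g.hom) (cn X S.X₂.obj)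
      (cn X S.X₃.obj) (S.g.hom.app (op X)) (fun Y => ?_), ← ht]
    · exact congrArg _ ht'
    · exact (S.g.hom.naturality _).symm
  | succ p ih =>
    intro F hF
    let ι := Injective.ι F
    let S : ShortComplex (Sheaf J AddCommGrpCat.{u}) :=
      ShortComplex.mk ι (cokernel.π ι) (cokernel.condition ι)
    have hS : S.ShortExact :=
      { exact := ShortComplex.exact_cokernel ι
        mono_f := inferInstanceAs (Mono ι)
        epi_g := inferInstanceAs (Epi (cokernel.π ι)) }
    have hI : Injective S.X₂ := inferInstanceAs (Injective (Injective.under F))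
    have hQ : Acyc S.X₃ := acyc_of_shortExact hS hF
    exact chase K (p + 1) (α := Functor.whiskerLeft (Over.forget X).op S.f.hom)
      (β := Functor.whiskerLeft (Over.forget X).op S.g.hom)
      (fun Y => injective_of_shortExact hS Y.left)
      (fun Y => exact_of_shortExact hS Y.left)
      (fun Y => zero_of_shortComplex S Y.left)
      ((cechExact_iff K _ (p + 1)).1 (Groth.Agent.S0895.result J X K hK S.X₂ (p + 1)))
      (lift_of_cechExact K p (fun Y => surjective_of_shortExact hS hF Y.left) (ih S.X₃ hQ))

end Groth.Agent.Lib.Helper15.HyperAcyclic
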