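import Groth.Agent.Lib.Helper15.HyperCechInj

/-!
# Diagram chase for Čech complexes of a sectionwise short exact sequence of presheaves (helper15)
-/

set_option autoImplicit false
universe u
open CategoryTheory CategoryTheory.Limits Opposite Simplicial

namespace Groth.Agent.Lib.Helper15.HyperChase

open Groth.Agent.Lib.Helper15.HyperH0 Groth.Agent.Lib.Helper15.HyperHomEval
  Groth.Agent.Lib.Helper15.HyperCechInj

variable {D : Type u} [SmallCategory D]

section Emap

variable {P₁ P₂ : Dᵒᵖ ⥤ AddCommGrpCat.{u}} (α : P₁ ⟶ P₂)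

/-- the map on families induced by a morphism of presheaves -/
noncomputable def Emap (T : FormalCoproduct.{u} D) : (E P₁).obj (op T) ⟶ (E P₂).obj (op T) :=
  ((FormalCoproduct.evalOp.{u} D AddCommGrpCat.{u}).map α).app (op T)

set_option backward.isDefEq.respectTransparency false in
lemma Emap_π (T : FormalCoproduct.{u} D) (i : T.I) :
    Emap α T ≫ Pi.π (fun i : T.I => P₂.obj (op (T.obj i))) i =
      Pi.π (fun i : T.I => P₁.obj (op (T.obj i))) i ≫ α.app (op (T.obj i)) := by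
  simp [Emap]

lemma Emap_π_apply (T : FormalCoproduct.{u} D) (i : T.I) (s : (E P₁).obj (op T)) :
    (Pi.π (fun i : T.I => P₂.obj (op (T.obj i))) i).hom ((Emap α T).hom s) =
      (α.app (op (T.obj i))).hom ((Pi.π (fun i : T.I => P₁.obj (op (T.obj i))) i).hom s) := by
  have := congrArg (fun φ => φ.hom s) (Emap_π α T i)
  exact this

variable (K : SimplicialObject (FormalCoproduct.{u} D))

/-- the induced morphism of Čech complexes -/
noncomputable abbrev Cmap : Cx P₁ K ⟶ Cx P₂ K :=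
  (FormalCoproduct.cochainComplexFunctor K).map α

lemma Cmap_f (n : ℕ) : (Cmap α K).f n = Emap α (K _⦋n⦌) := rfl

lemma Cmap_d_apply (n : ℕ) (s : (E P₁).obj (op (K _⦋n⦌))) :
    ((Cx P₂ K).d n (n + 1)).hom ((Emap α (K _⦋n⦌)).hom s) =
      (Emap α (K _⦋n + 1⦌)).hom (((Cx P₁ K).d n (n + 1)).hom s) := by
  have := congrArg (fun φ => φ.hom s) ((Cmap α K).comm n (n + 1))
  exact this

variable {α}

lemma Emap_injective (hα : ∀ Y : D, Function.Injective (α.app (op Y)).hom)
    (T : FormalCoproduct.{u} D) : Function.Injective (Emap α T).hom := by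
  intro s s' h
  apply E_ext
  intro i
  apply hα
  rw [← Emap_π_apply, ← Emap_π_apply, h]

lemma Emap_surjective (hα : ∀ Y : D, Function.Surjective (α.app (op Y)).hom)
    (T : FormalCoproduct.{u} D) : Function.Surjective (Emap α T).hom := by
  intro s
  refine ⟨(Concrete.productEquiv (fun i : T.I => P₁.obj (op (T.obj i)))).symm
    (fun i => (hα (T.obj i) ((Pi.π (fun i : T.I => P₂.obj (op (T.obj i))) i).hom s)).choose), ?_⟩
  apply E_ext
  intro i
  have h1 := Emap_π_apply α T i ((Concrete.productEquiv (fun i : T.I => P₁.obj (op (T.obj i)))).symm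
    (fun i => (hα (T.obj i) ((Pi.π (fun i : T.I => P₂.obj (op (T.obj i))) i).hom s)).choose))
  refine h1.trans ?_
  have h2 := Concrete.productEquiv_symm_apply_π (fun i : T.I => P₁.obj (op (T.obj i)))
    (fun i => (hα (T.obj i) ((Pi.π (fun i : T.I => P₂.obj (op (T.obj i))) i).hom s)).choose) i
  refine (congrArg (α.app (op (T.obj i))).hom h2).trans ?_
  exact (hα (T.obj i) ((Pi.π (fun i : T.I => P₂.obj (op (T.obj i))) i).hom s)).choose_spec

end Emap

section Exact

variable {P₁ P₂ P₃ : Dᵒᵖ ⥤ AddCommGrpCat.{u}} {α : P₁ ⟶ P₂} {β : P₂ ⟶ P₃}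

lemma Emap_exact
    (hαβ : ∀ (Y : D) (s : P₂.obj (op Y)), (β.app (op Y)).hom s = 0 →
      ∃ r : P₁.obj (op Y), (α.app (op Y)).hom r = s)
    (T : FormalCoproduct.{u} D) (s : (E P₂).obj (op T)) (hs : (Emap β T).hom s = 0) :
    ∃ r : (E P₁).obj (op T), (Emap α T).hom r = s := by
  have key : ∀ i : T.I, ∃ r : P₁.obj (op (T.obj i)), (α.app (op (T.obj i))).hom r =
      (Pi.π (fun i : T.I => P₂.obj (op (T.obj i))) i).hom s := by
    intro i
    apply hαβ
    refine (Emap_π_apply β T i s).symm.trans ?_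
    exact (congrArg (Pi.π (fun i : T.I => P₃.obj (op (T.obj i))) i).hom hs).trans (map_zero _)
  refine ⟨(Concrete.productEquiv (fun i : T.I => P₁.obj (op (T.obj i)))).symm
    (fun i => (key i).choose), ?_⟩
  apply E_ext
  intro i
  have h1 := Emap_π_apply α T i ((Concrete.productEquiv (fun i : T.I => P₁.obj (op (T.obj i)))).symm
    (fun i => (key i).choose))
  refine h1.trans ?_
  have h2 := Concrete.productEquiv_symm_apply_π (fun i : T.I => P₁.obj (op (T.obj i)))
    (fun i => (key i).choose) i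
  refine (congrArg (α.app (op (T.obj i))).hom h2).trans ?_
  exact (key i).choose_spec

lemma Emap_zero (hzero : ∀ (Y : D) (r : P₁.obj (op Y)), (β.app (op Y)).hom ((α.app (op Y)).hom r) = 0)
    (T : FormalCoproduct.{u} D) (r : (E P₁).obj (op T)) :
    (Emap β T).hom ((Emap α T).hom r) = 0 := by
  apply E_ext
  intro i
  refine (Emap_π_apply β T i _).trans ?_
  refine (congrArg (β.app (op (T.obj i))).hom (Emap_π_apply α T i r)).trans ?_
  exact (hzero _ _).trans (map_zero (Pi.π (fun i : T.I => P₃.obj (op (T.obj i))) i).hom).symm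

end Exact

section Chase

variable (K : SimplicialObject (FormalCoproduct.{u} D))

/-- every `(n+1)`-cocycle of the Čech complex is a coboundary -/
def CechExact (P : Dᵒᵖ ⥤ AddCommGrpCat.{u}) (n : ℕ) : Prop :=
  ∀ x : (E P).obj (op (K _⦋n + 1⦌)), ((Cx P K).d (n + 1) (n + 2)).hom x = 0 →
    ∃ y : (E P).obj (op (K _⦋n⦌)), ((Cx P K).d n (n + 1)).hom y = x

lemma cechExact_iff (P : Dᵒᵖ ⥤ AddCommGrpCat.{u}) (n : ℕ) :
    IsZero ((Cx P K).homology (n + 1)) ↔ CechExact K P n := by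
  rw [← HomologicalComplex.exactAt_iff_isZero_homology,
    HomologicalComplex.exactAt_iff' _ n (n + 1) (n + 2) (by simp) (by simp),
    ShortComplex.ab_exact_iff]
  rfl

lemma d_d_apply (P : Dᵒᵖ ⥤ AddCommGrpCat.{u}) (n : ℕ) (y : (E P).obj (op (K _⦋n⦌))) :
    ((Cx P K).d (n + 1) (n + 2)).hom (((Cx P K).d n (n + 1)).hom y) = 0 := by
  have := congrArg (fun φ => φ.hom y) ((Cx P K).d_comp_d n (n + 1) (n + 2))
  exact this

variable {P₁ P₂ P₃ : Dᵒᵖ ⥤ AddCommGrpCat.{u}} {α : P₁ ⟶ P₂} {β : P₂ ⟶ P₃}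

/-- the diagram chase -/
theorem chase (n : ℕ)
    (hα : ∀ Y : D, Function.Injective (α.app (op Y)).hom)
    (hαβ : ∀ (Y : D) (s : P₂.obj (op Y)), (β.app (op Y)).hom s = 0 →
      ∃ r : P₁.obj (op Y), (α.app (op Y)).hom r = s)
    (hzero : ∀ (Y : D) (r : P₁.obj (op Y)), (β.app (op Y)).hom ((α.app (op Y)).hom r) = 0)
    (H2 : CechExact K P₂ n)
    (Hlift : ∀ b : (E P₃).obj (op (K _⦋n⦌)), ((Cx P₃ K).d n (n + 1)).hom b = 0 →
      ∃ b' : (E P₂).obj (op (K _⦋n⦌)), ((Cx P₂ K).d n (n + 1)).hom b' = 0 ∧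
        (Emap β (K _⦋n⦌)).hom b' = b) :
    CechExact K P₁ n := by
  intro c hc
  -- the image of `c` is a coboundary
  obtain ⟨b, hb⟩ := H2 ((Emap α (K _⦋n + 1⦌)).hom c) (by
    refine (Cmap_d_apply α K (n + 1) c).trans ?_
    exact (congrArg (Emap α (K _⦋n + 2⦌)).hom hc).trans (map_zero _))
  -- the image of `b` in `P₃` is a cocycle
  obtain ⟨b', hb'0, hb'⟩ := Hlift ((Emap β (K _⦋n⦌)).hom b) (by
    refine (Cmap_d_apply β K n b).trans ?_
    exact (congrArg (Emap β (K _⦋n + 1⦌)).hom hb).trans (Emap_zero hzero _ c))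
  -- correct `b`
  obtain ⟨a, ha⟩ := Emap_exact hαβ (K _⦋n⦌) (b - b') (by
    refine (map_sub (Emap β (K _⦋n⦌)).hom b b').trans ?_
    rw [hb', sub_self])
  refine ⟨a, ?_⟩
  apply Emap_injective hα
  refine (Cmap_d_apply α K n a).symm.trans ?_
  refine (congrArg ((Cx P₂ K).d n (n + 1)).hom ha).trans ?_
  refine (map_sub ((Cx P₂ K).d n (n + 1)).hom b b').trans ?_
  exact (congrArg₂ (· - ·) hb hb'0).trans (sub_zero _)

lemma lift_of_cechExact (p : ℕ) (hβ : ∀ Y : D, Function.Surjective (β.app (op Y)).hom)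
    (H3 : CechExact K P₃ p) (b : (E P₃).obj (op (K _⦋p + 1⦌)))
    (hb : ((Cx P₃ K).d (p + 1) (p + 2)).hom b = 0) :
    ∃ b' : (E P₂).obj (op (K _⦋p + 1⦌)), ((Cx P₂ K).d (p + 1) (p + 2)).hom b' = 0 ∧
      (Emap β (K _⦋p + 1⦌)).hom b' = b := by
  obtain ⟨e, he⟩ := H3 b hb
  obtain ⟨e', he'⟩ := Emap_surjective hβ (K _⦋p⦌) e
  refine ⟨((Cx P₂ K).d p (p + 1)).hom e', d_d_apply K P₂ p e', ?_⟩
  refine (Cmap_d_apply β K p e').symm.trans ?_
  exact (congrArg ((Cx P₃ K).d p (p + 1)).hom he').trans he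

end Chase

end Groth.Agent.Lib.Helper15.HyperChase
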