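import Groth.Agent.Lib.Helper15.HyperCoskPts

/-!
# Hypercoverings via local filling of families; fibre products of hypercoverings (helper15)
-/

set_option autoImplicit false
set_option linter.unusedSectionVars false
universe u
open CategoryTheory CategoryTheory.Limits Opposite Simplicial

namespace Groth.Agent.Lib.Helper15.HyperPullback

open Groth.Agent.Lib.Helper15.HyperSphere Groth.Agent.Lib.Helper15.HyperOver
  Groth.Agent.Lib.Helper15.HyperCoskPts

section General

variable {D : Type u} [SmallCategory D] {J : GrothendieckTopology D}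

/-- composing local existence statements -/
theorem exists_cover_bind {Y : D} (Φ : ∀ ⦃Z : D⦄, (Z ⟶ Y) → Prop) (S : Sieve Y) (hS : S ∈ J Y)
    (h : ∀ ⦃Y' : D⦄ (g : Y' ⟶ Y), S g → ∃ S' ∈ J Y', ∀ ⦃Y'' : D⦄ (g' : Y'' ⟶ Y'), S' g' →
      Φ (g' ≫ g)) :
    ∃ R ∈ J Y, ∀ ⦃Z : D⦄ (k : Z ⟶ Y), R k → Φ k := by
  choose S' hS' H using h
  refine ⟨Sieve.bind S (fun Y' g hg => S' g hg), J.bind_covering hS (fun Y' g hg => hS' g hg),
    fun Z k hk => ?_⟩
  obtain ⟨Y', g', g, hg, hg', rfl⟩ := hk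
  exact H g hg g' hg'

end General

section Over

variable {C : Type u} [SmallCategory C] [HasPullbacks C] (J : GrothendieckTopology C) (X : C)
  [∀ (n : ℕ) (F : (SimplexCategory.Truncated n)ᵒᵖ ⥤ FormalCoproduct.{u} (Over X)),
    (SimplexCategory.Truncated.inclusion n).op.HasRightKanExtension F]

/-- hypercoverings in terms of local filling of compatible families -/
theorem isHypercovering_iff (K : SimplicialObject (FormalCoproduct.{u} (Over X))) :
    Hyper.IsHypercovering J X K ↔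
      Sieve.ofArrows (fun i => ((K.obj (op (SimplexCategory.mk 0))).obj i).left)
        (fun i => ((K.obj (op (SimplexCategory.mk 0))).obj i).hom) ∈ J X ∧
      ∀ n : ℕ, FamFill (J.over X) K n ⦋n + 1⦌ := by
  refine and_congr Iff.rfl (forall_congr' fun n => ?_)
  rw [isSRCovering_iff_liftCov]
  exact liftCov_unit_iff (J.over X) K n ⦋n + 1⦌

/-- a covering of `X` by the objects of `K_0`, from local existence of points -/
theorem cover_of_points (K₀ P₀ : FormalCoproduct.{u} (Over X))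
    (hK : Sieve.ofArrows (fun i => (K₀.obj i).left) (fun i => (K₀.obj i).hom) ∈ J X)
    (h : ∀ i : K₀.I, ∃ S ∈ (J.over X) (K₀.obj i), ∀ ⦃Y' : Over X⦄ (g : Y' ⟶ K₀.obj i), S g →
      Nonempty ((FormalCoproduct.incl (Over X)).obj Y' ⟶ P₀)) :
    Sieve.ofArrows (fun i => (P₀.obj i).left) (fun i => (P₀.obj i).hom) ∈ J X := by
  refine J.transitive hK _ (fun Y f hf => ?_)
  obtain ⟨i, u, rfl⟩ := (Sieve.mem_ofArrows_iff _ _ _).1 hf
  rw [Sieve.pullback_comp]
  apply J.pullback_stable
  obtain ⟨S, hS, H⟩ := h i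
  rw [GrothendieckTopology.mem_over_iff] at hS
  refine J.superset_covering ?_ hS
  intro Z v hv
  rw [Sieve.overEquiv_iff] at hv
  obtain ⟨p⟩ := H _ hv
  change Sieve.ofArrows _ _ (v ≫ (K₀.obj i).hom)
  rw [Sieve.mem_ofArrows_iff]
  refine ⟨p.f PUnit.unit, (p.φ PUnit.unit).left, ?_⟩
  exact (Over.w (p.φ PUnit.unit)).symm

end Over

section Pullback

variable {C : Type u} [SmallCategory C] [HasPullbacks C] (J : GrothendieckTopology C) (X : C)
  [∀ (n : ℕ) (F : (SimplexCategory.Truncated n)ᵒᵖ ⥤ FormalCoproduct.{u} (Over X)),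
    (SimplexCategory.Truncated.inclusion n).op.HasRightKanExtension F]
  {K L M P : SimplicialObject (FormalCoproduct.{u} (Over X))} {a : K ⟶ L} {b : M ⟶ L}
  {p1 : P ⟶ K} {p2 : P ⟶ M} (hP : IsPullback p1 p2 a b)

include hP in
lemma isPullback_app (A : SimplexCategory) :
    IsPullback (p1.app (op A)) (p2.app (op A)) (a.app (op A)) (b.app (op A)) :=
  hP.map ((evaluation _ _).obj (op A))

/-- the relative filling property of `b : M ⟶ L` deduced from the covering property of `γ` -/
theorem rel_fill (n : ℕ)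
    (hγ : ∀ (Q : FormalCoproduct.{u} (Over X))
      (q1 : Q ⟶ L.obj (op (SimplexCategory.mk (n + 1))))
      (q2 : Q ⟶ ((SimplicialObject.truncation n ⋙ SimplicialObject.Truncated.cosk n).obj M).obj
        (op (SimplexCategory.mk (n + 1))))
      (γ : M.obj (op (SimplexCategory.mk (n + 1))) ⟶ Q),
      IsPullback q1 q2 (((SimplicialObject.coskAdj n).unit.app L).app (op (SimplexCategory.mk (n + 1))))
        (((SimplicialObject.truncation n ⋙ SimplicialObject.Truncated.cosk n).map b).app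
          (op (SimplexCategory.mk (n + 1)))) →
      γ ≫ q1 = b.app (op (SimplexCategory.mk (n + 1))) →
      γ ≫ q2 = ((SimplicialObject.coskAdj n).unit.app M).app (op (SimplexCategory.mk (n + 1))) →
      Hyper.IsSRCovering (J.over X) γ)
    (Y : Over X) (l : (FormalCoproduct.incl (Over X)).obj Y ⟶ L.obj (op ⦋n + 1⦌))
    (y : ∀ (a : SimplexCategory) (_ : a.len ≤ n) (_ : a ⟶ ⦋n + 1⦌),
      (FormalCoproduct.incl (Over X)).obj Y ⟶ M.obj (op a))
    (hy : IsFam M n ⦋n + 1⦌ y)
    (hl : ∀ (a' : SimplexCategory) (ha : a'.len ≤ n) (α : a' ⟶ ⦋n + 1⦌),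
      l ≫ L.map α.op = y a' ha α ≫ b.app (op a')) :
    ∃ S ∈ (J.over X) Y, ∀ ⦃Y' : Over X⦄ (g : Y' ⟶ Y), S g →
      ∃ m : (FormalCoproduct.incl (Over X)).obj Y' ⟶ M.obj (op ⦋n + 1⦌),
        m ≫ b.app (op ⦋n + 1⦌) = (FormalCoproduct.incl (Over X)).map g ≫ l ∧
        ∀ (a' : SimplexCategory) (ha : a'.len ≤ n) (α : a' ⟶ ⦋n + 1⦌),
          m ≫ M.map α.op = (FormalCoproduct.incl (Over X)).map g ≫ y a' ha α := by
  obtain ⟨β, hβ⟩ := exists_cfam y hy
  let Cb := ((SimplicialObject.truncation n ⋙ SimplicialObject.Truncated.cosk n).map b).app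
    (op ⦋n + 1⦌)
  have w : b.app (op ⦋n + 1⦌) ≫ un L n ⦋n + 1⦌ = un M n ⦋n + 1⦌ ≫ Cb :=
    congrArg (fun ψ => ψ.app (op ⦋n + 1⦌)) ((SimplicialObject.coskAdj n).unit.naturality b)
  let γ : M.obj (op ⦋n + 1⦌) ⟶ pullback (un L n ⦋n + 1⦌) Cb :=
    pullback.lift (b.app (op ⦋n + 1⦌)) (un M n ⦋n + 1⦌) w
  have hcov : LiftCov (J.over X) γ :=
    liftCov_of_isSRCovering γ (hγ _ _ _ γ (IsPullback.of_hasPullback _ _)
      (pullback.lift_fst _ _ _) (pullback.lift_snd _ _ _))
  have hq : l ≫ un L n ⦋n + 1⦌ = β ≫ Cb := by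
    apply cfam_ext
    intro a' ha α
    rw [cfam_un, cfam_map, hβ, hl]
  obtain ⟨S, hS, H⟩ := hcov Y (pullback.lift l β hq)
  refine ⟨S, hS, fun Y' g hg => ?_⟩
  obtain ⟨m, hm⟩ := H g hg
  have hm1 : m ≫ b.app (op ⦋n + 1⦌) = (FormalCoproduct.incl (Over X)).map g ≫ l := by
    have := congrArg (fun ψ => ψ ≫ pullback.fst (un L n ⦋n + 1⦌) Cb) hm
    simp only [Category.assoc, pullback.lift_fst, γ] at this
    exact this
  have hm2 : m ≫ un M n ⦋n + 1⦌ = (FormalCoproduct.incl (Over X)).map g ≫ β := by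
    have := congrArg (fun ψ => ψ ≫ pullback.snd (un L n ⦋n + 1⦌) Cb) hm
    simp only [Category.assoc, pullback.lift_snd, γ] at this
    exact this
  refine ⟨m, hm1, fun a' ha α => ?_⟩
  rw [← cfam_un (n := n) m a' ha α, hm2, cfam_res, hβ]

include hP in
/-- **Fibre products of hypercoverings** -/
theorem isHypercovering_pullback
    (hK : Hyper.IsHypercovering J X K)
    (h0 : Hyper.IsSRCovering (J.over X) (b.app (op (SimplexCategory.mk 0))))
    (hγ : ∀ (n : ℕ) (Q : FormalCoproduct.{u} (Over X))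
      (q1 : Q ⟶ L.obj (op (SimplexCategory.mk (n + 1))))
      (q2 : Q ⟶ ((SimplicialObject.truncation n ⋙ SimplicialObject.Truncated.cosk n).obj M).obj
        (op (SimplexCategory.mk (n + 1))))
      (γ : M.obj (op (SimplexCategory.mk (n + 1))) ⟶ Q),
      IsPullback q1 q2 (((SimplicialObject.coskAdj n).unit.app L).app (op (SimplexCategory.mk (n + 1))))
        (((SimplicialObject.truncation n ⋙ SimplicialObject.Truncated.cosk n).map b).app
          (op (SimplexCategory.mk (n + 1)))) →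
      γ ≫ q1 = b.app (op (SimplexCategory.mk (n + 1))) →
      γ ≫ q2 = ((SimplicialObject.coskAdj n).unit.app M).app (op (SimplexCategory.mk (n + 1))) →
      Hyper.IsSRCovering (J.over X) γ) :
    Hyper.IsHypercovering J X P := by
  rw [isHypercovering_iff] at hK ⊢
  refine ⟨?_, fun n => ?_⟩
  · -- degree zero
    refine cover_of_points J X _ _ hK.1 (fun i => ?_)
    have hcov := liftCov_of_isSRCovering _ h0
    obtain ⟨S, hS, H⟩ := hcov (K.obj (op ⦋0⦌) |>.obj i)
      (FormalCoproduct.Hom.fromIncl i (𝟙 _) ≫ a.app (op ⦋0⦌))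
    refine ⟨S, hS, fun Y' g hg => ?_⟩
    obtain ⟨m, hm⟩ := H g hg
    exact ⟨(isPullback_app X hP ⦋0⦌).lift
      ((FormalCoproduct.incl (Over X)).map g ≫ FormalCoproduct.Hom.fromIncl i (𝟙 _)) m
      (by rw [Category.assoc, hm])⟩
  · -- higher degrees
    intro Y y hy
    have hyK : IsFam K n ⦋n + 1⦌ (fun a' ha α => y a' ha α ≫ p1.app (op a')) := by
      intro a' b' ha hb θ α
      dsimp only
      rw [hy a' b' ha hb θ α, Category.assoc, Category.assoc, p1.naturality]
    obtain ⟨S, hS, H⟩ := hK.2 n Y _ hyK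
    refine exists_cover_bind (J := J.over X)
      (fun Z k => ∃ t : (FormalCoproduct.incl (Over X)).obj Z ⟶ P.obj (op ⦋n + 1⦌),
        ∀ (a' : SimplexCategory) (ha : a'.len ≤ n) (α : a' ⟶ ⦋n + 1⦌),
          t ≫ P.map α.op = (FormalCoproduct.incl (Over X)).map k ≫ y a' ha α) S hS ?_
    intro Y' g hg
    obtain ⟨k, hk⟩ := H g hg
    have hyM : IsFam M n ⦋n + 1⦌
        (fun a' ha α => (FormalCoproduct.incl (Over X)).map g ≫ y a' ha α ≫ p2.app (op a')) := by
      intro a' b' ha hb θ α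
      dsimp only
      rw [hy a' b' ha hb θ α]
      simp only [Category.assoc]
      rw [p2.naturality]
    obtain ⟨S', hS', H'⟩ := rel_fill J X n (hγ n) Y' (k ≫ a.app (op ⦋n + 1⦌)) _ hyM (by
      intro a' ha α
      have h1 : a.app (op ⦋n + 1⦌) ≫ L.map α.op = K.map α.op ≫ a.app (op a') :=
        (a.naturality α.op).symm
      have h2 : p1.app (op a') ≫ a.app (op a') = p2.app (op a') ≫ b.app (op a') :=
        (isPullback_app X hP a').w
      rw [Category.assoc, h1, ← Category.assoc, hk]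
      simp only [Category.assoc]
      rw [h2])
    refine ⟨S', hS', fun Y'' g' hg' => ?_⟩
    obtain ⟨m, hm1, hm2⟩ := H' g' hg'
    refine ⟨(isPullback_app X hP ⦋n + 1⦌).lift ((FormalCoproduct.incl (Over X)).map g' ≫ k) m
      (by rw [Category.assoc, hm1]), fun a' ha α => ?_⟩
    apply (isPullback_app X hP a').hom_ext
    · rw [Category.assoc, p1.naturality, ← Category.assoc, IsPullback.lift_fst, Category.assoc,
        hk a' ha α, Functor.map_comp]
      simp only [Category.assoc]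
    · rw [Category.assoc, p2.naturality, ← Category.assoc, IsPullback.lift_snd, hm2 a' ha α,
        Functor.map_comp]
      simp only [Category.assoc]

end Pullback

end Groth.Agent.Lib.Helper15.HyperPullback
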