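import Groth.Agent.Lib.Helper15.HyperPath
import Groth.Agent.Lib.Helper15.HyperPullback

/-!
# Hypercoverings are cofiltered up to homotopy (helper15)
-/

set_option autoImplicit false
set_option linter.unusedSectionVars false
universe u
open CategoryTheory CategoryTheory.Limits Opposite Simplicial

namespace Groth.Agent.Lib.Helper15.HyperCofil

open Groth.Agent.Lib.Helper15.HyperOver Groth.Agent.Lib.Helper15.HyperCoskPts
  Groth.Agent.Lib.Helper15.HyperPullback Groth.Agent.Lib.Helper15.HyperPath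

section Pullback

variable {C : Type u} [SmallCategory C] [HasPullbacks C] (J : GrothendieckTopology C) (X : C)
  [∀ (n : ℕ) (F : (SimplexCategory.Truncated n)ᵒᵖ ⥤ FormalCoproduct.{u} (Over X)),
    (SimplexCategory.Truncated.inclusion n).op.HasRightKanExtension F]
  {K L M P : SimplicialObject (FormalCoproduct.{u} (Over X))} {a : K ⟶ L} {b : M ⟶ L}
  {p1 : P ⟶ K} {p2 : P ⟶ M} (hP : IsPullback p1 p2 a b)

include hP in
/-- **Fibre products of hypercoverings**, with the relative filling property of `b : M ⟶ L` given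
directly in terms of points. -/
theorem isHypercovering_pullback'
    (hK : Hyper.IsHypercovering J X K)
    (h0 : LiftCov (J.over X) (b.app (op ⦋0⦌)))
    (hrel : ∀ (n : ℕ) (Y : Over X)
      (l : (FormalCoproduct.incl (Over X)).obj Y ⟶ L.obj (op ⦋n + 1⦌))
      (y : ∀ (a : SimplexCategory) (_ : a.len ≤ n) (_ : a ⟶ ⦋n + 1⦌),
        (FormalCoproduct.incl (Over X)).obj Y ⟶ M.obj (op a)),
      IsFam M n ⦋n + 1⦌ y →
      (∀ (a' : SimplexCategory) (ha : a'.len ≤ n) (α : a' ⟶ ⦋n + 1⦌),
        l ≫ L.map α.op = y a' ha α ≫ b.app (op a')) →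
      ∃ S ∈ (J.over X) Y, ∀ ⦃Y' : Over X⦄ (g : Y' ⟶ Y), S g →
        ∃ m : (FormalCoproduct.incl (Over X)).obj Y' ⟶ M.obj (op ⦋n + 1⦌),
          m ≫ b.app (op ⦋n + 1⦌) = (FormalCoproduct.incl (Over X)).map g ≫ l ∧
          ∀ (a' : SimplexCategory) (ha : a'.len ≤ n) (α : a' ⟶ ⦋n + 1⦌),
            m ≫ M.map α.op = (FormalCoproduct.incl (Over X)).map g ≫ y a' ha α) :
    Hyper.IsHypercovering J X P := by
  rw [isHypercovering_iff] at hK ⊢
  refine ⟨?_, fun n => ?_⟩
  · -- degree zero
    refine cover_of_points J X _ _ hK.1 (fun i => ?_)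
    obtain ⟨S, hS, H⟩ := h0 (K.obj (op ⦋0⦌) |>.obj i)
      (FormalCoproduct.Hom.fromIncl i (𝟙 _) ≫ a.app (op ⦋0⦌))
    refine ⟨S, hS, fun Y' g hg => ?_⟩
    obtain ⟨m, hm⟩ := H g hg
    exact ⟨(isPullback_app X hP ⦋0⦌).lift
      ((FormalCoproduct.incl (Over X)).map g ≫ FormalCoproduct.Hom.fromIncl i (𝟙 _)) m
      (by rw [Category.assoc, hm])⟩
  · -- higher degrees
    intro Y y hy
    have hyK : IsFam K n ⦋n + 1⦌ (fun a' ha α => y a' ha α ≫ p1.app (op a')) := by
      intro a' b' ha hb θ α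
      dsimp only
      rw [hy a' b' ha hb θ α, Category.assoc, Category.assoc, p1.naturality]
    obtain ⟨S, hS, H⟩ := hK.2 n Y _ hyK
    refine exists_cover_bind (J := J.over X)
      (fun Z k => ∃ t : (FormalCoproduct.incl (Over X)).obj Z ⟶ P.obj (op ⦋n + 1⦌),
        ∀ (a' : SimplexCategory) (ha : a'.len ≤ n) (α : a' ⟶ ⦋n + 1⦌),
          t ≫ P.map α.op = (FormalCoproduct.incl (Over X)).map k ≫ y a' ha α) S hS ?_
    intro Y' g hg
    obtain ⟨k, hk⟩ := H g hg
    have hyM : IsFam M n ⦋n + 1⦌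
        (fun a' ha α => (FormalCoproduct.incl (Over X)).map g ≫ y a' ha α ≫ p2.app (op a')) := by
      intro a' b' ha hb θ α
      dsimp only
      rw [hy a' b' ha hb θ α]
      simp only [Category.assoc]
      rw [p2.naturality]
    obtain ⟨S', hS', H'⟩ := hrel n Y' (k ≫ a.app (op ⦋n + 1⦌)) _ hyM (by
      intro a' ha α
      have h1 : a.app (op ⦋n + 1⦌) ≫ L.map α.op = K.map α.op ≫ a.app (op a') :=
        (a.naturality α.op).symm
      have h2 : p1.app (op a') ≫ a.app (op a') = p2.app (op a') ≫ b.app (op a') :=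
        (isPullback_app X hP a').w
      rw [Category.assoc, h1, ← Category.assoc, hk]
      simp only [Category.assoc]
      rw [h2])
    refine ⟨S', hS', fun Y'' g' hg' => ?_⟩
    obtain ⟨m, hm1, hm2⟩ := H' g' hg'
    refine ⟨(isPullback_app X hP ⦋n + 1⦌).lift ((FormalCoproduct.incl (Over X)).map g' ≫ k) m
      (by rw [Category.assoc, hm1]), fun a' ha α => ?_⟩
    apply (isPullback_app X hP a').hom_ext
    · rw [Category.assoc, p1.naturality, ← Category.assoc, IsPullback.lift_fst, Category.assoc,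
        hk a' ha α, Functor.map_comp]
      simp only [Category.assoc]
    · rw [Category.assoc, p2.naturality, ← Category.assoc, IsPullback.lift_snd, hm2 a' ha α,
        Functor.map_comp]
      simp only [Category.assoc]

end Pullback

section Points

universe v' u'

variable {E : Type u'} [Category.{v'} E]

/-- the terminal simplicial object is terminal in each degree -/
noncomputable def isTerminalTopObj [HasTerminal E] (a : SimplexCategoryᵒᵖ) :
    IsTerminal ((⊤_ (SimplicialObject E)).obj a) :=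
  (terminalIsTerminal (C := SimplicialObject E)).isTerminalObj
    ((evaluation SimplexCategoryᵒᵖ E).obj a)

lemma prod_app_hom_ext [HasBinaryProducts E] {L L' : SimplicialObject E} {A : E}
    {a : SimplexCategoryᵒᵖ} (u v : A ⟶ (L ⨯ L').obj a)
    (h1 : u ≫ (prod.fst : L ⨯ L' ⟶ L).app a = v ≫ (prod.fst : L ⨯ L' ⟶ L).app a)
    (h2 : u ≫ (prod.snd : L ⨯ L' ⟶ L').app a = v ≫ (prod.snd : L ⨯ L' ⟶ L').app a) : u = v := by
  have hl := isLimitOfPreserves ((evaluation SimplexCategoryᵒᵖ E).obj a) (prodIsProd L L')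
  refine hl.hom_ext ?_
  rintro ⟨⟨⟩⟩
  · exact h1
  · exact h2

end Points

section Main

variable {C : Type u} [SmallCategory C] [HasPullbacks C] (J : GrothendieckTopology C) (X : C)
  [∀ (n : ℕ) (F : (SimplexCategory.Truncated n)ᵒᵖ ⥤ FormalCoproduct.{u} (Over X)),
    (SimplexCategory.Truncated.inclusion n).op.HasRightKanExtension F]

/-- any two hypercoverings have a common refinement -/
theorem exists_common_refinement (K L : SimplicialObject (FormalCoproduct.{u} (Over X)))
    (hK : Hyper.IsHypercovering J X K) (hL : Hyper.IsHypercovering J X L) :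
    ∃ (M : SimplicialObject (FormalCoproduct.{u} (Over X))) (_ : M ⟶ K) (_ : M ⟶ L),
      Hyper.IsHypercovering J X M := by
  have hL' := (isHypercovering_iff J X L).1 hL
  have hc0 : HyperH0.Cov0 L (J.over X) := cov0_over J X L hL'.1
  refine ⟨pullback (terminal.from K) (terminal.from L), pullback.fst _ _, pullback.snd _ _, ?_⟩
  refine isHypercovering_pullback' J X (IsPullback.of_hasPullback _ _) hK ?_ ?_
  · intro Y b
    obtain ⟨S, hS, H⟩ := hc0 Y
    refine ⟨S, hS, fun Y' g hg => ?_⟩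
    obtain ⟨m⟩ := H g hg
    exact ⟨m, (isTerminalTopObj (op ⦋0⦌)).hom_ext _ _⟩
  · intro n Y l y hy _
    obtain ⟨S, hS, H⟩ := hL'.2 n Y y hy
    refine ⟨S, hS, fun Y' g hg => ?_⟩
    obtain ⟨m, hm⟩ := H g hg
    exact ⟨m, (isTerminalTopObj (op ⦋n + 1⦌)).hom_ext _ _, hm⟩

/-- two morphisms of hypercoverings become homotopic on a refinement of the source -/
theorem exists_homotopy_refinement (K L : SimplicialObject (FormalCoproduct.{u} (Over X)))
    (hK : Hyper.IsHypercovering J X K) (hL : Hyper.IsHypercovering J X L) (a b : K ⟶ L) :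
    ∃ (M : SimplicialObject (FormalCoproduct.{u} (Over X))) (c : M ⟶ K),
      Hyper.IsHypercovering J X M ∧ Nonempty (SimplicialObject.Homotopy (c ≫ a) (c ≫ b)) := by
  have hL' := (isHypercovering_iff J X L).1 hL
  have hc0 : HyperH0.Cov0 L (J.over X) := cov0_over J X L hL'.1
  let q : PL L ⟶ L ⨯ L := prod.lift (p0 L) (p1 L)
  let ab : K ⟶ L ⨯ L := prod.lift a b
  have hq0 : ∀ A : SimplexCategoryᵒᵖ,
      q.app A ≫ (prod.fst : L ⨯ L ⟶ L).app A = (p0 L).app A := fun A => by
    rw [← NatTrans.comp_app, prod.lift_fst]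
  have hq1 : ∀ A : SimplexCategoryᵒᵖ,
      q.app A ≫ (prod.snd : L ⨯ L ⟶ L).app A = (p1 L).app A := fun A => by
    rw [← NatTrans.comp_app, prod.lift_snd]
  refine ⟨pullback ab q, pullback.fst ab q, ?_, ?_⟩
  · refine isHypercovering_pullback' J X (IsPullback.of_hasPullback ab q) hK ?_ ?_
    · intro Y pt
      obtain ⟨S, hS, H⟩ := path_cov hc0 hL'.2 Y (pt ≫ (prod.fst : L ⨯ L ⟶ L).app _)
        (pt ≫ (prod.snd : L ⨯ L ⟶ L).app _)
      refine ⟨S, hS, fun Y' g hg => ?_⟩
      obtain ⟨m, hm0, hm1⟩ := H g hg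
      refine ⟨m, prod_app_hom_ext _ _ ?_ ?_⟩
      · rw [Category.assoc, hq0, hm0, Category.assoc]
      · rw [Category.assoc, hq1, hm1, Category.assoc]
    · intro n Y l y hy hl
      have hl₀ : ∀ (a' : SimplexCategory) (ha : a'.len ≤ n) (α : a' ⟶ ⦋n + 1⦌),
          (l ≫ (prod.fst : L ⨯ L ⟶ L).app (op ⦋n + 1⦌)) ≫ L.map α.op =
            y a' ha α ≫ (p0 L).app (op a') := by
        intro a' ha α
        rw [Category.assoc, ← (prod.fst : L ⨯ L ⟶ L).naturality α.op, ← Category.assoc,
          hl a' ha α, Category.assoc, hq0]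
      have hl₁ : ∀ (a' : SimplexCategory) (ha : a'.len ≤ n) (α : a' ⟶ ⦋n + 1⦌),
          (l ≫ (prod.snd : L ⨯ L ⟶ L).app (op ⦋n + 1⦌)) ≫ L.map α.op =
            y a' ha α ≫ (p1 L).app (op a') := by
        intro a' ha α
        rw [Category.assoc, ← (prod.snd : L ⨯ L ⟶ L).naturality α.op, ← Category.assoc,
          hl a' ha α, Category.assoc, hq1]
      obtain ⟨S, hS, H⟩ := path_relFill hc0 hL'.2 n Y _ _ y hy hl₀ hl₁
      refine ⟨S, hS, fun Y' g hg => ?_⟩
      obtain ⟨m, hm0, hm1, hm⟩ := H g hg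
      refine ⟨m, prod_app_hom_ext _ _ ?_ ?_, hm⟩
      · rw [Category.assoc, hq0, hm0, Category.assoc]
      · rw [Category.assoc, hq1, hm1, Category.assoc]
  · have hw : pullback.fst ab q ≫ ab = pullback.snd ab q ≫ q := pullback.condition
    have h1 : pullback.fst ab q ≫ a = pullback.snd ab q ≫ p0 L := by
      have := congrArg (fun f => f ≫ (prod.fst : L ⨯ L ⟶ L)) hw
      simpa only [Category.assoc, prod.lift_fst, ab, q] using this
    have h2 : pullback.fst ab q ≫ b = pullback.snd ab q ≫ p1 L := by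
      have := congrArg (fun f => f ≫ (prod.snd : L ⨯ L ⟶ L)) hw
      simpa only [Category.assoc, prod.lift_snd, ab, q] using this
    rw [h1, h2]
    exact ⟨(pathHomotopy L).precomp (pullback.snd ab q)⟩

end Main

end Groth.Agent.Lib.Helper15.HyperCofil
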