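import Mathlib

/-!
# Local cones in simplicial presheaves with local sphere filling (helper15)

For a simplicial presheaf of sets `X` on a site `(C, J)` in which vertices exist locally, any two
vertices are locally joined by an edge and every sphere `∂Δ^{n+2} → X(U)` can be filled locally
(`LocalKan`), every finite family of simplices over `U` admits, locally on `U`, a cone
(`exists_cone`): maps `c_j : X_j(U) → X_{j+1}(V)` with `d_0 c = res`, `d_{i+1} c = c d_i` and
`d_1 c_0 = v`.
-/

set_option autoImplicit false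
universe u
open CategoryTheory CategoryTheory.Limits Opposite Simplicial

namespace Groth.Agent.Lib.Helper15.HyperCone

variable {C : Type u} [SmallCategory C] (J : GrothendieckTopology C)
variable (X : SimplicialObject (Cᵒᵖ ⥤ Type u))

/-- `n`-simplices of `X` over `U`. -/
abbrev sx (n : ℕ) (U : C) : Type u := (X.obj (op ⦋n⦌)).obj (op U)

variable {X}

/-- the `i`-th face -/
def face {n : ℕ} {U : C} (i : Fin (n + 2)) (x : sx X (n + 1) U) : sx X n U :=
  (X.δ i).app (op U) x

/-- restriction -/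
def res {n : ℕ} {U V : C} (g : V ⟶ U) (x : sx X n U) : sx X n V :=
  (X.obj (op ⦋n⦌)).map g.op x

/-- a degenerate simplex, used as a default value -/
def dgn {n : ℕ} {U : C} (x : sx X n U) : sx X (n + 1) U :=
  (X.σ (0 : Fin (n + 1))).app (op U) x

lemma face_res {n : ℕ} {U V : C} (g : V ⟶ U) (i : Fin (n + 2)) (x : sx X (n + 1) U) :
    face i (res g x) = res g (face i x) :=
  congrArg (fun φ => φ x) ((X.δ i).naturality g.op)

lemma res_res {n : ℕ} {U V W : C} (g : V ⟶ U) (h : W ⟶ V) (x : sx X n U) :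
    res h (res g x) = res (h ≫ g) x := by
  have : (X.obj (op ⦋n⦌)).map (h ≫ g).op = (X.obj (op ⦋n⦌)).map g.op ≫ (X.obj (op ⦋n⦌)).map h.op := by
    rw [op_comp, Functor.map_comp]
  exact (congrArg (fun φ => φ x) this).symm

lemma res_id {n : ℕ} {U : C} (x : sx X n U) : res (𝟙 U) x = x := by
  have : (X.obj (op ⦋n⦌)).map (𝟙 U).op = 𝟙 _ := (X.obj (op ⦋n⦌)).map_id _
  exact congrArg (fun φ => φ x) this

lemma face_face {n : ℕ} {U : C} {i j : Fin (n + 2)} (H : i ≤ j) (x : sx X (n + 2) U) :
    face i (face j.succ x) = face j (face i.castSucc x) := by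
  have := congrArg (fun φ => φ.app (op U) x) (X.δ_comp_δ H)
  exact this

variable (X)

/-- Local existence of vertices, edges and sphere fillers. -/
structure LocalKan : Prop where
  vertex : ∀ U : C, ∃ R ∈ J U, ∀ ⦃V : C⦄ (g : V ⟶ U), R g → Nonempty (sx X 0 V)
  edge : ∀ (U : C) (a b : sx X 0 U), ∃ R ∈ J U, ∀ ⦃V : C⦄ (g : V ⟶ U), R g →
    ∃ y : sx X 1 V, face 0 y = res g a ∧ face 1 y = res g b
  fill : ∀ (n : ℕ) (U : C) (x : Fin (n + 3) → sx X (n + 1) U),
    (∀ i j : Fin (n + 2), i ≤ j → face i (x j.succ) = face j (x i.castSucc)) →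
    ∃ R ∈ J U, ∀ ⦃V : C⦄ (g : V ⟶ U), R g →
      ∃ y : sx X (n + 2) V, ∀ i, face i y = res g (x i)

variable {X} {J}

/-- Finitely many local conditions hold simultaneously on a common covering. -/
theorem exists_common_cover {α : Type*} {U : C} {T : Set α} (hT : T.Finite)
    (p : α → ∀ ⦃V : C⦄, (V ⟶ U) → Prop)
    (h : ∀ τ ∈ T, ∃ R ∈ J U, ∀ ⦃V : C⦄ (g : V ⟶ U), R g → p τ g) :
    ∃ R ∈ J U, ∀ ⦃V : C⦄ (g : V ⟶ U), R g → ∀ τ ∈ T, p τ g := by
  induction T, hT using Set.Finite.induction_on with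
  | empty => exact ⟨⊤, J.top_mem U, fun V g _ τ hτ => (Set.notMem_empty τ hτ).elim⟩
  | insert ha hT ih =>
    rename_i a s
    obtain ⟨R₁, hR₁, h₁⟩ := ih (fun τ hτ => h τ (Set.mem_insert_of_mem a hτ))
    obtain ⟨R₂, hR₂, h₂⟩ := h a (Set.mem_insert a s)
    refine ⟨R₁ ⊓ R₂, J.intersection_covering hR₁ hR₂, fun V g hg τ hτ => ?_⟩
    rcases hτ with rfl | hτ
    · exact h₂ g hg.2
    · exact h₁ g hg.1 τ hτ

/-- A face-closed family of sets of simplices over `U`. -/
structure Subcx (X : SimplicialObject (Cᵒᵖ ⥤ Type u)) (U : C) where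
  T : ∀ j : ℕ, Set (sx X j U)
  fin : ∀ j, (T j).Finite
  closed : ∀ (j : ℕ) (τ : sx X (j + 1) U), τ ∈ T (j + 1) → ∀ i : Fin (j + 2), face i τ ∈ T j

/-- A cone up to level `k` on the subcomplex `T`, with apex `v`, over `g : V ⟶ U`. -/
structure IsCone {U V : C} (T : Subcx X U) (v : sx X 0 U) (k : ℕ) (g : V ⟶ U)
    (c : ∀ j : ℕ, sx X j U → sx X (j + 1) V) : Prop where
  d0 : ∀ j ≤ k, ∀ τ ∈ T.T j, face 0 (c j τ) = res g τ
  apex : ∀ τ ∈ T.T 0, face 1 (c 0 τ) = res g v
  ds : ∀ j : ℕ, j + 1 ≤ k → ∀ τ ∈ T.T (j + 1), ∀ i : Fin (j + 2),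
    face i.succ (c (j + 1) τ) = c j (face i τ)

theorem IsCone.restrict {U V W : C} {T : Subcx X U} {v : sx X 0 U} {k : ℕ} {g : V ⟶ U}
    {c : ∀ j : ℕ, sx X j U → sx X (j + 1) V} (hc : IsCone T v k g c) (h : W ⟶ V) :
    IsCone T v k (h ≫ g) (fun j τ => res h (c j τ)) where
  d0 j hj τ hτ := by rw [face_res, hc.d0 j hj τ hτ, res_res]
  apex τ hτ := by rw [face_res, hc.apex τ hτ, res_res]
  ds j hj τ hτ i := by rw [face_res, hc.ds j hj τ hτ i]

/-- the sphere to be filled in order to extend a cone -/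
def sphere {U V : C} (g : V ⟶ U) (c : ∀ j : ℕ, sx X j U → sx X (j + 1) V) (k : ℕ)
    (τ : sx X (k + 1) U) : Fin (k + 3) → sx X (k + 1) V :=
  Fin.cases (res g τ) (fun i => c k (face i τ))

theorem sphere_compat {U V : C} {T : Subcx X U} {v : sx X 0 U} {k : ℕ} {g : V ⟶ U}
    {c : ∀ j : ℕ, sx X j U → sx X (j + 1) V} (hc : IsCone T v k g c)
    (τ : sx X (k + 1) U) (hτ : τ ∈ T.T (k + 1)) (i j : Fin (k + 2)) (hij : i ≤ j) :
    face i (sphere g c k τ j.succ) = face j (sphere g c k τ i.castSucc) := by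
  induction i using Fin.cases with
  | zero =>
    change face 0 (c k (face j τ)) = face j (res g τ)
    rw [hc.d0 k le_rfl _ (T.closed k τ hτ j), face_res]
  | succ i' =>
    obtain ⟨j', rfl⟩ : ∃ j', j = Fin.succ j' := by
      refine ⟨j.pred ?_, (Fin.succ_pred _ _).symm⟩
      intro h0
      rw [h0] at hij
      exact absurd hij (by simp [Fin.succ_ne_zero])
    have hij' : i' ≤ j' := Fin.succ_le_succ_iff.1 hij
    have e : (Fin.succ i').castSucc = (Fin.castSucc i').succ := rfl
    change face i'.succ (c k (face j'.succ τ)) = face j'.succ (sphere g c k τ (Fin.succ i').castSucc)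
    rw [e]
    change face i'.succ (c k (face j'.succ τ)) = face j'.succ (c k (face i'.castSucc τ))
    cases k with
    | zero =>
      have hi : i' = 0 := Fin.ext (by have := i'.2; omega)
      have hj : j' = 0 := Fin.ext (by have := j'.2; omega)
      subst hi hj
      change face 1 (c 0 _) = face 1 (c 0 _)
      rw [hc.apex _ (T.closed 0 τ hτ _), hc.apex _ (T.closed 0 τ hτ _)]
    | succ k' =>
      rw [hc.ds k' le_rfl _ (T.closed (k' + 1) τ hτ _) i',
        hc.ds k' le_rfl _ (T.closed (k' + 1) τ hτ _) j', face_face hij']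

/-- **Local existence of cones.** -/
theorem exists_cone (hX : LocalKan J X) {U : C} (T : Subcx X U) (v : sx X 0 U) (k : ℕ) :
    ∃ R ∈ J U, ∀ ⦃V : C⦄ (g : V ⟶ U), R g →
      ∃ c : ∀ j : ℕ, sx X j U → sx X (j + 1) V, IsCone T v k g c := by
  classical
  induction k with
  | zero =>
    obtain ⟨R, hR, h⟩ := exists_common_cover (T.fin 0)
      (fun τ V g => ∃ y : sx X 1 V, face 0 y = res g τ ∧ face 1 y = res g v)
      (fun τ _ => hX.edge U τ v)
    refine ⟨R, hR, fun V g hg => ?_⟩
    have h' := h g hg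
    choose y hy using h'
    refine ⟨fun j => match j with
      | 0 => fun τ => if hτ : τ ∈ T.T 0 then y τ hτ else dgn (res g τ)
      | (j + 1) => fun τ => dgn (res g τ), ?_, ?_, ?_⟩
    · intro j hj τ hτ
      obtain rfl : j = 0 := Nat.le_zero.1 hj
      simp only [dif_pos hτ]
      exact (hy τ hτ).1
    · intro τ hτ
      simp only [dif_pos hτ]
      exact (hy τ hτ).2
    · intro j hj
      exact absurd hj (by omega)
  | succ k ih =>
    obtain ⟨R, hR, h⟩ := ih
    -- for every member of the covering, refine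
    have step : ∀ ⦃V : C⦄ (g : V ⟶ U), R g → ∃ R' ∈ J V, ∀ ⦃W : C⦄ (h' : W ⟶ V), R' h' →
        ∃ c : ∀ j : ℕ, sx X j U → sx X (j + 1) W, IsCone T v (k + 1) (h' ≫ g) c := by
      intro V g hg
      obtain ⟨c, hc⟩ := h g hg
      obtain ⟨R', hR', h2⟩ := exists_common_cover (T.fin (k + 1))
        (fun τ W h' => ∃ y : sx X (k + 2) W, ∀ i, face i y = res h' (sphere g c k τ i))
        (fun τ hτ => hX.fill k V (sphere g c k τ) (sphere_compat hc τ hτ))
      refine ⟨R', hR', fun W h' hh' => ?_⟩
      have h3 := h2 h' hh'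
      choose y hy using h3
      have hc' := hc.restrict h'
      refine ⟨Function.update (fun j τ => res h' (c j τ)) (k + 1)
        (fun τ => if hτ : τ ∈ T.T (k + 1) then y τ hτ else dgn (res (h' ≫ g) τ)), ?_, ?_, ?_⟩
      · intro j hj τ hτ
        by_cases hjk : j = k + 1
        · subst hjk
          rw [Function.update_self]
          simp only [dif_pos hτ]
          rw [hy τ hτ 0]
          change res h' (res g τ) = _
          rw [res_res]
        · rw [Function.update_of_ne hjk]
          exact hc'.d0 j (by omega) τ hτ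
      · intro τ hτ
        have h0 : (0 : ℕ) ≠ k + 1 := by omega
        rw [Function.update_of_ne h0]
        exact hc'.apex τ hτ
      · intro j hj τ hτ i
        by_cases hjk : j + 1 = k + 1
        · have hjk' : k = j := by omega
          subst hjk'
          have hk : k ≠ k + 1 := by omega
          rw [Function.update_self, Function.update_of_ne hk]
          simp only [dif_pos hτ]
          rw [hy τ hτ i.succ]
          rfl
        · have hj' : j ≠ k + 1 := by omega
          rw [Function.update_of_ne hjk, Function.update_of_ne hj']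
          exact hc'.ds j (by omega) τ hτ i
    choose R' hR' h2 using step
    refine ⟨Sieve.bind R (fun V g hg => R' g hg), J.bind_covering hR (fun V g hg => hR' g hg), ?_⟩
    rintro W f ⟨V, h', g, hg, hh', rfl⟩
    exact h2 g hg h' hh'

end Groth.Agent.Lib.Helper15.HyperCone
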