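import Groth.Agent.Lib.Helper15.HyperCone

/-!
# Local acyclicity of the free chain complex of a locally Kan simplicial presheaf (helper15)

Chain-level consequences of `HyperCone.exists_cone`: in the complex of free abelian groups on the
simplices of `X`, cycles are locally boundaries (`local_exact_succ`), and `0`-chains of degree zero
are locally boundaries (`local_exact_zero`).
-/

set_option autoImplicit false
universe u
open CategoryTheory CategoryTheory.Limits Opposite Simplicial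

namespace Groth.Agent.Lib.Helper15.HyperCone

variable {C : Type u} [SmallCategory C] {J : GrothendieckTopology C}
variable {X : SimplicialObject (Cᵒᵖ ⥤ Type u)}

/-- the simplicial operator attached to `α`, on sections -/
def opr {m n : ℕ} {U : C} (α : ⦋m⦌ ⟶ ⦋n⦌) (x : sx X n U) : sx X m U :=
  (X.map α.op).app (op U) x

lemma opr_id {n : ℕ} {U : C} (x : sx X n U) : opr (𝟙 ⦋n⦌) x = x := by
  have : X.map (𝟙 ⦋n⦌).op = 𝟙 _ := X.map_id _
  exact congrArg (fun φ => φ.app (op U) x) this

lemma face_opr {m n : ℕ} {U : C} (i : Fin (m + 2)) (α : ⦋m + 1⦌ ⟶ ⦋n⦌) (x : sx X n U) :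
    face i (opr α x) = opr (SimplexCategory.δ i ≫ α) x := by
  have : X.map (SimplexCategory.δ i ≫ α).op = X.map α.op ≫ X.δ i := by
    rw [op_comp, X.map_comp]; rfl
  exact (congrArg (fun φ => φ.app (op U) x) this).symm

/-- the face-closed family generated by a finite set of `n`-simplices -/
def closureSubcx (n : ℕ) (U : C) (S : Set (sx X n U)) (hS : S.Finite) : Subcx X U where
  T j := Set.image2 (fun (α : ⦋j⦌ ⟶ ⦋n⦌) (σ : sx X n U) => opr α σ) Set.univ S
  fin j := Set.Finite.image2 _ Set.finite_univ hS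
  closed j τ hτ i := by
    obtain ⟨α, -, σ, hσ, rfl⟩ := hτ
    exact ⟨SimplexCategory.δ i ≫ α, Set.mem_univ _, σ, hσ, (face_opr i α σ).symm⟩

lemma subset_closureSubcx (n : ℕ) (U : C) (S : Set (sx X n U)) (hS : S.Finite) :
    S ⊆ (closureSubcx n U S hS).T n :=
  fun σ hσ => ⟨𝟙 _, Set.mem_univ _, σ, hσ, opr_id σ⟩

lemma mem_closureSubcx_zero (n : ℕ) (U : C) (S : Set (sx X n U)) (hS : S.Finite)
    (σ : sx X n U) (hσ : σ ∈ S) (α : ⦋0⦌ ⟶ ⦋n⦌) : opr α σ ∈ (closureSubcx n U S hS).T 0 :=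
  ⟨α, Set.mem_univ _, σ, hσ, rfl⟩

/-- every element of a free abelian group lies in the subgroup generated by a finite set of
generators -/
theorem exists_finite_closure {α : Type*} (z : FreeAbelianGroup α) :
    ∃ S : Set α, S.Finite ∧ z ∈ AddSubgroup.closure (FreeAbelianGroup.of '' S) := by
  induction z using FreeAbelianGroup.induction_on with
  | zero => exact ⟨∅, Set.finite_empty, zero_mem _⟩
  | of x =>
    exact ⟨{x}, Set.finite_singleton x, AddSubgroup.subset_closure ⟨x, rfl, rfl⟩⟩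
  | neg x ih =>
    obtain ⟨S, hS, h⟩ := ih
    exact ⟨S, hS, neg_mem h⟩
  | add x y hx hy =>
    obtain ⟨S, hS, h⟩ := hx
    obtain ⟨S', hS', h'⟩ := hy
    refine ⟨S ∪ S', hS.union hS', add_mem ?_ ?_⟩
    · exact AddSubgroup.closure_mono (Set.image_mono Set.subset_union_left) h
    · exact AddSubgroup.closure_mono (Set.image_mono Set.subset_union_right) h'

variable (X)

/-- the alternating sum of the faces on free abelian groups -/
def dch (n : ℕ) (U : C) : FreeAbelianGroup (sx X (n + 1) U) →+ FreeAbelianGroup (sx X n U) :=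
  ∑ i : Fin (n + 2), ((-1 : ℤ) ^ (i : ℕ)) • FreeAbelianGroup.map (face i)

/-- the augmentation -/
def aug (U : C) : FreeAbelianGroup (sx X 0 U) →+ ℤ := FreeAbelianGroup.lift (fun _ => (1 : ℤ))

variable {X}

lemma dch_of (n : ℕ) (U : C) (σ : sx X (n + 1) U) :
    dch X n U (FreeAbelianGroup.of σ) =
      ∑ i : Fin (n + 2), ((-1 : ℤ) ^ (i : ℕ)) • FreeAbelianGroup.of (face i σ) := by
  simp [dch]

/-- the boundary of a cone, in positive degrees -/
theorem dch_cone_succ {U V : C} {T : Subcx X U} {v : sx X 0 U} {n : ℕ} {g : V ⟶ U}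
    {c : ∀ j : ℕ, sx X j U → sx X (j + 1) V} (hc : IsCone T v (n + 1) g c)
    (z : FreeAbelianGroup (sx X (n + 1) U))
    (hz : z ∈ AddSubgroup.closure (FreeAbelianGroup.of '' T.T (n + 1))) :
    dch X (n + 1) V (FreeAbelianGroup.map (c (n + 1)) z) =
      FreeAbelianGroup.map (res g) z - FreeAbelianGroup.map (c n) (dch X n U z) := by
  let f₁ : FreeAbelianGroup (sx X (n + 1) U) →+ FreeAbelianGroup (sx X (n + 1) V) :=
    (dch X (n + 1) V).comp (FreeAbelianGroup.map (c (n + 1)))
  let f₂ : FreeAbelianGroup (sx X (n + 1) U) →+ FreeAbelianGroup (sx X (n + 1) V) :=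
    FreeAbelianGroup.map (res g) - (FreeAbelianGroup.map (c n)).comp (dch X n U)
  have key : Set.EqOn f₁ f₂ (FreeAbelianGroup.of '' T.T (n + 1)) := by
    rintro _ ⟨σ, hσ, rfl⟩
    change dch X (n + 1) V (FreeAbelianGroup.map (c (n + 1)) (FreeAbelianGroup.of σ)) =
      FreeAbelianGroup.map (res g) (FreeAbelianGroup.of σ) -
        FreeAbelianGroup.map (c n) (dch X n U (FreeAbelianGroup.of σ))
    simp only [FreeAbelianGroup.map_of_apply]
    rw [dch_of, dch_of, Fin.sum_univ_succ, map_sum]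
    simp only [Fin.val_zero, pow_zero, one_smul, Fin.val_succ, pow_succ, mul_neg, mul_one, neg_smul,
      Finset.sum_neg_distrib, map_zsmul, FreeAbelianGroup.map_of_apply]
    rw [hc.d0 (n + 1) le_rfl σ hσ, sub_eq_add_neg]
    congr 2
    refine Finset.sum_congr rfl fun i _ => ?_
    rw [hc.ds n le_rfl σ hσ i]
  exact AddMonoidHom.eqOn_closure key hz

/-- the boundary of a cone, in degree zero -/
theorem dch_cone_zero {U V : C} {T : Subcx X U} {v : sx X 0 U} {g : V ⟶ U}
    {c : ∀ j : ℕ, sx X j U → sx X (j + 1) V} (hc : IsCone T v 0 g c)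
    (z : FreeAbelianGroup (sx X 0 U))
    (hz : z ∈ AddSubgroup.closure (FreeAbelianGroup.of '' T.T 0)) :
    dch X 0 V (FreeAbelianGroup.map (c 0) z) =
      FreeAbelianGroup.map (res g) z - aug X U z • FreeAbelianGroup.of (res g v) := by
  let f₁ : FreeAbelianGroup (sx X 0 U) →+ FreeAbelianGroup (sx X 0 V) :=
    (dch X 0 V).comp (FreeAbelianGroup.map (c 0))
  let f₂ : FreeAbelianGroup (sx X 0 U) →+ FreeAbelianGroup (sx X 0 V) :=
    FreeAbelianGroup.map (res g) -
      ((zmultiplesHom _) (FreeAbelianGroup.of (res g v))).comp (aug X U)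
  have key : Set.EqOn f₁ f₂ (FreeAbelianGroup.of '' T.T 0) := by
    rintro _ ⟨σ, hσ, rfl⟩
    change dch X 0 V (FreeAbelianGroup.map (c 0) (FreeAbelianGroup.of σ)) =
      FreeAbelianGroup.map (res g) (FreeAbelianGroup.of σ) -
        aug X U (FreeAbelianGroup.of σ) • FreeAbelianGroup.of (res g v)
    simp only [FreeAbelianGroup.map_of_apply, aug, FreeAbelianGroup.lift_apply_of, one_smul]
    rw [dch_of, Fin.sum_univ_two]
    simp only [Fin.val_zero, pow_zero, one_smul, Fin.val_one, pow_one, neg_smul]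
    rw [hc.d0 0 le_rfl σ hσ, hc.apex σ hσ, sub_eq_add_neg]
  exact AddMonoidHom.eqOn_closure key hz

/-- **Cycles are locally boundaries** (positive degrees). -/
theorem local_exact_succ (hX : LocalKan J X) (n : ℕ) (U : C)
    (z : FreeAbelianGroup (sx X (n + 1) U)) (hz : dch X n U z = 0) :
    ∃ R ∈ J U, ∀ ⦃V : C⦄ (g : V ⟶ U), R g →
      ∃ w : FreeAbelianGroup (sx X (n + 2) V), dch X (n + 1) V w = FreeAbelianGroup.map (res g) z := by
  obtain ⟨S, hS, hzS⟩ := exists_finite_closure z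
  by_cases hne : S.Nonempty
  · obtain ⟨σ₀, hσ₀⟩ := hne
    let T := closureSubcx (n + 1) U S hS
    let v : sx X 0 U := opr (SimplexCategory.const ⦋0⦌ ⦋n + 1⦌ 0) σ₀
    obtain ⟨R, hR, h⟩ := exists_cone hX T v (n + 1)
    refine ⟨R, hR, fun V g hg => ?_⟩
    obtain ⟨c, hc⟩ := h g hg
    refine ⟨FreeAbelianGroup.map (c (n + 1)) z, ?_⟩
    have hzT : z ∈ AddSubgroup.closure (FreeAbelianGroup.of '' T.T (n + 1)) :=
      AddSubgroup.closure_mono (Set.image_mono (subset_closureSubcx (n + 1) U S hS)) hzS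
    rw [dch_cone_succ hc z hzT, hz, map_zero, sub_zero]
  · rw [Set.not_nonempty_iff_eq_empty] at hne
    subst hne
    rw [Set.image_empty, AddSubgroup.closure_empty, AddSubgroup.mem_bot] at hzS
    subst hzS
    exact ⟨⊤, J.top_mem U, fun V g _ => ⟨0, by rw [map_zero, map_zero]⟩⟩

/-- **Chains of augmentation zero are locally boundaries** (degree zero). -/
theorem local_exact_zero (hX : LocalKan J X) (U : C)
    (z : FreeAbelianGroup (sx X 0 U)) (hz : aug X U z = 0) :
    ∃ R ∈ J U, ∀ ⦃V : C⦄ (g : V ⟶ U), R g →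
      ∃ w : FreeAbelianGroup (sx X 1 V), dch X 0 V w = FreeAbelianGroup.map (res g) z := by
  obtain ⟨S, hS, hzS⟩ := exists_finite_closure z
  by_cases hne : S.Nonempty
  · obtain ⟨σ₀, hσ₀⟩ := hne
    let T := closureSubcx 0 U S hS
    obtain ⟨R, hR, h⟩ := exists_cone hX T σ₀ 0
    refine ⟨R, hR, fun V g hg => ?_⟩
    obtain ⟨c, hc⟩ := h g hg
    refine ⟨FreeAbelianGroup.map (c 0) z, ?_⟩
    have hzT : z ∈ AddSubgroup.closure (FreeAbelianGroup.of '' T.T 0) :=
      AddSubgroup.closure_mono (Set.image_mono (subset_closureSubcx 0 U S hS)) hzS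
    rw [dch_cone_zero hc z hzT, hz, zero_smul, sub_zero]
  · rw [Set.not_nonempty_iff_eq_empty] at hne
    subst hne
    rw [Set.image_empty, AddSubgroup.closure_empty, AddSubgroup.mem_bot] at hzS
    subst hzS
    exact ⟨⊤, J.top_mem U, fun V g _ => ⟨0, by rw [map_zero, map_zero]⟩⟩

end Groth.Agent.Lib.Helper15.HyperCone
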