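import Groth.Agent.Lib.Helper15.HyperSphereCosk
import Groth.Agent.Lib.Helper15.HyperOver

/-!
# Points of coskeleta of simplicial formal coproducts (helper15)

For a simplicial object `K` of `FormalCoproduct D` (coskeleta assumed to exist), points
`incl Y ⟶ (cosk_n sk_n K)_N` correspond bijectively to compatible families
`y a ha α : incl Y ⟶ K_a` indexed by `α : a ⟶ N` with `a.len ≤ n` (`cfam`, `cfam_ext`, `exists_cfam`).
As a consequence the unit `K_N ⟶ (cosk_n sk_n K)_N` is a covering (in lifting form) iff compatible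
families can be filled locally (`liftCov_unit_iff`).
-/

set_option autoImplicit false
universe u
open CategoryTheory CategoryTheory.Limits Opposite Simplicial

namespace Groth.Agent.Lib.Helper15.HyperCoskPts

open Groth.Agent.Lib.Helper15.HyperSphere Groth.Agent.Lib.Helper15.HyperOver

variable {D : Type u} [SmallCategory D]

section Ext

variable {Y : D} {N : SimplexCategory}

/-- the Yoneda extension of a point of `Z_N` to a map out of the copower -/
def copExt (Z : SimplicialObject (FormalCoproduct.{u} D))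
    (b : (FormalCoproduct.incl D).obj Y ⟶ Z.obj (op N)) : cop Y N ⟶ Z where
  app a := copDesc (fun α : a.unop ⟶ N => b ≫ Z.map α.op)
  naturality a a' θ := by
    apply cop_hom_ext
    intro α
    have e1 : copι (Y := Y) α ≫ (cop Y N).map θ = copι (θ.unop ≫ α) := copι_map θ.unop α
    rw [← Category.assoc, e1, copι_desc, ← Category.assoc, copι_desc, Category.assoc,
      ← Z.map_comp]
    rfl

lemma copι_copExt (Z : SimplicialObject (FormalCoproduct.{u} D))
    (b : (FormalCoproduct.incl D).obj Y ⟶ Z.obj (op N)) {a : SimplexCategory} (α : a ⟶ N) :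
    copι α ≫ (copExt Z b).app (op a) = b ≫ Z.map α.op :=
  copι_desc _ _

lemma copι_id_copExt (Z : SimplicialObject (FormalCoproduct.{u} D))
    (b : (FormalCoproduct.incl D).obj Y ⟶ Z.obj (op N)) :
    copι (𝟙 N) ≫ (copExt Z b).app (op N) = b := by
  rw [copι_copExt, op_id, Z.map_id, Category.comp_id]

end Ext

section Main

variable (K : SimplicialObject (FormalCoproduct.{u} D))
  [∀ (n : ℕ) (F : (SimplexCategory.Truncated n)ᵒᵖ ⥤ FormalCoproduct.{u} D),
    (SimplexCategory.Truncated.inclusion n).op.HasRightKanExtension F]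
  (n : ℕ)

/-- the coskeleton of the truncation -/
noncomputable abbrev CK : SimplicialObject (FormalCoproduct.{u} D) :=
  (SimplicialObject.truncation n ⋙ SimplicialObject.Truncated.cosk n).obj K

/-- the unit -/
noncomputable abbrev un (N : SimplexCategory) : K.obj (op N) ⟶ (CK K n).obj (op N) :=
  ((SimplicialObject.coskAdj n).unit.app K).app (op N)

/-- the counit in degrees `≤ n` -/
noncomputable def cu (a : SimplexCategory) (ha : a.len ≤ n) :
    (CK K n).obj (op a) ⟶ K.obj (op a) :=
  ((SimplicialObject.coskAdj n).counit.app ((SimplicialObject.truncation n).obj K)).app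
    (op ⟨a, ha⟩)

lemma cu_nat {a b : SimplexCategory} (ha : a.len ≤ n) (hb : b.len ≤ n) (θ : b ⟶ a) :
    (CK K n).map θ.op ≫ cu K n b hb = cu K n a ha ≫ K.map θ.op :=
  ((SimplicialObject.coskAdj n).counit.app ((SimplicialObject.truncation n).obj K)).naturality
    (InducedCategory.homMk θ : (⟨b, hb⟩ : SimplexCategory.Truncated n) ⟶ ⟨a, ha⟩).op

lemma un_cu (a : SimplexCategory) (ha : a.len ≤ n) : un K n a ≫ cu K n a ha = 𝟙 _ :=
  congrArg (fun ψ => ψ.app (op (⟨a, ha⟩ : SimplexCategory.Truncated n)))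
    ((SimplicialObject.coskAdj n).left_triangle_components K)

lemma un_nat {N M : SimplexCategory} (θ : M ⟶ N) :
    K.map θ.op ≫ un K n M = un K n N ≫ (CK K n).map θ.op :=
  ((SimplicialObject.coskAdj n).unit.app K).naturality θ.op

variable {K n} {Y : D} {N : SimplexCategory}

/-- the compatible family attached to a point of the coskeleton -/
noncomputable def cfam (b : (FormalCoproduct.incl D).obj Y ⟶ (CK K n).obj (op N))
    (a : SimplexCategory) (ha : a.len ≤ n) (α : a ⟶ N) :
    (FormalCoproduct.incl D).obj Y ⟶ K.obj (op a) :=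
  b ≫ (CK K n).map α.op ≫ cu K n a ha

lemma cfam_comp (b : (FormalCoproduct.incl D).obj Y ⟶ (CK K n).obj (op N))
    {a a' : SimplexCategory} (ha : a.len ≤ n) (ha' : a'.len ≤ n) (θ : a' ⟶ a) (α : a ⟶ N) :
    cfam b a' ha' (θ ≫ α) = cfam b a ha α ≫ K.map θ.op := by
  rw [cfam, cfam, op_comp, (CK K n).map_comp, Category.assoc, Category.assoc, Category.assoc,
    cu_nat K n ha ha' θ]

lemma cfam_un (t : (FormalCoproduct.incl D).obj Y ⟶ K.obj (op N))
    (a : SimplexCategory) (ha : a.len ≤ n) (α : a ⟶ N) :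
    cfam (t ≫ un K n N) a ha α = t ≫ K.map α.op := by
  have h1 : un K n N ≫ (CK K n).map α.op ≫ cu K n a ha = K.map α.op := by
    rw [← Category.assoc, ← un_nat K n α, Category.assoc, un_cu, Category.comp_id]
  rw [cfam, Category.assoc, h1]

lemma cfam_res {Y' : D} (g : Y' ⟶ Y)
    (b : (FormalCoproduct.incl D).obj Y ⟶ (CK K n).obj (op N))
    (a : SimplexCategory) (ha : a.len ≤ n) (α : a ⟶ N) :
    cfam ((FormalCoproduct.incl D).map g ≫ b) a ha α =
      (FormalCoproduct.incl D).map g ≫ cfam b a ha α := by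
  rw [cfam, cfam, Category.assoc]

/-- the truncated natural transformation attached to a point of the coskeleton -/
lemma homEquiv_symm_copExt (b : (FormalCoproduct.incl D).obj Y ⟶ (CK K n).obj (op N))
    (a : SimplexCategory) (ha : a.len ≤ n) (α : a ⟶ N) :
    copι α ≫ (((SimplicialObject.coskAdj n).homEquiv (cop Y N)
      ((SimplicialObject.truncation n).obj K)).symm (copExt (CK K n) b)).app (op ⟨a, ha⟩) =
      cfam b a ha α := by
  have h := congrArg (fun ψ => ψ.app (op (⟨a, ha⟩ : SimplexCategory.Truncated n)))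
    ((SimplicialObject.coskAdj n).homEquiv_counit (g := copExt (CK K n) b))
  have h' : (((SimplicialObject.coskAdj n).homEquiv (cop Y N)
      ((SimplicialObject.truncation n).obj K)).symm (copExt (CK K n) b)).app (op ⟨a, ha⟩) =
      (copExt (CK K n) b).app (op a) ≫ cu K n a ha := h
  calc copι α ≫ (((SimplicialObject.coskAdj n).homEquiv (cop Y N)
        ((SimplicialObject.truncation n).obj K)).symm (copExt (CK K n) b)).app (op ⟨a, ha⟩)
      = copι α ≫ ((copExt (CK K n) b).app (op a) ≫ cu K n a ha) := congrArg (copι α ≫ ·) h'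
    _ = (copι α ≫ (copExt (CK K n) b).app (op a)) ≫ cu K n a ha := (Category.assoc _ _ _).symm
    _ = (b ≫ (CK K n).map α.op) ≫ cu K n a ha := by rw [copι_copExt]
    _ = cfam b a ha α := Category.assoc _ _ _

/-- points of the coskeleton are determined by their families -/
theorem cfam_ext {b₁ b₂ : (FormalCoproduct.incl D).obj Y ⟶ (CK K n).obj (op N)}
    (h : ∀ (a : SimplexCategory) (ha : a.len ≤ n) (α : a ⟶ N), cfam b₁ a ha α = cfam b₂ a ha α) :
    b₁ = b₂ := by
  have key : copExt (CK K n) b₁ = copExt (CK K n) b₂ := by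
    apply ((SimplicialObject.coskAdj n).homEquiv (cop Y N)
      ((SimplicialObject.truncation n).obj K)).symm.injective
    apply NatTrans.ext
    funext a
    obtain ⟨⟨a, ha⟩⟩ := a
    apply cop_hom_ext
    intro α
    exact (homEquiv_symm_copExt b₁ a ha α).trans ((h a ha α).trans
      (homEquiv_symm_copExt b₂ a ha α).symm)
  rw [← copι_id_copExt (CK K n) b₁, ← copι_id_copExt (CK K n) b₂, key]

/-- every compatible family comes from a point of the coskeleton -/
theorem exists_cfam
    (y : ∀ (a : SimplexCategory) (_ : a.len ≤ n) (_ : a ⟶ N),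
      (FormalCoproduct.incl D).obj Y ⟶ K.obj (op a))
    (hy : ∀ (a b : SimplexCategory) (ha : a.len ≤ n) (hb : b.len ≤ n) (θ : b ⟶ a) (α : a ⟶ N),
      y b hb (θ ≫ α) = y a ha α ≫ K.map θ.op) :
    ∃ b : (FormalCoproduct.incl D).obj Y ⟶ (CK K n).obj (op N),
      ∀ (a : SimplexCategory) (ha : a.len ≤ n) (α : a ⟶ N), cfam b a ha α = y a ha α := by
  let adj := SimplicialObject.coskAdj (C := FormalCoproduct.{u} D) n
  let φ : (SimplicialObject.truncation n).obj (cop Y N) ⟶ (SimplicialObject.truncation n).obj K :=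
    truncHom n K y hy
  let b' : cop Y N ⟶ CK K n := adj.homEquiv (cop Y N) ((SimplicialObject.truncation n).obj K) φ
  refine ⟨copι (𝟙 N) ≫ b'.app (op N), fun a ha α => ?_⟩
  have h4 : b'.app (op a) ≫ cu K n a ha = φ.app (op ⟨a, ha⟩) := by
    have := congrArg (fun ψ => ψ.app (op (⟨a, ha⟩ : SimplexCategory.Truncated n)))
      (adj.homEquiv_counit (g := b'))
    have e : (adj.homEquiv (cop Y N) ((SimplicialObject.truncation n).obj K)).symm b' = φ :=
      Equiv.symm_apply_apply _ _
    rw [e] at this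
    exact this.symm
  have h2 : b'.app (op N) ≫ (CK K n).map α.op = (cop Y N).map α.op ≫ b'.app (op a) :=
    (b'.naturality α.op).symm
  have h6 : copι α ≫ φ.app (op ⟨a, ha⟩) = y a ha α := copι_desc _ _
  have h7 : copι (Y := Y) (𝟙 N) ≫ (cop Y N).map α.op = copι α := by
    have := copι_map (Y := Y) α (𝟙 N)
    rw [Category.comp_id] at this
    exact this
  have h8 : cfam (copι (𝟙 N) ≫ b'.app (op N)) a ha α = copι α ≫ (b'.app (op a) ≫ cu K n a ha) := by
    calc cfam (copι (𝟙 N) ≫ b'.app (op N)) a ha α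
        = copι (𝟙 N) ≫ (b'.app (op N) ≫ (CK K n).map α.op) ≫ cu K n a ha := by
          rw [cfam]; simp only [Category.assoc]
      _ = copι (𝟙 N) ≫ ((cop Y N).map α.op ≫ b'.app (op a)) ≫ cu K n a ha := by rw [h2]
      _ = (copι (𝟙 N) ≫ (cop Y N).map α.op) ≫ (b'.app (op a) ≫ cu K n a ha) := by
          simp only [Category.assoc]
      _ = copι α ≫ (b'.app (op a) ≫ cu K n a ha) := by rw [h7]
  exact h8.trans ((congrArg (copι α ≫ ·) h4).trans h6)

lemma cu_map {K' : SimplicialObject (FormalCoproduct.{u} D)} (f : K ⟶ K')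
    (a : SimplexCategory) (ha : a.len ≤ n) :
    ((SimplicialObject.truncation n ⋙ SimplicialObject.Truncated.cosk n).map f).app (op a) ≫
      cu K' n a ha = cu K n a ha ≫ f.app (op a) :=
  congrArg (fun ψ => ψ.app (op (⟨a, ha⟩ : SimplexCategory.Truncated n)))
    ((SimplicialObject.coskAdj n).counit.naturality ((SimplicialObject.truncation n).map f))

lemma cfam_map {K' : SimplicialObject (FormalCoproduct.{u} D)} (f : K ⟶ K')
    (b : (FormalCoproduct.incl D).obj Y ⟶ (CK K n).obj (op N))
    (a : SimplexCategory) (ha : a.len ≤ n) (α : a ⟶ N) :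
    cfam (b ≫ ((SimplicialObject.truncation n ⋙ SimplicialObject.Truncated.cosk n).map f).app
      (op N)) a ha α = cfam b a ha α ≫ f.app (op a) := by
  have h1 : ((SimplicialObject.truncation n ⋙ SimplicialObject.Truncated.cosk n).map f).app (op N) ≫
      (CK K' n).map α.op = (CK K n).map α.op ≫
      ((SimplicialObject.truncation n ⋙ SimplicialObject.Truncated.cosk n).map f).app (op a) :=
    (((SimplicialObject.truncation n ⋙ SimplicialObject.Truncated.cosk n).map f).naturality
      α.op).symm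
  calc cfam (b ≫ ((SimplicialObject.truncation n ⋙ SimplicialObject.Truncated.cosk n).map f).app
        (op N)) a ha α
      = b ≫ (((SimplicialObject.truncation n ⋙ SimplicialObject.Truncated.cosk n).map f).app
          (op N) ≫ (CK K' n).map α.op) ≫ cu K' n a ha := by
        rw [cfam]; simp only [Category.assoc]
    _ = b ≫ (CK K n).map α.op ≫
          (((SimplicialObject.truncation n ⋙ SimplicialObject.Truncated.cosk n).map f).app (op a) ≫
            cu K' n a ha) := by rw [h1]; simp only [Category.assoc]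
    _ = cfam b a ha α ≫ f.app (op a) := by
        rw [cu_map, cfam]; simp only [Category.assoc]

end Main

section Cov

variable (J : GrothendieckTopology D) (K : SimplicialObject (FormalCoproduct.{u} D))
  [∀ (n : ℕ) (F : (SimplexCategory.Truncated n)ᵒᵖ ⥤ FormalCoproduct.{u} D),
    (SimplexCategory.Truncated.inclusion n).op.HasRightKanExtension F]
  (n : ℕ) (N : SimplexCategory)

/-- compatible families of points indexed by `α : a ⟶ N`, `a.len ≤ n` -/
def IsFam {Y : D} (y : ∀ (a : SimplexCategory) (_ : a.len ≤ n) (_ : a ⟶ N),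
    (FormalCoproduct.incl D).obj Y ⟶ K.obj (op a)) : Prop :=
  ∀ (a b : SimplexCategory) (ha : a.len ≤ n) (hb : b.len ≤ n) (θ : b ⟶ a) (α : a ⟶ N),
    y b hb (θ ≫ α) = y a ha α ≫ K.map θ.op

/-- compatible families can be filled locally -/
def FamFill : Prop :=
  ∀ (Y : D) (y : ∀ (a : SimplexCategory) (_ : a.len ≤ n) (_ : a ⟶ N),
      (FormalCoproduct.incl D).obj Y ⟶ K.obj (op a)), IsFam K n N y →
    ∃ S ∈ J Y, ∀ ⦃Y' : D⦄ (g : Y' ⟶ Y), S g →
      ∃ t : (FormalCoproduct.incl D).obj Y' ⟶ K.obj (op N),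
        ∀ (a : SimplexCategory) (ha : a.len ≤ n) (α : a ⟶ N),
          t ≫ K.map α.op = (FormalCoproduct.incl D).map g ≫ y a ha α

theorem liftCov_unit_iff : LiftCov J (un K n N) ↔ FamFill J K n N := by
  constructor
  · intro h Y y hy
    obtain ⟨b, hb⟩ := exists_cfam y hy
    obtain ⟨S, hS, H⟩ := h Y b
    refine ⟨S, hS, fun Y' g hg => ?_⟩
    obtain ⟨t, ht⟩ := H g hg
    refine ⟨t, fun a ha α => ?_⟩
    rw [← cfam_un (n := n) t a ha α, ht, cfam_res, hb]
  · intro h Y b
    obtain ⟨S, hS, H⟩ := h Y (cfam b) (fun a a' ha ha' θ α => cfam_comp b ha ha' θ α)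
    refine ⟨S, hS, fun Y' g hg => ?_⟩
    obtain ⟨t, ht⟩ := H g hg
    refine ⟨t, cfam_ext fun a ha α => ?_⟩
    rw [cfam_un, cfam_res, ht]

end Cov

section SR

variable {J : GrothendieckTopology D}

lemma isSRCovering_of_liftCov {A B : FormalCoproduct.{u} D} (f : A ⟶ B) (h : LiftCov J f) :
    Hyper.IsSRCovering J f := by
  intro j
  obtain ⟨S, hS, H⟩ := h (B.obj j) (FormalCoproduct.Hom.fromIncl j (𝟙 _))
  refine J.superset_covering ?_ hS
  intro Y' g hg
  obtain ⟨a, ha⟩ := H g hg
  obtain ⟨h1, h2⟩ := (FormalCoproduct.hom_ext_iff' _ _).1 ha PUnit.unit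
  have h1' : f.f (a.f PUnit.unit) = j := h1
  rw [Sieve.mem_ofArrows_iff]
  refine ⟨⟨a.f PUnit.unit, h1'⟩, a.φ PUnit.unit, ?_⟩
  have h3 : (a.φ PUnit.unit ≫ f.φ (a.f PUnit.unit)) ≫ eqToHom (by rw [h1']) = g ≫ 𝟙 _ := h2
  rw [Category.comp_id] at h3
  rw [← h3, Category.assoc]
  rfl

theorem isSRCovering_iff_liftCov {A B : FormalCoproduct.{u} D} (f : A ⟶ B) :
    Hyper.IsSRCovering J f ↔ LiftCov J f :=
  ⟨liftCov_of_isSRCovering f, isSRCovering_of_liftCov f⟩

end SR

end Groth.Agent.Lib.Helper15.HyperCoskPts
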