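import Mathlib

/-!
# The hypercovering of "all diagrams" of objects of a class `B` (helper15)

For a class `B` of objects of a small category `D`, `KD B` is the simplicial formal coproduct whose
`n`-simplices are indexed by the strictly functorial diagrams `W` of objects of `B` on the category
of simplices of `Δ[n]` (objects `(k, σ : [k] → [n])`), with object `W(n, id)`.
-/

set_option autoImplicit false
universe u
open CategoryTheory CategoryTheory.Limits Opposite Simplicial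

namespace Groth.Agent.Lib.Helper15.HyperDiag

variable {D : Type u} [SmallCategory D] (B : Set D)

/-- strictly functorial diagrams of objects of `B` on the simplices of `Δ[n]` -/
structure Diag (n : ℕ) where
  obj : ∀ (k : ℕ), (Fin (k + 1) →o Fin (n + 1)) → D
  mem : ∀ (k : ℕ) (σ : Fin (k + 1) →o Fin (n + 1)), obj k σ ∈ B
  map : ∀ {k l : ℕ} (θ : Fin (l + 1) →o Fin (k + 1)) (σ : Fin (k + 1) →o Fin (n + 1)),
    obj k σ ⟶ obj l (σ.comp θ)
  map_id : ∀ (k : ℕ) (σ : Fin (k + 1) →o Fin (n + 1)), map OrderHom.id σ = 𝟙 (obj k σ)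
  map_comp : ∀ {k l m : ℕ} (θ : Fin (l + 1) →o Fin (k + 1)) (θ' : Fin (m + 1) →o Fin (l + 1))
    (σ : Fin (k + 1) →o Fin (n + 1)), map (θ.comp θ') σ = map θ σ ≫ map θ' (σ.comp θ)

variable {B}

namespace Diag

/-- the top object -/
abbrev top {n : ℕ} (W : Diag B n) : D := W.obj n OrderHom.id

/-- restriction of a diagram along `τ : [m] → [n]` -/
def pull {m n : ℕ} (τ : Fin (m + 1) →o Fin (n + 1)) (W : Diag B n) : Diag B m where
  obj k σ := W.obj k (τ.comp σ)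
  mem k _ := W.mem k _
  map θ σ := W.map θ (τ.comp σ)
  map_id k _ := W.map_id k _
  map_comp θ θ' _ := W.map_comp θ θ' _

lemma pull_id {n : ℕ} (W : Diag B n) : W.pull OrderHom.id = W := rfl

lemma pull_comp {l m n : ℕ} (τ : Fin (m + 1) →o Fin (n + 1)) (τ' : Fin (l + 1) →o Fin (m + 1))
    (W : Diag B n) : W.pull (τ.comp τ') = (W.pull τ).pull τ' := rfl

lemma pull_top {m n : ℕ} (τ : Fin (m + 1) →o Fin (n + 1)) (W : Diag B n) :
    (W.pull τ).top = W.obj m τ := rfl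

/-- the map from the top object -/
def mapTop {n : ℕ} (W : Diag B n) {k : ℕ} (σ : Fin (k + 1) →o Fin (n + 1)) :
    W.top ⟶ (W.pull σ).top :=
  W.map σ OrderHom.id

lemma pull_mapTop {m n : ℕ} (τ : Fin (m + 1) →o Fin (n + 1)) (W : Diag B n) {k : ℕ}
    (σ : Fin (k + 1) →o Fin (m + 1)) : (W.pull τ).mapTop σ = W.map σ τ := rfl

lemma mapTop_comp {n : ℕ} (W : Diag B n) {k l : ℕ} (θ : Fin (k + 1) →o Fin (n + 1))
    (θ' : Fin (l + 1) →o Fin (k + 1)) :
    W.mapTop (θ.comp θ') = W.mapTop θ ≫ (W.pull θ).mapTop θ' :=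
  W.map_comp θ θ' OrderHom.id

lemma mapTop_id {n : ℕ} (W : Diag B n) : W.mapTop OrderHom.id = 𝟙 W.top := W.map_id _ _

lemma mapTop_id' {n : ℕ} (W : Diag B n) :
    W.mapTop OrderHom.id = eqToHom (rfl : W.top = (W.pull OrderHom.id).top) := W.map_id _ _

lemma ext' {n : ℕ} {W W' : Diag B n} (h : ∀ k σ, W.obj k σ = W'.obj k σ)
    (hm : ∀ {k l : ℕ} (θ : Fin (l + 1) →o Fin (k + 1)) (σ : Fin (k + 1) →o Fin (n + 1)),
      W.map θ σ = eqToHom (h k σ) ≫ W'.map θ σ ≫ eqToHom (h l (σ.comp θ)).symm) : W = W' := by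
  obtain ⟨o, me, ma, mi, mc⟩ := W
  obtain ⟨o', me', ma', mi', mc'⟩ := W'
  have ho : o = o' := funext fun k => funext fun σ => h k σ
  subst ho
  have hma : @ma = @ma' := by
    funext k l θ σ
    simpa using hm θ σ
  subst hma
  rfl

lemma top_eq {n : ℕ} {W W' : Diag B n} (h : W = W') : W.top = W'.top := by rw [h]

lemma pull_top_eq {n : ℕ} {W W' : Diag B n} (h : W = W') {k : ℕ}
    (σ : Fin (k + 1) →o Fin (n + 1)) : (W.pull σ).top = (W'.pull σ).top := by rw [h]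

lemma mapTop_eq {n : ℕ} {W W' : Diag B n} (h : W = W') {k : ℕ}
    (σ : Fin (k + 1) →o Fin (n + 1)) :
    W.mapTop σ = eqToHom (top_eq h) ≫ W'.mapTop σ ≫ eqToHom (pull_top_eq h σ).symm := by
  subst h
  simp

lemma obj_eq {n : ℕ} {W W' : Diag B n} (h : W = W') (k : ℕ)
    (σ : Fin (k + 1) →o Fin (n + 1)) : W.obj k σ = W'.obj k σ := by rw [h]

lemma map_eq {n : ℕ} {W W' : Diag B n} (h : W = W') {k l : ℕ} (θ : Fin (l + 1) →o Fin (k + 1))
    (σ : Fin (k + 1) →o Fin (n + 1)) :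
    W.map θ σ = eqToHom (obj_eq h k σ) ≫ W'.map θ σ ≫ eqToHom (obj_eq h l (σ.comp θ)).symm := by
  subst h
  simp

end Diag

variable (B)

set_option backward.isDefEq.respectTransparency false in
/-- the simplicial formal coproduct of all diagrams -/
def KD : SimplicialObject (FormalCoproduct.{u} D) where
  obj a := ⟨Diag B a.unop.len, fun W => W.top⟩
  map {a b} θ := ⟨fun W => W.pull θ.unop.toOrderHom, fun W => W.mapTop θ.unop.toOrderHom⟩
  map_id a := by
    refine FormalCoproduct.hom_ext rfl (fun W => ?_)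
    simp only [eqToHom_refl, Category.comp_id]
    exact W.mapTop_id
  map_comp f g := by
    refine FormalCoproduct.hom_ext rfl (fun W => ?_)
    simp only [eqToHom_refl, Category.comp_id]
    exact W.mapTop_comp _ _

variable {B}

/-- the point of `KD B` given by a diagram and a map to its top object -/
def pt {a : SimplexCategory} {Y : D} (W : Diag B a.len) (y : Y ⟶ W.top) :
    (FormalCoproduct.incl D).obj Y ⟶ (KD B).obj (op a) :=
  FormalCoproduct.Hom.fromIncl (Y := (KD B).obj (op a)) W y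

lemma pt_eta {a : SimplexCategory} {Y : D}
    (p : (FormalCoproduct.incl D).obj Y ⟶ (KD B).obj (op a)) :
    p = pt (p.f PUnit.unit) (p.φ PUnit.unit) := rfl

lemma pt_map {a b : SimplexCategory} {Y : D} (W : Diag B a.len) (y : Y ⟶ W.top) (θ : b ⟶ a) :
    pt W y ≫ (KD B).map θ.op = pt (W.pull θ.toOrderHom) (y ≫ W.mapTop θ.toOrderHom) := rfl

lemma res_pt {a : SimplexCategory} {Y Y' : D} (g : Y' ⟶ Y) (W : Diag B a.len) (y : Y ⟶ W.top) :
    (FormalCoproduct.incl D).map g ≫ pt W y = pt W (g ≫ y) := rfl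

lemma pt_ext {a : SimplexCategory} {Y : D} {W W' : Diag B a.len} {y : Y ⟶ W.top}
    {y' : Y ⟶ W'.top} (h : W = W') (hy : y ≫ eqToHom (Diag.top_eq h) = y') :
    pt W y = pt W' y' := by
  subst h
  simp at hy
  rw [hy]

lemma pt_inj {a : SimplexCategory} {Y : D} {W W' : Diag B a.len} {y : Y ⟶ W.top}
    {y' : Y ⟶ W'.top} (h : pt W y = pt W' y') :
    ∃ h : W = W', y ≫ eqToHom (Diag.top_eq h) = y' :=
  (FormalCoproduct.hom_ext_iff' _ _).1 h PUnit.unit

section Fill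

variable {m : ℕ} {Y : D} (Z : D)
  (Wd : ∀ (k : ℕ) (σ : Fin (k + 1) →o Fin (m + 1)), ¬ Function.Surjective σ → Diag B k)

open Classical in
/-- objects of the filler -/
noncomputable def Vobj (k : ℕ) (σ : Fin (k + 1) →o Fin (m + 1)) : D :=
  if h : Function.Surjective σ then Z else (Wd k σ h).top

lemma Vobj_pos {k : ℕ} {σ : Fin (k + 1) →o Fin (m + 1)} (h : Function.Surjective σ) :
    Vobj Z Wd k σ = Z := dif_pos h

lemma Vobj_neg {k : ℕ} {σ : Fin (k + 1) →o Fin (m + 1)} (h : ¬ Function.Surjective σ) :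
    Vobj Z Wd k σ = (Wd k σ h).top := dif_neg h

lemma not_surj_comp {k l : ℕ} {σ : Fin (k + 1) →o Fin (m + 1)} (h : ¬ Function.Surjective σ)
    (θ : Fin (l + 1) →o Fin (k + 1)) : ¬ Function.Surjective (σ.comp θ) :=
  fun hs => h (Function.Surjective.of_comp (g := θ) hs)

variable {Z}
variable (hZ : Z ∈ B) (b : Z ⟶ Y)
  (yd : ∀ (k : ℕ) (σ : Fin (k + 1) →o Fin (m + 1)) (h : ¬ Function.Surjective σ),
    Y ⟶ (Wd k σ h).top)
  (c1 : ∀ (k l : ℕ) (θ : Fin (l + 1) →o Fin (k + 1)) (σ : Fin (k + 1) →o Fin (m + 1))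
    (h : ¬ Function.Surjective σ) (h' : ¬ Function.Surjective (σ.comp θ)),
    Wd l (σ.comp θ) h' = (Wd k σ h).pull θ)
  (c2 : ∀ (k l : ℕ) (θ : Fin (l + 1) →o Fin (k + 1)) (σ : Fin (k + 1) →o Fin (m + 1))
    (h : ¬ Function.Surjective σ) (h' : ¬ Function.Surjective (σ.comp θ)),
    yd l (σ.comp θ) h' ≫ eqToHom (Diag.top_eq (c1 k l θ σ h h')) =
      yd k σ h ≫ (Wd k σ h).mapTop θ)

include c1 in
lemma Vobj_E {k l : ℕ} (θ : Fin (l + 1) →o Fin (k + 1)) (σ : Fin (k + 1) →o Fin (m + 1))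
    (h : ¬ Function.Surjective σ) : ((Wd k σ h).pull θ).top = Vobj Z Wd l (σ.comp θ) :=
  (Diag.top_eq (c1 k l θ σ h (not_surj_comp h θ))).symm.trans (Vobj_neg Z Wd (not_surj_comp h θ)).symm

open Classical in
/-- maps of the filler -/
noncomputable def Vmap {k l : ℕ} (θ : Fin (l + 1) →o Fin (k + 1)) (σ : Fin (k + 1) →o Fin (m + 1)) :
    Vobj Z Wd k σ ⟶ Vobj Z Wd l (σ.comp θ) :=
  if h : Function.Surjective σ then
    if h' : Function.Surjective (σ.comp θ) then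
      eqToHom ((Vobj_pos Z Wd h).trans (Vobj_pos Z Wd h').symm)
    else eqToHom (Vobj_pos Z Wd h) ≫ b ≫ yd l (σ.comp θ) h' ≫ eqToHom (Vobj_neg Z Wd h').symm
  else eqToHom (Vobj_neg Z Wd h) ≫ (Wd k σ h).mapTop θ ≫ eqToHom (Vobj_E Wd c1 θ σ h)

lemma Vmap_pp {k l : ℕ} (θ : Fin (l + 1) →o Fin (k + 1)) (σ : Fin (k + 1) →o Fin (m + 1))
    (h : Function.Surjective σ) (h' : Function.Surjective (σ.comp θ)) :
    Vmap Wd b yd c1 θ σ = eqToHom ((Vobj_pos Z Wd h).trans (Vobj_pos Z Wd h').symm) := by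
  rw [Vmap, dif_pos h, dif_pos h']

lemma Vmap_pn {k l : ℕ} (θ : Fin (l + 1) →o Fin (k + 1)) (σ : Fin (k + 1) →o Fin (m + 1))
    (h : Function.Surjective σ) (h' : ¬ Function.Surjective (σ.comp θ)) :
    Vmap Wd b yd c1 θ σ =
      eqToHom (Vobj_pos Z Wd h) ≫ b ≫ yd l (σ.comp θ) h' ≫ eqToHom (Vobj_neg Z Wd h').symm := by
  rw [Vmap, dif_pos h, dif_neg h']

lemma Vmap_n {k l : ℕ} (θ : Fin (l + 1) →o Fin (k + 1)) (σ : Fin (k + 1) →o Fin (m + 1))
    (h : ¬ Function.Surjective σ) :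
    Vmap Wd b yd c1 θ σ =
      eqToHom (Vobj_neg Z Wd h) ≫ (Wd k σ h).mapTop θ ≫ eqToHom (Vobj_E Wd c1 θ σ h) := by
  rw [Vmap, dif_neg h]

omit [SmallCategory D] in
lemma conj_eqToHom {E : Type*} [Category E] {X X1 X2 X3 : E} (p : X = X1) (f : X1 ⟶ X2)
    (q : X2 = X3) (r : X1 = X2) (hf : f = eqToHom r) :
    eqToHom p ≫ f ≫ eqToHom q = eqToHom (p.trans (r.trans q)) := by
  subst hf
  simp

lemma Vmap_id (k : ℕ) (σ : Fin (k + 1) →o Fin (m + 1)) :
    Vmap Wd b yd c1 OrderHom.id σ = 𝟙 (Vobj Z Wd k σ) := by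
  by_cases h : Function.Surjective σ
  · rw [Vmap_pp Wd b yd c1 OrderHom.id σ h h]
    exact eqToHom_refl _ _
  · rw [Vmap_n Wd b yd c1 OrderHom.id σ h]
    exact (conj_eqToHom _ _ _ rfl (Diag.mapTop_id' _)).trans (eqToHom_refl _ _)

include c2 in
lemma Vmap_comp {k l n : ℕ} (θ : Fin (l + 1) →o Fin (k + 1)) (θ' : Fin (n + 1) →o Fin (l + 1))
    (σ : Fin (k + 1) →o Fin (m + 1)) :
    Vmap Wd b yd c1 (θ.comp θ') σ =
      Vmap Wd b yd c1 θ σ ≫ Vmap Wd b yd c1 θ' (σ.comp θ) := by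
  by_cases h : Function.Surjective σ
  · by_cases h' : Function.Surjective (σ.comp θ)
    · by_cases h'' : Function.Surjective ((σ.comp θ).comp θ')
      · rw [Vmap_pp Wd b yd c1 (θ.comp θ') σ h h'', Vmap_pp Wd b yd c1 θ σ h h',
          Vmap_pp Wd b yd c1 θ' (σ.comp θ) h' h'', eqToHom_trans]
        rfl
      · rw [Vmap_pn Wd b yd c1 (θ.comp θ') σ h h'', Vmap_pp Wd b yd c1 θ σ h h',
          Vmap_pn Wd b yd c1 θ' (σ.comp θ) h' h'', eqToHom_trans_assoc]
        rfl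
    · have h'' : ¬ Function.Surjective ((σ.comp θ).comp θ') := not_surj_comp h' θ'
      rw [Vmap_pn Wd b yd c1 (θ.comp θ') σ h h'', Vmap_pn Wd b yd c1 θ σ h h',
        Vmap_n Wd b yd c1 θ' (σ.comp θ) h']
      have e := c2 l n θ' (σ.comp θ) h' h''
      simp only [Category.assoc, eqToHom_trans_assoc, eqToHom_refl, Category.id_comp]
      rw [← reassoc_of% e, eqToHom_trans]
      rfl
  · have h' : ¬ Function.Surjective (σ.comp θ) := not_surj_comp h θ
    rw [Vmap_n Wd b yd c1 (θ.comp θ') σ h, Vmap_n Wd b yd c1 θ σ h,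
      Vmap_n Wd b yd c1 θ' (σ.comp θ) h', Diag.mapTop_comp,
      Diag.mapTop_eq (c1 k l θ σ h h') θ']
    simp only [Category.assoc, eqToHom_trans_assoc, eqToHom_refl, Category.id_comp,
      eqToHom_trans]
    exact congrArg (fun x => eqToHom (Vobj_neg Z Wd h) ≫ x) (Category.assoc _ _ _)

/-- the filler -/
noncomputable def V : Diag B m where
  obj := Vobj Z Wd
  mem k σ := by
    by_cases h : Function.Surjective σ
    · rw [Vobj_pos Z Wd h]; exact hZ
    · rw [Vobj_neg Z Wd h]; exact (Wd k σ h).mem _ _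
  map θ σ := Vmap Wd b yd c1 θ σ
  map_id k σ := Vmap_id Wd b yd c1 k σ
  map_comp θ θ' σ := Vmap_comp Wd b yd c1 c2 θ θ' σ

lemma V_top : (V Wd hZ b yd c1 c2).top = Z := Vobj_pos Z Wd Function.surjective_id

lemma V_pull {k : ℕ} (σ : Fin (k + 1) →o Fin (m + 1)) (h : ¬ Function.Surjective σ) :
    (V Wd hZ b yd c1 c2).pull σ = Wd k σ h := by
  refine Diag.ext' (fun l ρ => (Vobj_E Wd c1 ρ σ h).symm) (fun {l l'} θ ρ => ?_)
  have h' : ¬ Function.Surjective (σ.comp ρ) := not_surj_comp h ρ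
  refine (Vmap_n Wd b yd c1 θ (σ.comp ρ) h').trans ?_
  rw [Diag.mapTop_eq (c1 k l ρ σ h h') θ]
  simp only [Category.assoc, eqToHom_trans_assoc, eqToHom_trans]
  rfl

lemma V_mapTop {k : ℕ} (σ : Fin (k + 1) →o Fin (m + 1)) (h : ¬ Function.Surjective σ) :
    (V Wd hZ b yd c1 c2).mapTop σ =
      eqToHom (V_top Wd hZ b yd c1 c2) ≫ b ≫ yd k σ h ≫
        eqToHom (Diag.top_eq (V_pull Wd hZ b yd c1 c2 σ h)).symm :=
  Vmap_pn Wd b yd c1 σ OrderHom.id Function.surjective_id h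

end Fill

section FillPts

variable (J : GrothendieckTopology D)

/-- every object is covered by objects of `B` -/
def CoveredBy (B : Set D) : Prop :=
  ∀ Y : D, ∃ S ∈ J Y, ∀ ⦃Y' : D⦄ (g : Y' ⟶ Y), S g →
    ∃ (Z : D) (_ : Z ∈ B) (a : Y' ⟶ Z) (b : Z ⟶ Y), a ≫ b = g

lemma not_epi_mk {k m : ℕ} {σ : Fin (k + 1) →o Fin (m + 1)} (h : ¬ Function.Surjective σ) :
    ¬ Epi (SimplexCategory.mkHom σ) := by
  rw [SimplexCategory.epi_iff_surjective]
  exact h

variable {J}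

/-- **Filling of boundaries** in the hypercovering of all diagrams: a compatible family of points
indexed by the non-surjective `α : a ⟶ [m]` is, locally, the boundary of a point of `KD B` in
degree `m`. -/
theorem fill (hB : CoveredBy J B) (m : ℕ) (Y : D)
    (y : ∀ (a : SimplexCategory) (α : a ⟶ ⦋m⦌), ¬ Epi α →
      ((FormalCoproduct.incl D).obj Y ⟶ (KD B).obj (op a)))
    (hy : ∀ (a b : SimplexCategory) (θ : b ⟶ a) (α : a ⟶ ⦋m⦌) (h : ¬ Epi α) (h' : ¬ Epi (θ ≫ α)),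
      y b (θ ≫ α) h' = y a α h ≫ (KD B).map θ.op) :
    ∃ S ∈ J Y, ∀ ⦃Y' : D⦄ (g : Y' ⟶ Y), S g →
      ∃ t : (FormalCoproduct.incl D).obj Y' ⟶ (KD B).obj (op ⦋m⦌),
        ∀ (a : SimplexCategory) (α : a ⟶ ⦋m⦌) (h : ¬ Epi α),
          t ≫ (KD B).map α.op = (FormalCoproduct.incl D).map g ≫ y a α h := by
  obtain ⟨S, hS, H⟩ := hB Y
  refine ⟨S, hS, fun Y' g hg => ?_⟩
  obtain ⟨Z, hZ, a', b', hab⟩ := H g hg
  let Wd : ∀ (k : ℕ) (σ : Fin (k + 1) →o Fin (m + 1)), ¬ Function.Surjective σ → Diag B k :=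
    fun k σ h => (y ⦋k⦌ (SimplexCategory.mkHom σ) (not_epi_mk h)).f PUnit.unit
  let yd : ∀ (k : ℕ) (σ : Fin (k + 1) →o Fin (m + 1)) (h : ¬ Function.Surjective σ),
      Y ⟶ (Wd k σ h).top :=
    fun k σ h => (y ⦋k⦌ (SimplexCategory.mkHom σ) (not_epi_mk h)).φ PUnit.unit
  have c12 : ∀ (k l : ℕ) (θ : Fin (l + 1) →o Fin (k + 1)) (σ : Fin (k + 1) →o Fin (m + 1))
      (h : ¬ Function.Surjective σ) (h' : ¬ Function.Surjective (σ.comp θ)),
      ∃ e : Wd l (σ.comp θ) h' = (Wd k σ h).pull θ,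
        yd l (σ.comp θ) h' ≫ eqToHom (Diag.top_eq e) = yd k σ h ≫ (Wd k σ h).mapTop θ := by
    intro k l θ σ h h'
    have e := hy ⦋k⦌ ⦋l⦌ (SimplexCategory.mkHom θ) (SimplexCategory.mkHom σ) (not_epi_mk h)
      (not_epi_mk h')
    exact pt_inj (e : pt (Wd l (σ.comp θ) h') (yd l (σ.comp θ) h') =
      pt ((Wd k σ h).pull θ) (yd k σ h ≫ (Wd k σ h).mapTop θ))
  have c1 := fun k l θ σ h h' => (c12 k l θ σ h h').fst
  have c2 := fun k l θ σ h h' => (c12 k l θ σ h h').snd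
  refine ⟨pt (V Wd hZ b' yd c1 c2) (a' ≫ eqToHom (V_top Wd hZ b' yd c1 c2).symm), ?_⟩
  intro a
  induction a using SimplexCategory.rec with | _ k => ?_
  intro α hα
  have h : ¬ Function.Surjective α.toOrderHom := by
    rw [SimplexCategory.epi_iff_surjective] at hα
    exact hα
  refine (pt_map _ _ _).trans ?_
  refine (pt_ext (V_pull Wd hZ b' yd c1 c2 α.toOrderHom h) ?_).trans
    (res_pt g (Wd k α.toOrderHom h) (yd k α.toOrderHom h)).symm
  have e3 := V_mapTop Wd hZ b' yd c1 c2 α.toOrderHom h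
  change (_ ≫ (V Wd hZ b' yd c1 c2).mapTop α.toOrderHom) ≫ _ = _
  rw [e3]
  simp only [Category.assoc, eqToHom_trans_assoc, eqToHom_refl, Category.id_comp,
    eqToHom_trans, Category.comp_id]
  rw [← hab, Category.assoc]

end FillPts

end Groth.Agent.Lib.Helper15.HyperDiag
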