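import Groth.Agent.Lib.Helper15.HyperDiag
import Groth.Agent.Lib.Helper15.HyperPullback
import Groth.Agent.Lib.Helper15.HyperYon2

/-!
# The hypercovering of all diagrams is a hypercovering (helper15)
-/

set_option autoImplicit false
set_option linter.unusedSectionVars false
universe u
open CategoryTheory CategoryTheory.Limits Opposite Simplicial

namespace Groth.Agent.Lib.Helper15.HyperDiagCov

open Groth.Agent.Lib.Helper15.HyperOver Groth.Agent.Lib.Helper15.HyperCoskPts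
  Groth.Agent.Lib.Helper15.HyperDiag

section Extend

variable {E : Type*} [Category E] (K : SimplicialObject E) (n : ℕ) {T : E}

lemma len_le_of_factor {a I : SimplexCategory} (α : a ⟶ ⦋n + 1⦌) (h : ¬ Epi α) (π : a ⟶ I)
    (ι : I ⟶ ⦋n + 1⦌) [Epi π] [Mono ι] (fac : π ≫ ι = α) : I.len ≤ n := by
  by_contra hlen
  have h1 : I.len ≤ n + 1 := SimplexCategory.len_le_of_mono ι
  have h2 : I = ⦋n + 1⦌ := SimplexCategory.ext (by simp; omega)
  subst h2
  have h3 : ι = 𝟙 _ := SimplexCategory.eq_id_of_mono ι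
  apply h
  rw [← fac, h3, Category.comp_id]
  infer_instance

lemma image_len_le {a : SimplexCategory} (α : a ⟶ ⦋n + 1⦌) (h : ¬ Epi α) :
    (image α).len ≤ n :=
  len_le_of_factor n α h (factorThruImage α) (image.ι α) (image.fac α)

variable (y : ∀ (a : SimplexCategory), a.len ≤ n → (a ⟶ ⦋n + 1⦌) → (T ⟶ K.obj (op a)))

/-- extension of a family indexed by the simplices of dimension `≤ n` of `Δ[n+1]` to all
non-surjective maps -/
noncomputable def ext (a : SimplexCategory) (α : a ⟶ ⦋n + 1⦌) (h : ¬ Epi α) :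
    T ⟶ K.obj (op a) :=
  y (image α) (image_len_le n α h) (image.ι α) ≫ K.map (factorThruImage α).op

variable (hy : ∀ (a b : SimplexCategory) (ha : a.len ≤ n) (hb : b.len ≤ n) (θ : b ⟶ a)
  (α : a ⟶ ⦋n + 1⦌), y b hb (θ ≫ α) = y a ha α ≫ K.map θ.op)

include hy in
lemma ext_comp (a b : SimplexCategory) (θ : b ⟶ a) (α : a ⟶ ⦋n + 1⦌) (h : ¬ Epi α)
    (h' : ¬ Epi (θ ≫ α)) : ext K n y b (θ ≫ α) h' = ext K n y a α h ≫ K.map θ.op := by
  let β : b ⟶ image α := θ ≫ factorThruImage α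
  let F : MonoFactorisation (θ ≫ α) :=
    { I := image β
      m := image.ι β ≫ image.ι α
      e := factorThruImage β
      fac := by rw [image.fac_assoc, Category.assoc, image.fac] }
  have e1 : image.lift F ≫ image.ι β ≫ image.ι α = image.ι (θ ≫ α) := image.lift_fac F
  have e2 : factorThruImage (θ ≫ α) ≫ image.lift F ≫ image.ι β = θ ≫ factorThruImage α := by
    rw [← cancel_mono (image.ι α)]
    simp only [Category.assoc]
    rw [e1, image.fac, image.fac]
  have e3 : y (image (θ ≫ α)) (image_len_le n (θ ≫ α) h') (image.ι (θ ≫ α)) =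
      y (image α) (image_len_le n α h) (image.ι α) ≫ K.map (image.lift F ≫ image.ι β).op := by
    rw [← hy, Category.assoc, e1]
  rw [ext, ext, e3, Category.assoc, Category.assoc, ← K.map_comp, ← K.map_comp, ← op_comp,
    ← op_comp, e2]

include hy in
lemma ext_eq (a : SimplexCategory) (ha : a.len ≤ n) (α : a ⟶ ⦋n + 1⦌) (h : ¬ Epi α) :
    ext K n y a α h = y a ha α := by
  rw [ext, ← hy, image.fac]

end Extend

section Cov

variable {D : Type u} [SmallCategory D] {B : Set D} {J : GrothendieckTopology D}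
  [∀ (n : ℕ) (F : (SimplexCategory.Truncated n)ᵒᵖ ⥤ FormalCoproduct.{u} D),
    (SimplexCategory.Truncated.inclusion n).op.HasRightKanExtension F]

theorem famFill_KD (hB : CoveredBy J B) (n : ℕ) : FamFill J (KD B) n ⦋n + 1⦌ := by
  intro Y y hy
  obtain ⟨S, hS, H⟩ := fill hB (n + 1) Y (ext (KD B) n y)
    (fun a b θ α h h' => ext_comp (KD B) n y hy a b θ α h h')
  refine ⟨S, hS, fun Y' g hg => ?_⟩
  obtain ⟨t, ht⟩ := H g hg
  refine ⟨t, fun a ha α => ?_⟩
  have hα : ¬ Epi α := fun _ => by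
    have := SimplexCategory.len_le_of_epi α
    simp at this
    omega
  rw [ht a α hα, ext_eq (KD B) n y hy a ha α hα]

omit [∀ (n : ℕ) (F : (SimplexCategory.Truncated n)ᵒᵖ ⥤ FormalCoproduct.{u} D),
    (SimplexCategory.Truncated.inclusion n).op.HasRightKanExtension F] in
lemma epi_to_zero {a : SimplexCategory} (α : a ⟶ ⦋0⦌) : Epi α := by
  rw [SimplexCategory.epi_iff_surjective]
  intro x
  exact ⟨0, @Subsingleton.elim (Fin 1) inferInstance _ _⟩

omit [∀ (n : ℕ) (F : (SimplexCategory.Truncated n)ᵒᵖ ⥤ FormalCoproduct.{u} D),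
    (SimplexCategory.Truncated.inclusion n).op.HasRightKanExtension F] in
theorem cov0_KD (hB : CoveredBy J B) : HyperH0.Cov0 (KD B) J := by
  intro Y
  obtain ⟨S, hS, H⟩ := fill hB 0 Y (fun a α h => absurd (epi_to_zero α) h)
    (fun a b θ α h h' => absurd (epi_to_zero α) h)
  refine ⟨S, hS, fun Y' g hg => ?_⟩
  obtain ⟨t, -⟩ := H g hg
  exact ⟨t⟩

omit [∀ (n : ℕ) (F : (SimplexCategory.Truncated n)ᵒᵖ ⥤ FormalCoproduct.{u} D),
    (SimplexCategory.Truncated.inclusion n).op.HasRightKanExtension F] in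
lemma const_of_not_epi {c : SimplexCategory} (α : c ⟶ ⦋1⦌) (hα : ¬ Epi α)
    (x : Fin (c.len + 1)) : α.toOrderHom x = α.toOrderHom 0 := by
  by_contra hne
  apply hα
  rw [SimplexCategory.epi_iff_surjective]
  intro z
  have key : ∀ p q r : Fin 2, p ≠ q → r = p ∨ r = q := by decide
  have h2 : z = α.toOrderHom x ∨ z = α.toOrderHom 0 :=
    key (α.toOrderHom x) (α.toOrderHom 0) z hne
  rcases h2 with h | h
  · exact ⟨x, h.symm⟩
  · exact ⟨0, h.symm⟩

omit [∀ (n : ℕ) (F : (SimplexCategory.Truncated n)ᵒᵖ ⥤ FormalCoproduct.{u} D),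
    (SimplexCategory.Truncated.inclusion n).op.HasRightKanExtension F] in
theorem cov1_KD (hB : CoveredBy J B) : HyperH0.Cov1 (KD B) J := by
  intro Y a b
  classical
  let y : ∀ (c : SimplexCategory) (α : c ⟶ ⦋1⦌), ¬ Epi α →
      ((FormalCoproduct.incl D).obj Y ⟶ (KD B).obj (op c)) :=
    fun c α _ => (if α.toOrderHom 0 = 0 then a else b) ≫ (KD B).map (c.const ⦋0⦌ 0).op
  obtain ⟨S, hS, H⟩ := fill hB 1 Y y (by
    intro c c' θ α h h'
    have e1 : (θ ≫ α).toOrderHom 0 = α.toOrderHom 0 := const_of_not_epi α h (θ.toOrderHom 0)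
    have e2 : θ ≫ c.const ⦋0⦌ 0 = c'.const ⦋0⦌ 0 := SimplexCategory.isTerminalZero.hom_ext _ _
    simp only [y]
    rw [e1, Category.assoc, ← (KD B).map_comp, ← op_comp, e2])
  refine ⟨S, hS, fun Y' g hg => ?_⟩
  obtain ⟨t, ht⟩ := H g hg
  have hδ : ∀ i : Fin 2, ¬ Epi (SimplexCategory.δ i : ⦋0⦌ ⟶ ⦋1⦌) := fun i _ => by
    have := SimplexCategory.len_le_of_epi (SimplexCategory.δ i : ⦋0⦌ ⟶ ⦋1⦌)
    simp at this
  have hid : (⦋0⦌ : SimplexCategory).const ⦋0⦌ 0 = 𝟙 _ := SimplexCategory.hom_zero_zero _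
  refine ⟨t, ?_, ?_⟩
  · refine (ht ⦋0⦌ (SimplexCategory.δ 1) (hδ 1)).trans ?_
    have e : (SimplexCategory.δ (1 : Fin 2)).toOrderHom 0 = 0 := rfl
    simp only [y]
    rw [if_pos e, hid, op_id, (KD B).map_id, Category.comp_id]
  · refine (ht ⦋0⦌ (SimplexCategory.δ 0) (hδ 0)).trans ?_
    have e : ¬ (SimplexCategory.δ (0 : Fin 2)).toOrderHom 0 = 0 := by
      have : (SimplexCategory.δ (0 : Fin 2)).toOrderHom 0 = 1 := rfl
      rw [this]; simp
    simp only [y]
    rw [if_neg e, hid, op_id, (KD B).map_id, Category.comp_id]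

theorem isHypercoveringSite_KD (hB : CoveredBy J B) : Hyper.IsHypercoveringSite J (KD B) :=
  ⟨HyperYon2.locSurj_terminal_of_cov0 J _ (cov0_KD hB),
    HyperYon2.locSurj_prod_of_cov1 J _ (cov1_KD hB),
    fun n _ => HyperYon2.locSurj_of_liftCov J _
      ((liftCov_unit_iff J (KD B) n ⦋n + 1⦌).2 (famFill_KD hB n))⟩

omit [∀ (n : ℕ) (F : (SimplexCategory.Truncated n)ᵒᵖ ⥤ FormalCoproduct.{u} D),
    (SimplexCategory.Truncated.inclusion n).op.HasRightKanExtension F] in
theorem coveredBy_of_families (J : GrothendieckTopology D) (B : Set D)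
    (h1 : ∀ U : D, ∃ (ι : Type u) (V : ι → D) (f : ∀ i, V i ⟶ U),
      Sieve.ofArrows V f ∈ J U ∧ ∀ i, V i ∈ B) : CoveredBy J B := by
  intro Y
  obtain ⟨ι, V, f, hcov, hV⟩ := h1 Y
  refine ⟨Sieve.ofArrows V f, hcov, fun Y' g hg => ?_⟩
  obtain ⟨i, a, ha⟩ := (Sieve.mem_ofArrows_iff _ _ _).1 hg
  exact ⟨V i, hV i, a, f i, ha.symm⟩

theorem exists_hypercoveringSite_in (J : GrothendieckTopology D) (B : Set D)
    (h1 : ∀ U : D, ∃ (ι : Type u) (V : ι → D) (f : ∀ i, V i ⟶ U),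
      Sieve.ofArrows V f ∈ J U ∧ ∀ i, V i ∈ B) :
    ∃ K : SimplicialObject (FormalCoproduct.{u} D), Hyper.IsHypercoveringSite J K ∧
      ∀ (n : ℕ) (i : (K.obj (op (SimplexCategory.mk n))).I),
        (K.obj (op (SimplexCategory.mk n))).obj i ∈ B :=
  ⟨KD B, isHypercoveringSite_KD (coveredBy_of_families J B h1), fun _ W => W.mem _ _⟩

end Cov

section Over

open Groth.Agent.Lib.Helper15.HyperPullback

variable {C : Type u} [SmallCategory C] [HasPullbacks C] (J : GrothendieckTopology C) (X : C)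
  [∀ (n : ℕ) (F : (SimplexCategory.Truncated n)ᵒᵖ ⥤ FormalCoproduct.{u} (Over X)),
    (SimplexCategory.Truncated.inclusion n).op.HasRightKanExtension F]

theorem isHypercovering_KD (B : Set (Over X)) (hB : CoveredBy (J.over X) B) :
    Hyper.IsHypercovering J X (KD B) := by
  rw [isHypercovering_iff]
  refine ⟨?_, fun n => famFill_KD hB n⟩
  have h0 := cov0_KD hB
  refine cover_of_points J X ((FormalCoproduct.incl (Over X)).obj (Over.mk (𝟙 X))) _ ?_
    (fun i => h0 _)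
  refine J.superset_covering ?_ (J.top_mem X)
  intro Y f _
  rw [Sieve.mem_ofArrows_iff]
  exact ⟨PUnit.unit, f, (Category.comp_id f).symm⟩

omit [HasPullbacks C] [∀ (n : ℕ) (F : (SimplexCategory.Truncated n)ᵒᵖ ⥤ FormalCoproduct.{u} (Over X)),
    (SimplexCategory.Truncated.inclusion n).op.HasRightKanExtension F] in
theorem coveredBy_over (B : Set C)
    (h1 : ∀ U : C, ∃ (ι : Type u) (V : ι → C) (f : ∀ i, V i ⟶ U),
      Sieve.ofArrows V f ∈ J U ∧ ∀ i, V i ∈ B) :
    CoveredBy (J.over X) ({U | U.left ∈ B} : Set (Over X)) := by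
  intro Y
  obtain ⟨ι, V, f, hcov, hV⟩ := h1 Y.left
  refine ⟨(Sieve.overEquiv Y).symm (Sieve.ofArrows V f), ?_, fun Y' g hg => ?_⟩
  · rw [GrothendieckTopology.mem_over_iff]
    have e : (Sieve.overEquiv Y) ((Sieve.overEquiv Y).symm (Sieve.ofArrows V f)) =
        Sieve.ofArrows V f := (Sieve.overEquiv Y).apply_symm_apply _
    exact e.symm ▸ hcov
  · rw [Sieve.overEquiv_symm_iff] at hg
    obtain ⟨i, a, ha⟩ := (Sieve.mem_ofArrows_iff _ _ _).1 hg
    refine ⟨Over.mk (f i ≫ Y.hom), hV i, Over.homMk a ?_, Over.homMk (f i) rfl, ?_⟩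
    · change a ≫ f i ≫ Y.hom = Y'.hom
      rw [← Category.assoc, ← ha, Over.w]
    · ext
      exact ha.symm

theorem exists_hypercovering_in (B : Set C)
    (h1 : ∀ U : C, ∃ (ι : Type u) (V : ι → C) (f : ∀ i, V i ⟶ U),
      Sieve.ofArrows V f ∈ J U ∧ ∀ i, V i ∈ B) :
    ∃ K : SimplicialObject (FormalCoproduct.{u} (Over X)), Hyper.IsHypercovering J X K ∧
      ∀ (n : ℕ) (i : (K.obj (op (SimplexCategory.mk n))).I),
        ((K.obj (op (SimplexCategory.mk n))).obj i).left ∈ B :=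
  ⟨KD ({U | U.left ∈ B} : Set (Over X)), isHypercovering_KD J X _ (coveredBy_over J X B h1),
    fun _ W => W.mem _ _⟩

end Over

end Groth.Agent.Lib.Helper15.HyperDiagCov
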