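import Groth.Agent.Lib.Helper15.HyperDiagCov

/-!
# Finite sub-hypercoverings of the hypercovering of all diagrams (helper15)

Explicit fillers, sub-simplicial objects of `KD B` and the universal object of a boundary index
datum (a finite multiequalizer).
-/

set_option autoImplicit false
set_option linter.unusedSectionVars false
universe u
open CategoryTheory CategoryTheory.Limits Opposite

namespace Groth.Agent.Lib.Helper15.HyperDiagFin

open Groth.Agent.Lib.Helper15.HyperCoskPts Groth.Agent.Lib.Helper15.HyperDiag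
  Groth.Agent.Lib.Helper15.HyperDiagCov

variable {D : Type u} [SmallCategory D] {B : Set D}

section Filler

open Simplicial

variable {m : ℕ} {Y : D}
  (y : ∀ (a : SimplexCategory) (α : a ⟶ ⦋m⦌), ¬ Epi α →
    ((FormalCoproduct.incl D).obj Y ⟶ (KD B).obj (op a)))
  (hy : ∀ (a b : SimplexCategory) (θ : b ⟶ a) (α : a ⟶ ⦋m⦌) (h : ¬ Epi α) (h' : ¬ Epi (θ ≫ α)),
    y b (θ ≫ α) h' = y a α h ≫ (KD B).map θ.op)

/-- the boundary diagrams of a family of points -/
def fWd (k : ℕ) (σ : Fin (k + 1) →o Fin (m + 1)) (h : ¬ Function.Surjective σ) : Diag B k :=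
  (y ⦋k⦌ (SimplexCategory.mkHom σ) (not_epi_mk h)).f PUnit.unit

/-- the boundary maps of a family of points -/
def fyd (k : ℕ) (σ : Fin (k + 1) →o Fin (m + 1)) (h : ¬ Function.Surjective σ) :
    Y ⟶ (fWd y k σ h).top :=
  (y ⦋k⦌ (SimplexCategory.mkHom σ) (not_epi_mk h)).φ PUnit.unit

include hy in
lemma fc12 (k l : ℕ) (θ : Fin (l + 1) →o Fin (k + 1)) (σ : Fin (k + 1) →o Fin (m + 1))
    (h : ¬ Function.Surjective σ) (h' : ¬ Function.Surjective (σ.comp θ)) :
    ∃ e : fWd y l (σ.comp θ) h' = (fWd y k σ h).pull θ,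
      fyd y l (σ.comp θ) h' ≫ eqToHom (Diag.top_eq e) = fyd y k σ h ≫ (fWd y k σ h).mapTop θ := by
  have e := hy ⦋k⦌ ⦋l⦌ (SimplexCategory.mkHom θ) (SimplexCategory.mkHom σ) (not_epi_mk h)
    (not_epi_mk h')
  exact pt_inj (e : pt (fWd y l (σ.comp θ) h') (fyd y l (σ.comp θ) h') =
    pt ((fWd y k σ h).pull θ) (fyd y k σ h ≫ (fWd y k σ h).mapTop θ))

variable {Z : D} (hZ : Z ∈ B) (b : Z ⟶ Y)

/-- the explicit filler of a boundary -/
noncomputable abbrev filler : Diag B m :=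
  V (fWd y) hZ b (fyd y) (fun k l θ σ h h' => (fc12 y hy k l θ σ h h').fst)
    (fun k l θ σ h h' => (fc12 y hy k l θ σ h h').snd)

lemma filler_top : (filler y hy hZ b).top = Z := V_top _ _ _ _ _ _

lemma filler_pull {k : ℕ} (σ : Fin (k + 1) →o Fin (m + 1)) (h : ¬ Function.Surjective σ) :
    (filler y hy hZ b).pull σ = fWd y k σ h := V_pull _ _ _ _ _ _ σ h

lemma filler_face {Y' : D} (a' : Y' ⟶ Z) (a : SimplexCategory) (α : a ⟶ ⦋m⦌) (hα : ¬ Epi α) :
    pt (filler y hy hZ b) (a' ≫ eqToHom (filler_top y hy hZ b).symm) ≫ (KD B).map α.op =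
      (FormalCoproduct.incl D).map (a' ≫ b) ≫ y a α hα := by
  induction a using SimplexCategory.rec with | _ k => ?_
  have h : ¬ Function.Surjective α.toOrderHom := by
    rw [SimplexCategory.epi_iff_surjective] at hα
    exact hα
  refine (pt_map _ _ _).trans ?_
  refine (pt_ext (filler_pull y hy hZ b α.toOrderHom h) ?_).trans
    (res_pt (a' ≫ b) (fWd y k α.toOrderHom h) (fyd y k α.toOrderHom h)).symm
  have e3 := V_mapTop (fWd y) hZ b (fyd y) (fun k l θ σ h h' => (fc12 y hy k l θ σ h h').fst)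
    (fun k l θ σ h h' => (fc12 y hy k l θ σ h h').snd) α.toOrderHom h
  change (_ ≫ (V (fWd y) hZ b (fyd y) (fun k l θ σ h h' => (fc12 y hy k l θ σ h h').fst)
    (fun k l θ σ h h' => (fc12 y hy k l θ σ h h').snd)).mapTop α.toOrderHom) ≫ _ = _
  rw [e3]
  simp only [Category.assoc, eqToHom_trans_assoc, eqToHom_refl, Category.id_comp,
    eqToHom_trans, Category.comp_id]

end Filler

section Sub

open Simplicial

variable (S : ∀ n : ℕ, Set (Diag B n))
  (hS : ∀ {m n : ℕ} (τ : Fin (m + 1) →o Fin (n + 1)) (W : Diag B n), W ∈ S n → W.pull τ ∈ S m)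

set_option backward.isDefEq.respectTransparency false in
/-- the sub-simplicial object of `KD B` on a family of diagrams closed under restriction -/
def KS : SimplicialObject (FormalCoproduct.{u} D) where
  obj a := ⟨{W : Diag B a.unop.len // W ∈ S a.unop.len}, fun W => W.1.top⟩
  map {a b} θ := ⟨fun W => ⟨W.1.pull θ.unop.toOrderHom, hS _ _ W.2⟩,
    fun W => W.1.mapTop θ.unop.toOrderHom⟩
  map_id a := by
    refine FormalCoproduct.hom_ext rfl (fun W => ?_)
    simp only [eqToHom_refl, Category.comp_id]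
    exact W.1.mapTop_id
  map_comp f g := by
    refine FormalCoproduct.hom_ext rfl (fun W => ?_)
    simp only [eqToHom_refl, Category.comp_id]
    exact W.1.mapTop_comp _ _

set_option backward.isDefEq.respectTransparency false in
/-- the inclusion into `KD B` -/
def incS : KS S hS ⟶ KD B where
  app a := ⟨fun W => W.1, fun W => 𝟙 _⟩
  naturality a b θ := by
    refine FormalCoproduct.hom_ext rfl (fun W => ?_)
    simp only [eqToHom_refl, Category.comp_id]
    exact (Category.comp_id (W.1.mapTop θ.unop.toOrderHom)).trans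
      (Category.id_comp (W.1.mapTop θ.unop.toOrderHom)).symm

/-- points of the sub-object -/
def ptS {a : SimplexCategory} {Y : D} (W : Diag B a.len) (hW : W ∈ S a.len) (y : Y ⟶ W.top) :
    (FormalCoproduct.incl D).obj Y ⟶ (KS S hS).obj (op a) :=
  FormalCoproduct.Hom.fromIncl (Y := (KS S hS).obj (op a)) ⟨W, hW⟩ y

set_option backward.isDefEq.respectTransparency false in
lemma ptS_incS {a : SimplexCategory} {Y : D} (W : Diag B a.len) (hW : W ∈ S a.len)
    (y : Y ⟶ W.top) : ptS S hS W hW y ≫ (incS S hS).app (op a) = pt W y := by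
  refine FormalCoproduct.hom_ext rfl (fun _ => ?_)
  simp only [eqToHom_refl, Category.comp_id]
  exact Category.comp_id _

set_option backward.isDefEq.respectTransparency false in
lemma incS_inj {a : SimplexCategory} {Y : D}
    {p q : (FormalCoproduct.incl D).obj Y ⟶ (KS S hS).obj (op a)}
    (h : p ≫ (incS S hS).app (op a) = q ≫ (incS S hS).app (op a)) : p = q := by
  obtain ⟨h1, h2⟩ := (FormalCoproduct.hom_ext_iff' _ _).1 h PUnit.unit
  refine (FormalCoproduct.hom_ext_iff' _ _).2 (fun x => ?_)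
  cases x
  have h1' : (p.f PUnit.unit).1 = (q.f PUnit.unit).1 := h1
  refine ⟨Subtype.ext h1', ?_⟩
  have h2' : (p.φ PUnit.unit ≫ 𝟙 _) ≫ eqToHom (congrArg Diag.top h1') = q.φ PUnit.unit ≫ 𝟙 _ := h2
  rw [Category.comp_id, Category.comp_id] at h2'
  exact h2'

lemma incS_index {a : SimplexCategory} {Y : D}
    (p : (FormalCoproduct.incl D).obj Y ⟶ (KS S hS).obj (op a)) :
    (p ≫ (incS S hS).app (op a)).f PUnit.unit ∈ S a.len := (p.f PUnit.unit).2

end Sub

section Univ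

open Simplicial

/-- the shape of the multiequalizer defining the universal object of a boundary index datum -/
def shp (n : ℕ) : MulticospanShape.{0, 0} where
  L := Σ k : Fin (n + 1), (⦋k.1⦌ ⟶ ⦋n + 1⦌)
  R := Σ (k : Fin (n + 1)) (l : Fin (n + 1)), (⦋l.1⦌ ⟶ ⦋k.1⦌) × (⦋k.1⦌ ⟶ ⦋n + 1⦌)
  fst r := ⟨r.1, r.2.2.2⟩
  snd r := ⟨r.2.1, r.2.2.1 ≫ r.2.2.2⟩

instance (n : ℕ) : Finite (shp n).L := by
  unfold shp
  infer_instance

instance (n : ℕ) : Finite (shp n).R := by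
  unfold shp
  infer_instance

noncomputable instance (n : ℕ) : FinCategory (WalkingMulticospan (shp n)) := by
  classical
  haveI : Fintype (shp n).L := Fintype.ofFinite _
  haveI : Fintype (shp n).R := Fintype.ofFinite _
  infer_instance

variable {n : ℕ}
  (β : ∀ (a : SimplexCategory), a.len ≤ n → (a ⟶ ⦋n + 1⦌) → Diag B a.len)
  (hβ : ∀ (a b : SimplexCategory) (ha : a.len ≤ n) (hb : b.len ≤ n) (θ : b ⟶ a)
    (α : a ⟶ ⦋n + 1⦌), β b hb (θ ≫ α) = (β a ha α).pull θ.toOrderHom)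

/-- the multicospan of a boundary index datum -/
def idx : MulticospanIndex (shp n) D where
  left p := (β ⦋p.1.1⦌ (Nat.lt_succ_iff.1 p.1.2) p.2).top
  right r := ((β ⦋r.1.1⦌ (Nat.lt_succ_iff.1 r.1.2) r.2.2.2).pull r.2.2.1.toOrderHom).top
  fst r := (β ⦋r.1.1⦌ (Nat.lt_succ_iff.1 r.1.2) r.2.2.2).mapTop r.2.2.1.toOrderHom
  snd r := eqToHom (Diag.top_eq (hβ ⦋r.1.1⦌ ⦋r.2.1.1⦌ (Nat.lt_succ_iff.1 r.1.2)
    (Nat.lt_succ_iff.1 r.2.1.2) r.2.2.1 r.2.2.2))

variable [HasFiniteLimits D]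

/-- the universal object of a boundary index datum -/
noncomputable def Zu : D := multiequalizer (idx β hβ)

/-- the universal family of points -/
noncomputable def yu (a : SimplexCategory) (ha : a.len ≤ n) (α : a ⟶ ⦋n + 1⦌) :
    (FormalCoproduct.incl D).obj (Zu β hβ) ⟶ (KD B).obj (op a) :=
  pt (β a ha α) (Multiequalizer.ι (idx β hβ) ⟨⟨a.len, Nat.lt_succ_iff.2 ha⟩, α⟩)

lemma yu_isFam : IsFam (KD B) n ⦋n + 1⦌ (yu β hβ) := by
  intro a b ha hb θ α
  refine (pt_ext (hβ a b ha hb θ α) ?_).trans (pt_map _ _ θ).symm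
  exact (Multiequalizer.condition (idx β hβ)
    ⟨⟨a.len, Nat.lt_succ_iff.2 ha⟩, ⟨b.len, Nat.lt_succ_iff.2 hb⟩, θ, α⟩).symm

end Univ

section UnivProp

open Simplicial

variable [HasFiniteLimits D] {n : ℕ} {T : D}
  (y : ∀ (a : SimplexCategory), a.len ≤ n → (a ⟶ ⦋n + 1⦌) →
    ((FormalCoproduct.incl D).obj T ⟶ (KD B).obj (op a)))
  (hy : IsFam (KD B) n ⦋n + 1⦌ y)

/-- the index datum of a family of points -/
def bidx (a : SimplexCategory) (ha : a.len ≤ n) (α : a ⟶ ⦋n + 1⦌) : Diag B a.len :=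
  (y a ha α).f PUnit.unit

include hy in
lemma bidx_compat12 (a b : SimplexCategory) (ha : a.len ≤ n) (hb : b.len ≤ n) (θ : b ⟶ a)
    (α : a ⟶ ⦋n + 1⦌) :
    ∃ e : bidx y b hb (θ ≫ α) = (bidx y a ha α).pull θ.toOrderHom,
      (y b hb (θ ≫ α)).φ PUnit.unit ≫ eqToHom (Diag.top_eq e) =
        (y a ha α).φ PUnit.unit ≫ (bidx y a ha α).mapTop θ.toOrderHom :=
  pt_inj (hy a b ha hb θ α : pt (bidx y b hb (θ ≫ α)) ((y b hb (θ ≫ α)).φ PUnit.unit) =
    pt ((bidx y a ha α).pull θ.toOrderHom)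
      ((y a ha α).φ PUnit.unit ≫ (bidx y a ha α).mapTop θ.toOrderHom))

include hy in
lemma bidx_compat (a b : SimplexCategory) (ha : a.len ≤ n) (hb : b.len ≤ n) (θ : b ⟶ a)
    (α : a ⟶ ⦋n + 1⦌) : bidx y b hb (θ ≫ α) = (bidx y a ha α).pull θ.toOrderHom :=
  (bidx_compat12 y hy a b ha hb θ α).fst

/-- the classifying map of a family of points -/
noncomputable def ulift : T ⟶ Zu (bidx y) (bidx_compat y hy) :=
  Multiequalizer.lift (idx (bidx y) (bidx_compat y hy)) T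
    (fun p => (y ⦋p.1.1⦌ (Nat.lt_succ_iff.1 p.1.2) p.2).φ PUnit.unit)
    (fun r => ((bidx_compat12 y hy ⦋r.1.1⦌ ⦋r.2.1.1⦌ (Nat.lt_succ_iff.1 r.1.2)
      (Nat.lt_succ_iff.1 r.2.1.2) r.2.2.1 r.2.2.2).snd).symm)

lemma ulift_yu (a : SimplexCategory) (ha : a.len ≤ n) (α : a ⟶ ⦋n + 1⦌) :
    (FormalCoproduct.incl D).map (ulift y hy) ≫ yu (bidx y) (bidx_compat y hy) a ha α =
      y a ha α := by
  refine (res_pt _ _ _).trans ?_
  rw [pt_eta (y a ha α)]
  refine pt_ext rfl ?_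
  refine (Category.comp_id _).trans ?_
  exact Multiequalizer.lift_ι (idx (bidx y) (bidx_compat y hy)) T _ _
    ⟨⟨a.len, Nat.lt_succ_iff.2 ha⟩, α⟩

end UnivProp

section Ind

open Simplicial

variable (J : GrothendieckTopology D)

/-- a finite covering by objects of `B` -/
structure FinCov (B : Set D) (Y : D) where
  /-- index type -/
  ι : Type u
  fin : Finite ι
  /-- the objects -/
  Z : ι → D
  hZ : ∀ j, Z j ∈ B
  /-- the maps -/
  b : ∀ j, Z j ⟶ Y
  cov : Sieve.ofArrows Z b ∈ J Y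

variable {J} [HasFiniteLimits D] (c : ∀ Y : D, FinCov J B Y)

/-- the generating diagrams in positive degrees -/
noncomputable def genDiag {n : ℕ}
    (β : ∀ (a : SimplexCategory), a.len ≤ n → (a ⟶ ⦋n + 1⦌) → Diag B a.len)
    (hβ : ∀ (a b : SimplexCategory) (ha : a.len ≤ n) (hb : b.len ≤ n) (θ : b ⟶ a)
      (α : a ⟶ ⦋n + 1⦌), β b hb (θ ≫ α) = (β a ha α).pull θ.toOrderHom)
    (j : (c (Zu β hβ)).ι) : Diag B (n + 1) :=
  filler (HyperDiagCov.ext (KD B) n (yu β hβ))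
    (fun a b θ α h h' => ext_comp (KD B) n (yu β hβ) (yu_isFam β hβ) a b θ α h h')
    ((c (Zu β hβ)).hZ j) ((c (Zu β hβ)).b j)

/-- the generating diagrams in degree `0` -/
noncomputable def zeroDiag (Z : D) (hZ : Z ∈ B) : Diag B 0 :=
  filler (m := 0) (Y := Z) (fun a α h => absurd (epi_to_zero α) h)
    (fun a b θ α h h' => absurd (epi_to_zero α) h) hZ (𝟙 Z)

end Ind

section IndS

variable {J : GrothendieckTopology D} [HasFiniteLimits D] (c : ∀ Y : D, FinCov J B Y)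

/-- the finite family of diagrams generated by chosen finite coverings -/
inductive InS {ι0 : Type u} (Z0 : ι0 → D) (hZ0 : ∀ j, Z0 j ∈ B) : ∀ m : ℕ, Diag B m → Prop
  | zero (j : ι0) : InS Z0 hZ0 0 (zeroDiag (Z0 j) (hZ0 j))
  | gen (n : ℕ)
      (β : ∀ (a : SimplexCategory), a.len ≤ n → (a ⟶ SimplexCategory.mk (n + 1)) → Diag B a.len)
      (hβ : ∀ (a b : SimplexCategory) (ha : a.len ≤ n) (hb : b.len ≤ n) (θ : b ⟶ a)
        (α : a ⟶ SimplexCategory.mk (n + 1)), β b hb (θ ≫ α) = (β a ha α).pull θ.toOrderHom)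
      (hS : ∀ (a : SimplexCategory) (ha : a.len ≤ n) (α : a ⟶ SimplexCategory.mk (n + 1)),
        InS Z0 hZ0 a.len (β a ha α))
      (j : (c (Zu β hβ)).ι) : InS Z0 hZ0 (n + 1) (genDiag c β hβ j)
  | degen {k m : ℕ} (σ : Fin (m + 1) →o Fin (k + 1)) (hk : k < m) (W : Diag B k)
      (hW : InS Z0 hZ0 k W) : InS Z0 hZ0 m (W.pull σ)

end IndS

section Closure

open Simplicial

variable {J : GrothendieckTopology D} [HasFiniteLimits D] (c : ∀ Y : D, FinCov J B Y)
  {ι0 : Type u} (Z0 : ι0 → D) (hZ0 : ∀ j, Z0 j ∈ B)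

lemma genDiag_pull {n : ℕ}
    (β : ∀ (a : SimplexCategory), a.len ≤ n → (a ⟶ ⦋n + 1⦌) → Diag B a.len)
    (hβ : ∀ (a b : SimplexCategory) (ha : a.len ≤ n) (hb : b.len ≤ n) (θ : b ⟶ a)
      (α : a ⟶ ⦋n + 1⦌), β b hb (θ ≫ α) = (β a ha α).pull θ.toOrderHom)
    (j : (c (Zu β hβ)).ι) {k : ℕ} (τ : Fin (k + 1) →o Fin (n + 1 + 1))
    (h : ¬ Function.Surjective τ) :
    (genDiag c β hβ j).pull τ =
      (β (image (SimplexCategory.mkHom τ)) (image_len_le n _ (not_epi_mk h))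
        (image.ι (SimplexCategory.mkHom τ))).pull
          (factorThruImage (SimplexCategory.mkHom τ)).toOrderHom :=
  filler_pull (HyperDiagCov.ext (KD B) n (yu β hβ))
    (fun a b θ α h h' => ext_comp (KD B) n (yu β hβ) (yu_isFam β hβ) a b θ α h h')
    ((c (Zu β hβ)).hZ j) ((c (Zu β hβ)).b j) τ h

lemma genDiag_top {n : ℕ}
    (β : ∀ (a : SimplexCategory), a.len ≤ n → (a ⟶ ⦋n + 1⦌) → Diag B a.len)
    (hβ : ∀ (a b : SimplexCategory) (ha : a.len ≤ n) (hb : b.len ≤ n) (θ : b ⟶ a)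
      (α : a ⟶ ⦋n + 1⦌), β b hb (θ ≫ α) = (β a ha α).pull θ.toOrderHom)
    (j : (c (Zu β hβ)).ι) : (genDiag c β hβ j).top = (c (Zu β hβ)).Z j :=
  filler_top (HyperDiagCov.ext (KD B) n (yu β hβ))
    (fun a b θ α h h' => ext_comp (KD B) n (yu β hβ) (yu_isFam β hβ) a b θ α h h')
    ((c (Zu β hβ)).hZ j) ((c (Zu β hβ)).b j)

lemma genDiag_face {n : ℕ}
    (β : ∀ (a : SimplexCategory), a.len ≤ n → (a ⟶ ⦋n + 1⦌) → Diag B a.len)
    (hβ : ∀ (a b : SimplexCategory) (ha : a.len ≤ n) (hb : b.len ≤ n) (θ : b ⟶ a)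
      (α : a ⟶ ⦋n + 1⦌), β b hb (θ ≫ α) = (β a ha α).pull θ.toOrderHom)
    (j : (c (Zu β hβ)).ι) {Y' : D} (a' : Y' ⟶ (c (Zu β hβ)).Z j)
    (a : SimplexCategory) (ha : a.len ≤ n) (α : a ⟶ ⦋n + 1⦌) :
    pt (a := ⦋n + 1⦌) (genDiag c β hβ j) (a' ≫ eqToHom (genDiag_top c β hβ j).symm) ≫
        (KD B).map α.op =
      (FormalCoproduct.incl D).map (a' ≫ (c (Zu β hβ)).b j) ≫ yu β hβ a ha α := by
  have hα : ¬ Epi α := fun _ => by
    have := SimplexCategory.len_le_of_epi α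
    simp at this
    omega
  refine (filler_face (HyperDiagCov.ext (KD B) n (yu β hβ))
    (fun a b θ α h h' => ext_comp (KD B) n (yu β hβ) (yu_isFam β hβ) a b θ α h h')
    ((c (Zu β hβ)).hZ j) ((c (Zu β hβ)).b j) a' a α hα).trans ?_
  rw [ext_eq (KD B) n _ (yu_isFam β hβ) a ha α hα]

lemma orderHom_eq_id_of_surjective {k : ℕ} (τ : Fin (k + 1) →o Fin (k + 1))
    (h : Function.Surjective τ) : τ = OrderHom.id :=
  OrderHom.eq_id_of_injective τ (Finite.injective_iff_surjective.2 h)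

theorem InS.pull_mem {m : ℕ} {W : Diag B m} (hW : InS c Z0 hZ0 m W) :
    ∀ (k : ℕ) (τ : Fin (k + 1) →o Fin (m + 1)), InS c Z0 hZ0 k (W.pull τ) := by
  induction hW with
  | zero j =>
    intro k τ
    rcases Nat.eq_zero_or_pos k with rfl | hk
    · have : τ = OrderHom.id := by
        ext x
        exact congrArg Fin.val (Subsingleton.elim (α := Fin 1) _ _)
      rw [this]
      exact InS.zero j
    · exact InS.degen τ hk _ (InS.zero j)
  | gen n β hβ hS j ih =>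
    intro k τ
    by_cases hk : n + 1 < k
    · exact InS.degen τ hk _ (InS.gen n β hβ hS j)
    · by_cases hτ : Function.Surjective τ
      · have hk' : k = n + 1 := by
          have := Fintype.card_le_of_surjective τ hτ
          simp at this
          omega
        subst hk'
        rw [orderHom_eq_id_of_surjective τ hτ]
        exact InS.gen n β hβ hS j
      · rw [genDiag_pull c β hβ j τ hτ]
        exact ih _ _ _ _ _
  | degen σ hk W hW ih =>
    intro k τ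
    exact ih k (σ.comp τ)

end Closure

section Finiteness

open Simplicial

variable {J : GrothendieckTopology D} [HasFiniteLimits D] (c : ∀ Y : D, FinCov J B Y)
  {ι0 : Type u} (Z0 : ι0 → D) (hZ0 : ∀ j, Z0 j ∈ B)

/-- boundary index data with values in the generated family -/
def BdS (n : ℕ) : Type u :=
  {β : ∀ (a : SimplexCategory), a.len ≤ n → (a ⟶ ⦋n + 1⦌) → Diag B a.len //
    (∀ (a b : SimplexCategory) (ha : a.len ≤ n) (hb : b.len ≤ n) (θ : b ⟶ a)
      (α : a ⟶ ⦋n + 1⦌), β b hb (θ ≫ α) = (β a ha α).pull θ.toOrderHom) ∧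
    ∀ (a : SimplexCategory) (ha : a.len ≤ n) (α : a ⟶ ⦋n + 1⦌), InS c Z0 hZ0 a.len (β a ha α)}

lemma finite_BdS (n : ℕ)
    (ih : ∀ k, k < n + 1 → Set.Finite (setOf (InS c Z0 hZ0 k))) :
    Finite (BdS c Z0 hZ0 n) := by
  haveI : ∀ k : Fin (n + 1), Finite ↥(setOf (InS c Z0 hZ0 k.1)) :=
    fun k => (ih k.1 k.2).to_subtype
  let f : BdS c Z0 hZ0 n → ∀ (k : Fin (n + 1)) (_ : ⦋k.1⦌ ⟶ ⦋n + 1⦌),
      ↥(setOf (InS c Z0 hZ0 k.1)) :=
    fun β k α => ⟨β.1 ⦋k.1⦌ (Nat.lt_succ_iff.1 k.2) α,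
      β.2.2 ⦋k.1⦌ (Nat.lt_succ_iff.1 k.2) α⟩
  refine Finite.of_injective f ?_
  intro β β' h
  refine Subtype.ext ?_
  funext a ha α
  have := congrArg Subtype.val (congrFun (congrFun h ⟨a.len, Nat.lt_succ_iff.2 ha⟩) α)
  exact this

theorem finite_InS [Finite ι0] (m : ℕ) : Set.Finite (setOf (InS c Z0 hZ0 m)) := by
  induction m using Nat.strong_induction_on with | _ m ih => ?_
  rcases m with _ | n
  · refine (Set.finite_range (fun j : ι0 => zeroDiag (Z0 j) (hZ0 j))).subset ?_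
    intro W hW
    cases hW with
    | zero j => exact ⟨j, rfl⟩
    | degen σ hk W' hW' => exact absurd hk (Nat.not_lt_zero _)
  · haveI := finite_BdS c Z0 hZ0 n ih
    haveI : ∀ β : BdS c Z0 hZ0 n, Finite (c (Zu β.1 β.2.1)).ι := fun β => (c _).fin
    haveI : ∀ k : Fin (n + 1), Finite (Fin (n + 1 + 1) →o Fin (k.1 + 1)) :=
      fun k => DFunLike.finite _
    have hA := Set.finite_range
      (fun p : Σ β : BdS c Z0 hZ0 n, (c (Zu β.1 β.2.1)).ι => genDiag c p.1.1 p.1.2.1 p.2)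
    have hB : Set.Finite (⋃ (k : Fin (n + 1)), ⋃ (σ : Fin (n + 1 + 1) →o Fin (k.1 + 1)),
        (Diag.pull σ) '' (setOf (InS c Z0 hZ0 k.1))) :=
      Set.finite_iUnion fun k => Set.finite_iUnion fun σ => (ih k.1 k.2).image _
    refine (hA.union hB).subset ?_
    intro W hW
    cases hW with
    | gen _ β hβ hS j => exact Or.inl ⟨⟨⟨β, hβ, hS⟩, j⟩, rfl⟩
    | degen σ hk W' hW' =>
      refine Or.inr ?_
      simp only [Set.mem_iUnion]
      exact ⟨⟨_, hk⟩, σ, W', hW', rfl⟩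

end Finiteness

section FillKF

open Simplicial

variable {J : GrothendieckTopology D} [HasFiniteLimits D] (c : ∀ Y : D, FinCov J B Y)
  {ι0 : Type u} (Z0 : ι0 → D) (hZ0 : ∀ j, Z0 j ∈ B)

/-- the generated family of diagrams -/
def SF (n : ℕ) : Set (Diag B n) := setOf (InS c Z0 hZ0 n)

lemma SF_pull {m n : ℕ} (τ : Fin (m + 1) →o Fin (n + 1)) (W : Diag B n)
    (hW : W ∈ SF c Z0 hZ0 n) : W.pull τ ∈ SF c Z0 hZ0 m :=
  Set.mem_setOf.2 (InS.pull_mem c Z0 hZ0 (Set.mem_setOf.1 hW) _ τ)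

/-- the finite sub-hypercovering generated by the chosen finite coverings -/
noncomputable def KF : SimplicialObject (FormalCoproduct.{u} D) :=
  KS (SF c Z0 hZ0) (SF_pull c Z0 hZ0)

/-- the inclusion of `KF` into `KD B` -/
noncomputable def incF : KF c Z0 hZ0 ⟶ KD B := incS (SF c Z0 hZ0) (SF_pull c Z0 hZ0)

/-- points of `KF` -/
noncomputable def ptF {a : SimplexCategory} {Y : D} (W : Diag B a.len)
    (hW : InS c Z0 hZ0 a.len W) (y : Y ⟶ W.top) :
    (FormalCoproduct.incl D).obj Y ⟶ (KF c Z0 hZ0).obj (op a) :=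
  ptS (SF c Z0 hZ0) (SF_pull c Z0 hZ0) W (Set.mem_setOf.2 hW) y

lemma ptF_incF {a : SimplexCategory} {Y : D} (W : Diag B a.len)
    (hW : InS c Z0 hZ0 a.len W) (y : Y ⟶ W.top) :
    ptF c Z0 hZ0 W hW y ≫ (incF c Z0 hZ0).app (op a) = pt W y :=
  ptS_incS _ _ W _ y

lemma incF_inj {a : SimplexCategory} {Y : D}
    {p q : (FormalCoproduct.incl D).obj Y ⟶ (KF c Z0 hZ0).obj (op a)}
    (h : p ≫ (incF c Z0 hZ0).app (op a) = q ≫ (incF c Z0 hZ0).app (op a)) : p = q :=
  incS_inj _ _ h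

lemma incF_index {a : SimplexCategory} {Y : D}
    (p : (FormalCoproduct.incl D).obj Y ⟶ (KF c Z0 hZ0).obj (op a)) :
    InS c Z0 hZ0 a.len ((p ≫ (incF c Z0 hZ0).app (op a)).f PUnit.unit) :=
  Set.mem_setOf.1 (incS_index _ _ p)

theorem famFill_KF (n : ℕ) : FamFill J (KF c Z0 hZ0) n ⦋n + 1⦌ := by
  intro Y y hy
  -- the image family in `KD B`
  let y' : ∀ (a : SimplexCategory), a.len ≤ n → (a ⟶ ⦋n + 1⦌) →
      ((FormalCoproduct.incl D).obj Y ⟶ (KD B).obj (op a)) :=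
    fun a ha α => y a ha α ≫ (incF c Z0 hZ0).app (op a)
  have hy' : IsFam (KD B) n ⦋n + 1⦌ y' := by
    intro a b ha hb θ α
    change y b hb (θ ≫ α) ≫ (incF c Z0 hZ0).app (op b) =
      (y a ha α ≫ (incF c Z0 hZ0).app (op a)) ≫ (KD B).map θ.op
    rw [hy a b ha hb θ α, Category.assoc, Category.assoc, (incF c Z0 hZ0).naturality]
  have hβS : ∀ (a : SimplexCategory) (ha : a.len ≤ n) (α : a ⟶ ⦋n + 1⦌),
      InS c Z0 hZ0 a.len (bidx y' a ha α) := fun a ha α => incF_index c Z0 hZ0 (y a ha α)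
  let u : Y ⟶ Zu (bidx y') (bidx_compat y' hy') := ulift y' hy'
  have hu := ulift_yu y' hy'
  let cc := c (Zu (bidx y') (bidx_compat y' hy'))
  refine ⟨Sieve.pullback u (Sieve.ofArrows cc.Z cc.b), J.pullback_stable u cc.cov,
    fun Y' g hg => ?_⟩
  obtain ⟨j, a', ha'⟩ := (Sieve.mem_ofArrows_iff _ _ _).1 hg
  have hW : InS c Z0 hZ0 (n + 1) (genDiag c (bidx y') (bidx_compat y' hy') j) :=
    InS.gen n (bidx y') (bidx_compat y' hy') hβS j
  refine ⟨ptF c Z0 hZ0 (a := ⦋n + 1⦌) _ hW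
    (a' ≫ eqToHom (genDiag_top c (bidx y') (bidx_compat y' hy') j).symm), fun a ha α => ?_⟩
  apply incF_inj c Z0 hZ0
  calc (ptF c Z0 hZ0 (a := ⦋n + 1⦌) _ hW
          (a' ≫ eqToHom (genDiag_top c (bidx y') (bidx_compat y' hy') j).symm) ≫
          (KF c Z0 hZ0).map α.op) ≫ (incF c Z0 hZ0).app (op a)
      = (ptF c Z0 hZ0 (a := ⦋n + 1⦌) _ hW
          (a' ≫ eqToHom (genDiag_top c (bidx y') (bidx_compat y' hy') j).symm) ≫
          (incF c Z0 hZ0).app (op ⦋n + 1⦌)) ≫ (KD B).map α.op := by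
        rw [Category.assoc, Category.assoc, (incF c Z0 hZ0).naturality]
    _ = pt (a := ⦋n + 1⦌) (genDiag c (bidx y') (bidx_compat y' hy') j)
          (a' ≫ eqToHom (genDiag_top c (bidx y') (bidx_compat y' hy') j).symm) ≫
          (KD B).map α.op := by rw [ptF_incF]
    _ = (FormalCoproduct.incl D).map (a' ≫ cc.b j) ≫
          yu (bidx y') (bidx_compat y' hy') a ha α :=
        genDiag_face c (bidx y') (bidx_compat y' hy') j a' a ha α
    _ = (FormalCoproduct.incl D).map g ≫ ((FormalCoproduct.incl D).map u ≫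
          yu (bidx y') (bidx_compat y' hy') a ha α) := by
        rw [← ha', Functor.map_comp, Category.assoc]
    _ = (FormalCoproduct.incl D).map g ≫ y' a ha α := by rw [hu a ha α]
    _ = ((FormalCoproduct.incl D).map g ≫ y a ha α) ≫ (incF c Z0 hZ0).app (op a) :=
        (Category.assoc _ _ _).symm

end FillKF

section Over

open Simplicial Groth.Agent.Lib.Helper15.HyperPullback

variable {C : Type u} [SmallCategory C] [HasPullbacks C] (J : GrothendieckTopology C) (X : C)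

instance hasFiniteLimits_over : HasFiniteLimits (Over X) :=
  hasFiniteLimits_of_hasTerminal_and_pullbacks

lemma zeroDiag_top {D : Type u} [SmallCategory D] {B : Set D} (Z : D) (hZ : Z ∈ B) :
    (zeroDiag Z hZ).top = Z :=
  filler_top (m := 0) (Y := Z) (fun a α h => absurd (epi_to_zero α) h)
    (fun a b θ α h h' => absurd (epi_to_zero α) h) hZ (𝟙 Z)

/-- finite coverings in the class `B` induce finite coverings in `Over X` -/
theorem finCov_over (B : Set C)
    (h2 : ∀ X : C, ∃ (ι : Type u) (_ : Finite ι) (U : ι → C) (f : ∀ i, U i ⟶ X),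
      Sieve.ofArrows U f ∈ J X ∧ ∀ i, U i ∈ B) (Y : Over X) :
    Nonempty (FinCov (J.over X) ({U | U.left ∈ B} : Set (Over X)) Y) := by
  obtain ⟨ι, hfin, U, f, hcov, hU⟩ := h2 Y.left
  refine ⟨⟨ι, hfin, fun j => Over.mk (f j ≫ Y.hom), fun j => hU j,
    fun j => Over.homMk (f j) rfl, ?_⟩⟩
  rw [GrothendieckTopology.mem_over_iff]
  refine J.superset_covering ?_ hcov
  intro Z g hg
  obtain ⟨i, a, ha⟩ := (Sieve.mem_ofArrows_iff _ _ _).1 hg
  rw [Sieve.overEquiv_iff, Sieve.mem_ofArrows_iff]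
  refine ⟨i, Over.homMk a ?_, ?_⟩
  · change a ≫ f i ≫ Y.hom = g ≫ Y.hom
    rw [← Category.assoc, ← ha]
  · ext
    exact ha

variable [∀ (n : ℕ) (F : (SimplexCategory.Truncated n)ᵒᵖ ⥤ FormalCoproduct.{u} (Over X)),
    (SimplexCategory.Truncated.inclusion n).op.HasRightKanExtension F]

theorem exists_finite_hypercovering_in (B : Set C)
    (h2 : ∀ X : C, ∃ (ι : Type u) (_ : Finite ι) (U : ι → C) (f : ∀ i, U i ⟶ X),
      Sieve.ofArrows U f ∈ J X ∧ ∀ i, U i ∈ B) :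
    ∃ K : SimplicialObject (FormalCoproduct.{u} (Over X)), Hyper.IsHypercovering J X K ∧
      ∀ n : ℕ, Finite (K.obj (op (SimplexCategory.mk n))).I ∧
        ∀ i, ((K.obj (op (SimplexCategory.mk n))).obj i).left ∈ B := by
  let B' : Set (Over X) := ({U | U.left ∈ B} : Set (Over X))
  let c : ∀ Y : Over X, FinCov (J.over X) B' Y := fun Y => (finCov_over J X B h2 Y).some
  obtain ⟨ι0, hfin, U, f, hcov, hU⟩ := h2 X
  let Z0 : ι0 → Over X := fun j => Over.mk (f j)
  have hZ0 : ∀ j, Z0 j ∈ B' := fun j => hU j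
  refine ⟨KF c Z0 hZ0, ?_, fun n => ⟨?_, fun i => i.1.mem _ _⟩⟩
  · rw [isHypercovering_iff]
    refine ⟨?_, fun n => famFill_KF c Z0 hZ0 n⟩
    refine cover_of_points J X ⟨ι0, Z0⟩ _ hcov (fun j => ?_)
    refine ⟨⊤, (J.over X).top_mem _, fun Y' g _ => ?_⟩
    exact ⟨ptF c Z0 hZ0 (a := ⦋0⦌) (zeroDiag (Z0 j) (hZ0 j)) (InS.zero j)
      (g ≫ eqToHom (zeroDiag_top (Z0 j) (hZ0 j)).symm)⟩
  · exact (finite_InS c Z0 hZ0 n).to_subtype

end Over

end Groth.Agent.Lib.Helper15.HyperDiagFin
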