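import Mathlib

/-!
# Compatible families on the skeleton of a simplex: values on factorizations (helper15)

Let `W` be a simplicial object of a category `E`, `N` an object of the simplex category and
`y a ha β : Z ⟶ W_a` a compatible family indexed by `β : a ⟶ N` with `a.len ≤ j`.  For a
factorization `ε = α ≫ β` of a map `ε : c ⟶ N` through such an `a`, the composite
`y a ha β ≫ W(α) : Z ⟶ W_c` only depends on `ε` (`fval_indep`).
-/

set_option autoImplicit false
universe v u
open CategoryTheory CategoryTheory.Limits Opposite Simplicial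

namespace Groth.Agent.Lib.Helper15.HyperFactor

variable {E : Type u} [Category.{v} E] (W : SimplicialObject E) {Z : E} {N : SimplexCategory}
  {j : ℕ} (y : ∀ (a : SimplexCategory) (_ : a.len ≤ j) (_ : a ⟶ N), Z ⟶ W.obj (op a))

/-- compatibility of a family -/
def IsCompat : Prop :=
  ∀ (a b : SimplexCategory) (ha : a.len ≤ j) (hb : b.len ≤ j) (θ : b ⟶ a) (β : a ⟶ N),
    y b hb (θ ≫ β) = y a ha β ≫ W.map θ.op

/-- the value attached to a factorization -/
def fval {c a : SimplexCategory} (ha : a.len ≤ j) (α : c ⟶ a) (β : a ⟶ N) : Z ⟶ W.obj (op c) :=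
  y a ha β ≫ W.map α.op

variable {W y}

lemma image_len_le {c : SimplexCategory} (ε : c ⟶ N) {a : SimplexCategory} (ha : a.len ≤ j)
    (α : c ⟶ a) (β : a ⟶ N) (h : α ≫ β = ε) : (image ε).len ≤ j := by
  -- the image of `ε` is a quotient of the image of `α`
  have h1 : (image α).len ≤ a.len := SimplexCategory.len_le_of_mono (image.ι α)
  let β₁ : image α ⟶ N := image.ι α ≫ β
  have h2 : (image β₁).len ≤ (image α).len :=
    SimplexCategory.len_le_of_epi (factorThruImage β₁)
  have fac : (factorThruImage α ≫ factorThruImage β₁) ≫ image.ι β₁ = ε := by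
    rw [Category.assoc, image.fac, ← Category.assoc, image.fac, h]
  have h3 := SimplexCategory.image_eq fac
  rw [h3]
  omega

lemma fval_canon (hy : IsCompat W y) {c d : SimplexCategory} (ε : c ⟶ N) (hd : d.len ≤ j)
    (e : c ⟶ d) [Epi e] (i : d ⟶ N) [Mono i] (fac : e ≫ i = ε)
    (him : (image ε).len ≤ j) :
    fval W y hd e i = fval W y him (factorThruImage ε) (image.ι ε) := by
  obtain rfl := SimplexCategory.image_eq fac
  rw [SimplexCategory.image_ι_eq fac, SimplexCategory.factorThruImage_eq fac]

lemma fval_eq_canon (hy : IsCompat W y) {c a : SimplexCategory} (ha : a.len ≤ j) (α : c ⟶ a)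
    (β : a ⟶ N) (ε : c ⟶ N) (h : α ≫ β = ε) (him : (image ε).len ≤ j) :
    fval W y ha α β = fval W y him (factorThruImage ε) (image.ι ε) := by
  have h1 : (image α).len ≤ j :=
    (SimplexCategory.len_le_of_mono (image.ι α)).trans ha
  let β₁ : image α ⟶ N := image.ι α ≫ β
  have h2 : (image β₁).len ≤ j :=
    (SimplexCategory.len_le_of_epi (factorThruImage β₁)).trans h1
  have fac : (factorThruImage α ≫ factorThruImage β₁) ≫ image.ι β₁ = ε := by
    rw [Category.assoc, image.fac, ← Category.assoc, image.fac, h]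
  rw [← fval_canon hy ε h2 (factorThruImage α ≫ factorThruImage β₁) (image.ι β₁) fac him]
  -- reduce the left-hand side
  have e1 : y a ha β ≫ W.map (image.ι α).op = y _ h1 β₁ := (hy a _ ha h1 (image.ι α) β).symm
  have e2 : y _ h1 β₁ = y _ h2 (image.ι β₁) ≫ W.map (factorThruImage β₁).op := by
    have := hy _ _ h2 h1 (factorThruImage β₁) (image.ι β₁)
    rw [image.fac] at this
    exact this
  have e3 : W.map α.op = W.map (image.ι α).op ≫ W.map (factorThruImage α).op := by
    rw [← W.map_comp, ← op_comp, image.fac]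
  rw [fval, fval, e3, ← Category.assoc, e1, e2, Category.assoc, ← W.map_comp, ← op_comp]

/-- **independence of the factorization** -/
theorem fval_indep (hy : IsCompat W y) {c a a' : SimplexCategory} (ha : a.len ≤ j)
    (ha' : a'.len ≤ j) (α : c ⟶ a) (β : a ⟶ N) (α' : c ⟶ a') (β' : a' ⟶ N)
    (h : α ≫ β = α' ≫ β') : fval W y ha α β = fval W y ha' α' β' := by
  have him := image_len_le (α ≫ β) ha α β rfl
  rw [fval_eq_canon hy ha α β (α ≫ β) rfl him, fval_eq_canon hy ha' α' β' (α ≫ β) h.symm him]

end Groth.Agent.Lib.Helper15.HyperFactor
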