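import Groth.Agent.Lib.Helper15.HyperChase

/-!
# Degree-zero Čech cocycles of a sheaf are global sections (helper15)

Elementwise form of `HyperH0.h0_iso`.
-/

set_option autoImplicit false
universe u
open CategoryTheory CategoryTheory.Limits Opposite Simplicial

namespace Groth.Agent.Lib.Helper15.HyperH0b

open Groth.Agent.Lib.Helper15.HyperH0 Groth.Agent.Lib.Helper15.HyperChase

variable {D : Type u} [SmallCategory D] {P : Dᵒᵖ ⥤ AddCommGrpCat.{u}}
  {K : SimplicialObject (FormalCoproduct.{u} D)} {J : GrothendieckTopology D}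

lemma iota_d (c : Cone P) : iota c (K _⦋0⦌) ≫ (Cx P K).d 0 1 = 0 := by
  have hzero' : iota c (K _⦋0⦌) ≫ d01 P K = 0 := by
    rw [d01, Preadditive.comp_sub, iota_map, iota_map, sub_self]
  rw [d_zero_one]; exact hzero'

lemma iota_d_apply (c : Cone P) (y : c.pt) :
    ((Cx P K).d 0 1).hom ((iota c (K _⦋0⦌)).hom y) = 0 := by
  have := congrArg (fun φ => φ.hom y) (iota_d (K := K) c)
  exact this

/-- every degree-zero cocycle comes from the limit -/
theorem exists_iota_eq (hP : Presheaf.IsSheaf J P) (h0 : Cov0 K J) (h1 : Cov1 K J)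
    (c : Cone P) (hc : IsLimit c) (s : (E P).obj (op (K _⦋0⦌)))
    (hs0 : ((Cx P K).d 0 1).hom s = 0) : ∃ y : c.pt, (iota c (K _⦋0⦌)).hom y = s := by
  classical
  have hs : (E P).map (K.δ 0).op s = (E P).map (K.δ 1).op s := by
    have : ((Cx P K).d 0 1) s = 0 := hs0
    rw [d_zero_one] at this
    exact sub_eq_zero.1 ((d01_apply P K s).symm.trans this)
  have hσ := fun {Y : D} (a b : (FormalCoproduct.incl D).obj Y ⟶ K _⦋0⦌) =>
    sigma_eq hP h1 s hs a b
  -- local sections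
  have key : ∀ Y : D, ∃ t : P.obj (op Y), ∀ ⦃Y' : D⦄ (g : Y' ⟶ Y)
      (m : (FormalCoproduct.incl D).obj Y' ⟶ K _⦋0⦌), P.map g.op t = ev P m s := by
    intro Y
    obtain ⟨S, hS, H⟩ := h0 Y
    obtain ⟨t, ht⟩ := glue hP S hS (fun Y' g hg => ev P (H g hg).some s) (by
      intro Y' Y'' g h hg
      rw [ev_res_apply]
      exact hσ _ _)
    refine ⟨t, fun Y' g m => ?_⟩
    apply sep hP (S.pullback g) (J.pullback_stable g hS)
    intro Y'' h hh
    have h1' : P.map h.op (P.map g.op t) = P.map (h ≫ g).op t := by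
      rw [op_comp, P.map_comp]; rfl
    rw [h1', ht (h ≫ g) hh, ev_res_apply]
    exact hσ _ _
  choose t ht using key
  have hnat : ∀ ⦃Y Z : D⦄ (f : Z ⟶ Y), P.map f.op (t Y) = t Z := by
    intro Y Z f
    obtain ⟨S, hS, H⟩ := h0 Z
    apply sep hP S hS
    intro Z' g hg
    obtain ⟨m⟩ := H g hg
    have h1' : P.map g.op (P.map f.op (t Y)) = P.map (g ≫ f).op (t Y) := by
      rw [op_comp, P.map_comp]; rfl
    rw [h1', ht Y (g ≫ f) m, ht Z g m]
  let sec : (P ⋙ forget AddCommGrpCat.{u}).sections :=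
    ⟨fun Y => t Y.unop, fun {Y Z} f => hnat f.unop⟩
  let y : c.pt := (Types.isLimitEquivSections
    (isLimitOfPreserves (forget AddCommGrpCat.{u}) hc)).symm sec
  have hy : ∀ Y : D, c.π.app (op Y) y = t Y := fun Y =>
    Types.isLimitEquivSections_symm_apply
      (isLimitOfPreserves (forget AddCommGrpCat.{u}) hc) sec (op Y)
  refine ⟨y, ?_⟩
  apply E_ext
  intro i
  have e1 := iota_ev_apply c (FormalCoproduct.Hom.fromIncl i (𝟙 ((K _⦋0⦌).obj i))) y
  have e2 := ht ((K _⦋0⦌).obj i) (𝟙 _) (FormalCoproduct.Hom.fromIncl i (𝟙 ((K _⦋0⦌).obj i)))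
  have e3 : P.map (𝟙 ((K _⦋0⦌).obj i)).op (t ((K _⦋0⦌).obj i)) = t ((K _⦋0⦌).obj i) := by
    rw [op_id, P.map_id]; rfl
  have e4 : ev P (FormalCoproduct.Hom.fromIncl i (𝟙 ((K _⦋0⦌).obj i))) (iota c (K _⦋0⦌) y) =
      ev P (FormalCoproduct.Hom.fromIncl i (𝟙 ((K _⦋0⦌).obj i))) s := by
    rw [e1, hy, ← e3, e2]
  rw [ev_fromIncl_id] at e4
  exact e4

/-- compatibility of `iota` with a morphism of presheaves and a compatible map of cones -/
lemma Emap_iota {P' : Dᵒᵖ ⥤ AddCommGrpCat.{u}} (α : P ⟶ P') (c : Cone P) (c' : Cone P')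
    (a : c.pt ⟶ c'.pt) (ha : ∀ Y : D, a ≫ c'.π.app (op Y) = c.π.app (op Y) ≫ α.app (op Y))
    (T : FormalCoproduct.{u} D) (y : c.pt) :
    (Emap α T).hom ((iota c T).hom y) = (iota c' T).hom (a.hom y) := by
  apply E_ext
  intro i
  refine (Emap_π_apply α T i _).trans ?_
  have h1 : (Pi.π (fun i : T.I => P.obj (op (T.obj i))) i).hom ((iota c T).hom y) =
      (c.π.app (op (T.obj i))).hom y := by
    have : iota c T ≫ Pi.π (fun i : T.I => P.obj (op (T.obj i))) i = c.π.app (op (T.obj i)) :=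
      Pi.lift_π _ _
    exact congrArg (fun φ => φ.hom y) this
  have h2 : (Pi.π (fun i : T.I => P'.obj (op (T.obj i))) i).hom ((iota c' T).hom (a.hom y)) =
      (c'.π.app (op (T.obj i))).hom (a.hom y) := by
    have : iota c' T ≫ Pi.π (fun i : T.I => P'.obj (op (T.obj i))) i = c'.π.app (op (T.obj i)) :=
      Pi.lift_π _ _
    exact congrArg (fun φ => φ.hom (a.hom y)) this
  rw [h1]
  refine Eq.trans ?_ h2.symm
  exact (congrArg (fun φ => φ.hom y) (ha (T.obj i))).symm

end Groth.Agent.Lib.Helper15.HyperH0b
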