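import Groth.Agent.Lib.Helper15.HyperLocalKan

/-!
# Morphisms out of the free abelian (pre)sheaf on a formal coproduct (helper15)

For a formal coproduct `T` of objects of a small category `D` and a presheaf of abelian groups `P`,
morphisms `ℤ[F(T)] ⟶ P` are the same as families in `∏ᵢ P(Tᵢ)` (`evP`, bijective, additive, natural
in `T`).  For a sheaf `I` on a site `(D, J)` the same holds for morphisms `ℤ[F(T)]^# ⟶ I` (`evS`).
-/

set_option autoImplicit false
universe u
open CategoryTheory CategoryTheory.Limits Opposite Simplicial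

namespace Groth.Agent.Lib.Helper15.HyperHomEval

open Groth.Agent.Lib.Helper15.HyperH0 Groth.Agent.Lib.Helper15.HyperYon
  Groth.Agent.Lib.Helper15.HyperYon2 Groth.Agent.Lib.Helper15.HyperLocalKan

variable {D : Type u} [SmallCategory D]

/-- the free abelian presheaf on the coproduct of representables attached to a formal coproduct -/
noncomputable abbrev ZF : FormalCoproduct.{u} D ⥤ (Dᵒᵖ ⥤ AddCommGrpCat.{u}) :=
  FormalCoproduct.yoneda ⋙ (Functor.whiskeringRight _ _ _).obj AddCommGrpCat.free.{u}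

/-- the generator attached to a point -/
noncomputable def gen {T : FormalCoproduct.{u} D} {Y : D}
    (m : (FormalCoproduct.incl D).obj Y ⟶ T) : (ZF.obj T).obj (op Y) :=
  FreeAbelianGroup.of (elt m)

lemma gen_map {T T' : FormalCoproduct.{u} D} (f : T ⟶ T') {Y : D}
    (m : (FormalCoproduct.incl D).obj Y ⟶ T) :
    ((ZF.map f).app (op Y)).hom (gen m) = gen (m ≫ f) := by
  change FreeAbelianGroup.map _ (FreeAbelianGroup.of (elt m)) = _
  rw [FreeAbelianGroup.map_of_apply]
  exact congrArg FreeAbelianGroup.of (elt_map f m)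

lemma gen_res {T : FormalCoproduct.{u} D} {Y Y' : D} (g : Y' ⟶ Y)
    (m : (FormalCoproduct.incl D).obj Y ⟶ T) :
    ((ZF.obj T).map g.op).hom (gen m) = gen ((FormalCoproduct.incl D).map g ≫ m) := by
  change FreeAbelianGroup.map _ (FreeAbelianGroup.of (elt m)) = _
  rw [FreeAbelianGroup.map_of_apply]
  exact congrArg FreeAbelianGroup.of (elt_res g m)

lemma incl_map_fromIncl {T : FormalCoproduct.{u} D} {Y : D}
    (m : (FormalCoproduct.incl D).obj Y ⟶ T) :
    (FormalCoproduct.incl D).map (m.φ PUnit.unit) ≫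
      FormalCoproduct.Hom.fromIncl (m.f PUnit.unit) (𝟙 _) = m := by
  refine FormalCoproduct.hom_ext ?_ ?_
  · funext x
    rfl
  · intro x
    cases x
    change (m.φ PUnit.unit ≫ 𝟙 _) ≫ eqToHom _ = m.φ PUnit.unit
    simp

variable (P : Dᵒᵖ ⥤ AddCommGrpCat.{u})

lemma E_ext' {T : FormalCoproduct.{u} D} (s s' : (E P).obj (op T))
    (h : ∀ (Y : D) (m : (FormalCoproduct.incl D).obj Y ⟶ T), ev P m s = ev P m s') : s = s' := by
  apply E_ext
  intro i
  have := h _ (FormalCoproduct.Hom.fromIncl i (𝟙 (T.obj i)))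
  rw [ev_fromIncl_id] at this
  exact this

variable {P}

/-- the family attached to a morphism of presheaves `ℤ[F(T)] ⟶ P` -/
noncomputable def evP {T : FormalCoproduct.{u} D} (ψ : ZF.obj T ⟶ P) : (E P).obj (op T) :=
  (Concrete.productEquiv (fun i : T.I => P.obj (op (T.obj i)))).symm
    (fun i => (ψ.app (op (T.obj i))).hom (gen (FormalCoproduct.Hom.fromIncl i (𝟙 _))))

lemma hom_naturality_apply {A B : Dᵒᵖ ⥤ AddCommGrpCat.{u}} (ψ : A ⟶ B) {Y Y' : D} (g : Y' ⟶ Y)
    (x : A.obj (op Y)) :
    (B.map g.op).hom ((ψ.app (op Y)).hom x) = (ψ.app (op Y')).hom ((A.map g.op).hom x) := by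
  have := ψ.naturality g.op
  have h2 := congrArg (fun φ => φ.hom x) this
  exact h2.symm

lemma ev_evP {T : FormalCoproduct.{u} D} (ψ : ZF.obj T ⟶ P) {Y : D}
    (m : (FormalCoproduct.incl D).obj Y ⟶ T) :
    ev P m (evP ψ) = (ψ.app (op Y)).hom (gen m) := by
  have h1 : ev P m (evP ψ) = (P.map (m.φ PUnit.unit).op).hom
      ((Pi.π (fun i : T.I => P.obj (op (T.obj i))) (m.f PUnit.unit)) (evP ψ)) := rfl
  rw [h1, evP, Concrete.productEquiv_symm_apply_π, hom_naturality_apply, gen_res,
    incl_map_fromIncl]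
  rfl

lemma evP_add {T : FormalCoproduct.{u} D} (ψ ψ' : ZF.obj T ⟶ P) :
    evP (ψ + ψ') = evP ψ + evP ψ' := by
  apply E_ext'
  intro Y m
  rw [map_add, ev_evP, ev_evP, ev_evP]
  rfl

lemma evP_zsmul {T : FormalCoproduct.{u} D} (n : ℤ) (ψ : ZF.obj T ⟶ P) :
    evP (n • ψ) = n • evP ψ := by
  apply E_ext'
  intro Y m
  rw [map_zsmul, ev_evP, ev_evP]
  rfl

lemma evP_map {T T' : FormalCoproduct.{u} D} (f : T ⟶ T') (ψ : ZF.obj T' ⟶ P) :
    evP (ZF.map f ≫ ψ) = (E P).map f.op (evP ψ) := by
  apply E_ext'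
  intro Y m
  rw [ev_evP, ev_comp_apply, ev_evP]
  change (ψ.app (op Y)).hom (((ZF.map f).app (op Y)).hom (gen m)) = _
  rw [gen_map]

lemma evP_injective {T : FormalCoproduct.{u} D} {ψ ψ' : ZF.obj T ⟶ P} (h : evP ψ = evP ψ') :
    ψ = ψ' := by
  ext Y : 2
  induction Y using Opposite.rec with
  | op Y =>
    apply AddCommGrpCat.hom_ext
    apply FreeAbelianGroup.lift_ext
    intro x
    have h1 := ev_evP ψ ((rho T).app (op Y) x)
    have h2 := ev_evP ψ' ((rho T).app (op Y) x)
    rw [h] at h1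
    have h3 := h1.symm.trans h2
    rw [gen, elt_rho] at h3
    exact h3

/-- the morphism of presheaves attached to a family -/
noncomputable def ofFam {T : FormalCoproduct.{u} D} (s : (E P).obj (op T)) : ZF.obj T ⟶ P where
  app Y := AddCommGrpCat.ofHom (FreeAbelianGroup.lift (fun x => ev P ((rho T).app Y x) s))
  naturality Y Y' g := by
    induction Y using Opposite.rec with
    | op Y =>
    induction Y' using Opposite.rec with
    | op Y' =>
    apply AddCommGrpCat.hom_ext
    apply FreeAbelianGroup.lift_ext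
    intro x
    change FreeAbelianGroup.lift _ (FreeAbelianGroup.map _ (FreeAbelianGroup.of x)) =
      (P.map g).hom (FreeAbelianGroup.lift _ (FreeAbelianGroup.of x))
    rw [FreeAbelianGroup.map_of_apply, FreeAbelianGroup.lift_apply_of, FreeAbelianGroup.lift_apply_of]
    have := ev_res_apply P g.unop ((rho T).app (op Y) x) s
    rw [← rho_res] at this
    exact this.symm

lemma evP_ofFam {T : FormalCoproduct.{u} D} (s : (E P).obj (op T)) : evP (ofFam s) = s := by
  apply E_ext'
  intro Y m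
  rw [ev_evP]
  change FreeAbelianGroup.lift _ (FreeAbelianGroup.of (elt m)) = _
  rw [FreeAbelianGroup.lift_apply_of, rho_elt]

end Groth.Agent.Lib.Helper15.HyperHomEval
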