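import Groth.Agent.Lib.Helper15.HyperRefine
import Groth.Agent.Lib.Helper15.HyperH0
import Groth.Prelude.Def_Hyper2

/-!
# Killing Čech classes of a presheaf with zero sheafification by refinement (helper15)
-/

set_option autoImplicit false
set_option linter.unusedSectionVars false
universe u
open CategoryTheory CategoryTheory.Limits Opposite Simplicial

namespace Groth.Agent.Lib.Helper15.HyperKill

open Groth.Agent.Lib.Helper15.HyperOver Groth.Agent.Lib.Helper15.HyperCoskPts
  Groth.Agent.Lib.Helper15.HyperH0 Groth.Agent.Lib.Helper15.HyperRefine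

section General

variable {D : Type u} [SmallCategory D] (P : Dᵒᵖ ⥤ AddCommGrpCat.{u}) {T : FormalCoproduct.{u} D}
  (c : (E P).obj (op T))

/-- the formal coproduct of all points of `T` at which the family `c` vanishes -/
abbrev ZK : FormalCoproduct.{u} D :=
  ⟨Σ Y : D, {m : (FormalCoproduct.incl D).obj Y ⟶ T // ev P m c = 0}, fun z => z.1⟩

/-- the map to `T` -/
def vK : ZK P c ⟶ T :=
  ⟨fun z => z.2.1.f PUnit.unit, fun z => z.2.1.φ PUnit.unit⟩

lemma fromIncl_vK {Y : D} (m : (FormalCoproduct.incl D).obj Y ⟶ T) (hm : ev P m c = 0) :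
    FormalCoproduct.Hom.fromIncl (Y := ZK P c) ⟨Y, m, hm⟩ (𝟙 Y) ≫ vK P c = m := by
  refine FormalCoproduct.hom_ext ?_ ?_
  · funext x
    rfl
  · intro x
    cases x
    change (𝟙 Y ≫ m.φ PUnit.unit) ≫ eqToHom _ = _
    simp

/-- a presheaf of abelian groups is locally zero -/
def LocZero (J : GrothendieckTopology D) : Prop :=
  ∀ (Y : D) (s : P.obj (op Y)), ∃ S ∈ J Y, ∀ ⦃Y' : D⦄ (g : Y' ⟶ Y), S g → P.map g.op s = 0

variable {P c} in
lemma liftCov_vK (J : GrothendieckTopology D) (hP : LocZero P J) :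
    LiftCov J (vK P c) := by
  intro Y b
  obtain ⟨S, hS, H⟩ := hP Y (ev P b c)
  refine ⟨S, hS, fun Y' g hg => ?_⟩
  have h0 : ev P ((FormalCoproduct.incl D).map g ≫ b) c = 0 := by
    rw [← ev_res_apply]; exact H g hg
  exact ⟨FormalCoproduct.Hom.fromIncl (Y := ZK P c) ⟨Y', _, h0⟩ (𝟙 Y'), fromIncl_vK P c _ h0⟩

lemma map_vK : (E P).map (vK P c).op c = 0 := by
  apply E_ext
  intro z
  obtain ⟨Y, m, hm⟩ := z
  have e := ev_comp_apply P (FormalCoproduct.Hom.fromIncl (Y := ZK P c) ⟨Y, m, hm⟩ (𝟙 Y))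
    (vK P c) c
  rw [fromIncl_vK, hm, ev_fromIncl_id] at e
  exact e.trans (map_zero _).symm

end General

section Over

variable {C : Type u} [SmallCategory C] (J : GrothendieckTopology C)

lemma locZero_of_isZero (N : Cᵒᵖ ⥤ AddCommGrpCat.{u})
    (hN : IsZero ((presheafToSheaf J AddCommGrpCat.{u}).obj N)) : LocZero N J := by
  intro Y s
  have hz : IsZero (sheafify J N) :=
    (sheafToPresheaf J AddCommGrpCat.{u}).map_isZero hN
  have hz' : IsZero ((sheafify J N).obj (op Y)) :=
    ((evaluation _ AddCommGrpCat.{u}).obj (op Y)).map_isZero hz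
  have h0 : (toSheafify J N).app (op Y) s = (toSheafify J N).app (op Y) 0 := by
    have : Subsingleton ((sheafify J N).obj (op Y)) :=
      (AddCommGrpCat.isZero_iff_subsingleton.1 hz')
    exact Subsingleton.elim _ _
  refine ⟨_, Presheaf.equalizerSieve_mem J (toSheafify J N) s 0 h0, fun Y' g hg => ?_⟩
  exact hg.trans (map_zero _)

variable (X : C)

lemma locZero_over (N : Cᵒᵖ ⥤ AddCommGrpCat.{u})
    (hN : IsZero ((presheafToSheaf J AddCommGrpCat.{u}).obj N)) :
    LocZero ((Over.forget X).op ⋙ N) (J.over X) := by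
  intro Y s
  obtain ⟨S, hS, H⟩ := locZero_of_isZero J N hN Y.left s
  refine ⟨(Sieve.overEquiv Y).symm S, ?_, fun Y' g hg => ?_⟩
  · rw [GrothendieckTopology.mem_over_iff]
    have e : (Sieve.overEquiv Y) ((Sieve.overEquiv Y).symm S) = S :=
      (Sieve.overEquiv Y).apply_symm_apply S
    exact e.symm ▸ hS
  · rw [Sieve.overEquiv_symm_iff] at hg
    exact H g.left hg

variable [HasPullbacks C]
  [∀ (n : ℕ) (F : (SimplexCategory.Truncated n)ᵒᵖ ⥤ FormalCoproduct.{u} (Over X)),
    (SimplexCategory.Truncated.inclusion n).op.HasRightKanExtension F]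

lemma cechMap_f {K L : SimplicialObject (FormalCoproduct.{u} (Over X))} (f : L ⟶ K)
    (N : Cᵒᵖ ⥤ AddCommGrpCat.{u}) (p : ℕ) :
    (Hyper.cechMap X f N).f p = (E ((Over.forget X).op ⋙ N)).map (f.app (op ⦋p⦌)).op := rfl

theorem exists_killing_refinement
    (K : SimplicialObject (FormalCoproduct.{u} (Over X))) (hK : Hyper.IsHypercovering J X K)
    (N : Cᵒᵖ ⥤ AddCommGrpCat.{u}) (hN : IsZero ((presheafToSheaf J AddCommGrpCat.{u}).obj N))
    (p : ℕ) (ξ : Hyper.cechH X K N p) :
    ∃ (L : SimplicialObject (FormalCoproduct.{u} (Over X))) (f : L ⟶ K),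
      Hyper.IsHypercovering J X L ∧ Hyper.cechHMap X f N p ξ = 0 := by
  -- represent by a cocycle
  have hsurj : Function.Surjective ((Hyper.cechCx X K N).homologyπ p) :=
    (AddCommGrpCat.epi_iff_surjective _).1 inferInstance
  obtain ⟨z, rfl⟩ := hsurj ξ
  set c : (E ((Over.forget X).op ⋙ N)).obj (op (K _⦋p⦌)) := (Hyper.cechCx X K N).iCycles p z
    with hc
  obtain ⟨L, f, g₀, hL, hg₀⟩ := exists_refinement J X K hK p (ZK _ c) (vK _ c)
    (isSRCovering_of_liftCov _ (liftCov_vK (J.over X) (locZero_over J X N hN)))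
  refine ⟨L, f, hL, ?_⟩
  have h1 : (Hyper.cechMap X f N).f p c = 0 := by
    have e : (E ((Over.forget X).op ⋙ N)).map (g₀ ≫ vK _ c).op c = 0 := by
      have e' : (E ((Over.forget X).op ⋙ N)).map (g₀ ≫ vK _ c).op c =
          (E ((Over.forget X).op ⋙ N)).map g₀.op
            ((E ((Over.forget X).op ⋙ N)).map (vK _ c).op c) := by
        rw [op_comp, Functor.map_comp]; rfl
      rw [e', map_vK, map_zero]
    rw [hg₀] at e
    exact e
  have h2 : HomologicalComplex.cyclesMap (Hyper.cechMap X f N) p z = 0 := by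
    have hm : Function.Injective ((Hyper.cechCx X L N).iCycles p) :=
      (AddCommGrpCat.mono_iff_injective _).1 inferInstance
    apply hm
    rw [map_zero]
    have e := ConcreteCategory.congr_hom
      (HomologicalComplex.cyclesMap_i (Hyper.cechMap X f N) p) z
    exact e.trans h1
  have h3 := ConcreteCategory.congr_hom
    (HomologicalComplex.homologyπ_naturality (Hyper.cechMap X f N) p) z
  change (HomologicalComplex.homologyMap (Hyper.cechMap X f N) p)
    ((Hyper.cechCx X K N).homologyπ p z) = 0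
  refine h3.trans ?_
  change (Hyper.cechCx X L N).homologyπ p
    (HomologicalComplex.cyclesMap (Hyper.cechMap X f N) p z) = 0
  rw [h2, map_zero]

end Over

end Groth.Agent.Lib.Helper15.HyperKill
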