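import Groth.Agent.Lib.Helper15.HyperSphere

/-!
# Spheres and coskeleta in formal coproducts (helper15)

For a simplicial object `K` of `FormalCoproduct D` (with coskeleta) and a compatible family of faces
`x i : incl Y ⟶ K _⦋m+1⦌`, we construct a point `b` of `(cosk_{m+1} K) _⦋m+2⦌` such that every lift
of (a restriction of) `b` along the unit `K _⦋m+2⦌ ⟶ (cosk_{m+1} K) _⦋m+2⦌` has faces (the
restrictions of) `x i` (`exists_sphere_point`).  The construction uses the copower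
`Y ⊗ Δ[m+2]` in formal coproducts and the adjunction `truncation ⊣ cosk`.
-/

set_option autoImplicit false
universe u
open CategoryTheory CategoryTheory.Limits Opposite Simplicial

namespace Groth.Agent.Lib.Helper15.HyperSphere

variable {D : Type u} [SmallCategory D]

/-- the copower `Y ⊗ Δ[N]` as a simplicial object of formal coproducts -/
def cop (Y : D) (N : SimplexCategory) : SimplicialObject (FormalCoproduct.{u} D) where
  obj a := ⟨ULift.{u} (a.unop ⟶ N), fun _ => Y⟩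
  map θ := ⟨fun α => ⟨θ.unop ≫ α.down⟩, fun _ => 𝟙 Y⟩
  map_id a := by
    refine FormalCoproduct.hom_ext ?_ ?_
    · funext α
      simp
    · intro i
      simp
  map_comp θ θ' := by
    refine FormalCoproduct.hom_ext ?_ ?_
    · funext α
      simp
    · intro i
      simp

variable {Y : D} {N : SimplexCategory}

/-- the inclusion of the component indexed by `α` -/
def copι {a : SimplexCategory} (α : a ⟶ N) :
    (FormalCoproduct.incl D).obj Y ⟶ (cop Y N).obj (op a) :=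
  FormalCoproduct.Hom.fromIncl (Y := (cop Y N).obj (op a)) (ULift.up α) (𝟙 Y)

lemma copι_map {a b : SimplexCategory} (θ : b ⟶ a) (α : a ⟶ N) :
    copι (Y := Y) α ≫ (cop Y N).map θ.op = copι (θ ≫ α) := by
  refine FormalCoproduct.hom_ext ?_ ?_
  · funext _
    rfl
  · intro i
    simp [copι, cop]

/-- morphisms out of the copower -/
def copDesc {a : SimplexCategory} {T : FormalCoproduct.{u} D}
    (y : (a ⟶ N) → ((FormalCoproduct.incl D).obj Y ⟶ T)) : (cop Y N).obj (op a) ⟶ T :=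
  ⟨fun α => (y α.down).f PUnit.unit, fun α => (y α.down).φ PUnit.unit⟩

lemma copι_desc {a : SimplexCategory} {T : FormalCoproduct.{u} D}
    (y : (a ⟶ N) → ((FormalCoproduct.incl D).obj Y ⟶ T)) (α : a ⟶ N) :
    copι α ≫ copDesc y = y α := by
  refine FormalCoproduct.hom_ext ?_ ?_
  · funext _
    rfl
  · intro i
    cases i
    change (𝟙 Y ≫ (y α).φ PUnit.unit) ≫ eqToHom _ = (y α).φ PUnit.unit
    simp

lemma cop_hom_ext {a : SimplexCategory} {T : FormalCoproduct.{u} D}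
    {ψ₁ ψ₂ : (cop Y N).obj (op a) ⟶ T} (h : ∀ α : a ⟶ N, copι α ≫ ψ₁ = copι α ≫ ψ₂) :
    ψ₁ = ψ₂ := by
  rw [FormalCoproduct.hom_ext_iff']
  rintro ⟨α⟩
  obtain ⟨h1, h2⟩ := (FormalCoproduct.hom_ext_iff' _ _).1 (h α) PUnit.unit
  refine ⟨h1, ?_⟩
  have h3 : (𝟙 Y ≫ ψ₁.φ ⟨α⟩) ≫ eqToHom (by
      have : ψ₁.f ⟨α⟩ = ψ₂.f ⟨α⟩ := h1
      rw [this]) = 𝟙 Y ≫ ψ₂.φ ⟨α⟩ := h2
  rwa [Category.id_comp, Category.id_comp] at h3

/-- a natural transformation out of the truncated copower -/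
def truncHom (n : ℕ) (K : SimplicialObject (FormalCoproduct.{u} D))
    (y : ∀ (a : SimplexCategory) (_ : a.len ≤ n) (_ : a ⟶ N),
      (FormalCoproduct.incl D).obj Y ⟶ K.obj (op a))
    (hy : ∀ (a b : SimplexCategory) (ha : a.len ≤ n) (hb : b.len ≤ n) (θ : b ⟶ a) (α : a ⟶ N),
      y b hb (θ ≫ α) = y a ha α ≫ K.map θ.op) :
    (SimplicialObject.truncation n).obj (cop Y N) ⟶ (SimplicialObject.truncation n).obj K where
  app a := copDesc (y a.unop.obj a.unop.property)
  naturality a b θ := by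
    apply cop_hom_ext
    intro α
    have e1 : copι (θ.unop.hom ≫ α) ≫ copDesc (y b.unop.obj b.unop.property) =
        y b.unop.obj b.unop.property (θ.unop.hom ≫ α) := copι_desc _ _
    have e2 : copι α ≫ copDesc (y a.unop.obj a.unop.property) =
        y a.unop.obj a.unop.property α := copι_desc _ _
    have e3 : copι (Y := Y) α ≫ (cop Y N).map (θ.unop.hom).op = copι (θ.unop.hom ≫ α) :=
      copι_map _ _
    change copι α ≫ (cop Y N).map (θ.unop.hom).op ≫ copDesc (y b.unop.obj b.unop.property) =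
      copι α ≫ copDesc (y a.unop.obj a.unop.property) ≫ K.map (θ.unop.hom).op
    refine (Category.assoc _ _ _).symm.trans ?_
    refine (congrArg (· ≫ copDesc (y b.unop.obj b.unop.property)) e3).trans ?_
    refine e1.trans ?_
    refine (hy _ _ a.unop.property _ _ _).trans ?_
    exact (congrArg (· ≫ K.map (θ.unop.hom).op) e2.symm).trans (Category.assoc _ _ _)

section Main

variable (K : SimplicialObject (FormalCoproduct.{u} D))
  [∀ (n : ℕ) (F : (SimplexCategory.Truncated n)ᵒᵖ ⥤ FormalCoproduct.{u} D),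
    (SimplexCategory.Truncated.inclusion n).op.HasRightKanExtension F]
  {m : ℕ} (x : Fin (m + 3) → ((FormalCoproduct.incl D).obj Y ⟶ K _⦋m + 1⦌))

/-- **Sphere lemma**: a compatible family of faces defines a point of the coskeleton whose lifts
have the prescribed faces. -/
theorem exists_sphere_point (hx : Compat K x) :
    ∃ b : (FormalCoproduct.incl D).obj Y ⟶
        ((SimplicialObject.truncation (m + 1) ⋙ SimplicialObject.Truncated.cosk (m + 1)).obj K).obj
          (op ⦋m + 2⦌),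
      ∀ {Y' : D} (g : Y' ⟶ Y) (t : (FormalCoproduct.incl D).obj Y' ⟶ K _⦋m + 2⦌),
        t ≫ ((SimplicialObject.coskAdj (m + 1)).unit.app K).app (op ⦋m + 2⦌) =
          (FormalCoproduct.incl D).map g ≫ b →
        ∀ i : Fin (m + 3), t ≫ K.δ i = (FormalCoproduct.incl D).map g ≫ x i := by
  let adj := SimplicialObject.coskAdj (C := FormalCoproduct.{u} D) (m + 1)
  let LK := (SimplicialObject.truncation (m + 1)).obj K
  let G := cop Y ⦋m + 2⦌
  let φ : (SimplicialObject.truncation (m + 1)).obj G ⟶ LK :=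
    truncHom (m + 1) K (fun a ha α => fam K x ha α)
      (fun a b ha hb θ α => fam_comp hx ha hb θ α)
  let b' : G ⟶ (SimplicialObject.Truncated.cosk (m + 1)).obj LK := adj.homEquiv G LK φ
  let a₁ : SimplexCategory.Truncated (m + 1) := ⟨⦋m + 1⦌, le_rfl⟩
  refine ⟨copι (𝟙 ⦋m + 2⦌) ≫ b'.app (op ⦋m + 2⦌), fun {Y'} g t ht i => ?_⟩
  let CK : SimplicialObject (FormalCoproduct.{u} D) :=
    (SimplicialObject.Truncated.cosk (m + 1)).obj LK
  let u1 : K _⦋m + 1⦌ ⟶ CK _⦋m + 1⦌ := (adj.unit.app K).app (op ⦋m + 1⦌)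
  let u2 : K _⦋m + 2⦌ ⟶ CK _⦋m + 2⦌ := (adj.unit.app K).app (op ⦋m + 2⦌)
  let b1 : G _⦋m + 1⦌ ⟶ CK _⦋m + 1⦌ := b'.app (op ⦋m + 1⦌)
  let b2 : G _⦋m + 2⦌ ⟶ CK _⦋m + 2⦌ := b'.app (op ⦋m + 2⦌)
  let φ1 : G _⦋m + 1⦌ ⟶ K _⦋m + 1⦌ := φ.app (op a₁)
  obtain ⟨c, h5, h4⟩ : ∃ c : CK _⦋m + 1⦌ ⟶ K _⦋m + 1⦌, u1 ≫ c = 𝟙 _ ∧ b1 ≫ c = φ1 := by
    refine ⟨(adj.counit.app LK).app (op a₁), ?_, ?_⟩
    · -- (5) triangle identity
      exact congrArg (fun ψ => ψ.app (op a₁)) (adj.left_triangle_components K)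
    · -- (4) `b'` composed with the counit is `φ`
      have := congrArg (fun ψ => ψ.app (op a₁)) (adj.homEquiv_counit (g := b'))
      have e : (adj.homEquiv G LK).symm b' = φ := Equiv.symm_apply_apply _ _
      rw [e] at this
      exact this.symm
  -- (1) naturality of the unit
  have h1 : u2 ≫ CK.δ i = K.δ i ≫ u1 :=
    ((adj.unit.app K).naturality (SimplexCategory.δ i).op).symm
  -- (2) naturality of `b'`
  have h2 : b2 ≫ CK.δ i = G.δ i ≫ b1 :=
    (b'.naturality (SimplexCategory.δ i).op).symm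
  -- (6) the family on the faces
  have h6 : copι (SimplexCategory.δ i) ≫ φ1 = x i := by
    have : copι (SimplexCategory.δ i) ≫ φ1 = fam K x (a := ⦋m + 1⦌) le_rfl (SimplexCategory.δ i) :=
      copι_desc _ _
    rw [this]
    exact fam_δ hx i
  have h7 : copι (Y := Y) (𝟙 ⦋m + 2⦌) ≫ G.δ i = copι (SimplexCategory.δ i) := by
    have := copι_map (Y := Y) (SimplexCategory.δ i) (𝟙 ⦋m + 2⦌)
    rw [Category.comp_id] at this
    exact this
  have ht' : t ≫ u2 = (FormalCoproduct.incl D).map g ≫ copι (𝟙 ⦋m + 2⦌) ≫ b2 := ht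
  calc t ≫ K.δ i = t ≫ K.δ i ≫ (u1 ≫ c) := by rw [h5, Category.comp_id]
    _ = (t ≫ u2) ≫ CK.δ i ≫ c := by
        rw [Category.assoc, reassoc_of% h1]
    _ = (FormalCoproduct.incl D).map g ≫ copι (𝟙 ⦋m + 2⦌) ≫ (b2 ≫ CK.δ i) ≫ c := by
        rw [ht']; simp only [Category.assoc]
    _ = (FormalCoproduct.incl D).map g ≫ (copι (𝟙 ⦋m + 2⦌) ≫ G.δ i) ≫ (b1 ≫ c) := by
        rw [h2]; simp only [Category.assoc]
    _ = (FormalCoproduct.incl D).map g ≫ x i := by
        rw [h7, h4, h6]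

end Main

end Groth.Agent.Lib.Helper15.HyperSphere
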