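import Groth.Prelude.Def_Hyper
import Groth.Agent.Lib.Helper15.HyperCone
import Groth.Agent.Lib.Helper15.HyperYon2
import Groth.Agent.Lib.Helper15.HyperSphereCosk

/-!
# A hypercovering of the final object has local sphere filling (helper15)

For a simplicial object `K` of formal coproducts which is a hypercovering of the final object of the
topos (`Hyper.IsHypercoveringSite`), the simplicial presheaf of sets `F(K)` satisfies `LocalKan`.
-/

set_option autoImplicit false
universe u
open CategoryTheory CategoryTheory.Limits Opposite Simplicial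

namespace Groth.Agent.Lib.Helper15.HyperLocalKan

open Groth.Agent.Lib.Helper15.HyperCone Groth.Agent.Lib.Helper15.HyperYon
  Groth.Agent.Lib.Helper15.HyperYon2 Groth.Agent.Lib.Helper15.HyperSphere

variable {C : Type u} [SmallCategory C] (J : GrothendieckTopology C)
  (K : SimplicialObject (FormalCoproduct.{u} C))

/-- the simplicial presheaf of sets `F(K)` -/
noncomputable abbrev FK : SimplicialObject (Cᵒᵖ ⥤ Type u) := K ⋙ FormalCoproduct.yoneda

variable {K}

lemma face_eq {n : ℕ} {U : C} (i : Fin (n + 2)) (x : sx (FK K) (n + 1) U) :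
    face i x = (FormalCoproduct.yoneda.map (K.δ i)).app (op U) x := rfl

lemma res_eq {n : ℕ} {U V : C} (g : V ⟶ U) (x : sx (FK K) n U) :
    res g x = (FormalCoproduct.yoneda.obj (K _⦋n⦌)).map g.op x := rfl

lemma rho_face {n : ℕ} {U : C} (i : Fin (n + 2)) (x : sx (FK K) (n + 1) U) :
    (rho (K _⦋n⦌)).app (op U) (face i x) = (rho (K _⦋n + 1⦌)).app (op U) x ≫ K.δ i :=
  rho_nat_apply _ _

lemma eq_of_rho {T : FormalCoproduct.{u} C} {U : C}
    {x y : (FormalCoproduct.yoneda.obj T).obj (op U)}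
    (h : (rho T).app (op U) x = (rho T).app (op U) y) : x = y := by
  rw [← elt_rho x, ← elt_rho y, h]

lemma rho_res {T : FormalCoproduct.{u} C} {U V : C} (g : V ⟶ U)
    (x : (FormalCoproduct.yoneda.obj T).obj (op U)) :
    (rho T).app (op V) ((FormalCoproduct.yoneda.obj T).map g.op x) =
      (FormalCoproduct.incl C).map g ≫ (rho T).app (op U) x := by
  conv_lhs => rw [← elt_rho x, elt_res, rho_elt]

variable [∀ (n : ℕ) (F : (SimplexCategory.Truncated n)ᵒᵖ ⥤ FormalCoproduct.{u} C),
    (SimplexCategory.Truncated.inclusion n).op.HasRightKanExtension F]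

theorem localKan (hK : Hyper.IsHypercoveringSite J K) : LocalKan J (FK K) where
  vertex U := by
    let pt : (⊤_ (Cᵒᵖ ⥤ Type u)).obj (op U) := (terminal.from (yoneda.obj U)).app (op U) (𝟙 U)
    refine ⟨_, hK.1.imageSieve_mem pt, fun V g hg => ?_⟩
    obtain ⟨t, -⟩ := hg
    exact ⟨t⟩
  edge U a b := by
    let pair : ((FormalCoproduct.yoneda.obj (K _⦋0⦌)) ⨯ (FormalCoproduct.yoneda.obj (K _⦋0⦌))).obj
        (op U) := yonedaEquiv (prod.lift (yonedaEquiv.symm b) (yonedaEquiv.symm a))
    refine ⟨_, hK.2.1.imageSieve_mem pair, fun V g hg => ?_⟩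
    obtain ⟨t, ht⟩ := hg
    obtain ⟨h1, h2⟩ := prod_key _ _ g b a t ht
    exact ⟨t, h2, h1⟩
  fill n U x hx := by
    let xm : Fin (n + 3) → ((FormalCoproduct.incl C).obj U ⟶ K _⦋n + 1⦌) :=
      fun i => (rho (K _⦋n + 1⦌)).app (op U) (x i)
    have hxm : Compat K xm := by
      intro i j hij
      change (rho (K _⦋n + 1⦌)).app (op U) (x j.succ) ≫ K.δ i =
        (rho (K _⦋n + 1⦌)).app (op U) (x i.castSucc) ≫ K.δ j
      rw [← rho_face, ← rho_face, hx i j hij]
    obtain ⟨b, hb⟩ := exists_sphere_point K xm hxm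
    have hls := hK.2.2 (n + 1) (by omega)
    refine ⟨_, hls.imageSieve_mem (elt b), fun V g hg => ?_⟩
    obtain ⟨t, ht⟩ := hg
    refine ⟨t, fun i => ?_⟩
    have key := hb g ((rho (K _⦋n + 2⦌)).app (op V) t) (by
      rw [← rho_nat_apply, ht, rho_res, rho_elt]) i
    apply eq_of_rho
    rw [rho_face, key, res_eq, rho_res]

end Groth.Agent.Lib.Helper15.HyperLocalKan
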