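import Groth.Agent.Lib.Helper15.HyperDiagCov

/-!
# Local extension of compatible families on sieves of a simplex (helper15)

For a simplicial object `L` of formal coproducts with the local filling property of hypercoverings,
a compatible family of points of `L` indexed by a sieve of `⦋N⦌` extends, locally, to a point of
`L_N`.  Also: compatible families from pairwise compatible charts.
-/

set_option autoImplicit false
set_option linter.unusedSectionVars false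
universe u
open CategoryTheory CategoryTheory.Limits Opposite Simplicial

namespace Groth.Agent.Lib.Helper15.HyperSieveFill

open Groth.Agent.Lib.Helper15.HyperCoskPts Groth.Agent.Lib.Helper15.HyperPullback
  Groth.Agent.Lib.Helper15.HyperDiagCov

variable {D : Type u} [SmallCategory D] (J : GrothendieckTopology D)
  (L : SimplicialObject (FormalCoproduct.{u} D))

/-- compatible families of points of `L` indexed by a sieve of `⦋N⦌` -/
def IsSFam {N : ℕ} (S : Sieve (⦋N⦌ : SimplexCategory)) {T : D}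
    (x : ∀ (a : SimplexCategory) (τ : a ⟶ ⦋N⦌), S τ →
      ((FormalCoproduct.incl D).obj T ⟶ L.obj (op a))) : Prop :=
  ∀ (a b : SimplexCategory) (θ : b ⟶ a) (τ : a ⟶ ⦋N⦌) (h : S τ),
    x b (θ ≫ τ) (S.downward_closed h θ) = x a τ h ≫ L.map θ.op

variable {L}

lemma sfam_congr {N : ℕ} {S : Sieve (⦋N⦌ : SimplexCategory)} {T : D}
    (x : ∀ (a : SimplexCategory) (τ : a ⟶ ⦋N⦌), S τ →
      ((FormalCoproduct.incl D).obj T ⟶ L.obj (op a)))
    {a : SimplexCategory} {τ τ' : a ⟶ ⦋N⦌} (e : τ = τ') (h : S τ) (h' : S τ') :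
    x a τ h = x a τ' h' := by
  subst e
  rfl

section Atlas

variable {N : ℕ} {T : D} {ι : Type*} (c : ι → SimplexCategory) (ν : ∀ i, c i ⟶ ⦋N⦌)
  (z : ∀ i, (FormalCoproduct.incl D).obj T ⟶ L.obj (op (c i)))

/-- the sieve generated by a family of charts -/
def atlasSieve : Sieve (⦋N⦌ : SimplexCategory) where
  arrows a τ := ∃ (i : ι) (φ : a ⟶ c i), φ ≫ ν i = τ
  downward_closed := by
    rintro a b τ ⟨i, φ, rfl⟩ θ
    exact ⟨i, θ ≫ φ, Category.assoc _ _ _⟩

/-- the family of points defined by a family of charts -/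
noncomputable def atlasFam (a : SimplexCategory) (τ : a ⟶ ⦋N⦌) (h : atlasSieve c ν τ) :
    (FormalCoproduct.incl D).obj T ⟶ L.obj (op a) :=
  z h.choose ≫ L.map h.choose_spec.choose.op

variable (hz : ∀ (i j : ι) (e : SimplexCategory) (φ : e ⟶ c i) (φ' : e ⟶ c j),
  φ ≫ ν i = φ' ≫ ν j → z i ≫ L.map φ.op = z j ≫ L.map φ'.op)

include hz in
lemma atlasFam_eq (i : ι) {a : SimplexCategory} (φ : a ⟶ c i) (τ : a ⟶ ⦋N⦌)
    (h : atlasSieve c ν τ) (e : φ ≫ ν i = τ) : atlasFam c ν z a τ h = z i ≫ L.map φ.op :=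
  hz _ _ _ _ _ (h.choose_spec.choose_spec.trans e.symm)

include hz in
lemma atlasFam_isSFam : IsSFam L (atlasSieve c ν) (atlasFam c ν z) := by
  intro a b θ τ h
  obtain ⟨i, φ, rfl⟩ := h
  rw [atlasFam_eq c ν z hz i (θ ≫ φ) _ _ (Category.assoc _ _ _),
    atlasFam_eq c ν z hz i φ _ _ rfl, op_comp, L.map_comp, Category.assoc]

end Atlas

section AddChart

variable {N : ℕ} {T T' : D} (S : Sieve (⦋N⦌ : SimplexCategory))
  (x : ∀ (a : SimplexCategory) (τ : a ⟶ ⦋N⦌), S τ →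
    ((FormalCoproduct.incl D).obj T ⟶ L.obj (op a)))
  (hx : IsSFam L S x) (g : T' ⟶ T)
  {k : SimplexCategory} (μ : k ⟶ ⦋N⦌) [Mono μ]
  (z : (FormalCoproduct.incl D).obj T' ⟶ L.obj (op k))

/-- the sieve obtained by adding a simplex -/
def addSieve : Sieve (⦋N⦌ : SimplexCategory) where
  arrows a τ := S τ ∨ ∃ θ : a ⟶ k, θ ≫ μ = τ
  downward_closed := by
    rintro a b τ (h | ⟨θ, rfl⟩) ρ
    · exact Or.inl (S.downward_closed h ρ)
    · exact Or.inr ⟨ρ ≫ θ, Category.assoc _ _ _⟩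

open Classical in
/-- the extended family -/
noncomputable def addFam (a : SimplexCategory) (τ : a ⟶ ⦋N⦌) (h' : addSieve S μ τ) :
    (FormalCoproduct.incl D).obj T' ⟶ L.obj (op a) :=
  if h : S τ then (FormalCoproduct.incl D).map g ≫ x a τ h
  else z ≫ L.map (h'.resolve_left h).choose.op

lemma addFam_of_mem (a : SimplexCategory) (τ : a ⟶ ⦋N⦌) (h : S τ) (h' : addSieve S μ τ) :
    addFam S x g μ z a τ h' = (FormalCoproduct.incl D).map g ≫ x a τ h := dif_pos h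

variable (hz : ∀ (b : SimplexCategory) (θ : b ⟶ k) (h : S (θ ≫ μ)),
  z ≫ L.map θ.op = (FormalCoproduct.incl D).map g ≫ x b (θ ≫ μ) h)

include hz in
lemma addFam_chart (a : SimplexCategory) (θ : a ⟶ k) (τ : a ⟶ ⦋N⦌) (e : θ ≫ μ = τ)
    (h' : addSieve S μ τ) : addFam S x g μ z a τ h' = z ≫ L.map θ.op := by
  subst e
  by_cases h : S (θ ≫ μ)
  · rw [addFam_of_mem S x g μ z a _ h h', hz a θ h]
  · have e1 : addFam S x g μ z a (θ ≫ μ) h' = z ≫ L.map (h'.resolve_left h).choose.op :=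
      dif_neg h
    have e2 : (h'.resolve_left h).choose = θ := by
      rw [← cancel_mono μ]
      exact (h'.resolve_left h).choose_spec
    rw [e1, e2]

include hx hz in
lemma addFam_isSFam : IsSFam L (addSieve S μ) (addFam S x g μ z) := by
  intro a b ρ τ h'
  rcases h' with h | ⟨θ, rfl⟩
  · rw [addFam_of_mem S x g μ z b _ (S.downward_closed h ρ), addFam_of_mem S x g μ z a _ h,
      hx a b ρ τ h, Category.assoc]
  · rw [addFam_chart S x g μ z hz b (ρ ≫ θ) _ (Category.assoc _ _ _),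
      addFam_chart S x g μ z hz a θ _ rfl, op_comp, L.map_comp, Category.assoc]

end AddChart

section Fill

variable {N : ℕ}

/-- the monomorphisms which are missing from a sieve -/
def Miss (S : Sieve (⦋N⦌ : SimplexCategory)) : Set (Σ k : Fin (N + 1), (⦋k.1⦌ ⟶ ⦋N⦌)) :=
  Set.ofPred fun p => Mono p.2 ∧ ¬ S p.2

instance : Finite (Σ k : Fin (N + 1), ((⦋k.1⦌ : SimplexCategory) ⟶ ⦋N⦌)) := inferInstance

lemma mem_of_lt (S : Sieve (⦋N⦌ : SimplexCategory)) {k₀ : ℕ}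
    (hmin : ∀ q ∈ Miss S, k₀ ≤ q.1.1) {I : SimplexCategory} (ι : I ⟶ ⦋N⦌) [Mono ι]
    (hI : I.len < k₀) : S ι := by
  by_contra h
  have hN : I.len ≤ N := SimplexCategory.len_le_of_mono ι
  have := hmin ⟨⟨I.len, Nat.lt_succ_iff.2 hN⟩, ι⟩ ⟨inferInstance, h⟩
  simp at this
  omega

lemma bdry_mem (S : Sieve (⦋N⦌ : SimplexCategory)) {k₀ : ℕ}
    (hmin : ∀ q ∈ Miss S, k₀ ≤ q.1.1) (μ : ⦋k₀⦌ ⟶ ⦋N⦌) [Mono μ] {b : SimplexCategory}
    (θ : b ⟶ ⦋k₀⦌) (hθ : ¬ Epi θ) : S (θ ≫ μ) := by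
  have hlen : (image θ).len < k₀ := by
    rcases k₀ with _ | n'
    · exact absurd (epi_to_zero θ) hθ
    · exact Nat.lt_succ_iff.2 (image_len_le n' θ hθ)
  have h1 : S (image.ι θ ≫ μ) := mem_of_lt S hmin _ hlen
  have h2 := S.downward_closed h1 (factorThruImage θ)
  rwa [image.fac_assoc] at h2

variable {J}

theorem sieve_fill (h0 : HyperH0.Cov0 L J) (hL : ∀ n : ℕ, FamFill J L n ⦋n + 1⦌) :
    ∀ (m : ℕ) (T : D) (S : Sieve (⦋N⦌ : SimplexCategory))
      (x : ∀ (a : SimplexCategory) (τ : a ⟶ ⦋N⦌), S τ →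
        ((FormalCoproduct.incl D).obj T ⟶ L.obj (op a))),
      IsSFam L S x → (Miss S).ncard = m →
      ∃ R ∈ J T, ∀ ⦃T' : D⦄ (g : T' ⟶ T), R g →
        ∃ t : (FormalCoproduct.incl D).obj T' ⟶ L.obj (op ⦋N⦌),
          ∀ (a : SimplexCategory) (τ : a ⟶ ⦋N⦌) (h : S τ),
            t ≫ L.map τ.op = (FormalCoproduct.incl D).map g ≫ x a τ h := by
  intro m
  induction m using Nat.strong_induction_on with | _ m ih => ?_
  intro T S x hx hm
  by_cases hid : S (𝟙 ⦋N⦌)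
  · refine ⟨⊤, J.top_mem T, fun T' g _ => ⟨(FormalCoproduct.incl D).map g ≫ x _ (𝟙 _) hid,
      fun a τ h => ?_⟩⟩
    rw [Category.assoc, ← hx _ _ τ (𝟙 _) hid]
    exact congrArg (fun y => (FormalCoproduct.incl D).map g ≫ y)
      (sfam_congr x (Category.comp_id τ) _ h)
  · -- a missing monomorphism of minimal dimension
    have hne : ∃ k : ℕ, ∃ q ∈ Miss S, q.1.1 = k :=
      ⟨N, ⟨⟨N, Nat.lt_succ_self N⟩, 𝟙 _⟩, ⟨inferInstance, hid⟩, rfl⟩
    classical
    let k₀ := Nat.find hne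
    obtain ⟨p, hp, hpk⟩ := Nat.find_spec hne
    have hmin : ∀ q ∈ Miss S, k₀ ≤ q.1.1 := fun q hq => Nat.find_min' hne ⟨q, hq, rfl⟩
    obtain ⟨⟨k, hkN⟩, μ⟩ := p
    have hk : k = k₀ := hpk
    subst hk
    obtain ⟨hmono, hμS⟩ := hp
    haveI : Mono μ := hmono
    have hbd : ∀ {b : SimplexCategory} (θ : b ⟶ ⦋k₀⦌), ¬ Epi θ → S (θ ≫ μ) :=
      fun θ hθ => bdry_mem S hmin μ θ hθ
    have hepi : ∀ {b : SimplexCategory} (θ : b ⟶ ⦋k₀⦌), S (θ ≫ μ) → ¬ Epi θ := by
      intro b θ h hθ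
      haveI := hθ
      haveI := isSplitEpi_of_epi θ
      apply hμS
      have := S.downward_closed h (section_ θ)
      rwa [← Category.assoc, IsSplitEpi.id, Category.id_comp] at this
    -- fill the boundary of `μ`
    have hZ : ∃ R₀ ∈ J T, ∀ ⦃T' : D⦄ (g : T' ⟶ T), R₀ g →
        ∃ z : (FormalCoproduct.incl D).obj T' ⟶ L.obj (op ⦋k₀⦌),
          ∀ (b : SimplexCategory) (θ : b ⟶ ⦋k₀⦌) (h : S (θ ≫ μ)),
            z ≫ L.map θ.op = (FormalCoproduct.incl D).map g ≫ x b (θ ≫ μ) h := by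
      clear_value k₀
      rcases k₀ with _ | n'
      · obtain ⟨R₀, hR₀, H⟩ := h0 T
        refine ⟨R₀, hR₀, fun T' g hg => ?_⟩
        obtain ⟨z⟩ := H g hg
        exact ⟨z, fun b θ h => absurd (epi_to_zero θ) (hepi θ h)⟩
      · have hne' : ∀ (a : SimplexCategory) (_ : a.len ≤ n') (α : a ⟶ ⦋n' + 1⦌), ¬ Epi α :=
          fun a ha α _ => by
            have := SimplexCategory.len_le_of_epi α
            simp at this
            omega
        let y : ∀ (a : SimplexCategory) (_ : a.len ≤ n') (_ : a ⟶ ⦋n' + 1⦌),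
            ((FormalCoproduct.incl D).obj T ⟶ L.obj (op a)) :=
          fun a ha α => x a (α ≫ μ) (hbd α (hne' a ha α))
        have hy : IsFam L n' ⦋n' + 1⦌ y := by
          intro a b ha hb θ α
          change x b ((θ ≫ α) ≫ μ) _ = x a (α ≫ μ) _ ≫ L.map θ.op
          rw [← hx a b θ (α ≫ μ) (hbd α (hne' a ha α))]
          exact sfam_congr x (Category.assoc _ _ _) _ _
        obtain ⟨R₀, hR₀, H⟩ := hL n' T y hy
        refine ⟨R₀, hR₀, fun T' g hg => ?_⟩
        obtain ⟨z, hz⟩ := H g hg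
        refine ⟨z, fun b θ h => ?_⟩
        have hθ : ¬ Epi θ := hepi θ h
        have hlen : (image θ).len ≤ n' := image_len_le n' θ hθ
        have e1 : L.map θ.op = L.map (image.ι θ).op ≫ L.map (factorThruImage θ).op := by
          rw [← L.map_comp, ← op_comp, image.fac]
        rw [e1, ← Category.assoc, hz (image θ) hlen (image.ι θ), Category.assoc]
        change _ ≫ x (image θ) (image.ι θ ≫ μ) _ ≫ _ = _
        rw [← hx _ _ (factorThruImage θ) (image.ι θ ≫ μ) (hbd _ (hne' _ hlen _))]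
        exact congrArg (fun w => (FormalCoproduct.incl D).map g ≫ w)
          (sfam_congr x (image.fac_assoc θ μ) _ _)
    obtain ⟨R₀, hR₀, HZ⟩ := hZ
    refine exists_cover_bind (J := J)
      (fun T'' k' => ∃ t : (FormalCoproduct.incl D).obj T'' ⟶ L.obj (op ⦋N⦌),
        ∀ (a : SimplexCategory) (τ : a ⟶ ⦋N⦌) (h : S τ),
          t ≫ L.map τ.op = (FormalCoproduct.incl D).map k' ≫ x a τ h) R₀ hR₀ ?_
    intro T' g hg
    obtain ⟨z, hz⟩ := HZ g hg
    have hlt : (Miss (addSieve S μ)).ncard < m := by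
      rw [← hm]
      refine Set.ncard_lt_ncard ⟨?_, ?_⟩ (Set.toFinite _)
      · rintro q ⟨hq1, hq2⟩
        exact ⟨hq1, fun h => hq2 (Or.inl h)⟩
      · intro hsub
        have : (⟨⟨k₀, hkN⟩, μ⟩ : Σ k : Fin (N + 1), (⦋k.1⦌ ⟶ ⦋N⦌)) ∈ Miss (addSieve S μ) :=
          hsub ⟨hmono, hμS⟩
        exact this.2 (Or.inr ⟨𝟙 _, Category.id_comp _⟩)
    obtain ⟨R', hR', H'⟩ := ih _ hlt T' (addSieve S μ) (addFam S x g μ z)
      (addFam_isSFam S x hx g μ z hz) rfl
    refine ⟨R', hR', fun T'' g' hg' => ?_⟩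
    obtain ⟨t, ht⟩ := H' g' hg'
    refine ⟨t, fun a τ h => ?_⟩
    rw [ht a τ (Or.inl h), addFam_of_mem S x g μ z a τ h, Functor.map_comp, Category.assoc]

end Fill

section AtlasFill

variable {J}

/-- **Filling from an atlas**: pairwise compatible charts of `⦋N⦌` with values in a hypercovering
are, locally, the restrictions of a point of `L_N`. -/
theorem atlas_fill (h0 : HyperH0.Cov0 L J) (hL : ∀ n : ℕ, FamFill J L n ⦋n + 1⦌)
    {N : ℕ} {T : D} {ι : Type*} (c : ι → SimplexCategory) (ν : ∀ i, c i ⟶ ⦋N⦌)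
    (z : ∀ i, (FormalCoproduct.incl D).obj T ⟶ L.obj (op (c i)))
    (hz : ∀ (i j : ι) (e : SimplexCategory) (φ : e ⟶ c i) (φ' : e ⟶ c j),
      φ ≫ ν i = φ' ≫ ν j → z i ≫ L.map φ.op = z j ≫ L.map φ'.op) :
    ∃ R ∈ J T, ∀ ⦃T' : D⦄ (g : T' ⟶ T), R g →
      ∃ t : (FormalCoproduct.incl D).obj T' ⟶ L.obj (op ⦋N⦌),
        ∀ i, t ≫ L.map (ν i).op = (FormalCoproduct.incl D).map g ≫ z i := by
  obtain ⟨R, hR, H⟩ := sieve_fill h0 hL _ T (atlasSieve c ν) (atlasFam c ν z)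
    (atlasFam_isSFam c ν z hz) rfl
  refine ⟨R, hR, fun T' g hg => ?_⟩
  obtain ⟨t, ht⟩ := H g hg
  refine ⟨t, fun i => ?_⟩
  have h : atlasSieve c ν (ν i) := ⟨i, 𝟙 _, Category.id_comp _⟩
  rw [ht _ (ν i) h, atlasFam_eq c ν z hz i (𝟙 _) (ν i) h (Category.id_comp _), op_id, L.map_id,
    Category.comp_id]

end AtlasFill

end Groth.Agent.Lib.Helper15.HyperSieveFill
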