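import Groth.Agent.Lib.Helper15.SimplexDbl
import Groth.Agent.Lib.Helper15.HyperSieveFill

/-!
# The doubling path object of a simplicial object (helper15)

`PL L = L ∘ Dblᵒᵖ`, i.e. `(PL L)_n = L_{2n+1}`, with its two projections `p0 p1 : PL L ⟶ L` and the
canonical simplicial homotopy between them.  For a hypercovering `L`, the map
`(p0, p1) : PL L ⟶ L × L` has the relative local filling property (`path_relFill`).
-/

set_option autoImplicit false
set_option linter.unusedSectionVars false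
universe u
open CategoryTheory CategoryTheory.Limits Opposite

namespace Groth.Agent.Lib.Helper15.HyperPath

open Groth.Agent.Lib.Helper15.SimplexDbl Groth.Agent.Lib.Helper15.HyperCoskPts
  Groth.Agent.Lib.Helper15.HyperSieveFill

/-- charts of the relative boundary of the path object -/
inductive Ch (n : ℕ) : Type
  | front : Ch n
  | back : Ch n
  | face (i : Fin (n + 2)) : Ch n

/-- the domains of the charts -/
def chObj (n : ℕ) : Ch n → SimplexCategory
  | .front => SimplexCategory.mk (n + 1)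
  | .back => SimplexCategory.mk (n + 1)
  | .face _ => Dbl.obj (SimplexCategory.mk n)

/-- the charts -/
def chMap (n : ℕ) : ∀ c : Ch n, chObj n c ⟶ Dbl.obj (SimplexCategory.mk (n + 1))
  | .front => i0 (SimplexCategory.mk (n + 1))
  | .back => i1 (SimplexCategory.mk (n + 1))
  | .face i => Dbl.map (SimplexCategory.δ i)

/-- the values on the charts -/
def chVal {E : Type*} [Category E] (L : SimplicialObject E) {n : ℕ} {T : E}
    (l₀ l₁ : T ⟶ L.obj (op (SimplexCategory.mk (n + 1))))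
    (yf : Fin (n + 2) → (T ⟶ L.obj (op (Dbl.obj (SimplexCategory.mk n))))) :
    ∀ c : Ch n, T ⟶ L.obj (op (chObj n c))
  | .front => l₀
  | .back => l₁
  | .face i => yf i

section General

open Simplicial

variable {E : Type*} [Category E] (L : SimplicialObject E)

/-- the doubling path object -/
def PL : SimplicialObject E := Dbl.op ⋙ L

lemma PL_map {a b : SimplexCategory} (θ : a ⟶ b) : (PL L).map θ.op = L.map (Dbl.map θ).op := rfl

/-- the projection to the front -/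
def p0 : PL L ⟶ L where
  app a := L.map (i0 a.unop).op
  naturality a b θ := by
    change L.map (Dbl.map θ.unop).op ≫ L.map (i0 b.unop).op =
      L.map (i0 a.unop).op ≫ L.map θ
    rw [← L.map_comp, ← op_comp, ← i0_naturality, op_comp, L.map_comp]
    rfl

/-- the projection to the back -/
def p1 : PL L ⟶ L where
  app a := L.map (i1 a.unop).op
  naturality a b θ := by
    change L.map (Dbl.map θ.unop).op ≫ L.map (i1 b.unop).op =
      L.map (i1 a.unop).op ≫ L.map θ
    rw [← L.map_comp, ← op_comp, ← i1_naturality, op_comp, L.map_comp]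
    rfl

lemma p0_app (a : SimplexCategory) : (p0 L).app (op a) = L.map (i0 a).op := rfl

lemma p1_app (a : SimplexCategory) : (p1 L).app (op a) = L.map (i1 a).op := rfl

lemma map_map_eq {a b c : SimplexCategory} {f : a ⟶ b} {g : b ⟶ c} {f' : a ⟶ b} {g' : b ⟶ c}
    (h : f ≫ g = f' ≫ g') : L.map g.op ≫ L.map f.op = L.map g'.op ≫ L.map f'.op := by
  rw [← L.map_comp, ← L.map_comp, ← op_comp, ← op_comp, h]

lemma map_map_eq' {a b b' c : SimplexCategory} {f : a ⟶ b} {g : b ⟶ c} {f' : a ⟶ b'}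
    {g' : b' ⟶ c} (h : f ≫ g = f' ≫ g') :
    L.map g.op ≫ L.map f.op = L.map g'.op ≫ L.map f'.op := by
  rw [← L.map_comp, ← L.map_comp, ← op_comp, ← op_comp, h]

/-- the canonical homotopy between the two projections of the path object -/
def pathHomotopy : SimplicialObject.Homotopy (p0 L) (p1 L) where
  h i := L.map (etaS i).op
  h_zero_comp_δ_zero n := by
    change L.map (etaS 0).op ≫ L.map (SimplexCategory.δ 0).op = L.map (i1 ⦋n⦌).op
    rw [← L.map_comp, ← op_comp, eta_id1]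
  h_last_comp_δ_last n := by
    change L.map (etaS (Fin.last n)).op ≫ L.map (SimplexCategory.δ (Fin.last (n + 1))).op =
      L.map (i0 ⦋n⦌).op
    rw [← L.map_comp, ← op_comp, eta_id2]
  h_succ_comp_δ_castSucc_of_lt i j hij := by
    change L.map (etaS j.succ).op ≫ L.map (SimplexCategory.δ i.castSucc).op =
      L.map (Dbl.map (SimplexCategory.δ i)).op ≫ L.map (etaS j).op
    exact map_map_eq' L (eta_id3 i j hij)
  h_succ_comp_δ_castSucc_succ j := by
    change L.map (etaS j.succ).op ≫ L.map (SimplexCategory.δ j.castSucc.succ).op =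
      L.map (etaS j.castSucc).op ≫ L.map (SimplexCategory.δ j.castSucc.succ).op
    exact map_map_eq' L (eta_id4 j)
  h_castSucc_comp_δ_succ_of_lt i j hji := by
    change L.map (etaS j.castSucc).op ≫ L.map (SimplexCategory.δ i.succ).op =
      L.map (Dbl.map (SimplexCategory.δ i)).op ≫ L.map (etaS j).op
    exact map_map_eq' L (eta_id5 i j hji)
  h_comp_σ_castSucc_of_le i j hij := by
    change L.map (etaS j).op ≫ L.map (SimplexCategory.σ i.castSucc).op =
      L.map (Dbl.map (SimplexCategory.σ i)).op ≫ L.map (etaS j.succ).op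
    exact map_map_eq' L (eta_id6 i j hij)
  h_comp_σ_succ_of_lt i j hji := by
    change L.map (etaS j).op ≫ L.map (SimplexCategory.σ i.succ).op =
      L.map (Dbl.map (SimplexCategory.σ i)).op ≫ L.map (etaS j.castSucc).op
    exact map_map_eq' L (eta_id7 i j hji)

end General

section Fill

open Simplicial

variable {D : Type u} [SmallCategory D] {J : GrothendieckTopology D}
  {L : SimplicialObject (FormalCoproduct.{u} D)}

section Fam

variable {n : ℕ} {N : SimplexCategory} {Y : D}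
  (y : ∀ (a : SimplexCategory) (_ : a.len ≤ n) (_ : a ⟶ N),
    (FormalCoproduct.incl D).obj Y ⟶ (PL L).obj (op a))
  (hy : IsFam (PL L) n N y)

include hy in
lemma fam_dbl {a b e : SimplexCategory} (ha : a.len ≤ n) (hb : b.len ≤ n) (θ : b ⟶ a)
    (α : a ⟶ N) (φ : e ⟶ Dbl.obj b) :
    y a ha α ≫ L.map (φ ≫ Dbl.map θ).op = y b hb (θ ≫ α) ≫ L.map φ.op := by
  rw [hy a b ha hb θ α, op_comp, L.map_comp, Category.assoc]
  rfl

include hy in
/-- two charts with the same coordinate map -/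
lemma gp {a e : SimplexCategory} (ha : a.len ≤ n) (α α' : a ⟶ N) (φ : e ⟶ Dbl.obj a)
    (h : φ ≫ Dbl.map α = φ ≫ Dbl.map α') :
    y a ha α ≫ L.map φ.op = y a ha α' ≫ L.map φ.op := by
  obtain ⟨ρ, h1, h2⟩ := exists_retr α α' φ h
  have e1 := fam_dbl y hy ha ha ρ α φ
  have e2 := fam_dbl y hy ha ha ρ α' φ
  rw [h2] at e1 e2
  have e3 : y a ha (ρ ≫ α) = y a ha (ρ ≫ α') := by rw [h1]
  rw [e1, e2, e3]

end Fam

section RelFill

variable {n : ℕ} {Y : D} (l₀ l₁ : (FormalCoproduct.incl D).obj Y ⟶ L.obj (op ⦋n + 1⦌))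
  (y : ∀ (a : SimplexCategory) (_ : a.len ≤ n) (_ : a ⟶ ⦋n + 1⦌),
    (FormalCoproduct.incl D).obj Y ⟶ (PL L).obj (op a))
  (hy : IsFam (PL L) n ⦋n + 1⦌ y)
  (hl₀ : ∀ (a : SimplexCategory) (ha : a.len ≤ n) (α : a ⟶ ⦋n + 1⦌),
    l₀ ≫ L.map α.op = y a ha α ≫ (p0 L).app (op a))
  (hl₁ : ∀ (a : SimplexCategory) (ha : a.len ≤ n) (α : a ⟶ ⦋n + 1⦌),
    l₁ ≫ L.map α.op = y a ha α ≫ (p1 L).app (op a))

/-- the values on the symmetric facets -/
abbrev yf (i : Fin (n + 2)) : (FormalCoproduct.incl D).obj Y ⟶ L.obj (op (Dbl.obj ⦋n⦌)) :=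
  y ⦋n⦌ le_rfl (SimplexCategory.δ i)

include hl₀ in
lemma front_face (i : Fin (n + 2)) {e : SimplexCategory} (φ : e ⟶ ⦋n + 1⦌)
    (φ' : e ⟶ Dbl.obj ⦋n⦌) (h : φ ≫ i0 ⦋n + 1⦌ = φ' ≫ Dbl.map (SimplexCategory.δ i)) :
    l₀ ≫ L.map φ.op = yf y i ≫ L.map φ'.op := by
  have hfr : ∀ t, (φ'.toOrderHom t).val < (⦋n⦌ : SimplexCategory).len + 1 := by
    intro t
    rw [← Dbl_map_lt_iff (SimplexCategory.δ i)]
    have := congrArg (fun f => (f.toOrderHom t).val) h
    simp only [comp_val, i0_val] at this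
    rw [← this]
    exact (φ.toOrderHom t).isLt
  obtain ⟨ψ, hψ⟩ := exists_front_lift φ' hfr
  have hφ : φ = ψ ≫ SimplexCategory.δ i := by
    apply i0_cancel
    rw [h, ← hψ, Category.assoc, Category.assoc, i0_naturality]
  have e1 : l₀ ≫ L.map φ.op = (l₀ ≫ L.map (SimplexCategory.δ i).op) ≫ L.map ψ.op := by
    rw [hφ, op_comp, L.map_comp, Category.assoc]
  have e2 : L.map (i0 ⦋n⦌).op ≫ L.map ψ.op = L.map φ'.op := by
    rw [← L.map_comp, ← op_comp, hψ]
  calc l₀ ≫ L.map φ.op = (l₀ ≫ L.map (SimplexCategory.δ i).op) ≫ L.map ψ.op := e1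
    _ = (yf y i ≫ L.map (i0 ⦋n⦌).op) ≫ L.map ψ.op := by
        rw [hl₀ ⦋n⦌ le_rfl (SimplexCategory.δ i)]; rfl
    _ = yf y i ≫ (L.map (i0 ⦋n⦌).op ≫ L.map ψ.op) := Category.assoc _ _ _
    _ = yf y i ≫ L.map φ'.op := by rw [e2]

include hl₁ in
lemma back_face (i : Fin (n + 2)) {e : SimplexCategory} (φ : e ⟶ ⦋n + 1⦌)
    (φ' : e ⟶ Dbl.obj ⦋n⦌) (h : φ ≫ i1 ⦋n + 1⦌ = φ' ≫ Dbl.map (SimplexCategory.δ i)) :
    l₁ ≫ L.map φ.op = yf y i ≫ L.map φ'.op := by
  have hbk : ∀ t, (⦋n⦌ : SimplexCategory).len + 1 ≤ (φ'.toOrderHom t).val := by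
    intro t
    by_contra hlt
    rw [not_le, ← Dbl_map_lt_iff (SimplexCategory.δ i)] at hlt
    have := congrArg (fun f => (f.toOrderHom t).val) h
    simp only [comp_val, i1_val] at this
    rw [← this] at hlt
    simp only [SimplexCategory.len_mk] at hlt ⊢
    omega
  obtain ⟨ψ, hψ⟩ := exists_back_lift φ' hbk
  have hφ : φ = ψ ≫ SimplexCategory.δ i := by
    apply i1_cancel
    rw [h, ← hψ, Category.assoc, Category.assoc, i1_naturality]
  have e1 : l₁ ≫ L.map φ.op = (l₁ ≫ L.map (SimplexCategory.δ i).op) ≫ L.map ψ.op := by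
    rw [hφ, op_comp, L.map_comp, Category.assoc]
  have e2 : L.map (i1 ⦋n⦌).op ≫ L.map ψ.op = L.map φ'.op := by
    rw [← L.map_comp, ← op_comp, hψ]
  calc l₁ ≫ L.map φ.op = (l₁ ≫ L.map (SimplexCategory.δ i).op) ≫ L.map ψ.op := e1
    _ = (yf y i ≫ L.map (i1 ⦋n⦌).op) ≫ L.map ψ.op := by
        rw [hl₁ ⦋n⦌ le_rfl (SimplexCategory.δ i)]; rfl
    _ = yf y i ≫ (L.map (i1 ⦋n⦌).op ≫ L.map ψ.op) := Category.assoc _ _ _
    _ = yf y i ≫ L.map φ'.op := by rw [e2]

include hy in
lemma face_face (i j : Fin (n + 2)) {e : SimplexCategory} (φ φ' : e ⟶ Dbl.obj ⦋n⦌)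
    (h : φ ≫ Dbl.map (SimplexCategory.δ i) = φ' ≫ Dbl.map (SimplexCategory.δ j)) :
    yf y i ≫ L.map φ.op = yf y j ≫ L.map φ'.op := by
  obtain ⟨s, hs⟩ := exists_retraction_δ j
  have hφ' : φ' = φ ≫ Dbl.map (SimplexCategory.δ i ≫ s) := by
    rw [Dbl.map_comp, ← Category.assoc, h, Category.assoc, ← Dbl.map_comp, hs, Dbl.map_id,
      Category.comp_id]
  have e1 : yf y j ≫ L.map φ'.op =
      y ⦋n⦌ le_rfl ((SimplexCategory.δ i ≫ s) ≫ SimplexCategory.δ j) ≫ L.map φ.op := by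
    rw [hφ']
    exact fam_dbl y hy le_rfl le_rfl _ _ φ
  have e2 : φ ≫ Dbl.map (SimplexCategory.δ i) =
      φ ≫ Dbl.map ((SimplexCategory.δ i ≫ s) ≫ SimplexCategory.δ j) := by
    have : φ ≫ Dbl.map ((SimplexCategory.δ i ≫ s) ≫ SimplexCategory.δ j) =
        (φ ≫ Dbl.map (SimplexCategory.δ i)) ≫ Dbl.map (s ≫ SimplexCategory.δ j) := by
      simp only [Functor.map_comp, Category.assoc]
    rw [this, h, Category.assoc, ← Dbl.map_comp, ← Category.assoc, hs, Category.id_comp]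
  rw [e1]
  exact gp y hy le_rfl _ _ φ e2

include hy hl₀ hl₁ in
lemma ch_compat (c c' : Ch n) (e : SimplexCategory) (φ : e ⟶ chObj n c) (φ' : e ⟶ chObj n c')
    (h : φ ≫ chMap n c = φ' ≫ chMap n c') :
    chVal L l₀ l₁ (yf y) c ≫ L.map φ.op = chVal L l₀ l₁ (yf y) c' ≫ L.map φ'.op := by
  cases c with
  | front =>
    cases c' with
    | front => rw [i0_cancel h]
    | back => exact absurd h (i0_ne_i1 φ φ')
    | face i => exact front_face l₀ y hl₀ i φ φ' h
  | back =>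
    cases c' with
    | front => exact absurd h.symm (i0_ne_i1 φ' φ)
    | back => rw [i1_cancel h]
    | face i => exact back_face l₁ y hl₁ i φ φ' h
  | face i =>
    cases c' with
    | front => exact (front_face l₀ y hl₀ i φ' φ h.symm).symm
    | back => exact (back_face l₁ y hl₁ i φ' φ h.symm).symm
    | face j => exact face_face y hy i j φ φ' h

end RelFill

section Main

variable (h0 : HyperH0.Cov0 L J) (hL : ∀ n : ℕ, FamFill J L n ⦋n + 1⦌)

include h0 hL in
/-- **Relative filling for the path object** `(p0, p1) : PL L ⟶ L × L` of a hypercovering. -/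
theorem path_relFill (n : ℕ) (Y : D)
    (l₀ l₁ : (FormalCoproduct.incl D).obj Y ⟶ L.obj (op ⦋n + 1⦌))
    (y : ∀ (a : SimplexCategory) (_ : a.len ≤ n) (_ : a ⟶ ⦋n + 1⦌),
      (FormalCoproduct.incl D).obj Y ⟶ (PL L).obj (op a))
    (hy : IsFam (PL L) n ⦋n + 1⦌ y)
    (hl₀ : ∀ (a : SimplexCategory) (ha : a.len ≤ n) (α : a ⟶ ⦋n + 1⦌),
      l₀ ≫ L.map α.op = y a ha α ≫ (p0 L).app (op a))
    (hl₁ : ∀ (a : SimplexCategory) (ha : a.len ≤ n) (α : a ⟶ ⦋n + 1⦌),
      l₁ ≫ L.map α.op = y a ha α ≫ (p1 L).app (op a)) :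
    ∃ S ∈ J Y, ∀ ⦃Y' : D⦄ (g : Y' ⟶ Y), S g →
      ∃ m : (FormalCoproduct.incl D).obj Y' ⟶ (PL L).obj (op ⦋n + 1⦌),
        m ≫ (p0 L).app (op ⦋n + 1⦌) = (FormalCoproduct.incl D).map g ≫ l₀ ∧
        m ≫ (p1 L).app (op ⦋n + 1⦌) = (FormalCoproduct.incl D).map g ≫ l₁ ∧
        ∀ (a : SimplexCategory) (ha : a.len ≤ n) (α : a ⟶ ⦋n + 1⦌),
          m ≫ (PL L).map α.op = (FormalCoproduct.incl D).map g ≫ y a ha α := by
  obtain ⟨S, hS, H⟩ := atlas_fill h0 hL (N := n + 1 + 1 + (n + 1)) (T := Y) (chObj n) (chMap n)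
    (chVal L l₀ l₁ (yf y)) (ch_compat l₀ l₁ y hy hl₀ hl₁)
  refine ⟨S, hS, fun Y' g hg => ?_⟩
  obtain ⟨t, ht⟩ := H g hg
  refine ⟨t, ht Ch.front, ht Ch.back, fun a ha α => ?_⟩
  have hα : ¬ Function.Surjective α.toOrderHom := by
    intro hs
    have := Fintype.card_le_of_surjective _ hs
    simp at this
    omega
  obtain ⟨i, θ, rfl⟩ := SimplexCategory.eq_comp_δ_of_not_surjective α hα
  have e1 : (PL L).map (θ ≫ SimplexCategory.δ i).op =
      L.map (Dbl.map (SimplexCategory.δ i)).op ≫ L.map (Dbl.map θ).op := by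
    rw [PL_map, Dbl.map_comp, op_comp, L.map_comp]
  have e2 : t ≫ L.map (Dbl.map (SimplexCategory.δ i)).op =
      (FormalCoproduct.incl D).map g ≫ yf y i := ht (Ch.face i)
  exact (congrArg (fun w => t ≫ w) e1).trans ((Category.assoc t _ _).symm.trans
    ((congrArg (fun w => w ≫ L.map (Dbl.map θ).op) e2).trans ((Category.assoc _ _ _).trans
      (congrArg (fun w => (FormalCoproduct.incl D).map g ≫ w) (hy ⦋n⦌ a le_rfl ha θ _).symm))))

include h0 hL in
/-- pairs of vertices of a hypercovering are locally joined by paths -/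
theorem path_cov (Y : D) (l₀ l₁ : (FormalCoproduct.incl D).obj Y ⟶ L.obj (op ⦋0⦌)) :
    ∃ S ∈ J Y, ∀ ⦃Y' : D⦄ (g : Y' ⟶ Y), S g →
      ∃ m : (FormalCoproduct.incl D).obj Y' ⟶ (PL L).obj (op ⦋0⦌),
        m ≫ (p0 L).app (op ⦋0⦌) = (FormalCoproduct.incl D).map g ≫ l₀ ∧
        m ≫ (p1 L).app (op ⦋0⦌) = (FormalCoproduct.incl D).map g ≫ l₁ := by
  obtain ⟨S, hS, H⟩ := atlas_fill h0 hL (N := 0 + 1 + 0) (T := Y) (ι := Bool)
    (fun _ => ⦋0⦌) (fun b => if b then i1 ⦋0⦌ else i0 ⦋0⦌) (fun b => if b then l₁ else l₀) (by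
      intro b b' e φ φ' h
      cases b <;> cases b'
      · simp only [Bool.false_eq_true, if_false] at h ⊢
        rw [i0_cancel h]
      · simp only [Bool.false_eq_true, if_false, if_true] at h ⊢
        exact absurd h (i0_ne_i1 φ φ')
      · simp only [Bool.false_eq_true, if_false, if_true] at h ⊢
        exact absurd h.symm (i0_ne_i1 φ' φ)
      · simp only [if_true] at h ⊢
        rw [i1_cancel h])
  refine ⟨S, hS, fun Y' g hg => ?_⟩
  obtain ⟨t, ht⟩ := H g hg
  refine ⟨t, ?_, ?_⟩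
  · have := ht false
    simp only [Bool.false_eq_true, if_false] at this
    exact this
  · have := ht true
    simp only [if_true] at this
    exact this

end Main

end Fill

end Groth.Agent.Lib.Helper15.HyperPath
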