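import Groth.Agent.Lib.Helper15.HyperPullback
import Groth.Agent.Lib.Helper15.HyperFactor
import Groth.Agent.Lib.Helper15.HyperCone

/-!
# Refining a hypercovering through a covering of one of its terms (helper15)

For a simplicial object `K` of formal coproducts and a morphism `u : Z ⟶ K_n`, we form
`L = K ×_{R(K_n)} R(Z)` where `R(T)_m = ∏_{[n] → [m]} T` is the cofree simplicial object on `T` in
degree `n`.  If `u` is a covering then local fillings of compatible families in `K` give local fillings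
in `L` (`famFill_L`), so `L` is a hypercovering when `K` is; it maps to `K` and `L_n ⟶ K_n` factors
through `u`.
-/

set_option autoImplicit false
set_option linter.unusedSectionVars false
universe u
open CategoryTheory CategoryTheory.Limits Opposite Simplicial

namespace Groth.Agent.Lib.Helper15.HyperRefine

open Groth.Agent.Lib.Helper15.HyperOver Groth.Agent.Lib.Helper15.HyperCoskPts
  Groth.Agent.Lib.Helper15.HyperFactor Groth.Agent.Lib.Helper15.HyperPullback

variable {D : Type u} [SmallCategory D] [HasFiniteProducts (FormalCoproduct.{u} D)]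
  [HasPullbacks (FormalCoproduct.{u} D)]

section Cofree

variable (n : ℕ) (T : FormalCoproduct.{u} D)

/-- the cofree simplicial object on `T` in degree `n` -/
noncomputable def R : SimplicialObject (FormalCoproduct.{u} D) where
  obj m := ∏ᶜ (fun _ : (⦋n⦌ ⟶ m.unop) => T)
  map {m m'} θ := Pi.lift (fun α : (⦋n⦌ ⟶ m'.unop) =>
    Pi.π (fun _ : (⦋n⦌ ⟶ m.unop) => T) (α ≫ θ.unop))
  map_id m := by
    apply Pi.hom_ext
    intro α
    simp
  map_comp θ θ' := by
    apply Pi.hom_ext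
    intro α
    simp

variable {n T}

/-- the projections -/
noncomputable def Rπ {m : SimplexCategoryᵒᵖ} (α : ⦋n⦌ ⟶ m.unop) : (R n T).obj m ⟶ T :=
  Pi.π (fun _ : (⦋n⦌ ⟶ m.unop) => T) α

lemma R_map_π {m m' : SimplexCategoryᵒᵖ} (θ : m ⟶ m') (α : ⦋n⦌ ⟶ m'.unop) :
    (R n T).map θ ≫ Rπ α = Rπ (α ≫ θ.unop) :=
  Pi.lift_π _ _

lemma R_hom_ext {m : SimplexCategoryᵒᵖ} {A : FormalCoproduct.{u} D} {f g : A ⟶ (R n T).obj m}
    (h : ∀ α : ⦋n⦌ ⟶ m.unop, f ≫ Rπ α = g ≫ Rπ α) : f = g :=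
  Pi.hom_ext _ _ h

/-- lifting into the cofree object -/
noncomputable def Rlift {m : SimplexCategoryᵒᵖ} {A : FormalCoproduct.{u} D}
    (f : (⦋n⦌ ⟶ m.unop) → (A ⟶ T)) : A ⟶ (R n T).obj m :=
  Pi.lift f

lemma Rlift_π {m : SimplexCategoryᵒᵖ} {A : FormalCoproduct.{u} D}
    (f : (⦋n⦌ ⟶ m.unop) → (A ⟶ T)) (α : ⦋n⦌ ⟶ m.unop) : Rlift f ≫ Rπ α = f α :=
  Pi.lift_π _ _

/-- functoriality of the cofree object -/
noncomputable def Rmap {T' : FormalCoproduct.{u} D} (u : T ⟶ T') : R n T ⟶ R n T' where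
  app m := Rlift (fun α => Rπ α ≫ u)
  naturality m m' θ := by
    apply R_hom_ext
    intro α
    rw [Category.assoc, Rlift_π, ← Category.assoc, R_map_π, Category.assoc, R_map_π, Rlift_π]

lemma Rmap_π {T' : FormalCoproduct.{u} D} (u : T ⟶ T') {m : SimplexCategoryᵒᵖ}
    (α : ⦋n⦌ ⟶ m.unop) : (Rmap u).app m ≫ Rπ α = Rπ α ≫ u :=
  Rlift_π _ _

variable (K : SimplicialObject (FormalCoproduct.{u} D)) (n)

/-- the unit `K ⟶ R(K_n)` -/
noncomputable def η : K ⟶ R n (K _⦋n⦌) where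
  app m := Rlift (fun α => K.map α.op)
  naturality m m' θ := by
    apply R_hom_ext
    intro α
    rw [Category.assoc, Rlift_π, Category.assoc, R_map_π, Rlift_π, ← K.map_comp]
    rfl

lemma η_π {m : SimplexCategoryᵒᵖ} (α : ⦋n⦌ ⟶ m.unop) : (η n K).app m ≫ Rπ α = K.map α.op :=
  Rlift_π _ _

end Cofree

section L

variable (K : SimplicialObject (FormalCoproduct.{u} D)) (n : ℕ) {Z : FormalCoproduct.{u} D}
  (u : Z ⟶ K _⦋n⦌)

/-- the refinement -/
noncomputable def L : SimplicialObject (FormalCoproduct.{u} D) := pullback (η n K) (Rmap u)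

/-- projection to `K` -/
noncomputable def pr1 : L K n u ⟶ K := pullback.fst _ _

/-- projection to `R(Z)` -/
noncomputable def pr2 : L K n u ⟶ R n Z := pullback.snd _ _

lemma isPullback_L : IsPullback (pr1 K n u) (pr2 K n u) (η n K) (Rmap u) :=
  IsPullback.of_hasPullback _ _

lemma isPullback_L_app (m : SimplexCategory) :
    IsPullback ((pr1 K n u).app (op m)) ((pr2 K n u).app (op m)) ((η n K).app (op m))
      ((Rmap u).app (op m)) :=
  (isPullback_L K n u).map ((evaluation _ _).obj (op m))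

variable {K n u}

lemma L_sq {m : SimplexCategory} (α : ⦋n⦌ ⟶ m) :
    (pr2 K n u).app (op m) ≫ Rπ (m := op m) α ≫ u = (pr1 K n u).app (op m) ≫ K.map α.op := by
  have := (isPullback_L_app K n u m).w
  have h2 := congrArg (fun ψ => ψ ≫ Rπ (m := op m) α) this
  rw [Category.assoc, Category.assoc, η_π, Rmap_π] at h2
  exact h2.symm

/-- points of the refinement -/
noncomputable def Lpt {m : SimplexCategory} {A : FormalCoproduct.{u} D} (k : A ⟶ K.obj (op m))
    (ζ : (⦋n⦌ ⟶ m) → (A ⟶ Z)) (h : ∀ α, ζ α ≫ u = k ≫ K.map α.op) :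
    A ⟶ (L K n u).obj (op m) :=
  (isPullback_L_app K n u m).lift k (Rlift (m := op m) ζ) (by
    apply R_hom_ext
    intro α
    rw [Category.assoc, Category.assoc, η_π, Rmap_π, ← Category.assoc, Rlift_π]
    exact (h α).symm)

lemma Lpt_pr1 {m : SimplexCategory} {A : FormalCoproduct.{u} D} (k : A ⟶ K.obj (op m))
    (ζ : (⦋n⦌ ⟶ m) → (A ⟶ Z)) (h : ∀ α, ζ α ≫ u = k ≫ K.map α.op) :
    Lpt k ζ h ≫ (pr1 K n u).app (op m) = k :=
  IsPullback.lift_fst _ _ _ _

lemma Lpt_pr2 {m : SimplexCategory} {A : FormalCoproduct.{u} D} (k : A ⟶ K.obj (op m))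
    (ζ : (⦋n⦌ ⟶ m) → (A ⟶ Z)) (h : ∀ α, ζ α ≫ u = k ≫ K.map α.op) (α : ⦋n⦌ ⟶ m) :
    Lpt k ζ h ≫ (pr2 K n u).app (op m) ≫ Rπ (m := op m) α = ζ α := by
  rw [← Category.assoc, Lpt, IsPullback.lift_snd, Rlift_π]

lemma L_hom_ext {m : SimplexCategory} {A : FormalCoproduct.{u} D}
    {t t' : A ⟶ (L K n u).obj (op m)}
    (h1 : t ≫ (pr1 K n u).app (op m) = t' ≫ (pr1 K n u).app (op m))
    (h2 : ∀ α : ⦋n⦌ ⟶ m, t ≫ (pr2 K n u).app (op m) ≫ Rπ (m := op m) α =
      t' ≫ (pr2 K n u).app (op m) ≫ Rπ (m := op m) α) :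
    t = t' := by
  apply (isPullback_L_app K n u m).hom_ext h1
  apply R_hom_ext
  intro α
  rw [Category.assoc, Category.assoc]
  exact h2 α

end L

section Fill

variable (J : GrothendieckTopology D) {K : SimplicialObject (FormalCoproduct.{u} D)} {n : ℕ}
  {Z : FormalCoproduct.{u} D} {u : Z ⟶ K _⦋n⦌}

/-- maps `[n] ⟶ N` which factor through an object of dimension `≤ j` -/
def Fct (n j : ℕ) (N : SimplexCategory) (ε : ⦋n⦌ ⟶ N) : Prop :=
  ∃ (a : SimplexCategory) (_ : a.len ≤ j) (α : ⦋n⦌ ⟶ a) (β : a ⟶ N), α ≫ β = ε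

/-- **local filling in the refinement** -/
theorem famFill_L (j : ℕ) (N : SimplexCategory) (hK : FamFill J K j N) (hu : LiftCov J u) :
    FamFill J (L K n u) j N := by
  intro Y y hy
  have hyK : IsFam K j N (fun a ha β => y a ha β ≫ (pr1 K n u).app (op a)) := by
    intro a b ha hb θ β
    dsimp only
    rw [hy a b ha hb θ β, Category.assoc, Category.assoc, (pr1 K n u).naturality]
  obtain ⟨S, hS, H⟩ := hK Y _ hyK
  refine exists_cover_bind (J := J)
    (fun W k' => ∃ t : (FormalCoproduct.incl D).obj W ⟶ (L K n u).obj (op N),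
      ∀ (a : SimplexCategory) (ha : a.len ≤ j) (β : a ⟶ N),
        t ≫ (L K n u).map β.op = (FormalCoproduct.incl D).map k' ≫ y a ha β) S hS ?_
  intro Y' g hg
  obtain ⟨k, hk⟩ := H g hg
  -- lift the non-factorable components through `u`
  obtain ⟨S', hS', H'⟩ := Groth.Agent.Lib.Helper15.HyperCone.exists_common_cover (J := J) (U := Y')
    (T := Set.ofPred (fun ε : ⦋n⦌ ⟶ N => ¬ Fct n j N ε)) (Set.toFinite _)
    (fun ε V g' => ∃ z : (FormalCoproduct.incl D).obj V ⟶ Z,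
      z ≫ u = (FormalCoproduct.incl D).map g' ≫ k ≫ K.map ε.op)
    (fun ε _ => hu Y' (k ≫ K.map ε.op))
  refine ⟨S', hS', fun Y'' g' hg' => ?_⟩
  have Hz := H' g' hg'
  classical
  -- the canonical points of `L_n` attached to factorable maps
  let lam : ∀ ε : ⦋n⦌ ⟶ N, Fct n j N ε →
      ((FormalCoproduct.incl D).obj Y ⟶ (L K n u).obj (op ⦋n⦌)) := fun ε h =>
    fval (L K n u) y h.choose_spec.choose h.choose_spec.choose_spec.choose
      h.choose_spec.choose_spec.choose_spec.choose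
  have lam_eq : ∀ (ε : ⦋n⦌ ⟶ N) (h : Fct n j N ε) (a : SimplexCategory) (ha : a.len ≤ j)
      (α : ⦋n⦌ ⟶ a) (β : a ⟶ N), α ≫ β = ε → lam ε h = fval (L K n u) y ha α β :=
    fun ε h a ha α β hε => fval_indep hy _ ha _ _ α β
      (h.choose_spec.choose_spec.choose_spec.choose_spec.trans hε.symm)
  let ζ : (⦋n⦌ ⟶ N) → ((FormalCoproduct.incl D).obj Y'' ⟶ Z) := fun ε =>
    if h : Fct n j N ε then
      (FormalCoproduct.incl D).map (g' ≫ g) ≫ lam ε h ≫ (pr2 K n u).app (op ⦋n⦌) ≫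
        Rπ (m := op ⦋n⦌) (𝟙 _)
    else (Hz ε h).choose
  have hζ_fct : ∀ (a : SimplexCategory) (ha : a.len ≤ j) (α : ⦋n⦌ ⟶ a) (β : a ⟶ N),
      ζ (α ≫ β) = (FormalCoproduct.incl D).map (g' ≫ g) ≫ y a ha β ≫
        (pr2 K n u).app (op a) ≫ Rπ (m := op a) α := by
    intro a ha α β
    have h : Fct n j N (α ≫ β) := ⟨a, ha, α, β, rfl⟩
    have e1 : ζ (α ≫ β) = (FormalCoproduct.incl D).map (g' ≫ g) ≫ lam (α ≫ β) h ≫
        (pr2 K n u).app (op ⦋n⦌) ≫ Rπ (m := op ⦋n⦌) (𝟙 _) := dif_pos h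
    have e2 : (L K n u).map α.op ≫ (pr2 K n u).app (op ⦋n⦌) ≫ Rπ (m := op ⦋n⦌) (𝟙 _) =
        (pr2 K n u).app (op a) ≫ Rπ (m := op a) α := by
      rw [← Category.assoc, (pr2 K n u).naturality, Category.assoc, R_map_π]
      exact congrArg (fun γ => (pr2 K n u).app (op a) ≫ Rπ (m := op a) γ) (Category.id_comp α)
    rw [e1, lam_eq _ h a ha α β rfl, fval, Category.assoc, e2]
  have hζ : ∀ ε : ⦋n⦌ ⟶ N, ζ ε ≫ u = ((FormalCoproduct.incl D).map g' ≫ k) ≫ K.map ε.op := by
    intro ε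
    by_cases h : Fct n j N ε
    · obtain ⟨a, ha, α, β, rfl⟩ := h
      have e3 : K.map (α ≫ β).op = K.map β.op ≫ K.map α.op := by
        rw [op_comp, K.map_comp]
      have e4 := hk a ha β
      rw [hζ_fct a ha α β, Category.assoc, Category.assoc, Category.assoc, L_sq, e3,
        Category.assoc, reassoc_of% e4, Functor.map_comp]
      simp only [Category.assoc]
    · have e1 : ζ ε = (Hz ε h).choose := dif_neg h
      rw [e1, (Hz ε h).choose_spec, Category.assoc]
  refine ⟨Lpt ((FormalCoproduct.incl D).map g' ≫ k) ζ hζ, fun a ha β => ?_⟩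
  apply L_hom_ext
  · rw [Category.assoc, (pr1 K n u).naturality, ← Category.assoc, Lpt_pr1, Category.assoc,
      hk a ha β, Functor.map_comp]
    simp only [Category.assoc]
  · intro α
    have e5 : (L K n u).map β.op ≫ (pr2 K n u).app (op a) ≫ Rπ (m := op a) α =
        (pr2 K n u).app (op N) ≫ Rπ (m := op N) (α ≫ β) := by
      rw [← Category.assoc, (pr2 K n u).naturality, Category.assoc, R_map_π]
      rfl
    rw [Category.assoc, e5, Lpt_pr2, hζ_fct a ha α β]
    simp only [Category.assoc]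

end Fill

section Over

variable {C : Type u} [SmallCategory C] [HasPullbacks C] (J : GrothendieckTopology C) (X : C)
  [∀ (n : ℕ) (F : (SimplexCategory.Truncated n)ᵒᵖ ⥤ FormalCoproduct.{u} (Over X)),
    (SimplexCategory.Truncated.inclusion n).op.HasRightKanExtension F]

/-- **Refinement of a hypercovering through a covering of `K_n`.** -/
theorem exists_refinement (K : SimplicialObject (FormalCoproduct.{u} (Over X)))
    (hK : Hyper.IsHypercovering J X K) (n : ℕ) (Z : FormalCoproduct.{u} (Over X))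
    (u : Z ⟶ K.obj (op (SimplexCategory.mk n))) (hu : Hyper.IsSRCovering (J.over X) u) :
    ∃ (L' : SimplicialObject (FormalCoproduct.{u} (Over X))) (f : L' ⟶ K)
      (g : L'.obj (op (SimplexCategory.mk n)) ⟶ Z),
      Hyper.IsHypercovering J X L' ∧ g ≫ u = f.app (op (SimplexCategory.mk n)) := by
  have hcov : LiftCov (J.over X) u := liftCov_of_isSRCovering u hu
  refine ⟨L K n u, pr1 K n u, (pr2 K n u).app (op ⦋n⦌) ≫ Rπ (m := op ⦋n⦌) (𝟙 _), ?_, ?_⟩
  · rw [isHypercovering_iff] at hK ⊢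
    refine ⟨?_, fun j => famFill_L (J.over X) j ⦋j + 1⦌ (hK.2 j) hcov⟩
    refine cover_of_points J X _ _ hK.1 (fun i => ?_)
    let α₀ : ⦋n⦌ ⟶ ⦋0⦌ := SimplexCategory.isTerminalZero.from ⦋n⦌
    obtain ⟨S, hS, H⟩ := hcov ((K.obj (op ⦋0⦌)).obj i)
      (FormalCoproduct.Hom.fromIncl i (𝟙 _) ≫ K.map α₀.op)
    refine ⟨S, hS, fun Y' g hg => ?_⟩
    obtain ⟨z, hz⟩ := H g hg
    refine ⟨Lpt ((FormalCoproduct.incl (Over X)).map g ≫ FormalCoproduct.Hom.fromIncl i (𝟙 _))
      (fun _ => z) (fun α => ?_)⟩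
    rw [SimplexCategory.isTerminalZero.hom_ext α α₀, hz, Category.assoc]
  · rw [Category.assoc, L_sq, op_id, K.map_id, Category.comp_id]

end Over

end Groth.Agent.Lib.Helper15.HyperRefine
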