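import Groth.Agent.Lib.Helper15.HyperRefine
import Groth.Agent.Lib.Helper15.HyperLocalKan

/-!
# Refining a hypercovering through a locally surjective map of presheaves (helper15)
-/

set_option autoImplicit false
set_option linter.unusedSectionVars false
universe u
open CategoryTheory CategoryTheory.Limits Opposite Simplicial

namespace Groth.Agent.Lib.Helper15.HyperRefineP

open Groth.Agent.Lib.Helper15.HyperOver Groth.Agent.Lib.Helper15.HyperCoskPts
  Groth.Agent.Lib.Helper15.HyperYon Groth.Agent.Lib.Helper15.HyperYon2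
  Groth.Agent.Lib.Helper15.HyperRefine

section General

variable {D : Type u} [SmallCategory D] (P : Dᵒᵖ ⥤ Type u) {T : FormalCoproduct.{u} D}
  (w : P ⟶ FormalCoproduct.yoneda.obj T)

/-- the formal coproduct of all sections of `P` -/
abbrev ZP : FormalCoproduct.{u} D := ⟨Σ Y : D, P.obj (op Y), fun z => z.1⟩

/-- the map to `T` -/
noncomputable def vP : ZP P ⟶ T :=
  ⟨fun z => ((rho T).app (op z.1) (w.app (op z.1) z.2)).f PUnit.unit,
    fun z => ((rho T).app (op z.1) (w.app (op z.1) z.2)).φ PUnit.unit⟩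

lemma fromIncl_vP {Y : D} (p : P.obj (op Y)) :
    FormalCoproduct.Hom.fromIncl (Y := ZP P) ⟨Y, p⟩ (𝟙 Y) ≫ vP P w =
      (rho T).app (op Y) (w.app (op Y) p) := by
  refine FormalCoproduct.hom_ext ?_ ?_
  · funext x
    rfl
  · intro x
    cases x
    change (𝟙 Y ≫ ((rho T).app (op Y) (w.app (op Y) p)).φ PUnit.unit) ≫ eqToHom _ = _
    simp

variable {P w} in
lemma liftCov_vP (J : GrothendieckTopology D) (hw : Presheaf.IsLocallySurjective J w) :
    LiftCov J (vP P w) := by
  intro Y b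
  refine ⟨_, hw.imageSieve_mem (elt b), fun Y' g hg => ?_⟩
  obtain ⟨p, hp⟩ := hg
  refine ⟨FormalCoproduct.Hom.fromIncl (Y := ZP P) ⟨Y', p⟩ (𝟙 Y'), ?_⟩
  rw [fromIncl_vP, hp, elt_res, rho_elt]

/-- the map from the coproduct of representables to `P` -/
noncomputable def γP : FormalCoproduct.yoneda.obj (ZP P) ⟶ P :=
  Sigma.desc (fun z : (ZP P).I => yonedaEquiv.symm z.2)

set_option backward.isDefEq.respectTransparency false in
lemma γP_comp : γP P ≫ w = FormalCoproduct.yoneda.map (vP P w) := by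
  apply Sigma.hom_ext
  intro z
  obtain ⟨Y, p⟩ := z
  have e1 : Sigma.ι (fun z : (ZP P).I => yoneda.obj ((ZP P).obj z)) ⟨Y, p⟩ ≫ γP P =
      yonedaEquiv.symm p := Sigma.ι_desc _ _
  have e2 : Sigma.ι (fun z : (ZP P).I => yoneda.obj ((ZP P).obj z)) ⟨Y, p⟩ ≫
      FormalCoproduct.yoneda.map (vP P w) =
      yoneda.map ((vP P w).φ ⟨Y, p⟩) ≫
        Sigma.ι (fun i : T.I => yoneda.obj (T.obj i)) ((vP P w).f ⟨Y, p⟩) := Sigma.ι_desc _ _
  rw [reassoc_of% e1, e2]
  apply yonedaEquiv.injective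
  refine (yonedaEquiv_comp _ _).trans ?_
  refine (congrArg (w.app (op Y)) (Equiv.apply_symm_apply yonedaEquiv p)).trans ?_
  have e3 : yonedaEquiv (yoneda.map ((vP P w).φ ⟨Y, p⟩) ≫
      Sigma.ι (fun i : T.I => yoneda.obj (T.obj i)) ((vP P w).f ⟨Y, p⟩)) =
      elt ((rho T).app (op Y) (w.app (op Y) p)) := by
    rw [yonedaEquiv_comp, yonedaEquiv_yoneda_map]
    rfl
  exact ((elt_rho _).symm.trans e3.symm)

end General

section Over

variable {C : Type u} [SmallCategory C] [HasPullbacks C] (J : GrothendieckTopology C) (X : C)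
  [∀ (n : ℕ) (F : (SimplexCategory.Truncated n)ᵒᵖ ⥤ FormalCoproduct.{u} (Over X)),
    (SimplexCategory.Truncated.inclusion n).op.HasRightKanExtension F]

theorem exists_refinement_presheaf (K : SimplicialObject (FormalCoproduct.{u} (Over X)))
    (hK : Hyper.IsHypercovering J X K) (n : ℕ)
    (P : (Over X)ᵒᵖ ⥤ Type u)
    (w : P ⟶ FormalCoproduct.yoneda.obj (K.obj (op (SimplexCategory.mk n))))
    (hw : Presheaf.IsLocallySurjective (J.over X) w) :
    ∃ (L' : SimplicialObject (FormalCoproduct.{u} (Over X))) (f : L' ⟶ K)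
      (g : FormalCoproduct.yoneda.obj (L'.obj (op (SimplexCategory.mk n))) ⟶ P),
      Hyper.IsHypercovering J X L' ∧
        g ≫ w = FormalCoproduct.yoneda.map (f.app (op (SimplexCategory.mk n))) := by
  obtain ⟨L', f, g₀, hL, hg₀⟩ := exists_refinement J X K hK n (ZP P) (vP P w)
    (isSRCovering_of_liftCov _ (liftCov_vP (J.over X) hw))
  refine ⟨L', f, FormalCoproduct.yoneda.map g₀ ≫ γP P, hL, ?_⟩
  rw [Category.assoc, γP_comp, ← Functor.map_comp, hg₀]

end Over

end Groth.Agent.Lib.Helper15.HyperRefineP
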