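import Mathlib

/-!
# Spheres in simplicial objects: from compatible faces to compatible families (helper15)

Let `K` be a simplicial object of a category `E`, `Z` an object and `x i : Z ⟶ K _⦋m+1⦌`
(`i : Fin (m+3)`) a family of "faces" satisfying the simplicial compatibility
`x j.succ ≫ δ i = x i.castSucc ≫ δ j` (`i ≤ j`).  Then the `x i` extend uniquely to a family
`y α : Z ⟶ K.obj (op a)` indexed by all `α : a ⟶ ⦋m+2⦌` with `a.len ≤ m+1`, natural in `a`
(`SphereFamily`).  This is the combinatorial input describing maps to the `(m+1)`-coskeleton in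
degree `m+2`.
-/

set_option autoImplicit false
universe v u
open CategoryTheory Opposite Simplicial

namespace Groth.Agent.Lib.Helper15.HyperSphere

variable {E : Type u} [Category.{v} E] (K : SimplicialObject E) {Z : E} {m : ℕ}
  (x : Fin (m + 3) → (Z ⟶ K _⦋m + 1⦌))

/-- the simplicial compatibility of a family of faces -/
def Compat : Prop :=
  ∀ i j : Fin (m + 2), i ≤ j → x j.succ ≫ K.δ i = x i.castSucc ≫ K.δ j

variable {K x}

/-- the value attached to a presentation `α = α' ≫ δ i` -/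
def val {a : SimplexCategory} (i : Fin (m + 3)) (α' : a ⟶ ⦋m + 1⦌) : Z ⟶ K.obj (op a) :=
  x i ≫ K.map α'.op

lemma val_lt (hx : Compat K x) {a : SimplexCategory} (i j : Fin (m + 2)) (hij : i ≤ j)
    (α₁ α₂ : a ⟶ ⦋m + 1⦌)
    (h : α₁ ≫ SimplexCategory.δ i.castSucc = α₂ ≫ SimplexCategory.δ j.succ) :
    val (x := x) i.castSucc α₁ = val (x := x) j.succ α₂ := by
  -- α₂ misses `i`
  have hmiss : ∀ t, α₂.toOrderHom t ≠ i := by
    intro t ht
    have h1 := congrArg (fun φ => φ.toOrderHom t) h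
    simp only [SimplexCategory.comp_toOrderHom, OrderHom.comp_coe, Function.comp_apply] at h1
    rw [ht] at h1
    have h2 : (SimplexCategory.δ j.succ).toOrderHom i = i.castSucc := by
      change j.succ.succAbove i = i.castSucc
      exact Fin.succAbove_of_castSucc_lt _ _ (by
        rw [Fin.castSucc_lt_succ_iff]; exact hij)
    rw [h2] at h1
    have h3 : (SimplexCategory.δ i.castSucc).toOrderHom (α₁.toOrderHom t) ≠ i.castSucc := by
      change i.castSucc.succAbove _ ≠ _
      exact Fin.succAbove_ne _ _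
    exact h3 h1
  obtain ⟨γ, hγ⟩ := SimplexCategory.eq_comp_δ_of_not_surjective' α₂ i hmiss
  have h4 : α₁ = γ ≫ SimplexCategory.δ j := by
    rw [← cancel_mono (SimplexCategory.δ i.castSucc), h, hγ, Category.assoc, Category.assoc,
      SimplexCategory.δ_comp_δ hij]
  rw [val, val, h4, hγ, op_comp, op_comp, K.map_comp, K.map_comp]
  have := hx i j hij
  change x i.castSucc ≫ K.δ j ≫ K.map γ.op = x j.succ ≫ K.δ i ≫ K.map γ.op
  rw [← Category.assoc, ← Category.assoc, this]

/-- independence of the presentation -/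
lemma val_indep (hx : Compat K x) {a : SimplexCategory} (i₁ i₂ : Fin (m + 3))
    (α₁ α₂ : a ⟶ ⦋m + 1⦌)
    (h : α₁ ≫ SimplexCategory.δ i₁ = α₂ ≫ SimplexCategory.δ i₂) :
    val (x := x) i₁ α₁ = val (x := x) i₂ α₂ := by
  rcases lt_trichotomy i₁ i₂ with hlt | heq | hgt
  · have h1 : i₁ ≠ Fin.last (m + 2) := fun h' => by
      rw [h'] at hlt; exact absurd hlt (not_lt.2 (Fin.le_last _))
    have h2 : i₂ ≠ 0 := fun h' => by
      rw [h'] at hlt; exact absurd hlt (Fin.not_lt_zero _)
    obtain ⟨i, rfl⟩ : ∃ i : Fin (m + 2), i₁ = i.castSucc := ⟨i₁.castPred h1, (Fin.castSucc_castPred _ _).symm⟩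
    obtain ⟨j, rfl⟩ : ∃ j : Fin (m + 2), i₂ = j.succ := ⟨i₂.pred h2, (Fin.succ_pred _ _).symm⟩
    exact val_lt hx i j (Fin.castSucc_lt_succ_iff.1 hlt) α₁ α₂ h
  · subst heq
    rw [cancel_mono] at h
    rw [h]
  · have h1 : i₂ ≠ Fin.last (m + 2) := fun h' => by
      rw [h'] at hgt; exact absurd hgt (not_lt.2 (Fin.le_last _))
    have h2 : i₁ ≠ 0 := fun h' => by
      rw [h'] at hgt; exact absurd hgt (Fin.not_lt_zero _)
    obtain ⟨i, rfl⟩ : ∃ i : Fin (m + 2), i₂ = i.castSucc := ⟨i₂.castPred h1, (Fin.castSucc_castPred _ _).symm⟩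
    obtain ⟨j, rfl⟩ : ∃ j : Fin (m + 2), i₁ = j.succ := ⟨i₁.pred h2, (Fin.succ_pred _ _).symm⟩
    exact (val_lt hx i j (Fin.castSucc_lt_succ_iff.1 hgt) α₂ α₁ h.symm).symm

lemma exists_presentation {a : SimplexCategory} (ha : a.len ≤ m + 1) (α : a ⟶ ⦋m + 2⦌) :
    ∃ (i : Fin (m + 3)) (α' : a ⟶ ⦋m + 1⦌), α = α' ≫ SimplexCategory.δ i := by
  apply SimplexCategory.eq_comp_δ_of_not_surjective
  intro hs
  have := Fintype.card_le_of_surjective _ hs
  simp only [Fintype.card_fin] at this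
  have h2 : (⦋m + 2⦌ : SimplexCategory).len = m + 2 := rfl
  omega

variable (K x) in
/-- the family attached to a compatible family of faces -/
noncomputable def fam {a : SimplexCategory} (ha : a.len ≤ m + 1) (α : a ⟶ ⦋m + 2⦌) :
    Z ⟶ K.obj (op a) :=
  val (x := x) (exists_presentation ha α).choose (exists_presentation ha α).choose_spec.choose

lemma fam_eq (hx : Compat K x) {a : SimplexCategory} (ha : a.len ≤ m + 1) (α : a ⟶ ⦋m + 2⦌)
    (i : Fin (m + 3)) (α' : a ⟶ ⦋m + 1⦌) (h : α = α' ≫ SimplexCategory.δ i) :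
    fam K x ha α = val (x := x) i α' :=
  val_indep hx _ _ _ _ ((exists_presentation ha α).choose_spec.choose_spec.symm.trans h)

lemma fam_δ (hx : Compat K x) (i : Fin (m + 3)) :
    fam K x (a := ⦋m + 1⦌) le_rfl (SimplexCategory.δ i) = x i := by
  rw [fam_eq hx le_rfl (SimplexCategory.δ i) i (𝟙 _) (Category.id_comp _).symm, val]
  simp

lemma fam_comp (hx : Compat K x) {a b : SimplexCategory} (ha : a.len ≤ m + 1)
    (hb : b.len ≤ m + 1) (θ : b ⟶ a) (α : a ⟶ ⦋m + 2⦌) :
    fam K x hb (θ ≫ α) = fam K x ha α ≫ K.map θ.op := by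
  obtain ⟨i, α', h⟩ := exists_presentation ha α
  rw [fam_eq hx ha α i α' h, fam_eq hx hb (θ ≫ α) i (θ ≫ α') (by rw [h, Category.assoc]),
    val, val, op_comp, K.map_comp, Category.assoc]

end Groth.Agent.Lib.Helper15.HyperSphere
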