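import Groth.Agent.Lib.Helper15.HyperKill
import Groth.Agent.Lib.Helper15.HyperH0b

/-!
# Refinements of hypercoverings and Čech cochains (helper15)

Pull-back of Čech cochains along a morphism of simplicial formal coproducts; after a refinement of a
hypercovering, a cochain of the target of a locally surjective map of presheaves lifts, and a
cochain with locally vanishing components vanishes.
-/

set_option autoImplicit false
set_option linter.unusedSectionVars false
universe u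
open CategoryTheory CategoryTheory.Limits Opposite Simplicial

namespace Groth.Agent.Lib.Helper15.HyperVerdierA

open Groth.Agent.Lib.Helper15.HyperOver Groth.Agent.Lib.Helper15.HyperCoskPts
  Groth.Agent.Lib.Helper15.HyperH0 Groth.Agent.Lib.Helper15.HyperRefine
  Groth.Agent.Lib.Helper15.HyperChase Groth.Agent.Lib.Helper15.HyperKill

section General

variable {D : Type u} [SmallCategory D]

section Rf

variable {K L M : SimplicialObject (FormalCoproduct.{u} D)} (f : L ⟶ K) (g : M ⟶ L)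
  (P : Dᵒᵖ ⥤ AddCommGrpCat.{u})

/-- the map of Čech complexes induced by a morphism of simplicial formal coproducts -/
noncomputable def cm : Cx P K ⟶ Cx P L :=
  (AlgebraicTopology.alternatingCofaceMapComplex AddCommGrpCat.{u}).map
    (((Functor.whiskeringLeft _ _ _).map (NatTrans.rightOp f)).app
      ((FormalCoproduct.evalOp.{u} D AddCommGrpCat.{u}).obj P))

/-- pull-back of cochains -/
noncomputable def rf (q : ℕ) : (E P).obj (op (K _⦋q⦌)) ⟶ (E P).obj (op (L _⦋q⦌)) :=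
  (E P).map (f.app (op ⦋q⦌)).op

lemma cm_f (q : ℕ) : (cm f P).f q = rf f P q := rfl

lemma rf_d_apply (q : ℕ) (c : (E P).obj (op (K _⦋q⦌))) :
    ((Cx P L).d q (q + 1)).hom ((rf f P q).hom c) =
      (rf f P (q + 1)).hom (((Cx P K).d q (q + 1)).hom c) := by
  have := congrArg (fun φ => φ.hom c) ((cm f P).comm q (q + 1))
  exact this

lemma rf_id_apply (q : ℕ) (c : (E P).obj (op (K _⦋q⦌))) : (rf (𝟙 K) P q).hom c = c := by
  have : rf (𝟙 K) P q = 𝟙 _ := by
    change (E P).map (𝟙 (K _⦋q⦌)).op = _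
    rw [op_id, (E P).map_id]
  rw [this]
  rfl

lemma rf_comp_apply (q : ℕ) (c : (E P).obj (op (K _⦋q⦌))) :
    (rf (g ≫ f) P q).hom c = (rf g P q).hom ((rf f P q).hom c) := by
  have : rf (g ≫ f) P q = rf f P q ≫ rf g P q := by
    change (E P).map (g.app (op ⦋q⦌) ≫ f.app (op ⦋q⦌)).op = _
    rw [op_comp, (E P).map_comp]
    rfl
  rw [this]
  rfl

variable {P} {P' : Dᵒᵖ ⥤ AddCommGrpCat.{u}} (α : P ⟶ P')

lemma Emap_map_apply {T T' : FormalCoproduct.{u} D} (v : T' ⟶ T) (c : (E P).obj (op T)) :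
    (Emap α T').hom (((E P).map v.op).hom c) = ((E P').map v.op).hom ((Emap α T).hom c) := by
  have := congrArg (fun φ => φ.hom c)
    (((FormalCoproduct.evalOp.{u} D AddCommGrpCat.{u}).map α).naturality v.op)
  exact this

lemma Emap_rf_apply (q : ℕ) (c : (E P).obj (op (K _⦋q⦌))) :
    (Emap α (L _⦋q⦌)).hom ((rf f P q).hom c) = (rf f P' q).hom ((Emap α (K _⦋q⦌)).hom c) :=
  Emap_map_apply α (f.app (op ⦋q⦌)) c

end Rf

section LL

variable {P P' : Dᵒᵖ ⥤ AddCommGrpCat.{u}} (θ : P ⟶ P') {T : FormalCoproduct.{u} D}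
  (e : (E P').obj (op T))

/-- the formal coproduct of all points of `T` together with a lift of the component of `e` -/
abbrev ZL : FormalCoproduct.{u} D :=
  ⟨Σ Y : D, {ms : ((FormalCoproduct.incl D).obj Y ⟶ T) × P.obj (op Y) //
    (θ.app (op Y)).hom ms.2 = (ev P' ms.1).hom e}, fun z => z.1⟩

/-- the map to `T` -/
def vL : ZL θ e ⟶ T :=
  ⟨fun z => z.2.1.1.f PUnit.unit, fun z => z.2.1.1.φ PUnit.unit⟩

lemma fromIncl_vL {Y : D} (m : (FormalCoproduct.incl D).obj Y ⟶ T) (s : P.obj (op Y))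
    (h : (θ.app (op Y)).hom s = (ev P' m).hom e) :
    FormalCoproduct.Hom.fromIncl (Y := ZL θ e) ⟨Y, ⟨(m, s), h⟩⟩ (𝟙 Y) ≫ vL θ e = m := by
  refine FormalCoproduct.hom_ext ?_ ?_
  · funext x
    rfl
  · intro x
    cases x
    change (𝟙 Y ≫ m.φ PUnit.unit) ≫ eqToHom _ = _
    simp

/-- the tautological lift of `e` over `ZL` -/
noncomputable def eL : (E P).obj (op (ZL θ e)) :=
  (Concrete.productEquiv (fun z : (ZL θ e).I => P.obj (op ((ZL θ e).obj z)))).symm
    (fun z => z.2.1.2)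

lemma eL_π (z : (ZL θ e).I) :
    (Pi.π (fun z : (ZL θ e).I => P.obj (op ((ZL θ e).obj z))) z).hom (eL θ e) = z.2.1.2 :=
  Concrete.productEquiv_symm_apply_π (fun z : (ZL θ e).I => P.obj (op ((ZL θ e).obj z)))
    (fun z => z.2.1.2) z

lemma Emap_eL : (Emap θ (ZL θ e)).hom (eL θ e) = ((E P').map (vL θ e).op).hom e := by
  apply E_ext
  intro z
  refine (Emap_π_apply θ (ZL θ e) z (eL θ e)).trans ?_
  rw [eL_π]
  obtain ⟨Y, ⟨⟨m, s⟩, h⟩⟩ := z
  refine h.trans ?_
  have e1 := ev_comp_apply P' (FormalCoproduct.Hom.fromIncl (Y := ZL θ e) ⟨Y, ⟨(m, s), h⟩⟩ (𝟙 Y))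
    (vL θ e) e
  rw [fromIncl_vL, ev_fromIncl_id] at e1
  exact e1.symm

/-- local surjectivity on sections -/
def LocSurj (J : GrothendieckTopology D) : Prop :=
  ∀ (Y : D) (t : P'.obj (op Y)), ∃ S ∈ J Y, ∀ ⦃Y' : D⦄ (g : Y' ⟶ Y), S g →
    ∃ s : P.obj (op Y'), (θ.app (op Y')).hom s = (P'.map g.op).hom t

variable {θ} in
lemma liftCov_vL (J : GrothendieckTopology D) (hθ : LocSurj θ J) : LiftCov J (vL θ e) := by
  intro Y b
  obtain ⟨S, hS, H⟩ := hθ Y ((ev P' b).hom e)
  refine ⟨S, hS, fun Y' g hg => ?_⟩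
  obtain ⟨s, hs⟩ := H g hg
  have h0 : (θ.app (op Y')).hom s = (ev P' ((FormalCoproduct.incl D).map g ≫ b)).hom e := by
    rw [hs]
    exact ev_res_apply P' g b e
  exact ⟨FormalCoproduct.Hom.fromIncl (Y := ZL θ e) ⟨Y', ⟨(_, s), h0⟩⟩ (𝟙 Y'),
    fromIncl_vL θ e _ s h0⟩

end LL

section KL

variable {P : Dᵒᵖ ⥤ AddCommGrpCat.{u}} {T : FormalCoproduct.{u} D} (c : (E P).obj (op T))

/-- the components of the family `c` vanish locally -/
def LocVanish (J : GrothendieckTopology D) : Prop :=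
  ∀ (Y : D) (b : (FormalCoproduct.incl D).obj Y ⟶ T), ∃ S ∈ J Y, ∀ ⦃Y' : D⦄ (g : Y' ⟶ Y), S g →
    (P.map g.op).hom ((ev P b).hom c) = 0

variable {c} in
lemma liftCov_vK' (J : GrothendieckTopology D) (hc : LocVanish c J) : LiftCov J (vK P c) := by
  intro Y b
  obtain ⟨S, hS, H⟩ := hc Y b
  refine ⟨S, hS, fun Y' g hg => ?_⟩
  have h0 : ev P ((FormalCoproduct.incl D).map g ≫ b) c = 0 := by
    rw [← ev_res_apply]; exact H g hg
  exact ⟨FormalCoproduct.Hom.fromIncl (Y := ZK P c) ⟨Y', _, h0⟩ (𝟙 Y'), fromIncl_vK P c _ h0⟩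

/-- local injectivity on sections -/
def LocInj {P' : Dᵒᵖ ⥤ AddCommGrpCat.{u}} (θ : P ⟶ P') (J : GrothendieckTopology D) : Prop :=
  ∀ (Y : D) (s : P.obj (op Y)), (θ.app (op Y)).hom s = 0 → ∃ S ∈ J Y,
    ∀ ⦃Y' : D⦄ (g : Y' ⟶ Y), S g → (P.map g.op).hom s = 0

lemma locVanish_of_locInj {P' : Dᵒᵖ ⥤ AddCommGrpCat.{u}} (θ : P ⟶ P')
    (J : GrothendieckTopology D) (hθ : LocInj θ J) (hc : (Emap θ T).hom c = 0) :
    LocVanish c J := by
  intro Y b
  apply hθ
  -- θ (ev b c) = ev b (Emap θ c) = 0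
  have h1 : (θ.app (op Y)).hom ((ev P b).hom c) = (ev P' b).hom ((Emap θ T).hom c) := by
    change (θ.app (op Y)).hom ((P.map (b.φ PUnit.unit).op).hom
      ((Pi.π (fun i : T.I => P.obj (op (T.obj i))) (b.f PUnit.unit)).hom c)) =
      (P'.map (b.φ PUnit.unit).op).hom
        ((Pi.π (fun i : T.I => P'.obj (op (T.obj i))) (b.f PUnit.unit)).hom ((Emap θ T).hom c))
    rw [Emap_π_apply]
    exact congrArg (fun φ => φ.hom
      ((Pi.π (fun i : T.I => P.obj (op (T.obj i))) (b.f PUnit.unit)).hom c))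
      (θ.naturality (b.φ PUnit.unit).op)
  rw [h1, hc, map_zero]

end KL

end General

section Over

variable {C : Type u} [SmallCategory C] [HasPullbacks C] (J : GrothendieckTopology C) (X : C)
  [∀ (n : ℕ) (F : (SimplexCategory.Truncated n)ᵒᵖ ⥤ FormalCoproduct.{u} (Over X)),
    (SimplexCategory.Truncated.inclusion n).op.HasRightKanExtension F]

/-- after a refinement, a cochain of the target of a locally surjective map lifts -/
theorem exists_lift_refinement {L : SimplicialObject (FormalCoproduct.{u} (Over X))}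
    (hL : Hyper.IsHypercovering J X L) {P P' : (Over X)ᵒᵖ ⥤ AddCommGrpCat.{u}} (θ : P ⟶ P')
    (hθ : LocSurj θ (J.over X)) (p : ℕ) (e : (E P').obj (op (L _⦋p⦌))) :
    ∃ (L' : SimplicialObject (FormalCoproduct.{u} (Over X))) (g : L' ⟶ L),
      Hyper.IsHypercovering J X L' ∧ ∃ e' : (E P).obj (op (L' _⦋p⦌)),
        (Emap θ (L' _⦋p⦌)).hom e' = (rf g P' p).hom e := by
  obtain ⟨L', g, g₀, hL', hg₀⟩ := exists_refinement J X L hL p (ZL θ e) (vL θ e)
    (isSRCovering_of_liftCov _ (liftCov_vL e (J.over X) hθ))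
  refine ⟨L', g, hL', ((E P).map g₀.op).hom (eL θ e), ?_⟩
  rw [Emap_map_apply, Emap_eL]
  have e1 : rf g P' p = (E P').map (g₀ ≫ vL θ e).op := by rw [hg₀]; rfl
  rw [e1, op_comp, (E P').map_comp]
  rfl

/-- after a refinement, a cochain with locally vanishing components vanishes -/
theorem exists_kill_refinement {L : SimplicialObject (FormalCoproduct.{u} (Over X))}
    (hL : Hyper.IsHypercovering J X L) {P : (Over X)ᵒᵖ ⥤ AddCommGrpCat.{u}} (p : ℕ)
    (c : (E P).obj (op (L _⦋p⦌))) (hc : LocVanish c (J.over X)) :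
    ∃ (L' : SimplicialObject (FormalCoproduct.{u} (Over X))) (g : L' ⟶ L),
      Hyper.IsHypercovering J X L' ∧ (rf g P p).hom c = 0 := by
  obtain ⟨L', g, g₀, hL', hg₀⟩ := exists_refinement J X L hL p (ZK P c) (vK P c)
    (isSRCovering_of_liftCov _ (liftCov_vK' (J.over X) hc))
  refine ⟨L', g, hL', ?_⟩
  have e1 : rf g P p = (E P).map (g₀ ≫ vK P c).op := by rw [hg₀]; rfl
  rw [e1, op_comp, (E P).map_comp]
  change ((E P).map g₀.op).hom (((E P).map (vK P c).op).hom c) = 0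
  have := map_vK P c
  rw [show ((E P).map (vK P c).op).hom c = 0 from this, map_zero]

end Over

end Groth.Agent.Lib.Helper15.HyperVerdierA
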