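import Groth.Agent.Lib.Helper15.HyperVerdierA
import Groth.Agent.Lib.Helper15.HyperDiagCov

/-!
# Dimension shifting for Čech classes dying in refinements of hypercoverings (helper15)
-/

set_option autoImplicit false
set_option linter.unusedSectionVars false
universe u
open CategoryTheory CategoryTheory.Limits Opposite Simplicial

namespace Groth.Agent.Lib.Helper15.HyperVerdierB

open Groth.Agent.Lib.Helper15.HyperOver Groth.Agent.Lib.Helper15.HyperCoskPts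
  Groth.Agent.Lib.Helper15.HyperH0 Groth.Agent.Lib.Helper15.HyperH0b
  Groth.Agent.Lib.Helper15.HyperChase Groth.Agent.Lib.Helper15.HyperVerdierA

section General

variable {D : Type u} [SmallCategory D]

/-- the Čech differential, with explicit source and target -/
noncomputable def dC (L : SimplicialObject (FormalCoproduct.{u} D)) (P : Dᵒᵖ ⥤ AddCommGrpCat.{u})
    (q : ℕ) : (E P).obj (op (L _⦋q⦌)) ⟶ (E P).obj (op (L _⦋q + 1⦌)) :=
  (Cx P L).d q (q + 1)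

lemma dC_dC (L : SimplicialObject (FormalCoproduct.{u} D)) (P : Dᵒᵖ ⥤ AddCommGrpCat.{u})
    (q : ℕ) (c : (E P).obj (op (L _⦋q⦌))) : (dC L P (q + 1)).hom ((dC L P q).hom c) = 0 :=
  d_d_apply L P q c

lemma Emap_dC (L : SimplicialObject (FormalCoproduct.{u} D)) {P P' : Dᵒᵖ ⥤ AddCommGrpCat.{u}}
    (α : P ⟶ P') (q : ℕ) (c : (E P).obj (op (L _⦋q⦌))) :
    (dC L P' q).hom ((Emap α (L _⦋q⦌)).hom c) = (Emap α (L _⦋q + 1⦌)).hom ((dC L P q).hom c) :=
  Cmap_d_apply α L q c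

lemma rf_dC {K L : SimplicialObject (FormalCoproduct.{u} D)} (f : L ⟶ K)
    (P : Dᵒᵖ ⥤ AddCommGrpCat.{u}) (q : ℕ) (c : (E P).obj (op (K _⦋q⦌))) :
    (dC L P q).hom ((rf f P q).hom c) = (rf f P (q + 1)).hom ((dC K P q).hom c) :=
  rf_d_apply f P q c

/-- a cochain is a coboundary (is zero, in degree `0`) -/
def IsCob (L : SimplicialObject (FormalCoproduct.{u} D)) (P : Dᵒᵖ ⥤ AddCommGrpCat.{u}) :
    (q : ℕ) → (E P).obj (op (L _⦋q⦌)) → Prop :=
  fun q => match q with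
  | 0 => fun c => c = 0
  | (q + 1) => fun c => ∃ w : (E P).obj (op (L _⦋q⦌)), (dC L P q).hom w = c

lemma cechExact_dC {L : SimplicialObject (FormalCoproduct.{u} D)} {P : Dᵒᵖ ⥤ AddCommGrpCat.{u}}
    {n : ℕ} (h : CechExact L P n) (x : (E P).obj (op (L _⦋n + 1⦌)))
    (hx : (dC L P (n + 1)).hom x = 0) : ∃ y : (E P).obj (op (L _⦋n⦌)), (dC L P n).hom y = x :=
  h x hx

variable {P : Dᵒᵖ ⥤ AddCommGrpCat.{u}} {K : SimplicialObject (FormalCoproduct.{u} D)}
  {J : GrothendieckTopology D}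

lemma iota_injective (hP : Presheaf.IsSheaf J P) (h0 : Cov0 K J) (c : Cone P) (hc : IsLimit c) :
    Function.Injective (iota c (K _⦋0⦌)).hom := by
  intro y y' hyy
  apply Concrete.isLimit_ext _ hc
  intro ⟨Y⟩
  obtain ⟨S, hS, H⟩ := h0 Y
  apply sep hP S hS
  intro Y' g hg
  obtain ⟨m⟩ := H g hg
  have e1 : P.map g.op (c.π.app (op Y) y) = c.π.app (op Y') y := by
    have := c.w g.op
    rw [← this]; rfl
  have e2 : P.map g.op (c.π.app (op Y) y') = c.π.app (op Y') y' := by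
    have := c.w g.op
    rw [← this]; rfl
  rw [e1, e2, ← iota_ev_apply c m, ← iota_ev_apply c m]
  exact congrArg _ hyy

lemma iota_rf_apply {K L : SimplicialObject (FormalCoproduct.{u} D)} (f : L ⟶ K) (c : Cone P)
    (y : c.pt) : (rf f P 0).hom ((iota c (K _⦋0⦌)).hom y) = (iota c (L _⦋0⦌)).hom y := by
  have := congrArg (fun φ => φ.hom y) (iota_map c (f.app (op ⦋0⦌)))
  exact this

end General

section Over

variable {C : Type u} [SmallCategory C] [HasPullbacks C] (J : GrothendieckTopology C) (X : C)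
  [∀ (n : ℕ) (F : (SimplexCategory.Truncated n)ᵒᵖ ⥤ FormalCoproduct.{u} (Over X)),
    (SimplexCategory.Truncated.inclusion n).op.HasRightKanExtension F]

/-- every Čech `q`-cocycle over a hypercovering of `X` becomes a coboundary on a refinement -/
def Dies (P : (Over X)ᵒᵖ ⥤ AddCommGrpCat.{u}) (q : ℕ) : Prop :=
  ∀ (K : SimplicialObject (FormalCoproduct.{u} (Over X))), Hyper.IsHypercovering J X K →
    ∀ c : (E P).obj (op (K _⦋q⦌)), (dC K P q).hom c = 0 →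
      ∃ (L : SimplicialObject (FormalCoproduct.{u} (Over X))) (f : L ⟶ K),
        Hyper.IsHypercovering J X L ∧ IsCob L P q ((rf f P q).hom c)

/-- some hypercovering of `X` -/
theorem exists_hypercovering :
    ∃ K : SimplicialObject (FormalCoproduct.{u} (Over X)), Hyper.IsHypercovering J X K := by
  refine ⟨HyperDiag.KD (Set.univ : Set (Over X)),
    HyperDiagCov.isHypercovering_KD J X _ (fun Y => ?_)⟩
  exact ⟨⊤, (J.over X).top_mem Y, fun Y' g _ => ⟨Y', Set.mem_univ _, 𝟙 _, g, Category.id_comp g⟩⟩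

variable {P₁ P₂ P₃ : (Over X)ᵒᵖ ⥤ AddCommGrpCat.{u}} {α : P₁ ⟶ P₂} {β : P₂ ⟶ P₃}
  (hα : ∀ Y : Over X, Function.Injective (α.app (op Y)).hom)
  (hαβ : ∀ (Y : Over X) (s : P₂.obj (op Y)), (β.app (op Y)).hom s = 0 →
    ∃ r : P₁.obj (op Y), (α.app (op Y)).hom r = s)
  (hzero : ∀ (Y : Over X) (r : P₁.obj (op Y)), (β.app (op Y)).hom ((α.app (op Y)).hom r) = 0)
  (hβ : LocSurj β (J.over X))
  (H2 : ∀ (L : SimplicialObject (FormalCoproduct.{u} (Over X))), Hyper.IsHypercovering J X L →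
    ∀ n : ℕ, CechExact L P₂ n)

include hα hαβ hzero hβ H2 in
theorem shift_down (q : ℕ) (h3 : Dies J X P₃ (q + 1)) : Dies J X P₁ (q + 2) := by
  intro K hK c hc
  -- α c is a coboundary
  obtain ⟨b, hb⟩ := cechExact_dC (H2 K hK (q + 1)) ((Emap α (K _⦋q + 2⦌)).hom c) (by
    rw [Emap_dC, hc, map_zero])
  -- β b is a cocycle, dying in a refinement
  obtain ⟨L, f, hL, e, he⟩ := h3 K hK ((Emap β (K _⦋q + 1⦌)).hom b) (by
    rw [Emap_dC, hb]
    exact Emap_zero hzero _ c)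
  -- lift e after a refinement
  obtain ⟨L', g, hL', e', he'⟩ := exists_lift_refinement J X hL β hβ q e
  -- corrected cochain
  obtain ⟨a, ha⟩ := Emap_exact hαβ (L' _⦋q + 1⦌)
    ((rf g P₂ (q + 1)).hom ((rf f P₂ (q + 1)).hom b) - (dC L' P₂ q).hom e') (by
    rw [map_sub, Emap_rf_apply, Emap_rf_apply, ← he, ← rf_dC, ← he', Emap_dC, sub_self])
  refine ⟨L', g ≫ f, hL', a, ?_⟩
  apply Emap_injective hα
  rw [← Emap_dC, ha, map_sub, dC_dC, sub_zero, rf_dC, rf_dC, hb, rf_comp_apply, Emap_rf_apply,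
    Emap_rf_apply]

include hα hαβ hzero hβ H2 in
theorem shift_up (q : ℕ) (h1 : Dies J X P₁ (q + 2)) : Dies J X P₃ (q + 1) := by
  intro K hK e he
  -- lift e after a refinement
  obtain ⟨L, f, hL, b, hb⟩ := exists_lift_refinement J X hK β hβ (q + 1) e
  -- d b comes from P₁
  obtain ⟨c, hc⟩ := Emap_exact hαβ (L _⦋q + 2⦌) ((dC L P₂ (q + 1)).hom b) (by
    rw [← Emap_dC, hb, rf_dC, he, map_zero])
  have hdc : (dC L P₁ (q + 2)).hom c = 0 := by
    apply Emap_injective hα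
    rw [← Emap_dC, hc, dC_dC, map_zero]
  obtain ⟨L', g, hL', a, ha⟩ := h1 L hL c hdc
  -- corrected cochain is a cocycle, hence a coboundary
  obtain ⟨b'', hb''⟩ := cechExact_dC (H2 L' hL' q)
    ((rf g P₂ (q + 1)).hom b - (Emap α (L' _⦋q + 1⦌)).hom a) (by
    rw [map_sub, rf_dC, ← hc, Emap_dC, ha, Emap_rf_apply, sub_self])
  refine ⟨L', g ≫ f, hL', (Emap β (L' _⦋q⦌)).hom b'', ?_⟩
  rw [Emap_dC, hb'', map_sub, Emap_zero hzero, sub_zero, Emap_rf_apply, hb, rf_comp_apply]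

section Deg1

variable (hP₂ : Presheaf.IsSheaf (J.over X) P₂) (hP₃ : Presheaf.IsSheaf (J.over X) P₃)
  (c₂ : Cone P₂) (hc₂ : IsLimit c₂) (c₃ : Cone P₃) (hc₃ : IsLimit c₃) (a : c₂.pt ⟶ c₃.pt)
  (ha : ∀ Y : Over X, a ≫ c₃.π.app (op Y) = c₂.π.app (op Y) ≫ β.app (op Y))

include hα hαβ hzero H2 hP₃ hc₃ ha in
theorem deg1_of_surjective (hsurj : Function.Surjective a.hom) : Dies J X P₁ 1 := by
  intro K hK c hc
  obtain ⟨b, hb⟩ := cechExact_dC (H2 K hK 0) ((Emap α (K _⦋1⦌)).hom c) (by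
    rw [Emap_dC, hc, map_zero])
  obtain ⟨t, ht⟩ := exists_iota_eq hP₃ (cov0_over J X K hK.1) (cov1_over J X K (hK.2 0))
    c₃ hc₃ ((Emap β (K _⦋0⦌)).hom b) (by
    have : (dC K P₃ 0).hom ((Emap β (K _⦋0⦌)).hom b) = 0 := by
      rw [Emap_dC, hb]
      exact Emap_zero hzero _ c
    exact this)
  obtain ⟨s, rfl⟩ := hsurj t
  obtain ⟨a₁, ha₁⟩ := Emap_exact hαβ (K _⦋0⦌) (b - (iota c₂ (K _⦋0⦌)).hom s) (by
    rw [map_sub, Emap_iota β c₂ c₃ a ha, ht, sub_self])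
  refine ⟨K, 𝟙 K, hK, a₁, ?_⟩
  apply Emap_injective hα
  rw [← Emap_dC, ha₁, map_sub, hb, rf_id_apply]
  have : (dC K P₂ 0).hom ((iota c₂ (K _⦋0⦌)).hom s) = 0 := iota_d_apply c₂ s
  rw [this, sub_zero]

include hα hαβ hzero hβ hP₂ hP₃ hc₂ hc₃ ha in
theorem surjective_of_deg1 (h1 : Dies J X P₁ 1) : Function.Surjective a.hom := by
  intro t
  obtain ⟨K₀, hK₀⟩ := exists_hypercovering J X
  obtain ⟨L, f, hL, b, hb⟩ := exists_lift_refinement J X hK₀ β hβ 0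
    ((iota c₃ (K₀ _⦋0⦌)).hom t)
  rw [iota_rf_apply] at hb
  obtain ⟨c, hc⟩ := Emap_exact hαβ (L _⦋1⦌) ((dC L P₂ 0).hom b) (by
    rw [← Emap_dC, hb]
    exact iota_d_apply c₃ t)
  have hdc : (dC L P₁ 1).hom c = 0 := by
    apply Emap_injective hα
    rw [← Emap_dC, hc, dC_dC, map_zero]
  obtain ⟨L', g, hL', a₁, ha₁⟩ := h1 L hL c hdc
  obtain ⟨s, hs⟩ := exists_iota_eq hP₂ (cov0_over J X L' hL'.1) (cov1_over J X L' (hL'.2 0))
    c₂ hc₂ ((rf g P₂ 0).hom b - (Emap α (L' _⦋0⦌)).hom a₁) (by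
    have : (dC L' P₂ 0).hom ((rf g P₂ 0).hom b - (Emap α (L' _⦋0⦌)).hom a₁) = 0 := by
      rw [map_sub, rf_dC, ← hc, Emap_dC, ha₁, Emap_rf_apply, sub_self]
    exact this)
  refine ⟨s, ?_⟩
  apply iota_injective hP₃ (cov0_over J X L' hL'.1) c₃ hc₃
  rw [← Emap_iota β c₂ c₃ a ha, hs, map_sub, Emap_zero hzero, sub_zero, Emap_rf_apply, hb,
    iota_rf_apply]

end Deg1

section Deg0

variable {P : (Over X)ᵒᵖ ⥤ AddCommGrpCat.{u}} (hP : Presheaf.IsSheaf (J.over X) P)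
  (c : Cone P) (hc : IsLimit c)

include hP hc in
theorem deg0_iff : Subsingleton c.pt ↔ Dies J X P 0 := by
  constructor
  · intro h K hK c₀ hc₀
    obtain ⟨t, ht⟩ := exists_iota_eq hP (cov0_over J X K hK.1) (cov1_over J X K (hK.2 0))
      c hc c₀ hc₀
    refine ⟨K, 𝟙 K, hK, ?_⟩
    change (rf (𝟙 K) P 0).hom c₀ = 0
    rw [rf_id_apply, ← ht, Subsingleton.elim t 0, map_zero]
  · intro h
    refine ⟨fun t t' => ?_⟩
    obtain ⟨K₀, hK₀⟩ := exists_hypercovering J X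
    have key : ∀ t : c.pt, t = 0 := by
      intro t
      obtain ⟨L, f, hL, h0⟩ := h K₀ hK₀ ((iota c (K₀ _⦋0⦌)).hom t) (iota_d_apply c t)
      change (rf f P 0).hom ((iota c (K₀ _⦋0⦌)).hom t) = 0 at h0
      rw [iota_rf_apply] at h0
      apply iota_injective hP (cov0_over J X L hL.1) c hc
      rw [h0, map_zero]
    rw [key t, key t']

end Deg0

end Over

end Groth.Agent.Lib.Helper15.HyperVerdierB
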