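import Groth.Agent.Lib.Helper15.HyperVerdierB
import Groth.Agent.Lib.Helper15.CohShift
import Groth.Agent.Lib.Helper15.HyperAcyclic
import Groth.Prelude.Def_CechEdge

/-!
# Map-free form of Verdier's theorem on hypercoverings (helper15)
-/

set_option autoImplicit false
set_option linter.unusedSectionVars false
universe u
open CategoryTheory CategoryTheory.Limits Opposite Simplicial

namespace Groth.Agent.Lib.Helper15.HyperVerdierC

open Groth.Agent.Lib.Helper15.HyperOver Groth.Agent.Lib.Helper15.HyperCoskPts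
  Groth.Agent.Lib.Helper15.HyperH0 Groth.Agent.Lib.Helper15.HyperH0b
  Groth.Agent.Lib.Helper15.HyperChase Groth.Agent.Lib.Helper15.HyperVerdierA
  Groth.Agent.Lib.Helper15.HyperVerdierB Groth.Agent.Lib.Helper15.HyperAcyclic
  Groth.Agent.Lib.Helper15.AcyclicSheaf

section General

variable {D : Type u} [SmallCategory D] (L : SimplicialObject (FormalCoproduct.{u} D))
  (P : Dᵒᵖ ⥤ AddCommGrpCat.{u})

lemma exists_cycle (q : ℕ) (c : (E P).obj (op (L _⦋q⦌))) (hc : (dC L P q).hom c = 0) :
    ∃ z : (Cx P L).cycles q, ((Cx P L).iCycles q).hom z = c := by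
  have hex : (ShortComplex.mk ((Cx P L).iCycles q) ((Cx P L).d q (q + 1))
      ((Cx P L).iCycles_d q (q + 1))).Exact :=
    ShortComplex.exact_of_f_is_kernel _ ((Cx P L).cyclesIsKernel q (q + 1) (by simp))
  rw [ShortComplex.ab_exact_iff] at hex
  exact hex c hc

lemma iCycles_injective (q : ℕ) : Function.Injective ((Cx P L).iCycles q).hom :=
  (AddCommGrpCat.mono_iff_injective _).1 inferInstance

lemma dC_iCycles (q : ℕ) (z : (Cx P L).cycles q) :
    (dC L P q).hom (((Cx P L).iCycles q).hom z) = 0 := by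
  have := congrArg (fun φ => φ.hom z) ((Cx P L).iCycles_d q (q + 1))
  exact this

lemma homologyπ_eq_zero_iff_exists (q j : ℕ) (hj : (ComplexShape.up ℕ).prev q = j)
    (z : (Cx P L).cycles q) :
    ((Cx P L).homologyπ q).hom z = 0 ↔
      ∃ w : (Cx P L).X j, ((Cx P L).toCycles j q).hom w = z := by
  have hex : (ShortComplex.mk ((Cx P L).toCycles j q) ((Cx P L).homologyπ q)
      ((Cx P L).toCycles_comp_homologyπ j q)).Exact :=
    ShortComplex.exact_of_g_is_cokernel _ ((Cx P L).homologyIsCokernel j q hj)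
  rw [ShortComplex.ab_exact_iff] at hex
  constructor
  · intro h
    exact hex z h
  · rintro ⟨w, rfl⟩
    have := congrArg (fun φ => φ.hom w) ((Cx P L).toCycles_comp_homologyπ j q)
    exact this

lemma toCycles_iCycles_apply (j q : ℕ) (w : (Cx P L).X j) :
    ((Cx P L).iCycles q).hom (((Cx P L).toCycles j q).hom w) = ((Cx P L).d j q).hom w := by
  have := congrArg (fun φ => φ.hom w) ((Cx P L).toCycles_i j q)
  exact this

theorem homologyπ_eq_zero_iff (q : ℕ) (z : (Cx P L).cycles q) :
    ((Cx P L).homologyπ q).hom z = 0 ↔ IsCob L P q (((Cx P L).iCycles q).hom z) := by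
  cases q with
  | zero =>
    rw [homologyπ_eq_zero_iff_exists L P 0 0 CochainComplex.prev_nat_zero]
    change _ ↔ ((Cx P L).iCycles 0).hom z = 0
    constructor
    · rintro ⟨w, rfl⟩
      rw [toCycles_iCycles_apply, (Cx P L).shape 0 0 (by simp)]
      rfl
    · intro h
      refine ⟨0, ?_⟩
      apply iCycles_injective
      rw [map_zero, map_zero, h]
  | succ q =>
    rw [homologyπ_eq_zero_iff_exists L P (q + 1) q (CochainComplex.prev_nat_succ q)]
    change _ ↔ ∃ w : (E P).obj (op (L _⦋q⦌)), (dC L P q).hom w = _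
    constructor
    · rintro ⟨w, rfl⟩
      exact ⟨w, (toCycles_iCycles_apply L P q (q + 1) w).symm⟩
    · rintro ⟨w, hw⟩
      refine ⟨w, ?_⟩
      apply iCycles_injective
      rw [toCycles_iCycles_apply]
      exact hw

end General

section Over

variable {C : Type u} [SmallCategory C] [HasPullbacks C] (J : GrothendieckTopology C) (X : C)
  [∀ (n : ℕ) (F : (SimplexCategory.Truncated n)ᵒᵖ ⥤ FormalCoproduct.{u} (Over X)),
    (SimplexCategory.Truncated.inclusion n).op.HasRightKanExtension F]

lemma cechMap_eq {K L : SimplicialObject (FormalCoproduct.{u} (Over X))} (f : L ⟶ K)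
    (G : Cᵒᵖ ⥤ AddCommGrpCat.{u}) : Hyper.cechMap X f G = cm f (rs X G) := rfl

lemma cechHMap_homologyπ {K L : SimplicialObject (FormalCoproduct.{u} (Over X))} (f : L ⟶ K)
    (G : Cᵒᵖ ⥤ AddCommGrpCat.{u}) (q : ℕ) (z : (Cx (rs X G) K).cycles q) :
    Hyper.cechHMap X f G q (((Cx (rs X G) K).homologyπ q).hom z) =
      ((Cx (rs X G) L).homologyπ q).hom
        ((HomologicalComplex.cyclesMap (cm f (rs X G)) q).hom z) := by
  have h3 := ConcreteCategory.congr_hom
    (HomologicalComplex.homologyπ_naturality (cm f (rs X G)) q) z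
  exact h3

lemma iCycles_cyclesMap {K L : SimplicialObject (FormalCoproduct.{u} (Over X))} (f : L ⟶ K)
    (P : (Over X)ᵒᵖ ⥤ AddCommGrpCat.{u}) (q : ℕ) (z : (Cx P K).cycles q) :
    ((Cx P L).iCycles q).hom ((HomologicalComplex.cyclesMap (cm f P) q).hom z) =
      (rf f P q).hom (((Cx P K).iCycles q).hom z) := by
  have e := ConcreteCategory.congr_hom (HomologicalComplex.cyclesMap_i (cm f P) q) z
  exact e

/-- the statement about Čech cohomology classes, in terms of cocycles -/
theorem classes_die_iff (G : Cᵒᵖ ⥤ AddCommGrpCat.{u}) (q : ℕ) :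
    (∀ (K : SimplicialObject (FormalCoproduct.{u} (Over X))), Hyper.IsHypercovering J X K →
      ∀ ξ : Hyper.cechH X K G q,
        ∃ (L : SimplicialObject (FormalCoproduct.{u} (Over X))) (f : L ⟶ K),
          Hyper.IsHypercovering J X L ∧ Hyper.cechHMap X f G q ξ = 0) ↔
      Dies J X (rs X G) q := by
  constructor
  · intro h K hK c hc
    obtain ⟨z, rfl⟩ := exists_cycle K (rs X G) q c hc
    obtain ⟨L, f, hL, h0⟩ := h K hK (((Cx (rs X G) K).homologyπ q).hom z)
    refine ⟨L, f, hL, ?_⟩
    rw [cechHMap_homologyπ, homologyπ_eq_zero_iff, iCycles_cyclesMap] at h0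
    exact h0
  · intro h K hK ξ
    have hsurj : Function.Surjective ((Cx (rs X G) K).homologyπ q).hom :=
      (AddCommGrpCat.epi_iff_surjective _).1 inferInstance
    obtain ⟨z, rfl⟩ := hsurj ξ
    obtain ⟨L, f, hL, h0⟩ := h K hK (((Cx (rs X G) K).iCycles q).hom z)
      (dC_iCycles K (rs X G) q z)
    refine ⟨L, f, hL, ?_⟩
    rw [cechHMap_homologyπ, homologyπ_eq_zero_iff, iCycles_cyclesMap]
    exact h0

omit [HasPullbacks C] [∀ (n : ℕ) (F : (SimplexCategory.Truncated n)ᵒᵖ ⥤ FormalCoproduct.{u} (Over X)),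
    (SimplexCategory.Truncated.inclusion n).op.HasRightKanExtension F] in
lemma locSurj_of_epi {F G : Sheaf J AddCommGrpCat.{u}} (φ : F ⟶ G) [Epi φ] :
    LocSurj (Functor.whiskerLeft (Over.forget X).op φ.hom) (J.over X) := by
  intro Y t
  have h1 : Sheaf.IsLocallySurjective φ :=
    (Sheaf.isLocallySurjective_iff_epi' AddCommGrpCat.{u} φ).2 inferInstance
  have h2 : Presheaf.imageSieve φ.hom t ∈ J Y.left := Presheaf.imageSieve_mem J φ.hom t
  refine ⟨(Sieve.overEquiv Y).symm (Presheaf.imageSieve φ.hom t), ?_, fun Y' g hg => ?_⟩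
  · rw [GrothendieckTopology.mem_over_iff]
    have e : (Sieve.overEquiv Y) ((Sieve.overEquiv Y).symm (Presheaf.imageSieve φ.hom t)) =
        Presheaf.imageSieve φ.hom t := (Sieve.overEquiv Y).apply_symm_apply _
    exact e.symm ▸ h2
  · rw [Sieve.overEquiv_symm_iff] at hg
    obtain ⟨s, hs⟩ := hg
    exact ⟨s, hs⟩

/-- **Verdier's theorem, map-free form**: `H^q(X, F) = 0` iff every Čech `q`-cocycle of `F` over a
hypercovering of `X` becomes a coboundary on a refinement. -/
theorem verdier (q : ℕ) : ∀ F : Sheaf J AddCommGrpCat.{u},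
    Subsingleton (CohSite.HU F q X) ↔ Dies J X (rs X F.obj) q := by
  -- the data attached to a sheaf
  have setup : ∀ F : Sheaf J AddCommGrpCat.{u},
      ∃ (S : ShortComplex (Sheaf J AddCommGrpCat.{u})) (_ : S.ShortExact) (_ : Injective S.X₂),
        S.X₁ = F := by
    intro F
    let ι := Injective.ι F
    refine ⟨ShortComplex.mk ι (cokernel.π ι) (cokernel.condition ι),
      { exact := ShortComplex.exact_cokernel ι
        mono_f := inferInstanceAs (Mono ι)
        epi_g := inferInstanceAs (Epi (cokernel.π ι)) },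
      inferInstanceAs (Injective (Injective.under F)), rfl⟩
  have sheafOver : ∀ F : Sheaf J AddCommGrpCat.{u},
      Presheaf.IsSheaf (J.over X) (rs X F.obj) :=
    fun F => ((J.overPullback AddCommGrpCat.{u} X).obj F).2
  have H2 : ∀ (I : Sheaf J AddCommGrpCat.{u}) [Injective I]
      (L : SimplicialObject (FormalCoproduct.{u} (Over X))), Hyper.IsHypercovering J X L →
      ∀ n : ℕ, CechExact L (rs X I.obj) n := fun I _ L hL n =>
    (cechExact_iff L _ n).1 (Groth.Agent.S0895.result J X L hL I n)
  induction q with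
  | zero =>
    intro F
    rw [← deg0_iff J X (sheafOver F) (cn X F.obj) (limitOfDiagramInitial _ _)]
    exact (CechEdge.sectH0 J X F).toEquiv.symm.subsingleton_congr
  | succ q ih =>
    intro F
    obtain ⟨S, hS, hI, rfl⟩ := setup F
    have : Epi S.g := hS.epi_g
    have hα := fun Y : Over X => injective_of_shortExact hS Y.left
    have hαβ := fun Y : Over X => exact_of_shortExact hS Y.left
    have hzero := fun Y : Over X => zero_of_shortComplex S Y.left
    have hβ := locSurj_of_epi J X S.g
    cases q with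
    | zero =>
      rw [CohShift.h1_iff hS X]
      constructor
      · intro hsurj
        exact deg1_of_surjective J X (α := Functor.whiskerLeft (Over.forget X).op S.f.hom)
          (β := Functor.whiskerLeft (Over.forget X).op S.g.hom) hα hαβ hzero (H2 S.X₂)
          (sheafOver S.X₃) (cn X S.X₂.obj) (cn X S.X₃.obj) (limitOfDiagramInitial _ _)
          (S.g.hom.app (op X)) (fun Y => (S.g.hom.naturality _).symm) hsurj
      · intro h1
        exact surjective_of_deg1 J X (α := Functor.whiskerLeft (Over.forget X).op S.f.hom)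
          (β := Functor.whiskerLeft (Over.forget X).op S.g.hom) hα hαβ hzero hβ
          (sheafOver S.X₂) (sheafOver S.X₃) (cn X S.X₂.obj) (limitOfDiagramInitial _ _)
          (cn X S.X₃.obj) (limitOfDiagramInitial _ _)
          (S.g.hom.app (op X)) (fun Y => (S.g.hom.naturality _).symm) h1
    | succ q =>
      rw [CohShift.shift hS q X, ih S.X₃]
      constructor
      · exact shift_down J X (α := Functor.whiskerLeft (Over.forget X).op S.f.hom)
          (β := Functor.whiskerLeft (Over.forget X).op S.g.hom) hα hαβ hzero hβ (H2 S.X₂) q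
      · exact shift_up J X (α := Functor.whiskerLeft (Over.forget X).op S.f.hom)
          (β := Functor.whiskerLeft (Over.forget X).op S.g.hom) hα hαβ hzero hβ (H2 S.X₂) q

end Over

end Groth.Agent.Lib.Helper15.HyperVerdierC
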