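import Groth.Agent.Lib.Helper15.HyperVerdierC

/-!
# Verdier's theorem (map-free form) for presheaves (helper15)
-/

set_option autoImplicit false
set_option linter.unusedSectionVars false
universe u
open CategoryTheory CategoryTheory.Limits Opposite Simplicial

namespace Groth.Agent.Lib.Helper15.HyperVerdierD

open Groth.Agent.Lib.Helper15.HyperOver Groth.Agent.Lib.Helper15.HyperCoskPts
  Groth.Agent.Lib.Helper15.HyperH0 Groth.Agent.Lib.Helper15.HyperH0b
  Groth.Agent.Lib.Helper15.HyperChase Groth.Agent.Lib.Helper15.HyperVerdierA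
  Groth.Agent.Lib.Helper15.HyperVerdierB Groth.Agent.Lib.Helper15.HyperVerdierC
  Groth.Agent.Lib.Helper15.HyperAcyclic

variable {C : Type u} [SmallCategory C] [HasPullbacks C] (J : GrothendieckTopology C) (X : C)
  [∀ (n : ℕ) (F : (SimplexCategory.Truncated n)ᵒᵖ ⥤ FormalCoproduct.{u} (Over X)),
    (SimplexCategory.Truncated.inclusion n).op.HasRightKanExtension F]

variable {P P' : (Over X)ᵒᵖ ⥤ AddCommGrpCat.{u}} (θ : P ⟶ P')
  (hi : LocInj θ (J.over X)) (hs : LocSurj θ (J.over X))

include hi hs in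
theorem dies_of_dies_target (q : ℕ) (h : Dies J X P' q) : Dies J X P q := by
  intro K hK c hc
  obtain ⟨L, f, hL, hcob⟩ := h K hK ((Emap θ (K _⦋q⦌)).hom c) (by
    rw [Emap_dC, hc, map_zero])
  cases q with
  | zero =>
    change (rf f P' 0).hom ((Emap θ (K _⦋0⦌)).hom c) = 0 at hcob
    rw [← Emap_rf_apply] at hcob
    obtain ⟨L', g, hL', h0⟩ := exists_kill_refinement J X hL 0 ((rf f P 0).hom c)
      (locVanish_of_locInj _ θ (J.over X) hi hcob)
    refine ⟨L', g ≫ f, hL', ?_⟩
    change (rf (g ≫ f) P 0).hom c = 0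
    rw [rf_comp_apply, h0]
  | succ q =>
    obtain ⟨w, hw⟩ := hcob
    obtain ⟨L', g, hL', w', hw'⟩ := exists_lift_refinement J X hL θ hs q w
    obtain ⟨L'', k, hL'', h0⟩ := exists_kill_refinement J X hL' (q + 1)
      ((dC L' P q).hom w' - (rf g P (q + 1)).hom ((rf f P (q + 1)).hom c))
      (locVanish_of_locInj _ θ (J.over X) hi (by
        rw [map_sub, ← Emap_dC, hw', rf_dC, hw, Emap_rf_apply, Emap_rf_apply, sub_self]))
    refine ⟨L'', k ≫ g ≫ f, hL'', (rf k P q).hom w', ?_⟩
    rw [map_sub, sub_eq_zero] at h0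
    rw [rf_dC, h0, rf_comp_apply, rf_comp_apply]

include hi hs in
theorem dies_of_dies_source (q : ℕ) (h : Dies J X P q) : Dies J X P' q := by
  intro K hK c hc
  obtain ⟨L, f, hL, c', hc'⟩ := exists_lift_refinement J X hK θ hs q c
  obtain ⟨L', g, hL', h0⟩ := exists_kill_refinement J X hL (q + 1) ((dC L P q).hom c')
    (locVanish_of_locInj _ θ (J.over X) hi (by
      rw [← Emap_dC, hc', rf_dC, hc, map_zero]))
  obtain ⟨L'', k, hL'', hcob⟩ := h L' hL' ((rf g P q).hom c') (by rw [rf_dC, h0])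
  refine ⟨L'', k ≫ g ≫ f, hL'', ?_⟩
  have e1 : (rf (k ≫ g ≫ f) P' q).hom c =
      (Emap θ (L'' _⦋q⦌)).hom ((rf k P q).hom ((rf g P q).hom c')) := by
    rw [rf_comp_apply, rf_comp_apply, Emap_rf_apply, Emap_rf_apply, hc']
  rw [e1]
  cases q with
  | zero =>
    change (rf k P 0).hom ((rf g P 0).hom c') = 0 at hcob
    change (Emap θ (L'' _⦋0⦌)).hom ((rf k P 0).hom ((rf g P 0).hom c')) = 0
    rw [hcob, map_zero]
  | succ q =>
    obtain ⟨w, hw⟩ := hcob
    exact ⟨(Emap θ (L'' _⦋q⦌)).hom w, by rw [Emap_dC, hw]⟩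

omit [HasPullbacks C] [∀ (n : ℕ) (F : (SimplexCategory.Truncated n)ᵒᵖ ⥤ FormalCoproduct.{u} (Over X)),
    (SimplexCategory.Truncated.inclusion n).op.HasRightKanExtension F] in
lemma locInj_toSheafify (G : Cᵒᵖ ⥤ AddCommGrpCat.{u}) :
    LocInj (Functor.whiskerLeft (Over.forget X).op (toSheafify J G)) (J.over X) := by
  intro Y s hs0
  have h0 : (toSheafify J G).app (op Y.left) s = (toSheafify J G).app (op Y.left) 0 :=
    hs0.trans (map_zero _).symm
  have h2 := Presheaf.equalizerSieve_mem J (toSheafify J G) s 0 h0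
  refine ⟨(Sieve.overEquiv Y).symm (Presheaf.equalizerSieve (F := G) (X := op Y.left) s 0), ?_, fun Y' g hg => ?_⟩
  · rw [GrothendieckTopology.mem_over_iff]
    have e : (Sieve.overEquiv Y) ((Sieve.overEquiv Y).symm (Presheaf.equalizerSieve (F := G) (X := op Y.left) s 0)) =
        Presheaf.equalizerSieve (F := G) (X := op Y.left) s 0 := (Sieve.overEquiv Y).apply_symm_apply _
    exact e.symm ▸ h2
  · rw [Sieve.overEquiv_symm_iff] at hg
    exact hg.trans (map_zero _)

omit [HasPullbacks C] [∀ (n : ℕ) (F : (SimplexCategory.Truncated n)ᵒᵖ ⥤ FormalCoproduct.{u} (Over X)),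
    (SimplexCategory.Truncated.inclusion n).op.HasRightKanExtension F] in
lemma locSurj_toSheafify (G : Cᵒᵖ ⥤ AddCommGrpCat.{u}) :
    LocSurj (Functor.whiskerLeft (Over.forget X).op (toSheafify J G)) (J.over X) := by
  intro Y t
  have h2 : Presheaf.imageSieve (toSheafify J G) t ∈ J Y.left :=
    Presheaf.imageSieve_mem J (toSheafify J G) t
  refine ⟨(Sieve.overEquiv Y).symm (Presheaf.imageSieve (toSheafify J G) t), ?_,
    fun Y' g hg => ?_⟩
  · rw [GrothendieckTopology.mem_over_iff]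
    have e : (Sieve.overEquiv Y) ((Sieve.overEquiv Y).symm
        (Presheaf.imageSieve (toSheafify J G) t)) = Presheaf.imageSieve (toSheafify J G) t :=
      (Sieve.overEquiv Y).apply_symm_apply _
    exact e.symm ▸ h2
  · rw [Sieve.overEquiv_symm_iff] at hg
    obtain ⟨s, hs⟩ := hg
    exact ⟨s, hs⟩

/-- Verdier's theorem (map-free form) for the sheaf associated to a presheaf -/
theorem verdier_presheaf (G : Cᵒᵖ ⥤ AddCommGrpCat.{u}) (q : ℕ) :
    Subsingleton (CohSite.HU ((presheafToSheaf J AddCommGrpCat.{u}).obj G) q X) ↔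
      Dies J X (rs X G) q := by
  rw [verdier J X q]
  exact ⟨dies_of_dies_target J X (Functor.whiskerLeft (Over.forget X).op (toSheafify J G))
      (locInj_toSheafify J X G) (locSurj_toSheafify J X G) q,
    dies_of_dies_source J X (Functor.whiskerLeft (Over.forget X).op (toSheafify J G))
      (locInj_toSheafify J X G) (locSurj_toSheafify J X G) q⟩

end Groth.Agent.Lib.Helper15.HyperVerdierD
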