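import Mathlib

/-!
# Ind-objects of cofinite type (helper15)

`C` small abelian, all objects Artinian and torsion (killed by an element of a multiplicative
system `N ⊆ ℕ`, closed under products and divisors).  `A : Ind C` is *of cofinite type* when all
`A[k] = kernel (k • 𝟙 A)`, `k ∈ N`, are representable.  We prove: `A/nA` representable, kernels and
cokernels of maps between cofinite-type objects are of cofinite type, descending chains stabilize.
-/

set_option autoImplicit false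
open CategoryTheory CategoryTheory.Limits
universe v u

namespace Groth.Agent.Lib.Helper15.IndCof

section Tools

variable {D : Type u} [Category.{v} D] [Abelian D]

@[reassoc]
theorem nsmul_id_comm {A B : D} (f : A ⟶ B) (k : ℕ) : (k • 𝟙 A) ≫ f = f ≫ (k • 𝟙 B) := by
  rw [Preadditive.nsmul_comp, Preadditive.comp_nsmul, Category.id_comp, Category.comp_id]

theorem zsmul_id_comm {A B : D} (f : A ⟶ B) (k : ℤ) : (k • 𝟙 A) ≫ f = f ≫ (k • 𝟙 B) := by
  rw [Preadditive.zsmul_comp, Preadditive.comp_zsmul, Category.id_comp, Category.comp_id]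

theorem nsmul_id_comp_nsmul_id (A : D) (a b : ℕ) : (a • 𝟙 A) ≫ (b • 𝟙 A) = (a * b) • 𝟙 A := by
  rw [Preadditive.nsmul_comp, Preadditive.comp_nsmul, Category.id_comp, mul_smul]

theorem comp_nsmul_id_eq_zero_of_dvd {W A : D} (x : W ⟶ A) {a b : ℕ} (h : a ∣ b)
    (hx : x ≫ (a • 𝟙 A) = 0) : x ≫ (b • 𝟙 A) = 0 := by
  obtain ⟨c, rfl⟩ := h
  rw [← nsmul_id_comp_nsmul_id, ← Category.assoc, hx, zero_comp]

theorem factors_of_comp_cokernel {Z W : D} (U : Subobject Z) (f : W ⟶ Z)
    (h : f ≫ cokernel.π U.arrow = 0) : U.Factors f := by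
  have hk : IsLimit (KernelFork.ofι U.arrow (cokernel.condition U.arrow)) :=
    Abelian.monoIsKernelOfCokernel _ (colimit.isColimit _)
  have := hk.fac (KernelFork.ofι f h) WalkingParallelPair.zero
  dsimp at this
  rw [← this]
  exact Subobject.factors_comp_arrow _

theorem factors_of_epi_comp {E' E Z : D} (S : Subobject Z) (e : E' ⟶ E) [Epi e] (x : E ⟶ Z)
    (h : S.Factors (e ≫ x)) : S.Factors x := by
  apply factors_of_comp_cokernel
  rw [← cancel_epi e, comp_zero, ← Category.assoc, ← S.factorThru_arrow _ h, Category.assoc,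
    cokernel.condition, comp_zero]

theorem image_le_iff_factors {X Z : D} (f : X ⟶ Z) (S : Subobject Z) :
    imageSubobject f ≤ S ↔ S.Factors f := by
  constructor
  · intro h
    have := Subobject.factors_of_le _ h (imageSubobject_factors_comp_self (f := f) (𝟙 X))
    rwa [Category.id_comp] at this
  · intro h
    exact imageSubobject_le _ (S.factorThru _ h) (S.factorThru_arrow _ h)

theorem image_le_image_iff {X Y Z : D} (f : X ⟶ Z) (g : Y ⟶ Z) :
    imageSubobject f ≤ imageSubobject g ↔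
      ∃ (W : D) (π : W ⟶ X) (_ : Epi π) (s : W ⟶ Y), π ≫ f = s ≫ g := by
  constructor
  · intro h
    have hf := (image_le_iff_factors f _).1 h
    obtain ⟨W, π, hπ, s, hs⟩ := surjective_up_to_refinements_of_epi
      (factorThruImageSubobject g) ((imageSubobject g).factorThru f hf)
    refine ⟨W, π, hπ, s, ?_⟩
    have h2 := congrArg (· ≫ (imageSubobject g).arrow) hs
    simp only [Category.assoc, imageSubobject_arrow_comp, Subobject.factorThru_arrow] at h2
    exact h2
  · rintro ⟨W, π, hπ, s, hs⟩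
    rw [image_le_iff_factors]
    apply factors_of_epi_comp _ π
    rw [hs]
    exact imageSubobject_factors_comp_self (f := g) s

theorem image_epi_comp {X' X Z : D} (e : X' ⟶ X) [Epi e] (f : X ⟶ Z) :
    imageSubobject (e ≫ f) = imageSubobject f := by
  apply le_antisymm (imageSubobject_comp_le e f)
  rw [image_le_image_iff]
  exact ⟨X', e, inferInstance, 𝟙 _, by rw [Category.id_comp]⟩

/-- refinement form of exactness at the cokernel: `x ≫ cokernel.π f = 0` iff `x` lifts through `f`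
after a refinement. -/
theorem exists_refine_of_comp_cokernel_π {X Z W : D} (f : X ⟶ Z) (x : W ⟶ Z)
    (hx : x ≫ cokernel.π f = 0) :
    ∃ (W' : D) (π : W' ⟶ W) (_ : Epi π) (s : W' ⟶ X), π ≫ x = s ≫ f := by
  have hex : (ShortComplex.mk f (cokernel.π f) (cokernel.condition f)).Exact :=
    ShortComplex.exact_of_g_is_cokernel _ (cokernelIsCokernel f)
  rw [ShortComplex.exact_iff_exact_up_to_refinements] at hex
  exact hex x hx

theorem exists_refine_of_factors_image {X Z W : D} (f : X ⟶ Z) (x : W ⟶ Z)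
    (hx : (imageSubobject f).Factors x) :
    ∃ (W' : D) (π : W' ⟶ W) (_ : Epi π) (s : W' ⟶ X), π ≫ x = s ≫ f :=
  (image_le_image_iff x f).1 ((image_le_iff_factors x _).2 hx)

/-- Right-exact sequences compute cokernels. -/
noncomputable def cokernelIsoOfExact {S P T : D} (a : S ⟶ P) (b : P ⟶ T) [Epi b] (hab : a ≫ b = 0)
    (hex : ∀ (W : D) (x : W ⟶ P), x ≫ b = 0 →
      ∃ (W' : D) (π : W' ⟶ W) (_ : Epi π) (s : W' ⟶ S), π ≫ x = s ≫ a) :
    cokernel a ≅ T := by
  have hE : (ShortComplex.mk a b hab).Exact := by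
    rw [ShortComplex.exact_iff_exact_up_to_refinements]
    intro W x hx
    exact hex W x hx
  haveI : Epi (ShortComplex.mk a b hab).g := by dsimp; infer_instance
  exact IsColimit.coconePointUniqueUpToIso (colimit.isColimit _) hE.gIsCokernel

end Tools

section IndBasics

variable {C : Type v} [SmallCategory C] [Abelian C]

instance : (Ind.yoneda (C := C)).PreservesZeroMorphisms :=
  Functor.preservesZeroMorphisms_of_preserves_terminal_object

instance : (Ind.yoneda (C := C)).Additive :=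
  Functor.additive_of_preserves_binary_products _

theorem hom_ext {A Z : Ind C} (h h' : A ⟶ Z)
    (H : ∀ (X : C) (u : (Ind.yoneda (C := C)).obj X ⟶ A), u ≫ h = u ≫ h') : h = h' := by
  refine Ind.isSeparating_range_yoneda h h' ?_
  rintro _ ⟨X⟩ u
  exact H X u

theorem map_nsmul_id (k : ℕ) (X : C) :
    (Ind.yoneda (C := C)).map (k • 𝟙 X) = k • 𝟙 ((Ind.yoneda (C := C)).obj X) := by
  rw [Functor.map_nsmul, CategoryTheory.Functor.map_id]

theorem essImage_kernel {S T : Ind C} (g : S ⟶ T) (hS : (Ind.yoneda (C := C)).essImage S)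
    (hT : (Ind.yoneda (C := C)).essImage T) : (Ind.yoneda (C := C)).essImage (kernel g) := by
  obtain ⟨X, ⟨e⟩⟩ := hS
  obtain ⟨Z, ⟨e'⟩⟩ := hT
  obtain ⟨h, hh⟩ := (Ind.yoneda (C := C)).map_surjective (e.hom ≫ g ≫ e'.inv)
  refine ⟨kernel h, ⟨PreservesKernel.iso _ h ≪≫ kernel.mapIso _ g e e' ?_⟩⟩
  rw [hh, Category.assoc, Category.assoc, Iso.inv_hom_id, Category.comp_id]

theorem essImage_cokernel {S T : Ind C} (g : S ⟶ T) (hS : (Ind.yoneda (C := C)).essImage S)
    (hT : (Ind.yoneda (C := C)).essImage T) : (Ind.yoneda (C := C)).essImage (cokernel g) := by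
  obtain ⟨X, ⟨e⟩⟩ := hS
  obtain ⟨Z, ⟨e'⟩⟩ := hT
  obtain ⟨h, hh⟩ := (Ind.yoneda (C := C)).map_surjective (e.hom ≫ g ≫ e'.inv)
  refine ⟨cokernel h, ⟨PreservesCokernel.iso _ h ≪≫ cokernel.mapIso _ g e e' ?_⟩⟩
  rw [hh, Category.assoc, Category.assoc, Iso.inv_hom_id, Category.comp_id]

theorem essImage_pullback {S S' T : Ind C} (g : S ⟶ T) (g' : S' ⟶ T)
    (hS : (Ind.yoneda (C := C)).essImage S) (hS' : (Ind.yoneda (C := C)).essImage S')
    (hT : (Ind.yoneda (C := C)).essImage T) : (Ind.yoneda (C := C)).essImage (pullback g g') := by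
  obtain ⟨X, ⟨e⟩⟩ := hS
  obtain ⟨X', ⟨e'⟩⟩ := hS'
  obtain ⟨Z, ⟨eT⟩⟩ := hT
  obtain ⟨h, hh⟩ := (Ind.yoneda (C := C)).map_surjective (e.hom ≫ g ≫ eT.inv)
  obtain ⟨h', hh'⟩ := (Ind.yoneda (C := C)).map_surjective (e'.hom ≫ g' ≫ eT.inv)
  have e1 : (Ind.yoneda (C := C)).map h ≫ eT.hom = e.hom ≫ g := by
    rw [hh, Category.assoc, Category.assoc, Iso.inv_hom_id, Category.comp_id]
  have e2 : (Ind.yoneda (C := C)).map h' ≫ eT.hom = e'.hom ≫ g' := by
    rw [hh', Category.assoc, Category.assoc, Iso.inv_hom_id, Category.comp_id]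
  exact ⟨pullback h h', ⟨PreservesPullback.iso _ h h' ≪≫
    asIso (pullback.map _ _ g g' e.hom e'.hom eT.hom e1 e2)⟩⟩

theorem essImage_of_rightExact {S P T : Ind C} (a : S ⟶ P) (b : P ⟶ T) [Epi b] (hab : a ≫ b = 0)
    (hex : ∀ (W : Ind C) (x : W ⟶ P), x ≫ b = 0 →
      ∃ (W' : Ind C) (π : W' ⟶ W) (_ : Epi π) (s : W' ⟶ S), π ≫ x = s ≫ a)
    (hS : (Ind.yoneda (C := C)).essImage S) (hP : (Ind.yoneda (C := C)).essImage P) :
    (Ind.yoneda (C := C)).essImage T :=
  Functor.essImage.ofIso (cokernelIsoOfExact a b hab hex) (essImage_cokernel a hS hP)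

theorem essImage_of_leftExact {T P S : Ind C} (a : T ⟶ P) [Mono a] (b : P ⟶ S) (hab : a ≫ b = 0)
    (hex : ∀ (W : Ind C) (x : W ⟶ P), x ≫ b = 0 → ∃ (t : W ⟶ T), t ≫ a = x)
    (hP : (Ind.yoneda (C := C)).essImage P) (hS : (Ind.yoneda (C := C)).essImage S) :
    (Ind.yoneda (C := C)).essImage T := by
  obtain ⟨t, ht⟩ := hex _ (kernel.ι b) (kernel.condition b)
  refine Functor.essImage.ofIso ?_ (essImage_kernel b hP hS)
  refine ⟨t, kernel.lift b a hab, ?_, ?_⟩
  · rw [← cancel_mono (kernel.ι b), Category.assoc, kernel.lift_ι, ht, Category.id_comp]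
  · rw [← cancel_mono a, Category.assoc, ht, kernel.lift_ι, Category.id_comp]

theorem image_le_iff {W W' X : C} (g : W ⟶ X) (g' : W' ⟶ X) {A : Ind C}
    (u : (Ind.yoneda (C := C)).obj X ⟶ A) [Mono u] :
    imageSubobject ((Ind.yoneda (C := C)).map g ≫ u) ≤
      imageSubobject ((Ind.yoneda (C := C)).map g' ≫ u) ↔
      imageSubobject g ≤ imageSubobject g' := by
  constructor
  · intro h
    -- the image of `y g' ≫ u` is `y (image g') ≫ u`
    have h1 : imageSubobject ((Ind.yoneda (C := C)).map g' ≫ u) =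
        Subobject.mk ((Ind.yoneda (C := C)).map (imageSubobject g').arrow ≫ u) := by
      rw [← imageSubobject_mono]
      conv_lhs => rw [← imageSubobject_arrow_comp g', Functor.map_comp, Category.assoc]
      exact image_epi_comp _ _
    rw [h1, image_le_iff_factors] at h
    obtain ⟨t, ht⟩ := (Subobject.mk_factors_iff _ _).1 h
    dsimp at t ht
    rw [← Category.assoc, cancel_mono] at ht
    obtain ⟨s, rfl⟩ := (Ind.yoneda (C := C)).map_surjective t
    rw [← Functor.map_comp] at ht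
    have hs := (Ind.yoneda (C := C)).map_injective ht
    exact imageSubobject_le _ s hs
  · intro h
    have hf := (image_le_iff_factors g _).1 h
    rw [image_le_image_iff]
    obtain ⟨W'', π, hπ, s, hs⟩ := exists_refine_of_factors_image g' g hf
    refine ⟨_, (Ind.yoneda (C := C)).map π, inferInstance, (Ind.yoneda (C := C)).map s, ?_⟩
    rw [← Category.assoc, ← Functor.map_comp, hs, Functor.map_comp, Category.assoc]

/-- Artinian descending condition for images of representables inside a representable subobject. -/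
theorem exists_minimal_aux {X : C} [IsArtinianObject X] {A : Ind C}
    (u : (Ind.yoneda (C := C)).obj X ⟶ A) [Mono u]
    {I : Type*} [Nonempty I] (W : I → C) (g : ∀ i, W i ⟶ X) :
    ∃ i0, ∀ i, imageSubobject ((Ind.yoneda (C := C)).map (g i) ≫ u) ≤
        imageSubobject ((Ind.yoneda (C := C)).map (g i0) ≫ u) →
      imageSubobject ((Ind.yoneda (C := C)).map (g i0) ≫ u) ≤
        imageSubobject ((Ind.yoneda (C := C)).map (g i) ≫ u) := by
  have wf : WellFounded ((· < ·) : Subobject X → Subobject X → Prop) := wellFounded_lt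
  obtain ⟨_, ⟨i0, rfl⟩, hmin⟩ := wf.has_min (Set.range fun i => imageSubobject (g i))
    (Set.range_nonempty _)
  refine ⟨i0, fun i hi => ?_⟩
  rw [image_le_iff] at hi ⊢
  have := hmin _ ⟨i, rfl⟩
  exact le_of_eq (eq_of_le_of_not_lt hi this).symm

theorem exists_minimal (hart : ∀ X : C, IsArtinianObject X) {T A : Ind C}
    (hT : (Ind.yoneda (C := C)).essImage T) (v : T ⟶ A) [Mono v]
    {I : Type*} [Nonempty I] (Z : I → Ind C) (hZ : ∀ i, (Ind.yoneda (C := C)).essImage (Z i))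
    (h : ∀ i, Z i ⟶ T) :
    ∃ i0, ∀ i, imageSubobject (h i ≫ v) ≤ imageSubobject (h i0 ≫ v) →
      imageSubobject (h i0 ≫ v) ≤ imageSubobject (h i ≫ v) := by
  obtain ⟨X, ⟨e⟩⟩ := hT
  haveI := hart X
  choose W hW using hZ
  let eW : ∀ i, (Ind.yoneda (C := C)).obj (W i) ≅ Z i := fun i => (hW i).some
  choose g hg using fun i => (Ind.yoneda (C := C)).map_surjective ((eW i).hom ≫ h i ≫ e.inv)
  have key : ∀ i, imageSubobject (h i ≫ v) =
      imageSubobject ((Ind.yoneda (C := C)).map (g i) ≫ (e.hom ≫ v)) := by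
    intro i
    rw [hg i]
    simp only [Category.assoc, Iso.inv_hom_id_assoc]
    exact (image_epi_comp (eW i).hom (h i ≫ v)).symm
  obtain ⟨i0, hi0⟩ := exists_minimal_aux (e.hom ≫ v) W g
  refine ⟨i0, fun i hi => ?_⟩
  rw [key i, key i0] at hi ⊢
  exact hi0 i hi

end IndBasics

section Cof

variable {C : Type v} [SmallCategory C] [Abelian C]

/-- A multiplicative system of positive integers closed under divisors. -/
structure Sys (N : Set ℕ) : Prop where
  mul : ∀ {a b}, a ∈ N → b ∈ N → a * b ∈ N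
  dvd : ∀ {a b}, a ∣ b → b ∈ N → a ∈ N
  pos : ∀ {a}, a ∈ N → 0 < a

theorem sys_primePow {p : ℕ} (hp : p.Prime) : Sys {k | ∃ e : ℕ, k = p ^ e} where
  mul := by
    rintro a b ⟨e, rfl⟩ ⟨e', rfl⟩
    exact ⟨e + e', (pow_add _ _ _).symm⟩
  dvd := by
    rintro a b hab ⟨e, rfl⟩
    obtain ⟨j, _, rfl⟩ := (Nat.dvd_prime_pow hp).1 hab
    exact ⟨j, rfl⟩
  pos := by
    rintro a ⟨e, rfl⟩
    exact pow_pos hp.pos e

theorem sys_pos : Sys {k | 0 < k} where
  mul := Nat.mul_pos
  dvd := fun hab hb => Nat.pos_of_dvd_of_pos hab hb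
  pos := id

/-- every object of `C` is killed by an element of `N`. -/
def IsTor (N : Set ℕ) (C : Type v) [SmallCategory C] [Abelian C] : Prop :=
  ∀ X : C, ∃ k ∈ N, k • 𝟙 X = 0

/-- cofinite type. -/
def IsCof (N : Set ℕ) (A : Ind C) : Prop :=
  ∀ k ∈ N, (Ind.yoneda (C := C)).essImage (kernel (k • 𝟙 A))

theorem IsCof.of_iso {N : Set ℕ} {A A' : Ind C} (e : A ≅ A') (h : IsCof N A) : IsCof N A' := by
  intro k hk
  refine Functor.essImage.ofIso ?_ (h k hk)
  exact kernel.mapIso _ _ e e (nsmul_id_comm e.hom k)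

theorem exists_kills {N : Set ℕ} (htor : IsTor N C) {T : Ind C}
    (hT : (Ind.yoneda (C := C)).essImage T) : ∃ k ∈ N, k • 𝟙 T = 0 := by
  obtain ⟨X, ⟨e⟩⟩ := hT
  obtain ⟨k, hk, hX⟩ := htor X
  refine ⟨k, hk, ?_⟩
  have h1 : k • 𝟙 ((Ind.yoneda (C := C)).obj X) = 0 := by
    rw [← map_nsmul_id, hX, Functor.map_zero]
  have h2 := nsmul_id_comm e.hom k
  rw [h1, zero_comp] at h2
  rw [← cancel_epi e.hom, ← h2, comp_zero]

theorem comp_nsmul_eq_zero_of_kills {T A : Ind C} (u : T ⟶ A) {k : ℕ} (hk : k • 𝟙 T = 0) :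
    u ≫ (k • 𝟙 A) = 0 := by
  rw [← nsmul_id_comm, hk, zero_comp]

/-- multiplication by `a` from `A[a*b]` to `A[b]`. -/
noncomputable def torMul (a b : ℕ) (A : Ind C) :
    kernel ((a * b) • 𝟙 A) ⟶ kernel (b • 𝟙 A) :=
  kernel.lift _ (kernel.ι _ ≫ (a • 𝟙 A)) (by
    rw [Category.assoc, nsmul_id_comp_nsmul_id, kernel.condition])

@[reassoc (attr := simp)]
theorem torMul_ι (a b : ℕ) (A : Ind C) :
    torMul a b A ≫ kernel.ι (b • 𝟙 A) = kernel.ι ((a * b) • 𝟙 A) ≫ (a • 𝟙 A) :=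
  kernel.lift_ι _ _ _

/-- the map induced by `f` on `k`-torsion. -/
noncomputable def torMap {A B : Ind C} (f : A ⟶ B) (k : ℕ) :
    kernel (k • 𝟙 A) ⟶ kernel (k • 𝟙 B) :=
  kernel.lift _ (kernel.ι _ ≫ f) (by
    rw [Category.assoc, ← nsmul_id_comm, kernel.condition_assoc, zero_comp])

@[reassoc (attr := simp)]
theorem torMap_ι {A B : Ind C} (f : A ⟶ B) (k : ℕ) :
    torMap f k ≫ kernel.ι (k • 𝟙 B) = kernel.ι (k • 𝟙 A) ≫ f :=
  kernel.lift_ι _ _ _

variable {N : Set ℕ}

/-- The stable images `m·A[mn] ⊆ A[n]`. -/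
theorem exists_stable (hN : Sys N) (hart : ∀ X : C, IsArtinianObject X) {A : Ind C}
    (hA : IsCof N A) {n : ℕ} (hn : n ∈ N) :
    ∃ M ∈ N, ∀ m ∈ N, M ∣ m → ∀ m' ∈ N, M ∣ m' →
      imageSubobject (kernel.ι ((m * n) • 𝟙 A) ≫ (m • 𝟙 A)) ≤
        imageSubobject (kernel.ι ((m' * n) • 𝟙 A) ≫ (m' • 𝟙 A)) := by
  haveI : Nonempty {m // m ∈ N} := ⟨⟨n, hn⟩⟩
  obtain ⟨⟨M, hM⟩, hmin⟩ := exists_minimal hart (hA n hn) (kernel.ι (n • 𝟙 A))
    (fun m : {m // m ∈ N} => kernel ((m.1 * n) • 𝟙 A)) (fun m => hA _ (hN.mul m.2 hn))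
    (fun m => torMul m.1 n A)
  simp only [torMul_ι] at hmin
  have hle : ∀ m ∈ N, M ∣ m → imageSubobject (kernel.ι ((m * n) • 𝟙 A) ≫ (m • 𝟙 A)) ≤
      imageSubobject (kernel.ι ((M * n) • 𝟙 A) ≫ (M • 𝟙 A)) := by
    rintro m hm ⟨d, rfl⟩
    rw [image_le_image_iff]
    refine ⟨_, 𝟙 _, inferInstance, kernel.lift _ (kernel.ι _ ≫ (d • 𝟙 A)) ?_, ?_⟩
    · rw [Category.assoc, nsmul_id_comp_nsmul_id]
      have : d * (M * n) = M * d * n := by ring
      rw [this, kernel.condition]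
    · rw [Category.id_comp, kernel.lift_ι_assoc, Category.assoc, nsmul_id_comp_nsmul_id,
        mul_comm d M]
  refine ⟨M, hM, fun m hm hMm m' hm' hMm' => ?_⟩
  exact (hle m hm hMm).trans (hmin ⟨m', hm'⟩ (hle m' hm' hMm'))

/-- `A[mn] ⊆ A[m] + nA` for `m` a multiple of the stabilization index. -/
theorem step3 (hN : Sys N) {A : Ind C} {n : ℕ} (hn : n ∈ N) {M : ℕ}
    (hM : ∀ m ∈ N, M ∣ m → ∀ m' ∈ N, M ∣ m' →
      imageSubobject (kernel.ι ((m * n) • 𝟙 A) ≫ (m • 𝟙 A)) ≤
        imageSubobject (kernel.ι ((m' * n) • 𝟙 A) ≫ (m' • 𝟙 A)))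
    {m : ℕ} (hm : m ∈ N) (hMm : M ∣ m) {W : Ind C} (x : W ⟶ A)
    (hx : x ≫ ((m * n) • 𝟙 A) = 0) :
    ∃ (W' : Ind C) (π : W' ⟶ W) (_ : Epi π) (b z : W' ⟶ A),
      z ≫ (m • 𝟙 A) = 0 ∧ π ≫ x = z + b ≫ (n • 𝟙 A) := by
  have hle := hM m hm hMm (m * n) (hN.mul hm hn) (Dvd.dvd.mul_right hMm n)
  have hfac : (imageSubobject (kernel.ι ((m * n) • 𝟙 A) ≫ (m • 𝟙 A))).Factors
      (x ≫ (m • 𝟙 A)) := by
    have : x ≫ (m • 𝟙 A) = kernel.lift _ x hx ≫ (kernel.ι ((m * n) • 𝟙 A) ≫ (m • 𝟙 A)) := by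
      rw [kernel.lift_ι_assoc]
    rw [this]
    exact imageSubobject_factors_comp_self (f := kernel.ι ((m * n) • 𝟙 A) ≫ (m • 𝟙 A)) _
  obtain ⟨W', π, hπ, s, hs⟩ := exists_refine_of_factors_image _ _
    (Subobject.factors_of_le _ hle hfac)
  refine ⟨W', π, hπ, s ≫ kernel.ι _, π ≫ x - (s ≫ kernel.ι _) ≫ (n • 𝟙 A), ?_, by abel⟩
  rw [Preadditive.sub_comp, Category.assoc, Category.assoc, Category.assoc, hs,
    nsmul_id_comp_nsmul_id, mul_comm n m, sub_self]

theorem lemmaB_aux (hN : Sys N) {A : Ind C} {n : ℕ} (hn : n ∈ N) {M : ℕ} (hMN : M ∈ N)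
    (hM : ∀ m ∈ N, M ∣ m → ∀ m' ∈ N, M ∣ m' →
      imageSubobject (kernel.ι ((m * n) • 𝟙 A) ≫ (m • 𝟙 A)) ≤
        imageSubobject (kernel.ι ((m' * n) • 𝟙 A) ≫ (m' • 𝟙 A)))
    {Z : Ind C} (h : A ⟶ Z) (h1 : (n • 𝟙 A) ≫ h = 0)
    (h2 : ∀ (W : Ind C) (x : W ⟶ A), x ≫ (M • 𝟙 A) = 0 → x ≫ h = 0) :
    ∀ k ∈ N, ∀ (W : Ind C) (x : W ⟶ A), x ≫ ((M * k) • 𝟙 A) = 0 → x ≫ h = 0 := by
  intro k
  induction k using Nat.strong_induction_on with
  | _ k ih =>
    intro hk W x hx
    have hkpos := hN.pos hk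
    by_cases hg : Nat.gcd k n = 1
    · -- coprime case
      have e1 : k • (x ≫ h) = 0 := by
        have := h2 W (x ≫ (k • 𝟙 A)) (by
          rw [Category.assoc, nsmul_id_comp_nsmul_id, mul_comm k M, hx])
        rwa [Category.assoc, Preadditive.nsmul_comp, Category.id_comp,
          Preadditive.comp_nsmul] at this
      have e2 : n • (x ≫ h) = 0 := by
        rw [← Preadditive.comp_nsmul, ← Category.id_comp h, ← Preadditive.nsmul_comp, h1, comp_zero]
      have d1 := addOrderOf_dvd_of_nsmul_eq_zero e1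
      have d2 := addOrderOf_dvd_of_nsmul_eq_zero e2
      have d3 := Nat.dvd_gcd d1 d2
      rw [hg, Nat.dvd_one] at d3
      exact AddMonoid.addOrderOf_eq_one_iff.1 d3
    · -- reduce by the gcd
      obtain ⟨k', hk'⟩ : Nat.gcd k n ∣ k := Nat.gcd_dvd_left k n
      obtain ⟨n', hn'⟩ : Nat.gcd k n ∣ n := Nat.gcd_dvd_right k n
      have hgpos : 0 < Nat.gcd k n := Nat.gcd_pos_of_pos_left n hkpos
      have hg2 : 2 ≤ Nat.gcd k n := by omega
      have hk'pos : 0 < k' := by
        rcases Nat.eq_zero_or_pos k' with h0 | h0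
        · rw [h0, mul_zero] at hk'; omega
        · exact h0
      have hk'lt : k' < k := by
        calc k' = 1 * k' := (one_mul _).symm
          _ < Nat.gcd k n * k' := Nat.mul_lt_mul_of_pos_right (by omega) hk'pos
          _ = k := hk'.symm
      have hk'N : k' ∈ N := hN.dvd ⟨Nat.gcd k n, by rw [mul_comm]; exact hk'⟩ hk
      have hx' : x ≫ ((M * k' * n) • 𝟙 A) = 0 := by
        apply comp_nsmul_id_eq_zero_of_dvd x _ hx
        refine ⟨n', ?_⟩
        calc M * k' * n = M * k' * (Nat.gcd k n * n') := by rw [← hn']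
          _ = M * (Nat.gcd k n * k') * n' := by ring
          _ = M * k * n' := by rw [← hk']
      obtain ⟨W', π, hπ, b, z, hz, hdec⟩ := step3 hN hn hM (hN.mul hMN hk'N)
        (Dvd.intro _ rfl) x hx'
      rw [← cancel_epi π, comp_zero, ← Category.assoc, hdec, Preadditive.add_comp,
        Category.assoc, h1, comp_zero, add_zero]
      exact ih k' hk'lt hk'N W' z hz

/-- **Lemma B**: `A = A[M] + nA` for some `M ∈ N`. -/
theorem exists_epi_torsion_cokernel (hN : Sys N) (hart : ∀ X : C, IsArtinianObject X)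
    (htor : IsTor N C) {A : Ind C} (hA : IsCof N A) {n : ℕ} (hn : n ∈ N) :
    ∃ M ∈ N, Epi (kernel.ι (M • 𝟙 A) ≫ cokernel.π (n • 𝟙 A)) := by
  obtain ⟨M, hMN, hM⟩ := exists_stable hN hart hA hn
  refine ⟨M, hMN, Preadditive.epi_of_cancel_zero _ fun {Z} g hg => ?_⟩
  rw [← cancel_epi (cokernel.π (n • 𝟙 A)), comp_zero]
  have h1 : (n • 𝟙 A) ≫ (cokernel.π (n • 𝟙 A) ≫ g) = 0 := by
    rw [cokernel.condition_assoc, zero_comp]
  have h2 : ∀ (W : Ind C) (x : W ⟶ A), x ≫ (M • 𝟙 A) = 0 →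
      x ≫ (cokernel.π (n • 𝟙 A) ≫ g) = 0 := by
    intro W x hx
    rw [← kernel.lift_ι _ x hx, Category.assoc]
    rw [Category.assoc] at hg
    rw [hg, comp_zero]
  apply hom_ext
  intro X u
  rw [comp_zero]
  obtain ⟨k, hk, hkX⟩ := exists_kills htor (Functor.obj_mem_essImage _ X)
  refine lemmaB_aux hN hn hMN hM _ h1 h2 k hk _ u ?_
  exact comp_nsmul_id_eq_zero_of_dvd u (Dvd.intro_left M rfl) (comp_nsmul_eq_zero_of_kills u hkX)

/-- refinement form of Lemma B. -/
theorem exists_decomp {A : Ind C} {n M : ℕ}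
    (hepi : Epi (kernel.ι (M • 𝟙 A) ≫ cokernel.π (n • 𝟙 A))) {W : Ind C} (x : W ⟶ A) :
    ∃ (W' : Ind C) (π : W' ⟶ W) (_ : Epi π) (a b : W' ⟶ A),
      a ≫ (M • 𝟙 A) = 0 ∧ π ≫ x = a + b ≫ (n • 𝟙 A) := by
  obtain ⟨W₁, π₁, hπ₁, a', ha'⟩ := surjective_up_to_refinements_of_epi
    (kernel.ι (M • 𝟙 A) ≫ cokernel.π (n • 𝟙 A)) (x ≫ cokernel.π (n • 𝟙 A))
  obtain ⟨W₂, π₂, hπ₂, s, hs⟩ := exists_refine_of_comp_cokernel_π (n • 𝟙 A)
    (π₁ ≫ x - a' ≫ kernel.ι (M • 𝟙 A)) (by
      rw [Preadditive.sub_comp, Category.assoc, Category.assoc, ha', sub_self])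
  refine ⟨W₂, π₂ ≫ π₁, inferInstance, π₂ ≫ a' ≫ kernel.ι (M • 𝟙 A), s, ?_, ?_⟩
  · rw [Category.assoc, Category.assoc, kernel.condition, comp_zero, comp_zero]
  · rw [← hs, Preadditive.comp_sub, Category.assoc]
    abel

/-- **`A/nA` is representable** for `A` of cofinite type. -/
theorem essImage_cokernel_nsmul (hN : Sys N) (hart : ∀ X : C, IsArtinianObject X)
    (htor : IsTor N C) {A : Ind C} (hA : IsCof N A) {n : ℕ} (hn : n ∈ N) :
    (Ind.yoneda (C := C)).essImage (cokernel (n • 𝟙 A)) := by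
  obtain ⟨M, hMN, hepi⟩ := exists_epi_torsion_cokernel hN hart htor hA hn
  refine essImage_of_rightExact (torMul n M A) (kernel.ι (M • 𝟙 A) ≫ cokernel.π (n • 𝟙 A)) ?_ ?_
    (hA _ (hN.mul hn hMN)) (hA _ hMN)
  · rw [torMul_ι_assoc, cokernel.condition, comp_zero]
  · intro W x hx
    rw [← Category.assoc] at hx
    obtain ⟨W', π, hπ, s, hs⟩ := exists_refine_of_comp_cokernel_π _ _ hx
    have hs0 : s ≫ ((n * M) • 𝟙 A) = 0 := by
      rw [← nsmul_id_comp_nsmul_id, ← Category.assoc, ← hs, Category.assoc, Category.assoc,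
        kernel.condition, comp_zero, comp_zero]
    refine ⟨W', π, hπ, kernel.lift _ s hs0, ?_⟩
    rw [← cancel_mono (kernel.ι (M • 𝟙 A)), Category.assoc, Category.assoc, torMul_ι,
      kernel.lift_ι_assoc, hs]

/-- kernels of maps between cofinite-type objects are of cofinite type. -/
theorem isCof_kernel {A B : Ind C} (hA : IsCof N A) (hB : IsCof N B) (f : A ⟶ B) :
    IsCof N (kernel f) := by
  intro k hk
  have h0 : (kernel.ι (k • 𝟙 (kernel f)) ≫ kernel.ι f) ≫ (k • 𝟙 A) = 0 := by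
    rw [Category.assoc, ← nsmul_id_comm, kernel.condition_assoc, zero_comp]
  haveI : Mono (kernel.lift (k • 𝟙 A) (kernel.ι (k • 𝟙 (kernel f)) ≫ kernel.ι f) h0) :=
    mono_of_mono_fac (kernel.lift_ι _ _ h0)
  refine essImage_of_leftExact (kernel.lift (k • 𝟙 A) (kernel.ι (k • 𝟙 (kernel f)) ≫ kernel.ι f) h0)
    (torMap f k) ?_ ?_ (hA k hk) (hB k hk)
  · rw [← cancel_mono (kernel.ι (k • 𝟙 B)), Category.assoc, torMap_ι, kernel.lift_ι_assoc,
      Category.assoc, kernel.condition, comp_zero, zero_comp]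
  · intro W x hx
    have hx' : (x ≫ kernel.ι (k • 𝟙 A)) ≫ f = 0 := by
      rw [Category.assoc, ← torMap_ι, ← Category.assoc, hx, zero_comp]
    have hl : kernel.lift f _ hx' ≫ (k • 𝟙 (kernel f)) = 0 := by
      rw [← cancel_mono (kernel.ι f), Category.assoc, nsmul_id_comm, kernel.lift_ι_assoc,
        Category.assoc, kernel.condition, comp_zero, zero_comp]
    refine ⟨kernel.lift _ _ hl, ?_⟩
    rw [← cancel_mono (kernel.ι (k • 𝟙 A)), Category.assoc, kernel.lift_ι, kernel.lift_ι_assoc,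
      kernel.lift_ι]

/-- cokernel of a monomorphism between cofinite-type objects is of cofinite type. -/
theorem isCof_cokernel_of_mono (hN : Sys N) (hart : ∀ X : C, IsArtinianObject X)
    (htor : IsTor N C) {A B : Ind C} (hA : IsCof N A) (hB : IsCof N B) (f : A ⟶ B) [Mono f] :
    IsCof N (cokernel f) := by
  intro n hn
  obtain ⟨M, hMN, hepi⟩ := exists_epi_torsion_cokernel hN hart htor hA hn
  have hnM := hN.mul hn hMN
  -- P' = {(b', a₀) ∈ B[nM] × A[M] : n b' = f a₀}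
  have hP : (Ind.yoneda (C := C)).essImage (pullback (torMul n M B) (torMap f M)) :=
    essImage_pullback _ _ (hB _ hnM) (hA _ hMN) (hB _ hMN)
  have ht0 : (pullback.fst (torMul n M B) (torMap f M) ≫ kernel.ι ((n * M) • 𝟙 B) ≫
      cokernel.π f) ≫ (n • 𝟙 (cokernel f)) = 0 := by
    rw [Category.assoc, Category.assoc, ← nsmul_id_comm, ← torMul_ι_assoc,
      pullback.condition_assoc, torMap_ι_assoc, cokernel.condition, comp_zero, comp_zero]
  let t : pullback (torMul n M B) (torMap f M) ⟶ kernel (n • 𝟙 (cokernel f)) :=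
    kernel.lift _ _ ht0
  have ht : t ≫ kernel.ι (n • 𝟙 (cokernel f)) =
      pullback.fst (torMul n M B) (torMap f M) ≫ kernel.ι ((n * M) • 𝟙 B) ≫ cokernel.π f :=
    kernel.lift_ι _ _ _
  have hcomm : torMap f (n * M) ≫ torMul n M B = torMul n M A ≫ torMap f M := by
    rw [← cancel_mono (kernel.ι (M • 𝟙 B)), Category.assoc, Category.assoc, torMul_ι, torMap_ι,
      torMap_ι_assoc, torMul_ι_assoc, nsmul_id_comm]
  let a : kernel ((n * M) • 𝟙 A) ⟶ pullback (torMul n M B) (torMap f M) :=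
    pullback.lift (torMap f (n * M)) (torMul n M A) hcomm
  have ha1 : a ≫ pullback.fst _ _ = torMap f (n * M) := pullback.lift_fst _ _ _
  have ha2 : a ≫ pullback.snd _ _ = torMul n M A := pullback.lift_snd _ _ _
  haveI : Epi t := by
    rw [epi_iff_surjective_up_to_refinements]
    intro W x
    obtain ⟨W₁, π₁, hπ₁, b, hb⟩ := surjective_up_to_refinements_of_epi (cokernel.π f)
      (x ≫ kernel.ι (n • 𝟙 (cokernel f)))
    obtain ⟨W₂, π₂, hπ₂, a₀', ha₀'⟩ := exists_refine_of_comp_cokernel_π f (b ≫ (n • 𝟙 B)) (by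
      rw [Category.assoc, nsmul_id_comm, ← Category.assoc, ← hb, Category.assoc, Category.assoc,
        kernel.condition, comp_zero, comp_zero])
    obtain ⟨W₃, π₃, hπ₃, a₀, a₁, ha₀, hdec⟩ := exists_decomp hepi a₀'
    -- b' = b - f a₁
    have hb'n : (π₃ ≫ π₂ ≫ b - a₁ ≫ f) ≫ (n • 𝟙 B) = a₀ ≫ f := by
      rw [Preadditive.sub_comp, Category.assoc, Category.assoc, ha₀', Category.assoc,
        ← nsmul_id_comm, ← Category.assoc π₃, hdec, Preadditive.add_comp, Category.assoc]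
      abel
    have hb'0 : (π₃ ≫ π₂ ≫ b - a₁ ≫ f) ≫ ((n * M) • 𝟙 B) = 0 := by
      rw [← nsmul_id_comp_nsmul_id, ← Category.assoc, hb'n, Category.assoc, ← nsmul_id_comm,
        ← Category.assoc, ha₀, zero_comp]
    have hcompat : kernel.lift _ _ hb'0 ≫ torMul n M B = kernel.lift _ a₀ ha₀ ≫ torMap f M := by
      rw [← cancel_mono (kernel.ι (M • 𝟙 B)), Category.assoc, Category.assoc, torMul_ι, torMap_ι,
        kernel.lift_ι_assoc, kernel.lift_ι_assoc, hb'n]
    refine ⟨W₃, π₃ ≫ π₂ ≫ π₁, inferInstance, pullback.lift _ _ hcompat, ?_⟩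
    rw [← cancel_mono (kernel.ι (n • 𝟙 (cokernel f)))]
    simp only [Category.assoc]
    rw [ht, pullback.lift_fst_assoc, kernel.lift_ι_assoc, hb, Preadditive.sub_comp]
    simp only [Category.assoc, cokernel.condition, comp_zero, sub_zero]
  refine essImage_of_rightExact a t ?_ ?_ (hA _ hnM) hP
  · rw [← cancel_mono (kernel.ι (n • 𝟙 (cokernel f))), Category.assoc, ht, zero_comp,
      reassoc_of% ha1, torMap_ι_assoc, cokernel.condition, comp_zero]
  · intro W x hx
    have hx' : (x ≫ pullback.fst _ _ ≫ kernel.ι ((n * M) • 𝟙 B)) ≫ cokernel.π f = 0 := by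
      rw [Category.assoc, Category.assoc, ← ht, ← Category.assoc, hx, zero_comp]
    obtain ⟨W', π, hπ, s, hs⟩ := exists_refine_of_comp_cokernel_π f _ hx'
    have hs0 : s ≫ ((n * M) • 𝟙 A) = 0 := by
      rw [← cancel_mono f, Category.assoc, nsmul_id_comm, ← Category.assoc, ← hs, zero_comp]
      simp only [Category.assoc, kernel.condition, comp_zero]
    refine ⟨W', π, hπ, kernel.lift _ s hs0, ?_⟩
    apply pullback.hom_ext
    · simp only [Category.assoc]
      rw [ha1, ← cancel_mono (kernel.ι ((n * M) • 𝟙 B))]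
      simp only [Category.assoc]
      rw [torMap_ι, kernel.lift_ι_assoc, hs]
    · have hs' := hs =≫ (n • 𝟙 B)
      simp only [Category.assoc] at hs' ⊢
      rw [ha2, ← cancel_mono (kernel.ι (M • 𝟙 A)), ← cancel_mono f]
      simp only [Category.assoc]
      rw [torMul_ι_assoc, kernel.lift_ι_assoc, nsmul_id_comm, ← hs', ← torMul_ι,
        pullback.condition_assoc, torMap_ι]

/-- cokernels of maps between cofinite-type objects are of cofinite type. -/
theorem isCof_cokernel (hN : Sys N) (hart : ∀ X : C, IsArtinianObject X)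
    (htor : IsTor N C) {A B : Ind C} (hA : IsCof N A) (hB : IsCof N B) (f : A ⟶ B) :
    IsCof N (cokernel f) := by
  have hK : IsCof N (kernel f) := isCof_kernel hA hB f
  have hI : IsCof N (Abelian.coimage f) :=
    isCof_cokernel_of_mono hN hart htor hK hA (kernel.ι f)
  have hQ : IsCof N (cokernel (Abelian.factorThruCoimage f)) :=
    isCof_cokernel_of_mono hN hart htor hI hB _
  refine hQ.of_iso ?_
  exact (cokernelEpiComp (Abelian.coimage.π f) (Abelian.factorThruCoimage f)).symm ≪≫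
    cokernelIsoOfEq (Abelian.coimage.fac f)

/-- the images `M n^j A` are all equal to `M A` once `A = A[M] + nA`. -/
theorem image_nsmul_stable {A : Ind C} {n M : ℕ}
    (hepi : Epi (kernel.ι (M • 𝟙 A) ≫ cokernel.π (n • 𝟙 A))) (j : ℕ) :
    imageSubobject ((M * n ^ j) • 𝟙 A) = imageSubobject (M • 𝟙 A) := by
  induction j with
  | zero => rw [pow_zero, mul_one]
  | succ j ih =>
    rw [← ih]
    apply le_antisymm
    · have : (M * n ^ (j + 1)) • 𝟙 A = (n • 𝟙 A) ≫ ((M * n ^ j) • 𝟙 A) := by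
        rw [nsmul_id_comp_nsmul_id]; congr 1; ring
      rw [this]
      exact imageSubobject_comp_le _ _
    · rw [image_le_image_iff]
      obtain ⟨W', π, hπ, a, b, ha, hdec⟩ := exists_decomp hepi (𝟙 A)
      refine ⟨W', π, hπ, b, ?_⟩
      rw [Category.comp_id] at hdec
      rw [hdec, Preadditive.add_comp, comp_nsmul_id_eq_zero_of_dvd a (Dvd.intro _ rfl) ha,
        zero_add, Category.assoc, nsmul_id_comp_nsmul_id]
      congr 2; ring

end Cof

section Chain

variable {C : Type v} [SmallCategory C] [Abelian C]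

/-- `D e S = p^e · S[p^(e+1)]`, as a subobject of `A`. -/
noncomputable def gr (p : ℕ) {A : Ind C} (S : Subobject A) (e : ℕ) : Subobject A :=
  imageSubobject (kernel.ι ((p ^ (e + 1)) • 𝟙 (S : Ind C)) ≫ S.arrow ≫ ((p ^ e) • 𝟙 A))

theorem gr_le_of_le (p : ℕ) {A : Ind C} {S S' : Subobject A} (h : S' ≤ S) (e : ℕ) :
    gr p S' e ≤ gr p S e := by
  unfold gr
  rw [image_le_image_iff]
  refine ⟨_, 𝟙 _, inferInstance,
    kernel.lift _ (kernel.ι ((p ^ (e + 1)) • 𝟙 (S' : Ind C)) ≫ Subobject.ofLE _ _ h) ?_, ?_⟩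
  · rw [Category.assoc, ← nsmul_id_comm, kernel.condition_assoc, zero_comp]
  · rw [Category.id_comp, kernel.lift_ι_assoc, Category.assoc, Subobject.ofLE_arrow_assoc]

theorem gr_anti (p : ℕ) {A : Ind C} (S : Subobject A) {e e' : ℕ} (h : e ≤ e') :
    gr p S e' ≤ gr p S e := by
  obtain ⟨d, rfl⟩ := Nat.exists_eq_add_of_le h
  unfold gr
  rw [image_le_image_iff]
  refine ⟨_, 𝟙 _, inferInstance,
    kernel.lift _ (kernel.ι ((p ^ (e + d + 1)) • 𝟙 (S : Ind C)) ≫ ((p ^ d) • 𝟙 (S : Ind C))) ?_, ?_⟩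
  · rw [Category.assoc, nsmul_id_comp_nsmul_id]
    have : p ^ d * p ^ (e + 1) = p ^ (e + d + 1) := by rw [← pow_add]; congr 1; ring
    rw [this, kernel.condition]
  · rw [Category.id_comp, kernel.lift_ι_assoc, Category.assoc, nsmul_id_comm_assoc,
      nsmul_id_comp_nsmul_id]
    congr 3
    rw [← pow_add, add_comm]

/-- a subobject is determined by its graded pieces (among subobjects of a given one). -/
theorem le_of_gr_le {p : ℕ} (htor : ∀ X : C, ∃ n : ℕ, (p ^ n) • 𝟙 X = 0) {A : Ind C}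
    {S S' : Subobject A} (hle : S' ≤ S) (h : ∀ e, gr p S e ≤ gr p S' e) : S ≤ S' := by
  have claim : ∀ (e : ℕ) (W : Ind C) (x : W ⟶ A), S.Factors x → x ≫ ((p ^ e) • 𝟙 A) = 0 →
      S'.Factors x := by
    intro e
    induction e with
    | zero =>
      intro W x _ hx
      rw [pow_zero, one_smul, Category.comp_id] at hx
      rw [hx]
      exact Subobject.factors_zero
    | succ e ih =>
      intro W x hSx hx
      have h0 : S.factorThru x hSx ≫ ((p ^ (e + 1)) • 𝟙 (S : Ind C)) = 0 := by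
        rw [← cancel_mono S.arrow, Category.assoc, nsmul_id_comm, Subobject.factorThru_arrow_assoc,
          hx, zero_comp]
      have hfac : (gr p S e).Factors (x ≫ ((p ^ e) • 𝟙 A)) := by
        have : x ≫ ((p ^ e) • 𝟙 A) = kernel.lift _ _ h0 ≫
            (kernel.ι ((p ^ (e + 1)) • 𝟙 (S : Ind C)) ≫ S.arrow ≫ ((p ^ e) • 𝟙 A)) := by
          rw [kernel.lift_ι_assoc, Subobject.factorThru_arrow_assoc]
        rw [this]
        exact imageSubobject_factors_comp_self
          (f := kernel.ι ((p ^ (e + 1)) • 𝟙 (S : Ind C)) ≫ S.arrow ≫ ((p ^ e) • 𝟙 A)) _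
      obtain ⟨W', π, hπ, s, hs⟩ := exists_refine_of_factors_image _ _
        (Subobject.factors_of_le _ (h e) hfac)
      have hy : S'.Factors (s ≫ kernel.ι ((p ^ (e + 1)) • 𝟙 (S' : Ind C)) ≫ S'.arrow) := by
        rw [← Category.assoc]
        exact Subobject.factors_comp_arrow _
      have hz : S'.Factors (π ≫ x - s ≫ kernel.ι ((p ^ (e + 1)) • 𝟙 (S' : Ind C)) ≫ S'.arrow) := by
        apply ih
        · refine Subobject.factors_left_of_factors_add _ _ ?_ (Subobject.factors_of_le _ hle hy)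
          rw [sub_add_cancel]
          exact Subobject.factors_of_factors_right π hSx
        · rw [Preadditive.sub_comp, Category.assoc, hs]
          simp only [Category.assoc, sub_self]
      have := Subobject.factors_add _ _ hz hy
      rw [sub_add_cancel] at this
      exact factors_of_epi_comp S' π x this
  apply Subobject.le_of_comm (S'.factorThru S.arrow ?_) (Subobject.factorThru_arrow _ _ _)
  apply factors_of_comp_cokernel
  apply hom_ext
  intro X u
  rw [comp_zero]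
  obtain ⟨e, he⟩ := htor X
  have hk : (p ^ e) • 𝟙 ((Ind.yoneda (C := C)).obj X) = 0 := by
    rw [← map_nsmul_id, he, Functor.map_zero]
  have := claim e _ (u ≫ S.arrow) (Subobject.factors_comp_arrow _)
    (comp_nsmul_eq_zero_of_kills _ hk)
  rw [← Category.assoc, ← S'.factorThru_arrow _ this, Category.assoc, cokernel.condition,
    comp_zero]

/-- **Artinian property** of cofinite-type objects (prime-power case): descending chains of
cofinite-type subobjects are stationary.  Only `A[p]` needs to be representable. -/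
theorem chain_stable (hart : ∀ X : C, IsArtinianObject X) {p : ℕ}
    (htor : ∀ X : C, ∃ n : ℕ, (p ^ n) • 𝟙 X = 0) {A : Ind C}
    (hA1 : (Ind.yoneda (C := C)).essImage (kernel (p • 𝟙 A))) (S : ℕ → Subobject A)
    (hS : Antitone S)
    (hcof : ∀ m e : ℕ, (Ind.yoneda (C := C)).essImage
      (kernel ((p ^ e) • 𝟙 ((S m : Subobject A) : Ind C)))) :
    ∃ N₀ : ℕ, ∀ m : ℕ, N₀ ≤ m → S m = S N₀ := by
  have hfac : ∀ e m : ℕ, (kernel.ι ((p ^ (e + 1)) • 𝟙 ((S m : Subobject A) : Ind C)) ≫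
      (S m).arrow ≫ ((p ^ e) • 𝟙 A)) ≫ (p • 𝟙 A) = 0 := by
    intro e m
    rw [Category.assoc, Category.assoc, nsmul_id_comp_nsmul_id, ← pow_succ, ← nsmul_id_comm,
      kernel.condition_assoc, zero_comp]
  have hmin : ∀ {I : Type} [Nonempty I] (φ : I → ℕ × ℕ), ∃ i0, ∀ i,
      gr p (S (φ i).2) (φ i).1 ≤ gr p (S (φ i0).2) (φ i0).1 →
        gr p (S (φ i0).2) (φ i0).1 ≤ gr p (S (φ i).2) (φ i).1 := by
    intro I _ φ
    obtain ⟨i0, h0⟩ := exists_minimal hart hA1 (kernel.ι (p • 𝟙 A))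
      (fun i : I => kernel ((p ^ ((φ i).1 + 1)) • 𝟙 ((S (φ i).2 : Subobject A) : Ind C)))
      (fun i => hcof _ _) (fun i => kernel.lift _ _ (hfac (φ i).1 (φ i).2))
    simp only [kernel.lift_ι] at h0
    exact ⟨i0, h0⟩
  -- step A
  obtain ⟨⟨e0, m0⟩, hA⟩ := hmin (I := ℕ × ℕ) id
  have stepA : ∀ e m, e0 ≤ e → m0 ≤ m → gr p (S m0) e0 ≤ gr p (S m) e := fun e m he hm =>
    hA (e, m) ((gr_anti p (S m) he).trans (gr_le_of_le p (hS hm) e0))
  -- step B
  have stepB : ∀ e, ∃ me, ∀ m, me ≤ m → gr p (S me) e ≤ gr p (S m) e := by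
    intro e
    obtain ⟨me, hme⟩ := hmin (I := ℕ) (fun m => (e, m))
    exact ⟨me, fun m hm => hme m (gr_le_of_le p (hS hm) e)⟩
  -- step C
  have stepC : ∀ E, ∃ N₁, ∀ e, e < E → ∀ m, N₁ ≤ m → gr p (S N₁) e ≤ gr p (S m) e := by
    intro E
    induction E with
    | zero => exact ⟨0, fun e he => absurd he (Nat.not_lt_zero e)⟩
    | succ E ih =>
      obtain ⟨N₁, hN₁⟩ := ih
      obtain ⟨mE, hmE⟩ := stepB E
      refine ⟨max N₁ mE, fun e he m hm => ?_⟩
      rcases Nat.lt_succ_iff_lt_or_eq.1 he with h | rfl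
      · exact (gr_le_of_le p (hS (le_max_left _ _)) e).trans
          (hN₁ e h m ((le_max_left _ _).trans hm))
      · exact (gr_le_of_le p (hS (le_max_right _ _)) e).trans
          (hmE m ((le_max_right _ _).trans hm))
  obtain ⟨N₁, hN₁⟩ := stepC e0
  refine ⟨max m0 N₁, fun m hm => ?_⟩
  apply le_antisymm (hS hm)
  apply le_of_gr_le htor (hS hm)
  intro e
  by_cases he : e < e0
  · exact (gr_le_of_le p (hS (le_max_right _ _)) e).trans
      (hN₁ e he m ((le_max_right _ _).trans hm))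
  · have he := Nat.le_of_not_lt he
    exact ((gr_anti p _ he).trans (gr_le_of_le p (hS (le_max_left _ _)) e0)).trans
      (stepA e m he ((le_max_left _ _).trans hm))

end Chain

section Div

variable {C : Type v} [SmallCategory C] [Abelian C] {N : Set ℕ}

theorem isCof_of_essImage {T : Ind C} (hT : (Ind.yoneda (C := C)).essImage T) : IsCof N T :=
  fun k _ => essImage_kernel (k • 𝟙 T) hT hT

/-- `kA ≅ A/A[k]` is of cofinite type. -/
theorem isCof_imageSubobject (hN : Sys N) (hart : ∀ X : C, IsArtinianObject X)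
    (htor : IsTor N C) {A : Ind C} (hA : IsCof N A) {k : ℕ} (hk : k ∈ N) :
    IsCof N ((imageSubobject (k • 𝟙 A) : Subobject A) : Ind C) := by
  have h1 : IsCof N (Abelian.coimage (k • 𝟙 A)) :=
    isCof_cokernel_of_mono hN hart htor (isCof_of_essImage (hA k hk)) hA (kernel.ι (k • 𝟙 A))
  exact h1.of_iso (Abelian.coimageIsoImage' _ ≪≫ (imageSubobjectIso _).symm)

theorem epi_nsmul_of_le_image {A : Ind C} (S : Subobject A) (k : ℕ)
    (h : S ≤ imageSubobject (S.arrow ≫ (k • 𝟙 A))) : Epi (k • 𝟙 (S : Ind C)) := by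
  rw [epi_iff_surjective_up_to_refinements]
  intro W x
  have hf : (imageSubobject (S.arrow ≫ (k • 𝟙 A))).Factors (x ≫ S.arrow) :=
    Subobject.factors_of_le _ h (Subobject.factors_comp_arrow _)
  obtain ⟨W', π, hπ, s, hs⟩ := exists_refine_of_factors_image _ _ hf
  refine ⟨W', π, hπ, s, ?_⟩
  rw [← cancel_mono S.arrow, Category.assoc, hs, Category.assoc, nsmul_id_comm]

theorem epi_pow_nsmul {A : Ind C} (k : ℕ) (h : Epi (k • 𝟙 A)) (j : ℕ) : Epi ((k ^ j) • 𝟙 A) := by
  induction j with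
  | zero => rw [pow_zero, one_smul]; infer_instance
  | succ j ih =>
    have : (k ^ (j + 1)) • 𝟙 A = ((k ^ j) • 𝟙 A) ≫ (k • 𝟙 A) := by
      rw [nsmul_id_comp_nsmul_id, pow_succ]
    rw [this]
    exact epi_comp _ _

/-- a `k`-divisible subobject is contained in `kA`. -/
theorem le_image_of_epi {A : Ind C} (S : Subobject A) (k : ℕ) (h : Epi (k • 𝟙 (S : Ind C))) :
    S ≤ imageSubobject (k • 𝟙 A) := by
  apply Subobject.le_of_comm ((imageSubobject (k • 𝟙 A)).factorThru S.arrow ?_)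
    (Subobject.factorThru_arrow _ _ _)
  apply factors_of_epi_comp _ (k • 𝟙 (S : Ind C))
  rw [nsmul_id_comm]
  exact imageSubobject_factors_comp_self (f := k • 𝟙 A) _

theorem image_arrow_comp_nsmul {A : Ind C} (a b : ℕ) :
    imageSubobject ((imageSubobject (a • 𝟙 A)).arrow ≫ (b • 𝟙 A)) =
      imageSubobject ((a * b) • 𝟙 A) := by
  rw [← image_epi_comp (factorThruImageSubobject (a • 𝟙 A)), imageSubobject_arrow_comp_assoc,
    nsmul_id_comp_nsmul_id]

theorem image_comp_le_of_le {D : Type u} [Category.{v} D] [Abelian D] {X Y Z W : D}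
    (f : X ⟶ Z) (g : Y ⟶ Z) (h : Z ⟶ W)
    (hle : imageSubobject f ≤ imageSubobject g) :
    imageSubobject (f ≫ h) ≤ imageSubobject (g ≫ h) := by
  rw [image_le_image_iff] at hle ⊢
  obtain ⟨V, π, hπ, s, hs⟩ := hle
  exact ⟨V, π, hπ, s, by rw [← Category.assoc, hs, Category.assoc]⟩

/-- a divisible subobject with quotient killed by `M` is `MA`. -/
theorem eq_image_of_epi_of_kills {A : Ind C} (B' : Subobject A) (M : ℕ)
    (hdiv : Epi (M • 𝟙 (B' : Ind C))) (hM : M • 𝟙 (cokernel B'.arrow) = 0) :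
    B' = imageSubobject (M • 𝟙 A) := by
  apply le_antisymm (le_image_of_epi B' M hdiv)
  rw [image_le_iff_factors]
  apply factors_of_comp_cokernel
  rw [nsmul_id_comm, hM, comp_zero]

theorem essImage_cokernel_image_arrow (hN : Sys N) (hart : ∀ X : C, IsArtinianObject X)
    (htor : IsTor N C) {A : Ind C} (hA : IsCof N A) {n : ℕ} (hn : n ∈ N) :
    (Ind.yoneda (C := C)).essImage (cokernel (imageSubobject (n • 𝟙 A)).arrow) := by
  refine Functor.essImage.ofIso ?_ (essImage_cokernel_nsmul hN hart htor hA hn)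
  exact (cokernelIsoOfEq (imageSubobject_arrow_comp (n • 𝟙 A))).symm ≪≫
    cokernelEpiComp (factorThruImageSubobject (n • 𝟙 A)) (imageSubobject (n • 𝟙 A)).arrow

/-- if `B'` is `p`-divisible and `A/B'` is killed by `M` prime to `p`, then `A` is
`p`-divisible. -/
theorem epi_nsmul_of_coprime {A : Ind C} (B' : Subobject A) (p M : ℕ) (hpM : Nat.Coprime p M)
    (hdiv : Epi (p • 𝟙 (B' : Ind C))) (hM : M • 𝟙 (cokernel B'.arrow) = 0) :
    Epi (p • 𝟙 A) := by
  rw [epi_iff_surjective_up_to_refinements]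
  intro W x
  have hbez : (1 : ℤ) = p * Nat.gcdA p M + M * Nat.gcdB p M := by
    have := Nat.gcd_eq_gcd_ab p M
    rwa [hpM, Nat.cast_one] at this
  set a := Nat.gcdA p M
  set b := Nat.gcdB p M
  have hMv : ∀ v : W ⟶ cokernel B'.arrow, (M : ℤ) • v = 0 := by
    intro v
    rw [natCast_zsmul, ← Category.comp_id v, ← Preadditive.comp_nsmul, hM, comp_zero]
  have h0 : (x - ((p : ℤ) * a) • x) ≫ cokernel.π B'.arrow = 0 := by
    rw [Preadditive.sub_comp, Preadditive.zsmul_comp]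
    have h1 : x ≫ cokernel.π B'.arrow = (1 : ℤ) • (x ≫ cokernel.π B'.arrow) := (one_zsmul _).symm
    conv_lhs => arg 1; rw [h1, hbez]
    have h2 : ((M : ℤ) * b) • (x ≫ cokernel.π B'.arrow) = 0 := by
      rw [mul_comm, mul_smul, hMv, smul_zero]
    rw [add_zsmul, h2, add_zero, sub_self]
  obtain ⟨t, ht⟩ : ∃ t : W ⟶ (B' : Ind C), t ≫ B'.arrow = x - ((p : ℤ) * a) • x := by
    have := factors_of_comp_cokernel B' _ h0
    exact ⟨B'.factorThru _ this, B'.factorThru_arrow _ this⟩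
  obtain ⟨W', π, hπ, s, hs⟩ := surjective_up_to_refinements_of_epi (p • 𝟙 (B' : Ind C)) t
  refine ⟨W', π, hπ, a • (π ≫ x) + s ≫ B'.arrow, ?_⟩
  have e1 : (s ≫ B'.arrow) ≫ (p • 𝟙 A) = π ≫ x - ((p : ℤ) * a) • (π ≫ x) := by
    rw [Category.assoc, ← nsmul_id_comm, ← Category.assoc, ← hs, Category.assoc, ht,
      Preadditive.comp_sub, Preadditive.comp_zsmul]
  have e2 : (a • (π ≫ x)) ≫ (p • 𝟙 A) = ((p : ℤ) * a) • (π ≫ x) := by
    rw [Preadditive.comp_nsmul, Category.comp_id, ← natCast_zsmul, smul_smul]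
  rw [Preadditive.add_comp, e1, e2]
  abel

/-- if only finitely many primes fail to act surjectively on `A`, some `MA` is divisible. -/
theorem exists_divisible_of_finite (hart : ∀ X : C, IsArtinianObject X)
    (htor : IsTor {k | 0 < k} C) {A : Ind C} (hA : IsCof {k | 0 < k} A)
    (hfin : {p : ℕ | p.Prime ∧ ¬ Epi (p • 𝟙 A)}.Finite) :
    ∃ M : ℕ, 0 < M ∧ ∀ k : ℕ, 0 < k →
      imageSubobject (M • 𝟙 A) ≤ imageSubobject ((M * k) • 𝟙 A) := by
  have hB : ∀ p : ℕ, ∃ Mp : ℕ, 0 < Mp ∧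
      (0 < p → Epi (kernel.ι (Mp • 𝟙 A) ≫ cokernel.π (p • 𝟙 A))) := by
    intro p
    by_cases hp : 0 < p
    · obtain ⟨Mp, h1, h2⟩ := exists_epi_torsion_cokernel sys_pos hart htor hA (n := p) hp
      exact ⟨Mp, h1, fun _ => h2⟩
    · exact ⟨1, Nat.one_pos, fun h => absurd h hp⟩
  choose Mp hMp0 hMp using hB
  refine ⟨∏ p ∈ hfin.toFinset, Mp p, Finset.prod_pos fun p _ => hMp0 p, ?_⟩
  set M := ∏ p ∈ hfin.toFinset, Mp p with hMdef
  intro k
  induction k using Nat.recOnMul with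
  | zero => intro h; exact absurd h (lt_irrefl 0)
  | one => intro _; rw [mul_one]
  | prime p hp =>
    intro _
    by_cases hbad : p ∈ hfin.toFinset
    · have hM : Mp p * ∏ q ∈ hfin.toFinset.erase p, Mp q = M := Finset.mul_prod_erase _ _ hbad
      set c := ∏ q ∈ hfin.toFinset.erase p, Mp q
      have h1 := (image_nsmul_stable (hMp p hp.pos) 1).ge
      have h2 := image_comp_le_of_le _ _ (c • 𝟙 A) h1
      rw [nsmul_id_comp_nsmul_id, nsmul_id_comp_nsmul_id, pow_one, hM] at h2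
      have : Mp p * p * c = M * p := by rw [← hM]; ring
      rwa [this] at h2
    · have hepi : Epi (p • 𝟙 A) := by
        by_contra hne
        exact hbad (hfin.mem_toFinset.2 ⟨hp, hne⟩)
      have : (M * p) • 𝟙 A = (p • 𝟙 A) ≫ (M • 𝟙 A) := by
        rw [nsmul_id_comp_nsmul_id, mul_comm]
      rw [this, image_epi_comp]
  | mul a b ha hb =>
    intro hab
    have ha0 : 0 < a := Nat.pos_of_ne_zero (by rintro rfl; simp at hab)
    have hb0 : 0 < b := Nat.pos_of_ne_zero (by rintro rfl; simp at hab)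
    have h2 := image_comp_le_of_le _ _ (b • 𝟙 A) (ha ha0)
    rw [nsmul_id_comp_nsmul_id, nsmul_id_comp_nsmul_id] at h2
    rw [← mul_assoc]
    exact (hb hb0).trans h2

end Div

section DivPart

variable {C : Type v} [SmallCategory C] [Abelian C] {N : Set ℕ}

theorem image_arrow_comp {D : Type u} [Category.{v} D] [Abelian D] {X Z W : D} (g : X ⟶ Z)
    (h : Z ⟶ W) : imageSubobject ((imageSubobject g).arrow ≫ h) = imageSubobject (g ≫ h) := by
  rw [← image_epi_comp (factorThruImageSubobject g), imageSubobject_arrow_comp_assoc]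

theorem image_arrow_comp_mono {D : Type u} [Category.{v} D] [Abelian D] {Z W : D}
    {S S' : Subobject Z} (h : S ≤ S') (g : Z ⟶ W) :
    imageSubobject (S.arrow ≫ g) ≤ imageSubobject (S'.arrow ≫ g) := by
  rw [← Subobject.ofLE_arrow h, Category.assoc]
  exact imageSubobject_comp_le _ _

/-- image of a map between representables, inside any `A`, is representable. -/
theorem essImage_imageSubobject {S T A : Ind C} (g : S ⟶ T) (w : T ⟶ A) [Mono w]
    (hS : (Ind.yoneda (C := C)).essImage S) (hT : (Ind.yoneda (C := C)).essImage T) :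
    (Ind.yoneda (C := C)).essImage ((imageSubobject (g ≫ w) : Subobject A) : Ind C) := by
  refine essImage_of_rightExact (kernel.ι g) (factorThruImageSubobject (g ≫ w)) ?_ ?_
    (essImage_kernel g hS hT) hS
  · rw [← cancel_mono (imageSubobject (g ≫ w)).arrow, Category.assoc, imageSubobject_arrow_comp,
      kernel.condition_assoc, zero_comp, zero_comp]
  · intro W x hx
    have h0 : x ≫ g = 0 := by
      rw [← cancel_mono w, Category.assoc, ← imageSubobject_arrow_comp (g ≫ w),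
        ← Category.assoc, hx, zero_comp, zero_comp]
    exact ⟨W, 𝟙 W, inferInstance, kernel.lift g x h0, by rw [Category.id_comp, kernel.lift_ι]⟩

/-- `m · A[mn]` as a subobject of `A`. -/
noncomputable def T (A : Ind C) (m n : ℕ) : Subobject A :=
  imageSubobject (kernel.ι ((m * n) • 𝟙 A) ≫ (m • 𝟙 A))

theorem T_anti (A : Ind C) {m m' : ℕ} (h : m ∣ m') (n : ℕ) : T A m' n ≤ T A m n := by
  obtain ⟨d, rfl⟩ := h
  unfold T
  rw [image_le_image_iff]
  refine ⟨_, 𝟙 _, inferInstance, kernel.lift _ (kernel.ι _ ≫ (d • 𝟙 A)) ?_, ?_⟩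
  · rw [Category.assoc, nsmul_id_comp_nsmul_id]
    have : d * (m * n) = m * d * n := by ring
    rw [this, kernel.condition]
  · rw [Category.id_comp, kernel.lift_ι_assoc, Category.assoc, nsmul_id_comp_nsmul_id,
      mul_comm d m]

theorem T_arrow_comp_nsmul (A : Ind C) (m n : ℕ) : (T A m n).arrow ≫ (n • 𝟙 A) = 0 := by
  unfold T
  rw [← cancel_epi (factorThruImageSubobject (kernel.ι ((m * n) • 𝟙 A) ≫ (m • 𝟙 A))),
    imageSubobject_arrow_comp_assoc, Category.assoc, nsmul_id_comp_nsmul_id, kernel.condition,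
    comp_zero]

theorem exists_stable' (hN : Sys N) (hart : ∀ X : C, IsArtinianObject X) {A : Ind C}
    (hA : IsCof N A) {n : ℕ} (hn : n ∈ N) :
    ∃ M ∈ N, ∀ m ∈ N, T A M n ≤ T A m n := by
  obtain ⟨M, hMN, hM⟩ := exists_stable hN hart hA hn
  refine ⟨M, hMN, fun m hm => ?_⟩
  exact (hM M hMN dvd_rfl (M * m) (hN.mul hMN hm) (Dvd.intro _ rfl)).trans
    (T_anti A (Dvd.intro_left _ rfl) n)

theorem essImage_T {A : Ind C} (hA : IsCof N A) {m n : ℕ} (hmn : m * n ∈ N) (hn : n ∈ N) :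
    (Ind.yoneda (C := C)).essImage ((T A m n : Subobject A) : Ind C) := by
  have : T A m n = imageSubobject (torMul m n A ≫ kernel.ι (n • 𝟙 A)) := by
    unfold T
    congr 1
    exact (torMul_ι m n A).symm
  rw [this]
  exact essImage_imageSubobject _ _ (hA _ hmn) (hA _ hn)

/-- the `n`-torsion of a divisible subobject lies in every `m·A[mn]`. -/
theorem torsion_le_T {A : Ind C} (D' : Subobject A) {m : ℕ} (hdiv : Epi (m • 𝟙 (D' : Ind C)))
    (n : ℕ) : imageSubobject (kernel.ι (n • 𝟙 (D' : Ind C)) ≫ D'.arrow) ≤ T A m n := by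
  unfold T
  rw [image_le_image_iff]
  obtain ⟨W, π, hπ, s₀, hs₀⟩ := surjective_up_to_refinements_of_epi (m • 𝟙 (D' : Ind C))
    (kernel.ι (n • 𝟙 (D' : Ind C)))
  have h0 : (s₀ ≫ D'.arrow) ≫ ((m * n) • 𝟙 A) = 0 := by
    rw [Category.assoc, ← nsmul_id_comm, ← nsmul_id_comp_nsmul_id, Category.assoc,
      ← Category.assoc s₀, ← hs₀, Category.assoc, kernel.condition_assoc, zero_comp, comp_zero]
  refine ⟨W, π, hπ, kernel.lift _ _ h0, ?_⟩
  rw [kernel.lift_ι_assoc, Category.assoc, ← nsmul_id_comm, ← Category.assoc s₀, ← hs₀,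
    Category.assoc]

/-- every subobject is the union of its torsion parts. -/
theorem le_iSup_torsion (htor : IsTor N C) {A : Ind C} (S : Subobject A) :
    S ≤ ⨆ n : N, imageSubobject (kernel.ι (n.1 • 𝟙 (S : Ind C)) ≫ S.arrow) := by
  set U := ⨆ n : N, imageSubobject (kernel.ι (n.1 • 𝟙 (S : Ind C)) ≫ S.arrow) with hU
  apply Subobject.le_of_comm (U.factorThru S.arrow ?_) (Subobject.factorThru_arrow _ _ _)
  apply factors_of_comp_cokernel
  apply hom_ext
  intro X u
  rw [comp_zero]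
  obtain ⟨k, hk, hkX⟩ := exists_kills htor (Functor.obj_mem_essImage _ X)
  have hu : u ≫ (k • 𝟙 (S : Ind C)) = 0 := comp_nsmul_eq_zero_of_kills u hkX
  have hf : U.Factors (u ≫ S.arrow) := by
    refine Subobject.factors_of_le _ (le_iSup (fun n : N =>
      imageSubobject (kernel.ι (n.1 • 𝟙 (S : Ind C)) ≫ S.arrow)) ⟨k, hk⟩) ?_
    have : u ≫ S.arrow = kernel.lift _ u hu ≫ (kernel.ι (k • 𝟙 (S : Ind C)) ≫ S.arrow) := by
      rw [kernel.lift_ι_assoc]
    rw [this]
    exact imageSubobject_factors_comp_self (f := kernel.ι (k • 𝟙 (S : Ind C)) ≫ S.arrow) _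
  rw [← Category.assoc, ← U.factorThru_arrow _ hf, Category.assoc, cokernel.condition, comp_zero]

/-- **Largest divisible subobject** of a cofinite-type object; it is of cofinite type. -/
theorem exists_largest_divisible (hN : Sys N) (hart : ∀ X : C, IsArtinianObject X)
    (htor : IsTor N C) {A : Ind C} (hA : IsCof N A) :
    ∃ D : Subobject A, (∀ k ∈ N, Epi (k • 𝟙 (D : Ind C))) ∧
      (∀ D' : Subobject A, (∀ k ∈ N, Epi (k • 𝟙 (D' : Ind C))) → D' ≤ D) ∧
      IsCof N (D : Ind C) := by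
  choose! M hMN hM using fun (n : ℕ) (hn : n ∈ N) => exists_stable' hN hart hA hn
  set D : Subobject A := ⨆ n : N, T A (M n.1) n.1 with hD
  have hED : ∀ n ∈ N, T A (M n) n ≤ D := fun n hn =>
    le_iSup (fun n : N => T A (M n.1) n.1) ⟨n, hn⟩
  -- Q1
  have Q1 : ∀ n ∈ N, ∀ k ∈ N, T A (M n) n ≤
      imageSubobject ((T A (M (n * k)) (n * k)).arrow ≫ (k • 𝟙 A)) := by
    intro n hn k hk
    have hnk := hN.mul hn hk
    refine (hM n hn (M (n * k) * k) (hN.mul (hMN _ hnk) hk)).trans ?_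
    have e : M (n * k) * (n * k) = M (n * k) * k * n := by ring
    have h0 : kernel.ι ((M (n * k) * k * n) • 𝟙 A) ≫ ((M (n * k) * (n * k)) • 𝟙 A) = 0 := by
      rw [e]; exact kernel.condition _
    have h1 : imageSubobject ((T A (M (n * k)) (n * k)).arrow ≫ (k • 𝟙 A)) =
        imageSubobject ((kernel.ι ((M (n * k) * (n * k)) • 𝟙 A) ≫ (M (n * k) • 𝟙 A)) ≫
          (k • 𝟙 A)) := image_arrow_comp _ _
    rw [h1]
    unfold T
    rw [image_le_image_iff]
    refine ⟨_, 𝟙 _, inferInstance, kernel.lift _ _ h0, ?_⟩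
    rw [Category.id_comp, Category.assoc, kernel.lift_ι_assoc, nsmul_id_comp_nsmul_id]
  have hdiv : ∀ k ∈ N, Epi (k • 𝟙 (D : Ind C)) := by
    intro k hk
    apply epi_nsmul_of_le_image
    apply iSup_le
    rintro ⟨n, hn⟩
    exact (Q1 n hn k hk).trans (image_arrow_comp_mono (hED _ (hN.mul hn hk)) _)
  have hmax : ∀ D' : Subobject A, (∀ k ∈ N, Epi (k • 𝟙 (D' : Ind C))) → D' ≤ D := by
    intro D' hD'
    refine (le_iSup_torsion htor D').trans (iSup_mono ?_)
    rintro ⟨n, hn⟩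
    exact torsion_le_T D' (hD' _ (hMN n hn)) n
  refine ⟨D, hdiv, hmax, ?_⟩
  intro n hn
  have h1 : Subobject.mk (kernel.ι (n • 𝟙 (D : Ind C)) ≫ D.arrow) = T A (M n) n := by
    apply le_antisymm
    · rw [← imageSubobject_mono]
      exact torsion_le_T D (hdiv _ (hMN n hn)) n
    · have h0 : Subobject.ofLE _ _ (hED n hn) ≫ (n • 𝟙 (D : Ind C)) = 0 := by
        rw [← cancel_mono D.arrow, Category.assoc, nsmul_id_comm, Subobject.ofLE_arrow_assoc,
          T_arrow_comp_nsmul, zero_comp]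
      refine Subobject.le_mk_of_comm (kernel.lift _ _ h0) ?_
      rw [kernel.lift_ι_assoc, Subobject.ofLE_arrow]
  refine Functor.essImage.ofIso ?_ (essImage_T hA (hN.mul (hMN n hn) hn) hn)
  exact (Subobject.isoOfEq _ _ h1).symm ≪≫ Subobject.underlyingIso _

end DivPart

end Groth.Agent.Lib.Helper15.IndCof
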