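import Mathlib.LinearAlgebra.Matrix.Charpoly.Coeff
import Mathlib.LinearAlgebra.Matrix.Adjugate
import Mathlib.RingTheory.PowerSeries.Basic
import Mathlib.RingTheory.PowerSeries.Trunc

/-!
# Jacobi's formula and the logarithmic derivative of `det (1 - A T)` (helper15)
-/

set_option autoImplicit false
open Polynomial Matrix

namespace Groth.Agent.Lib.Helper15

variable {R : Type*} [CommRing R] {m : Type*} [Fintype m] [DecidableEq m]

/-- Jacobi's formula for the derivative of the determinant of a polynomial matrix. -/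
theorem derivative_det_eq_trace (M : Matrix m m R[X]) :
    derivative M.det = (M.adjugate * M.map (derivative : R[X] → R[X])).trace := by
  have hcol : ∀ i : m, (M.updateCol i (fun k => derivative (M k i))).det =
      ∑ σ : Equiv.Perm m, (Equiv.Perm.sign σ : R[X]) *
        ((∏ j ∈ Finset.univ.erase i, M (σ j) j) * derivative (M (σ i) i)) := by
    intro i
    rw [Matrix.det_apply']
    apply Finset.sum_congr rfl
    intro σ _
    congr 1
    rw [← Finset.prod_erase_mul Finset.univ _ (Finset.mem_univ i)]
    congr 1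
    · apply Finset.prod_congr rfl
      intro j hj
      rw [Matrix.updateCol_ne (Finset.ne_of_mem_erase hj)]
    · rw [Matrix.updateCol_self]
  rw [Matrix.det_apply', map_sum]
  simp_rw [derivative_intCast_mul, derivative_prod_finset, Finset.mul_sum]
  rw [Finset.sum_comm]
  simp_rw [← hcol]
  rw [Matrix.trace]
  apply Finset.sum_congr rfl
  intro i _
  rw [← Matrix.cramer_apply, Matrix.cramer_eq_adjugate_mulVec, Matrix.diag_apply, Matrix.mul_apply,
    Matrix.mulVec, dotProduct]
  rfl

/-- The power series `∑_{n ≥ 1} Tr(Aⁿ) Tⁿ`. -/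
noncomputable def traceSeries (A : Matrix m m R) : PowerSeries R :=
  PowerSeries.mk (fun n => if n = 0 then 0 else (A ^ n).trace)

theorem adjugate_eq (A : Matrix m m R) :
    (1 - (X : R[X]) • A.map C).adjugate =
      (1 - (X : R[X]) • A.map C).det • (1 : Matrix m m R[X]) +
        (X : R[X]) • ((1 - (X : R[X]) • A.map C).adjugate * A.map C) := by
  have h := Matrix.adjugate_mul (1 - (X : R[X]) • A.map C)
  rw [Matrix.mul_sub, Matrix.mul_one, Matrix.mul_smul] at h
  rw [← h]
  abel

theorem smul_adjugate_mul_eq (A : Matrix m m R) (N : ℕ) :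
    (X : R[X]) • ((1 - (X : R[X]) • A.map C).adjugate * A.map C) =
      (1 - (X : R[X]) • A.map C).det •
          (∑ j ∈ Finset.range N, (X : R[X]) ^ (j + 1) • (A.map C) ^ (j + 1)) +
        (X : R[X]) ^ (N + 1) • ((1 - (X : R[X]) • A.map C).adjugate * (A.map C) ^ (N + 1)) := by
  induction N with
  | zero => simp
  | succ N ih =>
    rw [ih, Finset.sum_range_succ, smul_add, add_assoc]
    congr 1
    have h2 : (1 - (X : R[X]) • A.map C).adjugate * (A.map C) ^ (N + 1) =
        (1 - (X : R[X]) • A.map C).det • (A.map C) ^ (N + 1) +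
          (X : R[X]) • ((1 - (X : R[X]) • A.map C).adjugate * (A.map C) ^ (N + 1 + 1)) := by
      conv_lhs => rw [adjugate_eq A]
      rw [Matrix.add_mul, Matrix.smul_mul, Matrix.one_mul, Matrix.smul_mul, Matrix.mul_assoc,
        ← pow_succ']
    rw [h2, smul_add, smul_smul, smul_smul, smul_smul, ← pow_succ, mul_comm]

theorem trace_sum_eq_trunc (A : Matrix m m R) (N : ℕ) :
    (∑ j ∈ Finset.range N, (X : R[X]) ^ (j + 1) • (A.map C) ^ (j + 1)).trace =
      PowerSeries.trunc (N + 1) (traceSeries A) := by
  induction N with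
  | zero =>
    simp only [Finset.range_zero, Finset.sum_empty, Matrix.trace_zero, zero_add]
    rw [PowerSeries.trunc_one_left]
    simp [traceSeries]
  | succ N ih =>
    rw [Finset.sum_range_succ, Matrix.trace_add, ih, PowerSeries.trunc_succ _ (N + 1)]
    congr 1
    rw [Matrix.trace_smul, smul_eq_mul]
    have h1 : (A.map C) ^ (N + 1) = (A ^ (N + 1)).map (C : R → R[X]) := by
      have := (Matrix.map_pow (f := (C : R →+* R[X])) A (N + 1))
      exact this.symm
    rw [h1]
    have h2 : ((A ^ (N + 1)).map (C : R → R[X])).trace = C ((A ^ (N + 1)).trace) :=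
      (AddMonoidHom.map_trace (C : R →+* R[X]).toAddMonoidHom _).symm
    rw [h2]
    have h3 : PowerSeries.coeff (N + 1) (traceSeries A) = (A ^ (N + 1)).trace := by
      simp [traceSeries]
    rw [h3, ← Polynomial.C_mul_X_pow_eq_monomial, mul_comm]

omit [Fintype m] in
theorem map_derivative_eq (A : Matrix m m R) :
    (1 - (X : R[X]) • A.map C).map (derivative : R[X] → R[X]) = -(A.map C) := by
  ext i j
  simp only [Matrix.map_apply, Matrix.sub_apply, Matrix.smul_apply, Matrix.neg_apply,
    Matrix.one_apply, smul_eq_mul, derivative_sub, derivative_mul, derivative_X, one_mul,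
    derivative_C, mul_zero, add_zero]
  split_ifs <;> simp

/-- `-T P'(T) = P(T) ∑_{n ≥ 1} Tr(Aⁿ) Tⁿ` for `P = det(1 - A T)`. -/
theorem neg_X_mul_derivative_charpolyRev (A : Matrix m m R) :
    ((-(X * derivative A.charpolyRev) : R[X]) : PowerSeries R) =
      (A.charpolyRev : PowerSeries R) * traceSeries A := by
  have hpoly : ∀ N : ℕ, -(X * derivative A.charpolyRev) =
      A.charpolyRev * PowerSeries.trunc (N + 1) (traceSeries A) +
        X ^ (N + 1) * ((1 - (X : R[X]) • A.map C).adjugate * (A.map C) ^ (N + 1)).trace := by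
    intro N
    have h1 : derivative A.charpolyRev =
        -((1 - (X : R[X]) • A.map C).adjugate * A.map C).trace := by
      rw [Matrix.charpolyRev, derivative_det_eq_trace, map_derivative_eq, Matrix.mul_neg,
        Matrix.trace_neg]
    rw [h1, mul_neg, neg_neg, ← smul_eq_mul, ← Matrix.trace_smul, smul_adjugate_mul_eq A N,
      Matrix.trace_add, Matrix.trace_smul, Matrix.trace_smul, trace_sum_eq_trunc, smul_eq_mul,
      smul_eq_mul]
    rfl
  ext n
  rw [Polynomial.coeff_coe, hpoly n, Polynomial.coeff_add, Polynomial.coeff_X_pow_mul',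
    if_neg (by omega), add_zero]
  have h3 : PowerSeries.coeff n ((A.charpolyRev : PowerSeries R) * traceSeries A) =
      PowerSeries.coeff n ((A.charpolyRev : PowerSeries R) *
        ((PowerSeries.trunc (n + 1) (traceSeries A) : R[X]) : PowerSeries R)) := by
    rw [← PowerSeries.coeff_coe_trunc_of_lt (Nat.lt_succ_self n),
      ← PowerSeries.coeff_coe_trunc_of_lt (f := (A.charpolyRev : PowerSeries R) * _)
        (Nat.lt_succ_self n), PowerSeries.trunc_mul_trunc]
  rw [h3, ← Polynomial.coe_mul, Polynomial.coeff_coe]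

end Groth.Agent.Lib.Helper15
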