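import Mathlib

/-!
# Left homology data of a homological complex from a factorisation of the differential
-/

set_option autoImplicit false
universe v u

noncomputable section

set_option backward.isDefEq.respectTransparency false

namespace Groth.Agent.Lib.Helper15.LHD

open CategoryTheory CategoryTheory.Limits HomologicalComplex

variable {A : Type u} [Category.{v} A] [Abelian A]
variable {ι : Type*} {c : ComplexShape ι}

/-- Left homology data from a factorisation of the differential (canonical indices). -/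
def lhd (R : HomologicalComplex A c) (j : ι) {Z' H' B' : A} (α : Z' ⟶ R.X j)
    (wα : α ≫ R.d j (c.next j) = 0) (hα : IsLimit (KernelFork.ofι α wα))
    (β : R.X (c.prev j) ⟶ B') [Epi β] (γ : B' ⟶ Z') (η : Z' ⟶ H') (wη : γ ≫ η = 0)
    (hη : IsColimit (CokernelCofork.ofπ η wη)) (fac : R.d (c.prev j) j = β ≫ γ ≫ α) :
    (R.sc j).LeftHomologyData :=
  have hf' : hα.lift (KernelFork.ofι (R.sc j).f (R.sc j).zero) = β ≫ γ := by
    apply Fork.IsLimit.hom_ext hα
    rw [Fork.IsLimit.lift_ι]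
    simp [fac]
  { K := Z'
    H := H'
    i := α
    π := η
    wi := wα
    hi := hα
    wπ := by rw [hf', Category.assoc, wη, comp_zero]
    hπ := isCokernelEpiComp hη β hf' }

/-- Left homology data from a factorisation of the differential (general indices). -/
def lhd' (R : HomologicalComplex A c) (i j k : ι) (hi : c.prev j = i) (hk : c.next j = k)
    {Z' H' B' : A} (α : Z' ⟶ R.X j)
    (wα : α ≫ R.d j k = 0) (hα : IsLimit (KernelFork.ofι α wα))
    (β : R.X i ⟶ B') [Epi β] (γ : B' ⟶ Z') (η : Z' ⟶ H') (wη : γ ≫ η = 0)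
    (hη : IsColimit (CokernelCofork.ofπ η wη)) (fac : R.d i j = β ≫ γ ≫ α) :
    (R.sc j).LeftHomologyData :=
  lhd R j α (by rw [← R.d_comp_XIsoOfEq_hom hk.symm, reassoc_of% wα, zero_comp])
    (isKernelCompMono hα (R.XIsoOfEq hk.symm).hom (R.d_comp_XIsoOfEq_hom hk.symm j).symm)
    ((R.XIsoOfEq hi).hom ≫ β) γ η wη hη
    (by rw [Category.assoc, ← fac, R.XIsoOfEq_hom_comp_d])

variable (R : HomologicalComplex A c) (i j k : ι) (hi : c.prev j = i) (hk : c.next j = k)
    {Z' H' B' : A} (α : Z' ⟶ R.X j)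
    (wα : α ≫ R.d j k = 0) (hα : IsLimit (KernelFork.ofι α wα))
    (β : R.X i ⟶ B') [Epi β] (γ : B' ⟶ Z') (η : Z' ⟶ H') (wη : γ ≫ η = 0)
    (hη : IsColimit (CokernelCofork.ofπ η wη)) (fac : R.d i j = β ≫ γ ≫ α)

/-- `Z' ≅ cycles` -/
def eZ : Z' ≅ R.cycles j := (lhd' R i j k hi hk α wα hα β γ η wη hη fac).cyclesIso.symm

/-- `H' ≅ homology` -/
def eH : H' ≅ R.homology j := (lhd' R i j k hi hk α wα hα β γ η wη hη fac).homologyIso.symm

lemma eZ_hom_iCycles : (eZ R i j k hi hk α wα hα β γ η wη hη fac).hom ≫ R.iCycles j = α :=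
  (lhd' R i j k hi hk α wα hα β γ η wη hη fac).cyclesIso_inv_comp_iCycles

lemma eZ_hom_homologyπ : (eZ R i j k hi hk α wα hα β γ η wη hη fac).hom ≫ R.homologyπ j =
    η ≫ (eH R i j k hi hk α wα hα β γ η wη hη fac).hom :=
  ((lhd' R i j k hi hk α wα hα β γ η wη hη fac).π_comp_homologyIso_inv).symm

end Groth.Agent.Lib.Helper15.LHD
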