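import Mathlib.Algebra.Category.ModuleCat.Monoidal.Closed
import Groth.Agent.Lib.Helper60.LocalCohAra
import Groth.Agent.Lib.Helper60.LocalCohAdditive
import Groth.Agent.Lib.Helper60.ExtFG
import Groth.Agent.Lib.Helper60.LocalCohDepth
import Groth.Agent.Lib.Helper60.LocalCohLES

/-!
# Top local cohomology is a tensor product, hence a left adjoint (helper15)

The first part (`rho`, `tau`, ..., `tau_bijective`) is helper60's `Watts.lean` re-hosted with a
small import closure.  Then: `localCohomology J d ≅ tensorLeft (H^d_J(R))` when `H^{d+1}_J`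
vanishes identically, so `localCohomology J d` is a left adjoint.
-/

set_option autoImplicit false
universe u
open CategoryTheory Abelian TensorProduct

namespace Groth.Agent.Lib.Helper15.LcWatts

open Groth.Agent.Lib.Helper60

/-- top-degree right exactness. -/
lemma lcMap_surjective_of_ker {R : Type u} [CommRing R] (J : Ideal R) (i : ℕ) {X Y : Type u} [AddCommGroup X]
    [Module R X] [AddCommGroup Y] [Module R Y] (g : X →ₗ[R] Y) (hg : Function.Surjective g)
    (hK : Subsingleton ((localCohomology J (i + 1)).obj (ModuleCat.of R (LinearMap.ker g)))) :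
    Function.Surjective ((localCohomology J i).map (ModuleCat.ofHom g)).hom := by
  intro y
  have hS := sesOfSurjective_shortExact g hg
  have hK' : Subsingleton ((localCohomology J (i + 1)).obj (sesOfSurjective g).X₁) := hK
  exact lc_exact₃ J hS i y (Subsingleton.elim _ _)

variable {R : Type u} [CommRing R]

/-- the map `R → M`, `r ↦ r • m`, as a morphism of `ModuleCat`. -/
noncomputable def rho (M : Type u) [AddCommGroup M] [Module R M] (m : M) :
    ModuleCat.of R R ⟶ ModuleCat.of R M :=
  ModuleCat.ofHom (LinearMap.toSpanSingleton R M m)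

lemma rho_add (M : Type u) [AddCommGroup M] [Module R M] (m m' : M) :
    rho (R := R) M (m + m') = rho M m + rho M m' := by
  apply ModuleCat.hom_ext
  apply LinearMap.ext_ring
  simp [rho]

lemma rho_smul (M : Type u) [AddCommGroup M] [Module R M] (a : R) (m : M) :
    rho (R := R) M (a • m) = (a • 𝟙 (ModuleCat.of R R)) ≫ rho M m := by
  apply ModuleCat.hom_ext
  apply LinearMap.ext_ring
  simp [rho]

lemma rho_comp {M N : Type u} [AddCommGroup M] [Module R M] [AddCommGroup N] [Module R N]
    (g : M →ₗ[R] N) (m : M) :
    rho (R := R) M m ≫ ModuleCat.ofHom g = rho N (g m) := by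
  apply ModuleCat.hom_ext
  apply LinearMap.ext_ring
  simp [rho]

lemma rho_self (a : R) : rho (R := R) R a = a • 𝟙 (ModuleCat.of R R) := by
  apply ModuleCat.hom_ext
  apply LinearMap.ext_ring
  simp [rho]

variable (J : Ideal R) (d : ℕ)

/-- the comparison map `H^d_J(R) ⊗ M → H^d_J(M)`. -/
noncomputable def tau (M : Type u) [AddCommGroup M] [Module R M] :
    ((localCohomology J d).obj (ModuleCat.of R R)) ⊗[R] M →ₗ[R]
      (localCohomology J d).obj (ModuleCat.of R M) :=
  TensorProduct.lift
    (LinearMap.mk₂ R (fun x m => ((localCohomology J d).map (rho M m)).hom x)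
      (fun x x' m => map_add _ x x')
      (fun a x m => map_smul _ a x)
      (fun x m m' => by rw [rho_add, lcMap_add])
      (fun a x m => by
        rw [rho_smul, lcMap_comp_apply, lcMap_smul_id, map_smul]))

@[simp]
lemma tau_tmul (M : Type u) [AddCommGroup M] [Module R M]
    (x : (localCohomology J d).obj (ModuleCat.of R R)) (m : M) :
    tau J d M (x ⊗ₜ m) = ((localCohomology J d).map (rho M m)).hom x := by
  simp [tau]

lemma tau_naturality {M N : Type u} [AddCommGroup M] [Module R M] [AddCommGroup N] [Module R N]
    (g : M →ₗ[R] N) (z : ((localCohomology J d).obj (ModuleCat.of R R)) ⊗[R] M) :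
    ((localCohomology J d).map (ModuleCat.ofHom g)).hom (tau J d M z) =
      tau J d N (LinearMap.lTensor _ g z) := by
  induction z using TensorProduct.induction_on with
  | zero => simp
  | tmul x m =>
    rw [tau_tmul, LinearMap.lTensor_tmul, tau_tmul, ← lcMap_comp_apply, rho_comp]
  | add z z' hz hz' => rw [map_add, map_add, hz, hz', map_add, map_add]

/-- surjectivity of `tau` on finite free modules `Fin n → R`. -/
lemma tau_surjective_pi (n : ℕ) : Function.Surjective (tau J d (Fin n → R)) := by
  intro w
  have hid : 𝟙 (ModuleCat.of R (Fin n → R)) =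
      ∑ k : Fin n, ModuleCat.ofHom (LinearMap.proj (R := R) (φ := fun _ : Fin n => R) k) ≫
        rho (Fin n → R) (Pi.single k (1 : R)) := by
    apply ModuleCat.hom_ext
    apply LinearMap.ext
    intro v
    rw [ModuleCat.hom_sum, LinearMap.sum_apply]
    funext j
    simp [rho, Finset.sum_apply, Pi.single_apply]
  refine ⟨∑ k : Fin n, (((localCohomology J d).map (ModuleCat.ofHom
    (LinearMap.proj (R := R) (φ := fun _ : Fin n => R) k))).hom w) ⊗ₜ (Pi.single k (1 : R)), ?_⟩
  rw [map_sum]
  conv_rhs => rw [← lcMap_id_apply J d w, hid, lcMap_sum]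
  refine Finset.sum_congr rfl fun k _ => ?_
  rw [tau_tmul, lcMap_comp_apply]

variable (hvan : ∀ (N : Type u) [AddCommGroup N] [Module R N],
  Subsingleton ((localCohomology J (d + 1)).obj (ModuleCat.of R N)))

include hvan in
lemma lcMap_surjective_of_surjective {X Y : Type u} [AddCommGroup X] [Module R X]
    [AddCommGroup Y] [Module R Y] (g : X →ₗ[R] Y) (hg : Function.Surjective g) :
    Function.Surjective ((localCohomology J d).map (ModuleCat.ofHom g)).hom :=
  lcMap_surjective_of_ker J d g hg (hvan _)

include hvan in
/-- `tau` is surjective for every module. -/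
theorem tau_surjective [IsNoetherianRing R] (M : Type u) [AddCommGroup M] [Module R M] :
    Function.Surjective (tau J d M) := by
  intro y
  obtain ⟨M₀, hfg, y₀, rfl⟩ := lc_exists_fg J d (ModuleCat.of R M) y
  have : Module.Finite R M₀ := Module.Finite.iff_fg.mpr hfg
  obtain ⟨n, π, hπ⟩ := Module.Finite.exists_fin' R M₀
  obtain ⟨w, rfl⟩ := lcMap_surjective_of_surjective J d hvan π hπ y₀
  obtain ⟨z, rfl⟩ := tau_surjective_pi J d n w
  refine ⟨LinearMap.lTensor _ (M₀.subtype ∘ₗ π) z, ?_⟩
  rw [← tau_naturality, ← lcMap_comp_apply]
  rfl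

/-- `tau` is injective on `ι →₀ R`. -/
theorem tau_injective_finsupp (ι : Type u) : Function.Injective (tau J d (ι →₀ R)) := by
  classical
  rw [injective_iff_map_eq_zero]
  intro z hz
  have key : ∀ j : ι, ∀ z : ((localCohomology J d).obj (ModuleCat.of R R)) ⊗[R] (ι →₀ R),
      ((localCohomology J d).map (ModuleCat.ofHom (Finsupp.lapply (R := R) (M := R) j))).hom
        (tau J d (ι →₀ R) z) = (TensorProduct.finsuppScalarRight R R _ ι z) j := by
    intro j z
    induction z using TensorProduct.induction_on with
    | zero => simp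
    | tmul x p =>
      rw [tau_tmul, ← lcMap_comp_apply, rho_comp, rho_self, lcMap_smul_id,
        TensorProduct.finsuppScalarRight_apply_tmul_apply]
      rfl
    | add z z' hz hz' =>
      rw [map_add, map_add, hz, hz', map_add, Finsupp.add_apply]
  apply (TensorProduct.finsuppScalarRight R R _ ι).injective
  rw [map_zero]
  ext j
  rw [← key j z, hz, map_zero, Finsupp.zero_apply]

/-- four-lemma step: injectivity of `tau` passes to cokernels. -/
lemma tau_injective_of_exact {K P M : Type u} [AddCommGroup K] [Module R K] [AddCommGroup P]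
    [Module R P] [AddCommGroup M] [Module R M] (i : K →ₗ[R] P) (π : P →ₗ[R] M)
    (hi : Function.Injective i) (hπ : Function.Surjective π) (hex : Function.Exact i π)
    (hK : Function.Surjective (tau J d K)) (hP : Function.Injective (tau J d P)) :
    Function.Injective (tau J d M) := by
  rw [injective_iff_map_eq_zero]
  intro z hz
  obtain ⟨z₀, rfl⟩ := LinearMap.lTensor_surjective
    ((localCohomology J d).obj (ModuleCat.of R R)) hπ z
  have hz' : ((localCohomology J d).map (ModuleCat.ofHom π)).hom (tau J d P z₀) = 0 :=
    (tau_naturality J d π z₀).trans hz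
  let S : ShortComplex (ModuleCat.{u} R) :=
    ShortComplex.mk (ModuleCat.ofHom i) (ModuleCat.ofHom π) (by
      ext x
      exact hex.apply_apply_eq_zero x)
  have hS : S.ShortExact := ModuleCat.shortComplex_shortExact S hex hi hπ
  obtain ⟨yK, hyK⟩ := lc_exact₂ J hS d (tau J d P z₀) hz'
  obtain ⟨zK, hzK⟩ := hK yK
  have h0 : ((localCohomology J d).map (ModuleCat.ofHom i)).hom (tau J d K zK) = tau J d P z₀ := by
    rw [hzK]
    exact hyK
  have h1 : tau J d P (LinearMap.lTensor
      ((localCohomology J d).obj (ModuleCat.of R R)) i zK) = tau J d P z₀ :=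
    (tau_naturality J d i zK).symm.trans h0
  have h2 : LinearMap.lTensor ((localCohomology J d).obj (ModuleCat.of R R)) i zK = z₀ := hP h1
  have h3 : π ∘ₗ i = 0 := by
    ext x
    exact hex.apply_apply_eq_zero x
  rw [← h2, ← LinearMap.comp_apply, ← LinearMap.lTensor_comp, h3, LinearMap.lTensor_zero,
    LinearMap.zero_apply]

include hvan in
/-- `tau` is bijective for every module. -/
theorem tau_bijective [IsNoetherianRing R] (M : Type u) [AddCommGroup M] [Module R M] :
    Function.Bijective (tau J d M) := by
  refine ⟨?_, tau_surjective J d hvan M⟩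
  have hπ : Function.Surjective (Finsupp.linearCombination R (id : M → M)) :=
    Finsupp.linearCombination_id_surjective R M
  have hK := tau_surjective J d hvan (LinearMap.ker (Finsupp.linearCombination R (id : M → M)))
  have hP := tau_injective_finsupp J d M
  have hex : Function.Exact (LinearMap.ker (Finsupp.linearCombination R (id : M → M))).subtype
      (Finsupp.linearCombination R (id : M → M)) := LinearMap.exact_subtype_ker_map _
  have hi : Function.Injective
      (LinearMap.ker (Finsupp.linearCombination R (id : M → M))).subtype :=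
    Submodule.injective_subtype _
  exact tau_injective_of_exact J d _ _ hi hπ hex hK hP

include hvan in
/-- **Watts-type theorem**: `H^d_J(M) ≅ H^d_J(R) ⊗ M` when `H^{d+1}_J` vanishes identically. -/
theorem lc_top_tensor_equiv [IsNoetherianRing R] (M : Type u) [AddCommGroup M] [Module R M] :
    Nonempty (((localCohomology J d).obj (ModuleCat.of R M)) ≃ₗ[R]
      ((localCohomology J d).obj (ModuleCat.of R R)) ⊗[R] M) :=
  ⟨(LinearEquiv.ofBijective (tau J d M) (tau_bijective J d hvan M)).symm⟩



section Adj

open MonoidalCategory

variable {R : Type u} [CommRing R] [IsNoetherianRing R] (J : Ideal R) (d : ℕ)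
  (hvan : ∀ (N : Type u) [AddCommGroup N] [Module R N],
    Subsingleton ((localCohomology J (d + 1)).obj (ModuleCat.of R N)))

/-- `H^d_J(R) ⊗ - ≅ H^d_J(-)` when `H^{d+1}_J` vanishes identically. -/
noncomputable def tensorIso :
    tensorLeft ((localCohomology J d).obj (ModuleCat.of R R)) ≅ localCohomology J d :=
  NatIso.ofComponents
    (fun M => (LinearEquiv.ofBijective (tau J d M) (tau_bijective J d hvan M)).toModuleIso)
    (by
      intro M N f
      apply ModuleCat.hom_ext
      apply LinearMap.ext
      intro z
      exact (tau_naturality J d f.hom z).symm)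

/-- top local cohomology is a left adjoint. -/
noncomputable def adj :
    localCohomology J d ⊣ ihom ((localCohomology J d).obj (ModuleCat.of R R)) :=
  (ihom.adjunction _).ofNatIsoLeft (tensorIso J d hvan)

end Adj

end Groth.Agent.Lib.Helper15.LcWatts
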