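import Mathlib

/-!
# Compatible maps from left exact sequences of complexes to injective ones

Generic diagram-chasing lemmas (abstract objects in an abelian category), then the
recursive construction for `ℕ`-indexed cochain complexes.
-/

set_option autoImplicit false
universe u v

namespace Groth.Agent.Lib.Helper15.LeftExactLadder

open CategoryTheory CategoryTheory.Limits Preadditive

variable {V : Type u} [Category.{v} V] [Abelian V]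

/-- Extension along `u` into an injective object, given the kernel condition. -/
theorem ext_of_kernel_le {P Q J : V} [Injective J] (u : P ⟶ Q) (v : P ⟶ J)
    (h : ∀ ⦃W : V⦄ (x : W ⟶ P), x ≫ u = 0 → x ≫ v = 0) : ∃ w : Q ⟶ J, u ≫ w = v := by
  have hk : kernel.ι u ≫ v = 0 := h _ (kernel.condition u)
  refine ⟨Injective.factorThru (cokernel.desc (kernel.ι u) v hk)
    (Abelian.factorThruCoimage u), ?_⟩
  have h1 : u = Abelian.coimage.π u ≫ Abelian.factorThruCoimage u :=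
    (Abelian.coimage.fac u).symm
  calc u ≫ Injective.factorThru (cokernel.desc (kernel.ι u) v hk) (Abelian.factorThruCoimage u)
      = Abelian.coimage.π u ≫ (Abelian.factorThruCoimage u ≫
          Injective.factorThru (cokernel.desc (kernel.ι u) v hk)
            (Abelian.factorThruCoimage u)) := by
        rw [← Category.assoc, ← h1]
    _ = Abelian.coimage.π u ≫ cokernel.desc (kernel.ι u) v hk := by
        rw [Injective.comp_factorThru]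
    _ = v := cokernel.π_desc _ _ _

/-- Kernel condition for a map out of a biproduct, in terms of components. -/
theorem biprod_kernel_cond {A B Q J : V} (u₁ : A ⟶ Q) (u₂ : B ⟶ Q) (v₁ : A ⟶ J) (v₂ : B ⟶ J)
    (h : ∀ ⦃W : V⦄ (a : W ⟶ A) (b : W ⟶ B), a ≫ u₁ + b ≫ u₂ = 0 → a ≫ v₁ + b ≫ v₂ = 0) :
    ∀ ⦃W : V⦄ (x : W ⟶ A ⊞ B), x ≫ biprod.desc u₁ u₂ = 0 → x ≫ biprod.desc v₁ v₂ = 0 := by
  intro W x hx
  have e1 : x ≫ biprod.desc u₁ u₂ = (x ≫ biprod.fst) ≫ u₁ + (x ≫ biprod.snd) ≫ u₂ := by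
    rw [biprod.desc_eq, comp_add]; simp
  have e2 : x ≫ biprod.desc v₁ v₂ = (x ≫ biprod.fst) ≫ v₁ + (x ≫ biprod.snd) ≫ v₂ := by
    rw [biprod.desc_eq, comp_add]; simp
  rw [e2]
  exact h _ _ (e1.symm.trans hx)

/-- Joint extension: `w` with `u₁ ≫ w = v₁` and `u₂ ≫ w = v₂`. -/
theorem ext_pair {A B Q J : V} [Injective J] (u₁ : A ⟶ Q) (u₂ : B ⟶ Q) (v₁ : A ⟶ J) (v₂ : B ⟶ J)
    (h : ∀ ⦃W : V⦄ (a : W ⟶ A) (b : W ⟶ B), a ≫ u₁ + b ≫ u₂ = 0 → a ≫ v₁ + b ≫ v₂ = 0) :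
    ∃ w : Q ⟶ J, u₁ ≫ w = v₁ ∧ u₂ ≫ w = v₂ := by
  obtain ⟨w, hw⟩ := ext_of_kernel_le (biprod.desc u₁ u₂) (biprod.desc v₁ v₂)
    (biprod_kernel_cond u₁ u₂ v₁ v₂ h)
  refine ⟨w, ?_, ?_⟩
  · have := biprod.inl ≫= hw
    simpa using this
  · have := biprod.inr ≫= hw
    simpa using this

/-- The middle step. -/
theorem step_mid {P' Q' R' P Q R PI' PI QI' QI : V} [Injective QI]
    (p' : P' ⟶ Q') (q' : Q' ⟶ R') (p : P ⟶ Q) (q : Q ⟶ R)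
    (jP : P' ⟶ P) (jQ : Q' ⟶ Q) (jR : R' ⟶ R) [Mono jR]
    (cpj : p' ≫ jQ = jP ≫ p) (cqj : q' ≫ jR = jQ ≫ q) (pq : p ≫ q = 0)
    (exQ' : ∀ ⦃W : V⦄ (b : W ⟶ Q'), b ≫ q' = 0 →
      ∃ (W' : V) (π : W' ⟶ W) (_ : Epi π) (c : W' ⟶ P'), π ≫ b = c ≫ p')
    (pI' : PI' ⟶ QI') (pI : PI ⟶ QI) (jPI : PI' ⟶ PI) (jQI : QI' ⟶ QI)
    (cpjI : pI' ≫ jQI = jPI ≫ pI)
    (φ' : P' ⟶ PI') (φ : P ⟶ PI) (sqP : jP ≫ φ = φ' ≫ jPI)
    (ψ' : Q' ⟶ QI') (chψ' : p' ≫ ψ' = φ' ≫ pI')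
    (S2 : ∀ ⦃W : V⦄ (x : W ⟶ P), x ≫ p = 0 → x ≫ φ ≫ pI = 0) :
    ∃ ψ : Q ⟶ QI, p ≫ ψ = φ ≫ pI ∧ jQ ≫ ψ = ψ' ≫ jQI := by
  apply ext_pair
  intro W a b hab
  have hbj : b ≫ jQ = -(a ≫ p) := eq_neg_of_add_eq_zero_right hab
  have hb : b ≫ q' = 0 := by
    rw [← cancel_mono jR, Category.assoc, cqj, ← Category.assoc, hbj, zero_comp, neg_comp,
      Category.assoc, pq, comp_zero, neg_zero]
  obtain ⟨W', π, hπ, c, hc⟩ := exQ' b hb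
  have hcyc : (π ≫ a + c ≫ jP) ≫ p = 0 := by
    rw [add_comp, Category.assoc, Category.assoc, ← cpj, ← Category.assoc c, ← hc,
      Category.assoc, ← comp_add, hab, comp_zero]
  have h2 := S2 _ hcyc
  rw [← cancel_epi π, comp_zero, comp_add]
  have e : π ≫ b ≫ ψ' ≫ jQI = c ≫ jP ≫ φ ≫ pI := by
    rw [← Category.assoc, hc, Category.assoc, ← Category.assoc p', chψ', Category.assoc, cpjI,
      ← Category.assoc φ', ← sqP, Category.assoc]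
  rw [e]
  rw [add_comp, Category.assoc, Category.assoc] at h2
  exact h2

/-- The right step, assuming the decomposition hypothesis `H`. -/
theorem step_right {P Q Q' P'' Q'' R'' PI QI QI' PI'' QI'' : V} [Injective QI'']
    (p : P ⟶ Q) (jQ : Q' ⟶ Q) (πP : P ⟶ P'') (πQ : Q ⟶ Q'') (p'' : P'' ⟶ Q'') (q'' : Q'' ⟶ R'')
    (pq'' : p'' ≫ q'' = 0) (cpπ : p ≫ πQ = πP ≫ p'') (wQ : jQ ≫ πQ = 0)
    (H : ∀ ⦃W : V⦄ (b : W ⟶ Q), b ≫ πQ ≫ q'' = 0 →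
      ∃ (W' : V) (π : W' ⟶ W) (_ : Epi π) (h : W' ⟶ P) (e : W' ⟶ Q'),
        π ≫ b = h ≫ p + e ≫ jQ)
    (pI : PI ⟶ QI) (pI'' : PI'' ⟶ QI'') (jQI : QI' ⟶ QI) (πPI : PI ⟶ PI'') (πQI : QI ⟶ QI'')
    (cpπI : pI ≫ πQI = πPI ≫ pI'') (wQI : jQI ≫ πQI = 0)
    (φ : P ⟶ PI) (φ'' : P'' ⟶ PI'') (sqP : πP ≫ φ'' = φ ≫ πPI)
    (ψ : Q ⟶ QI) (chψ : p ≫ ψ = φ ≫ pI)
    (ψ' : Q' ⟶ QI') (sqQ : jQ ≫ ψ = ψ' ≫ jQI)
    (S2 : ∀ ⦃W : V⦄ (x : W ⟶ P''), x ≫ p'' = 0 → x ≫ φ'' ≫ pI'' = 0) :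
    ∃ ψ'' : Q'' ⟶ QI'', p'' ≫ ψ'' = φ'' ≫ pI'' ∧ πQ ≫ ψ'' = ψ ≫ πQI := by
  apply ext_pair
  intro W a b hab
  have hbj : b ≫ πQ = -(a ≫ p'') := eq_neg_of_add_eq_zero_right hab
  have hb : b ≫ πQ ≫ q'' = 0 := by
    rw [← Category.assoc, hbj, neg_comp, Category.assoc, pq'', comp_zero, neg_zero]
  obtain ⟨W', π, hπ, h, e, hbe⟩ := H b hb
  have hbπ : π ≫ b ≫ πQ = h ≫ πP ≫ p'' := by
    rw [← Category.assoc, hbe, add_comp, Category.assoc, Category.assoc, wQ, comp_zero,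
      add_zero, cpπ]
  have hcyc : (π ≫ a + h ≫ πP) ≫ p'' = 0 := by
    rw [add_comp, Category.assoc, Category.assoc, ← hbπ, ← comp_add, hab, comp_zero]
  have h2 := S2 _ hcyc
  rw [← cancel_epi π, comp_zero, comp_add]
  have e2 : π ≫ b ≫ ψ ≫ πQI = h ≫ πP ≫ φ'' ≫ pI'' := by
    rw [← Category.assoc, hbe, add_comp, Category.assoc, Category.assoc,
      ← Category.assoc jQ, sqQ, Category.assoc, wQI, comp_zero, comp_zero, add_zero,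
      ← Category.assoc p, chψ, Category.assoc, cpπI, ← Category.assoc φ, ← sqP, Category.assoc]
  rw [e2]
  rw [add_comp, Category.assoc, Category.assoc] at h2
  exact h2

/-- The decomposition hypothesis from exactness. -/
theorem H_of_exact {P Q R S Q' R' S' Q'' R'' : V}
    (p : P ⟶ Q) (q : Q ⟶ R) (r : R ⟶ S) (q' : Q' ⟶ R') (r' : R' ⟶ S')
    (jQ : Q' ⟶ Q) (jR : R' ⟶ R) (jS : S' ⟶ S) [Mono jS]
    (πQ : Q ⟶ Q'') (πR : R ⟶ R'') (q'' : Q'' ⟶ R'')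
    (qr : q ≫ r = 0) (cqj : q' ≫ jR = jQ ≫ q) (crj : r' ≫ jS = jR ≫ r)
    (cqπ : q ≫ πR = πQ ≫ q'')
    (exR : ∀ ⦃W : V⦄ (b : W ⟶ R), b ≫ πR = 0 →
      ∃ (W' : V) (π : W' ⟶ W) (_ : Epi π) (c : W' ⟶ R'), π ≫ b = c ≫ jR)
    (exR' : ∀ ⦃W : V⦄ (b : W ⟶ R'), b ≫ r' = 0 →
      ∃ (W' : V) (π : W' ⟶ W) (_ : Epi π) (c : W' ⟶ Q'), π ≫ b = c ≫ q')
    (exQ : ∀ ⦃W : V⦄ (b : W ⟶ Q), b ≫ q = 0 →
      ∃ (W' : V) (π : W' ⟶ W) (_ : Epi π) (c : W' ⟶ P), π ≫ b = c ≫ p) :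
    ∀ ⦃W : V⦄ (b : W ⟶ Q), b ≫ πQ ≫ q'' = 0 →
      ∃ (W' : V) (π : W' ⟶ W) (_ : Epi π) (h : W' ⟶ P) (e : W' ⟶ Q'),
        π ≫ b = h ≫ p + e ≫ jQ := by
  intro W b hb
  have hb1 : (b ≫ q) ≫ πR = 0 := by rw [Category.assoc, cqπ]; exact hb
  obtain ⟨W₁, π₁, hπ₁, c, hc⟩ := exR _ hb1
  have hc0 : c ≫ r' = 0 := by
    rw [← cancel_mono jS, Category.assoc, crj, ← Category.assoc, ← hc, zero_comp,
      Category.assoc, Category.assoc, qr, comp_zero, comp_zero]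
  obtain ⟨W₂, π₂, hπ₂, e, he⟩ := exR' c hc0
  have hcyc : (π₂ ≫ π₁ ≫ b - e ≫ jQ) ≫ q = 0 := by
    rw [sub_comp, Category.assoc, Category.assoc, Category.assoc, ← cqj, ← Category.assoc e,
      ← he, Category.assoc, ← hc, sub_self]
  obtain ⟨W₃, π₃, hπ₃, h, hh⟩ := exQ _ hcyc
  refine ⟨W₃, π₃ ≫ π₂ ≫ π₁, inferInstance, h, π₃ ≫ e, ?_⟩
  rw [← hh, comp_sub]
  simp only [Category.assoc]
  abel

/-- Cycles go to cycles at the next level. -/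
theorem z_next {P Q R PI QI RI : V} (p : P ⟶ Q) (q : Q ⟶ R) (pI : PI ⟶ QI) (qI : QI ⟶ RI)
    (pqI : pI ≫ qI = 0)
    (exQ : ∀ ⦃W : V⦄ (b : W ⟶ Q), b ≫ q = 0 →
      ∃ (W' : V) (π : W' ⟶ W) (_ : Epi π) (c : W' ⟶ P), π ≫ b = c ≫ p)
    (φ : P ⟶ PI) (ψ : Q ⟶ QI) (ch : p ≫ ψ = φ ≫ pI) :
    ∀ ⦃W : V⦄ (x : W ⟶ Q), x ≫ q = 0 → x ≫ ψ ≫ qI = 0 := by
  intro W x hx
  obtain ⟨W', π, hπ, c, hc⟩ := exQ x hx
  rw [← cancel_epi π, comp_zero, ← Category.assoc, hc, Category.assoc, ← Category.assoc p, ch,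
    Category.assoc, pqI, comp_zero, comp_zero]


section Complexes

open HomologicalComplex

theorem exact_refine (K : CochainComplex V ℕ) (n : ℕ) (h : K.ExactAt (n + 1)) :
    ∀ ⦃W : V⦄ (b : W ⟶ K.X (n + 1)), b ≫ K.d (n + 1) (n + 1 + 1) = 0 →
      ∃ (W' : V) (π : W' ⟶ W) (_ : Epi π) (c : W' ⟶ K.X n), π ≫ b = c ≫ K.d n (n + 1) := by
  intro W b hb
  have h' : (K.sc' n (n + 1) (n + 1 + 1)).Exact :=
    (K.exactAt_iff' n (n + 1) (n + 1 + 1) (by simp) (by simp)).1 h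
  exact h'.exact_up_to_refinements b hb

theorem cycles_refine (K : CochainComplex V ℕ) :
    ∀ ⦃W : V⦄ (b : W ⟶ K.X 0), b ≫ K.d 0 (0 + 1) = 0 →
      ∃ (W' : V) (π : W' ⟶ W) (_ : Epi π) (c : W' ⟶ K.cycles 0), π ≫ b = c ≫ K.iCycles 0 := by
  intro W b hb
  exact ⟨W, 𝟙 W, inferInstance, K.liftCycles b (0 + 1) (by simp) hb, by simp⟩

/-- The map on `0`-cycles corresponding to a map on `H⁰`. -/
noncomputable def hat {K L : CochainComplex V ℕ} (g : K.homology 0 ⟶ L.homology 0) :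
    K.cycles 0 ⟶ L.cycles 0 :=
  K.homologyπ 0 ≫ g ≫ inv (L.homologyπ 0)

theorem hat_comm {K K₂ L L₂ : CochainComplex V ℕ} (a : K ⟶ K₂) (b : L ⟶ L₂)
    (g : K.homology 0 ⟶ L.homology 0) (g₂ : K₂.homology 0 ⟶ L₂.homology 0)
    (h : homologyMap a 0 ≫ g₂ = g ≫ homologyMap b 0) :
    cyclesMap a 0 ≫ hat g₂ = hat g ≫ cyclesMap b 0 := by
  unfold hat
  have e : inv (L.homologyπ 0) ≫ cyclesMap b 0 = homologyMap b 0 ≫ inv (L₂.homologyπ 0) := by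
    rw [IsIso.inv_comp_eq, ← Category.assoc, homologyπ_naturality, Category.assoc,
      IsIso.hom_inv_id, Category.comp_id]
  rw [Category.assoc, Category.assoc, e, ← Category.assoc g, ← h, ← Category.assoc,
    ← Category.assoc, ← homologyπ_naturality]
  simp

theorem homologyMap_eq_of_hat {K L : CochainComplex V ℕ} (f : K ⟶ L)
    (g : K.homology 0 ⟶ L.homology 0)
    (h : K.iCycles 0 ≫ f.f 0 = hat g ≫ L.iCycles 0) : homologyMap f 0 = g := by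
  have h1 : cyclesMap f 0 = hat g := by
    rw [← cancel_mono (L.iCycles 0), cyclesMap_i]; exact h
  rw [← cancel_epi (K.homologyπ 0), homologyπ_naturality, h1]
  unfold hat
  simp

/-- All the data. -/
structure Setup (V : Type u) [Category.{v} V] [Abelian V] where
  C' : CochainComplex V ℕ
  C : CochainComplex V ℕ
  C'' : CochainComplex V ℕ
  I' : CochainComplex V ℕ
  I : CochainComplex V ℕ
  I'' : CochainComplex V ℕ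
  jC : C' ⟶ C
  πC : C ⟶ C''
  jI : I' ⟶ I
  πI : I ⟶ I''
  mC : ∀ n, Mono (jC.f n)
  wC : ∀ n, jC.f n ≫ πC.f n = 0
  exC : ∀ n, (ShortComplex.mk (jC.f n) (πC.f n) (wC n)).Exact
  wI : ∀ n, jI.f n ≫ πI.f n = 0
  hC' : ∀ n, 0 < n → C'.ExactAt n
  hC : ∀ n, 0 < n → C.ExactAt n
  hC'' : ∀ n, 0 < n → C''.ExactAt n
  injI' : ∀ n, Injective (I'.X n)
  injI : ∀ n, Injective (I.X n)
  injI'' : ∀ n, Injective (I''.X n)
  g' : C'.homology 0 ⟶ I'.homology 0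
  g : C.homology 0 ⟶ I.homology 0
  g'' : C''.homology 0 ⟶ I''.homology 0
  hg1 : homologyMap jC 0 ≫ g = g' ≫ homologyMap jI 0
  hg2 : homologyMap πC 0 ≫ g'' = g ≫ homologyMap πI 0

variable (S : Setup V)

theorem Setup.exC_refine (n : ℕ) :
    ∀ ⦃W : V⦄ (b : W ⟶ S.C.X n), b ≫ S.πC.f n = 0 →
      ∃ (W' : V) (π : W' ⟶ W) (_ : Epi π) (c : W' ⟶ S.C'.X n), π ≫ b = c ≫ S.jC.f n := by
  intro W b hb
  exact (S.exC n).exact_up_to_refinements b hb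

/-- The data at level `n`. -/
structure Stage (n : ℕ) where
  f' : S.C'.X n ⟶ S.I'.X n
  f : S.C.X n ⟶ S.I.X n
  f'' : S.C''.X n ⟶ S.I''.X n
  sq1 : S.jC.f n ≫ f = f' ≫ S.jI.f n
  sq2 : S.πC.f n ≫ f'' = f ≫ S.πI.f n
  z' : ∀ ⦃W : V⦄ (x : W ⟶ S.C'.X n), x ≫ S.C'.d n (n + 1) = 0 → x ≫ f' ≫ S.I'.d n (n + 1) = 0
  z : ∀ ⦃W : V⦄ (x : W ⟶ S.C.X n), x ≫ S.C.d n (n + 1) = 0 → x ≫ f ≫ S.I.d n (n + 1) = 0
  z'' : ∀ ⦃W : V⦄ (x : W ⟶ S.C''.X n), x ≫ S.C''.d n (n + 1) = 0 →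
    x ≫ f'' ≫ S.I''.d n (n + 1) = 0

variable {S}

theorem exists_next {n : ℕ} (s : Stage S n) :
    ∃ t : Stage S (n + 1),
      S.C'.d n (n + 1) ≫ t.f' = s.f' ≫ S.I'.d n (n + 1) ∧
      S.C.d n (n + 1) ≫ t.f = s.f ≫ S.I.d n (n + 1) ∧
      S.C''.d n (n + 1) ≫ t.f'' = s.f'' ≫ S.I''.d n (n + 1) := by
  have := S.injI' (n + 1)
  have := S.injI (n + 1)
  have := S.injI'' (n + 1)
  have := S.mC (n + 1 + 1)
  have := S.mC (n + 1 + 1 + 1)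
  obtain ⟨ψ', hψ'⟩ := ext_of_kernel_le (S.C'.d n (n + 1)) (s.f' ≫ S.I'.d n (n + 1)) s.z'
  obtain ⟨ψ, hψ1, hψ2⟩ := step_mid (S.C'.d n (n + 1)) (S.C'.d (n + 1) (n + 1 + 1))
    (S.C.d n (n + 1)) (S.C.d (n + 1) (n + 1 + 1)) (S.jC.f n) (S.jC.f (n + 1)) (S.jC.f (n + 1 + 1))
    (S.jC.comm _ _).symm (S.jC.comm _ _).symm (S.C.d_comp_d _ _ _)
    (exact_refine S.C' n (S.hC' _ (Nat.succ_pos n)))
    (S.I'.d n (n + 1)) (S.I.d n (n + 1)) (S.jI.f n) (S.jI.f (n + 1)) (S.jI.comm _ _).symm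
    s.f' s.f s.sq1 ψ' hψ' s.z
  obtain ⟨ψ'', hψ''1, hψ''2⟩ := step_right (S.C.d n (n + 1)) (S.jC.f (n + 1)) (S.πC.f n)
    (S.πC.f (n + 1)) (S.C''.d n (n + 1)) (S.C''.d (n + 1) (n + 1 + 1))
    (S.C''.d_comp_d _ _ _) (S.πC.comm _ _).symm (S.wC _)
    (H_of_exact (S.C.d n (n + 1)) (S.C.d (n + 1) (n + 1 + 1)) (S.C.d (n + 1 + 1) (n + 1 + 1 + 1))
      (S.C'.d (n + 1) (n + 1 + 1)) (S.C'.d (n + 1 + 1) (n + 1 + 1 + 1))
      (S.jC.f (n + 1)) (S.jC.f (n + 1 + 1)) (S.jC.f (n + 1 + 1 + 1))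
      (S.πC.f (n + 1)) (S.πC.f (n + 1 + 1)) (S.C''.d (n + 1) (n + 1 + 1))
      (S.C.d_comp_d _ _ _) (S.jC.comm _ _).symm (S.jC.comm _ _).symm (S.πC.comm _ _).symm
      (S.exC_refine _)
      (exact_refine S.C' (n + 1) (S.hC' _ (Nat.succ_pos _)))
      (exact_refine S.C n (S.hC _ (Nat.succ_pos n))))
    (S.I.d n (n + 1)) (S.I''.d n (n + 1)) (S.jI.f (n + 1)) (S.πI.f n) (S.πI.f (n + 1))
    (S.πI.comm _ _).symm (S.wI _) s.f s.f'' s.sq2 ψ hψ1 ψ' hψ2 s.z''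
  refine ⟨⟨ψ', ψ, ψ'', hψ2, hψ''2, ?_, ?_, ?_⟩, hψ', hψ1, hψ''1⟩
  · exact z_next (S.C'.d n (n + 1)) (S.C'.d (n + 1) (n + 1 + 1)) (S.I'.d n (n + 1))
      (S.I'.d (n + 1) (n + 1 + 1)) (S.I'.d_comp_d _ _ _)
      (exact_refine S.C' n (S.hC' _ (Nat.succ_pos n))) s.f' ψ' hψ'
  · exact z_next (S.C.d n (n + 1)) (S.C.d (n + 1) (n + 1 + 1)) (S.I.d n (n + 1))
      (S.I.d (n + 1) (n + 1 + 1)) (S.I.d_comp_d _ _ _)
      (exact_refine S.C n (S.hC _ (Nat.succ_pos n))) s.f ψ hψ1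
  · exact z_next (S.C''.d n (n + 1)) (S.C''.d (n + 1) (n + 1 + 1)) (S.I''.d n (n + 1))
      (S.I''.d (n + 1) (n + 1 + 1)) (S.I''.d_comp_d _ _ _)
      (exact_refine S.C'' n (S.hC'' _ (Nat.succ_pos n))) s.f'' ψ'' hψ''1

theorem exists_base (S : Setup V) :
    ∃ t : Stage S 0,
      S.C'.iCycles 0 ≫ t.f' = hat S.g' ≫ S.I'.iCycles 0 ∧
      S.C.iCycles 0 ≫ t.f = hat S.g ≫ S.I.iCycles 0 ∧
      S.C''.iCycles 0 ≫ t.f'' = hat S.g'' ≫ S.I''.iCycles 0 := by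
  have := S.injI' 0
  have := S.injI 0
  have := S.injI'' 0
  have := S.mC (0 + 1)
  have := S.mC (0 + 1 + 1)
  have triv : ∀ (K L : CochainComplex V ℕ) (φ : K.cycles 0 ⟶ L.cycles 0)
      ⦃W : V⦄ (x : W ⟶ K.cycles 0), x ≫ K.iCycles 0 = 0 → x ≫ φ ≫ L.iCycles 0 = 0 := by
    intro K L φ W x hx
    have : x = 0 := by rw [← cancel_mono (K.iCycles 0), hx, zero_comp]
    rw [this, zero_comp]
  obtain ⟨ψ', hψ'⟩ := ext_of_kernel_le (S.C'.iCycles 0) (hat S.g' ≫ S.I'.iCycles 0)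
    (triv _ _ _)
  obtain ⟨ψ, hψ1, hψ2⟩ := step_mid (S.C'.iCycles 0) (S.C'.d 0 (0 + 1))
    (S.C.iCycles 0) (S.C.d 0 (0 + 1)) (cyclesMap S.jC 0) (S.jC.f 0) (S.jC.f (0 + 1))
    (cyclesMap_i S.jC 0).symm (S.jC.comm _ _).symm (S.C.iCycles_d _ _)
    (cycles_refine S.C')
    (S.I'.iCycles 0) (S.I.iCycles 0) (cyclesMap S.jI 0) (S.jI.f 0) (cyclesMap_i S.jI 0).symm
    (hat S.g') (hat S.g) (hat_comm S.jC S.jI S.g' S.g S.hg1) ψ' hψ' (triv _ _ _)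
  obtain ⟨ψ'', hψ''1, hψ''2⟩ := step_right (S.C.iCycles 0) (S.jC.f 0) (cyclesMap S.πC 0)
    (S.πC.f 0) (S.C''.iCycles 0) (S.C''.d 0 (0 + 1))
    (S.C''.iCycles_d _ _) (cyclesMap_i S.πC 0).symm (S.wC _)
    (H_of_exact (S.C.iCycles 0) (S.C.d 0 (0 + 1)) (S.C.d (0 + 1) (0 + 1 + 1))
      (S.C'.d 0 (0 + 1)) (S.C'.d (0 + 1) (0 + 1 + 1))
      (S.jC.f 0) (S.jC.f (0 + 1)) (S.jC.f (0 + 1 + 1))
      (S.πC.f 0) (S.πC.f (0 + 1)) (S.C''.d 0 (0 + 1))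
      (S.C.d_comp_d _ _ _) (S.jC.comm _ _).symm (S.jC.comm _ _).symm (S.πC.comm _ _).symm
      (S.exC_refine _)
      (exact_refine S.C' 0 (S.hC' _ (Nat.succ_pos _)))
      (cycles_refine S.C))
    (S.I.iCycles 0) (S.I''.iCycles 0) (S.jI.f 0) (cyclesMap S.πI 0) (S.πI.f 0)
    (cyclesMap_i S.πI 0).symm (S.wI _) (hat S.g) (hat S.g'')
    (hat_comm S.πC S.πI S.g S.g'' S.hg2) ψ hψ1 ψ' hψ2 (triv _ _ _)
  refine ⟨⟨ψ', ψ, ψ'', hψ2, hψ''2, ?_, ?_, ?_⟩, hψ', hψ1, hψ''1⟩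
  · exact z_next (S.C'.iCycles 0) (S.C'.d 0 (0 + 1)) (S.I'.iCycles 0)
      (S.I'.d 0 (0 + 1)) (S.I'.iCycles_d _ _) (cycles_refine S.C') (hat S.g') ψ' hψ'
  · exact z_next (S.C.iCycles 0) (S.C.d 0 (0 + 1)) (S.I.iCycles 0)
      (S.I.d 0 (0 + 1)) (S.I.iCycles_d _ _) (cycles_refine S.C) (hat S.g) ψ hψ1
  · exact z_next (S.C''.iCycles 0) (S.C''.d 0 (0 + 1)) (S.I''.iCycles 0)
      (S.I''.d 0 (0 + 1)) (S.I''.iCycles_d _ _) (cycles_refine S.C'') (hat S.g'') ψ'' hψ''1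

theorem main (S : Setup V) :
    ∃ (f' : S.C' ⟶ S.I') (f : S.C ⟶ S.I) (f'' : S.C'' ⟶ S.I''),
      S.jC ≫ f = f' ≫ S.jI ∧ S.πC ≫ f'' = f ≫ S.πI ∧
      homologyMap f' 0 = S.g' ∧ homologyMap f 0 = S.g ∧ homologyMap f'' 0 = S.g'' := by
  obtain ⟨s0, h0', h0, h0''⟩ := exists_base S
  let st : ∀ n, Stage S n := fun n => Nat.rec s0 (fun _ s => (exists_next s).choose) n
  have hst : ∀ n, S.C'.d n (n + 1) ≫ (st (n + 1)).f' = (st n).f' ≫ S.I'.d n (n + 1) ∧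
      S.C.d n (n + 1) ≫ (st (n + 1)).f = (st n).f ≫ S.I.d n (n + 1) ∧
      S.C''.d n (n + 1) ≫ (st (n + 1)).f'' = (st n).f'' ≫ S.I''.d n (n + 1) :=
    fun n => (exists_next (st n)).choose_spec
  let f' : S.C' ⟶ S.I' :=
    { f := fun n => (st n).f'
      comm' := by rintro i j (rfl : i + 1 = j); exact (hst i).1.symm }
  let f : S.C ⟶ S.I :=
    { f := fun n => (st n).f
      comm' := by rintro i j (rfl : i + 1 = j); exact (hst i).2.1.symm }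
  let f'' : S.C'' ⟶ S.I'' :=
    { f := fun n => (st n).f''
      comm' := by rintro i j (rfl : i + 1 = j); exact (hst i).2.2.symm }
  refine ⟨f', f, f'', ?_, ?_, ?_, ?_, ?_⟩
  · ext n; exact (st n).sq1
  · ext n; exact (st n).sq2
  · exact homologyMap_eq_of_hat f' S.g' h0'
  · exact homologyMap_eq_of_hat f S.g h0
  · exact homologyMap_eq_of_hat f'' S.g'' h0''

end Complexes

end Groth.Agent.Lib.Helper15.LeftExactLadder
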