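import Mathlib.CategoryTheory.Adjunction.PartialAdjoint
import Mathlib.CategoryTheory.Limits.Preserves.Basic
import Mathlib.CategoryTheory.Preadditive.AdditiveFunctor

/-!
# The partial left adjoint preserves colimits

If `F : D ⥤ C` and `c` is a cocone in `F.PartialLeftAdjointSource` whose image in `C` is a colimit
cocone, then `F.partialLeftAdjoint.mapCocone c` is a colimit cocone.
-/

universe v₁ v₂ u₁ u₂

namespace Groth.Agent.Lib.Helper15.PartialAdjColim

open CategoryTheory CategoryTheory.Limits CategoryTheory.Functor Opposite

variable {C : Type u₁} [Category.{v₁} C] {D : Type u₂} [Category.{v₂} D] (F : D ⥤ C)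

/-- The partial left adjoint sends a cocone, whose image in `C` is colimit, to a colimit cocone. -/
noncomputable def isColimitMapCocone {J : Type*} [Category J]
    {R : J ⥤ F.PartialLeftAdjointSource} (c : Cocone R)
    (hc : IsColimit ((ObjectProperty.ι _).mapCocone c)) :
    IsColimit (F.partialLeftAdjoint.mapCocone c) where
  desc s := F.partialLeftAdjointHomEquiv.symm (hc.desc (Cocone.mk (F.obj s.pt)
    { app := fun j => F.partialLeftAdjointHomEquiv (s.ι.app j)
      naturality := fun j j' φ => by
        have := s.w φ
        dsimp at this ⊢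
        rw [Category.comp_id, ← this]
        exact (F.partialLeftAdjointHomEquiv_map_comp (R.map φ) (s.ι.app j')).symm }))
  fac s j := by
    dsimp
    refine (F.partialLeftAdjointHomEquiv_comp_symm _ (c.ι.app j)).trans ?_
    apply F.partialLeftAdjointHomEquiv.injective
    rw [Equiv.apply_symm_apply]
    exact hc.fac _ j
  uniq s m hm := by
    apply F.partialLeftAdjointHomEquiv.injective
    rw [Equiv.apply_symm_apply]
    refine hc.uniq (Cocone.mk (F.obj s.pt) _) _ (fun j => ?_)
    have := hm j
    dsimp at this ⊢
    rw [← this]
    exact (F.partialLeftAdjointHomEquiv_map_comp (c.ι.app j) m).symm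

end Groth.Agent.Lib.Helper15.PartialAdjColim
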