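import Mathlib

/-!
# Scalars killing cones in linear triangulated categories; Koszul-type iterated cones (helper15)
-/

set_option autoImplicit false

open CategoryTheory Limits Pretriangulated

namespace Groth.Agent.Lib.Helper15.TriKill

section Generic

variable {C : Type*} [Category C] [Preadditive C] [HasZeroObject C] [HasShift C ℤ]
  [∀ n : ℤ, (shiftFunctor C n).Additive] [Pretriangulated C]
  {R : Type*} [CommRing R] [Linear R C] [∀ n : ℤ, (shiftFunctor C n).Linear R]

lemma smul_id_obj₃ (T : Triangle C) (hT : T ∈ distTriang C) (h h' : R)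
    (h2 : h • T.mor₂ = 0) (h3 : h' • T.mor₃ = 0) : (h' * h) • 𝟙 T.obj₃ = 0 := by
  have h0 : T.mor₂ ≫ (h • 𝟙 T.obj₃) = 0 := by rw [Linear.comp_smul, Category.comp_id, h2]
  obtain ⟨t, ht⟩ := Triangle.yoneda_exact₃ T hT (h • 𝟙 _) h0
  rw [mul_smul, ht, ← Linear.smul_comp, h3, zero_comp]

lemma smul_id_obj₃_of_smul_id (T : Triangle C) (hT : T ∈ distTriang C) (x x' : R)
    (h2 : x • 𝟙 T.obj₂ = 0) (h1 : x' • 𝟙 T.obj₁ = 0) : (x' * x) • 𝟙 T.obj₃ = 0 := by
  apply smul_id_obj₃ T hT
  · have : x • T.mor₂ = (x • 𝟙 T.obj₂) ≫ T.mor₂ := by rw [Linear.smul_comp, Category.id_comp]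
    rw [this, h2, zero_comp]
  · have : x' • T.mor₃ = T.mor₃ ≫ (x' • 𝟙 T.obj₁)⟦(1 : ℤ)⟧' := by
      rw [Functor.map_smul, CategoryTheory.Functor.map_id, Linear.comp_smul, Category.comp_id]
    rw [this, h1, Functor.map_zero, comp_zero]

lemma smul_id_obj₃_of_section (T : Triangle C) (hT : T ∈ distTriang C) (f : R)
    (s : T.obj₂ ⟶ T.obj₁) (h1 : s ≫ T.mor₁ = f • 𝟙 _) (h2 : T.mor₁ ≫ s = f • 𝟙 _) :
    (f * f) • 𝟙 T.obj₃ = 0 := by
  apply smul_id_obj₃ T hT
  · have : f • T.mor₂ = (f • 𝟙 T.obj₂) ≫ T.mor₂ := by rw [Linear.smul_comp, Category.id_comp]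
    rw [this, ← h1, Category.assoc, comp_distTriang_mor_zero₁₂ _ hT, comp_zero]
  · have : f • T.mor₃ = T.mor₃ ≫ (f • 𝟙 T.obj₁)⟦(1 : ℤ)⟧' := by
      rw [Functor.map_smul, CategoryTheory.Functor.map_id, Linear.comp_smul, Category.comp_id]
    rw [this, ← h2, Functor.map_comp, ← Category.assoc, comp_distTriang_mor_zero₃₁ _ hT, zero_comp]

variable (R) in
/-- The ideal of scalars annihilating an object. -/
def annIdeal (Y : C) : Ideal R where
  carrier := {x | x • 𝟙 Y = 0}
  add_mem' := by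
    intro a b ha hb
    simp only [Set.mem_ofPred_eq] at ha hb ⊢
    rw [add_smul, ha, hb, add_zero]
  zero_mem' := by simp
  smul_mem' := by
    intro c x hx
    simp only [Set.mem_ofPred_eq, smul_eq_mul] at hx ⊢
    rw [mul_smul, hx, smul_zero]

lemma mem_annIdeal (Y : C) (x : R) : x ∈ annIdeal R Y ↔ x • 𝟙 Y = 0 := Iff.rfl

end Generic

section Koszul

universe w v u

variable {C : Type u} [Category.{v} C] [Abelian C] [HasDerivedCategory.{w} C]
  {R : Type*} [CommRing R] [Linear R C]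

open DerivedCategory CochainComplex

theorem exists_koszul (l : List R) (K : CochainComplex C ℤ) (a b : ℤ)
    [K.IsStrictlyGE a] [K.IsStrictlyLE b] :
    ∃ (K' : CochainComplex C ℤ) (u : K ⟶ K'), K'.IsStrictlyGE (a - l.length) ∧ K'.IsStrictlyLE b ∧
      (∀ (Z : DerivedCategory C) (w : Q.obj K ⟶ Z), (∀ g ∈ l, g • 𝟙 Z = 0) →
        ∃ w' : Q.obj K' ⟶ Z, w = Q.map u ≫ w') ∧
      (∀ g ∈ l, ∃ e : ℕ, g ^ e • 𝟙 (Q.obj K') = 0) := by
  induction l with
  | nil =>
    refine ⟨K, 𝟙 K, by simpa using (inferInstance : K.IsStrictlyGE a), inferInstance, ?_, ?_⟩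
    · intro Z w _
      exact ⟨w, by simp⟩
    · intro g hg
      simp at hg
  | cons g l ih =>
    obtain ⟨K1, u1, hGE, hLE, fac1, kill1⟩ := ih
    let φ : K1 ⟶ K1 := g • 𝟙 K1
    have hT0 := mappingCone_triangle_distinguished φ
    have hmor₁ : (Q.mapTriangle.obj (mappingCone.triangle φ)).mor₁ = g • 𝟙 (Q.obj K1) := by
      change Q.map (g • 𝟙 K1) = _
      rw [Functor.map_smul, CategoryTheory.Functor.map_id]
    have hT : Triangle.mk (g • 𝟙 (Q.obj K1)) (Q.map (mappingCone.inr φ))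
        ((Q.mapTriangle.obj (mappingCone.triangle φ)).mor₃) ∈ distTriang _ := by
      rw [← hmor₁]
      exact hT0
    refine ⟨mappingCone φ, u1 ≫ mappingCone.inr φ, ?_, ?_, ?_, ?_⟩
    · have : (a - (l.length : ℤ)) - 1 = a - ((g :: l).length : ℤ) := by
        simp only [List.length_cons]; push_cast; ring
      rw [← this]
      exact isStrictlyGE_mappingCone φ (a - l.length) (a - l.length) _ (by omega) (by omega)
    · rw [isStrictlyLE_iff]
      intro i hi
      rw [mappingCone.isZero_X_iff]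
      exact ⟨K1.isZero_of_isStrictlyLE b _ (by omega), K1.isZero_of_isStrictlyLE b _ hi⟩
    · intro Z w hZ
      obtain ⟨w1, hw1⟩ := fac1 Z w (fun g' hg' => hZ g' (List.mem_cons_of_mem _ hg'))
      have h0 : (g • 𝟙 (Q.obj K1)) ≫ w1 = 0 := by
        rw [Linear.smul_comp, Category.id_comp]
        have : g • w1 = w1 ≫ (g • 𝟙 Z) := by rw [Linear.comp_smul, Category.comp_id]
        rw [this, hZ g (List.mem_cons_self), comp_zero]
      obtain ⟨w', hw'⟩ := Triangle.yoneda_exact₂ _ hT w1 h0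
      refine ⟨w', ?_⟩
      rw [hw1, hw', Functor.map_comp, Category.assoc]
      rfl
    · intro g' hg'
      rcases List.mem_cons.1 hg' with rfl | hg'
      · refine ⟨2, ?_⟩
        have := smul_id_obj₃_of_section _ hT g' (𝟙 (Q.obj K1))
          (Category.id_comp _) (Category.comp_id _)
        rw [pow_two]
        exact this
      · obtain ⟨e, he⟩ := kill1 g' hg'
        refine ⟨e + e, ?_⟩
        have := smul_id_obj₃_of_smul_id _ hT (g' ^ e) (g' ^ e) he he
        rw [pow_add]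
        exact this

end Koszul

end Groth.Agent.Lib.Helper15.TriKill
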