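import Groth.Agent.Lib.Helper15.TensorSmul
import Groth.Agent.Lib.Helper15.TriKill
import Groth.Agent.Lib.Helper15.ExtDie

/-!
# `I^n M → M` factors through `I ⊗ P → P` in `D(A)` for any resolution `P → M` (helper15)
-/

set_option autoImplicit false

open CategoryTheory Limits Pretriangulated DerivedCategory MonoidalCategory

namespace Groth.Agent.Lib.Helper15.PowFactor

universe w u

open Groth.Agent.Lib.Helper15.TensorSmul Groth.Agent.Lib.Helper15.TriKill
  Groth.Agent.Lib.Helper15.ExtDie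

variable {A : Type u} [CommRing A] [HasDerivedCategory.{w} (ModuleCat.{u} A)]

lemma homologyMap_smul_id (K : CochainComplex (ModuleCat.{u} A) ℤ) (x : A) (k : ℤ) :
    HomologicalComplex.homologyMap (x • 𝟙 K) k = x • 𝟙 (K.homology k) := by
  have h1 : HomologicalComplex.cyclesMap (x • 𝟙 K) k = x • 𝟙 (K.cycles k) := by
    rw [← cancel_mono (K.iCycles k), HomologicalComplex.cyclesMap_i, Linear.smul_comp,
      Category.id_comp, HomologicalComplex.smul_f_apply, Linear.comp_smul,
      HomologicalComplex.id_f, Category.comp_id]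
  rw [← cancel_epi (K.homologyπ k), HomologicalComplex.homologyπ_naturality, h1,
    Linear.smul_comp, Category.id_comp, Linear.comp_smul, Category.comp_id]

lemma killed_homology_of_smul_id_eq_zero (K : CochainComplex (ModuleCat.{u} A) ℤ) (J : Ideal A)
    (h : ∀ x ∈ J, x • 𝟙 (Q.obj K) = 0) (k : ℤ) : Killed J (K.homology k) := by
  intro x hx z
  have h1 : Q.map (x • 𝟙 K) = 0 := by
    rw [Functor.map_smul, CategoryTheory.Functor.map_id]
    exact h x hx
  have h2 : HomologicalComplex.homologyMap (x • 𝟙 K) k = 0 := by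
    have nat := (DerivedCategory.homologyFunctorFactors (ModuleCat.{u} A) k).hom.naturality
      (x • 𝟙 K)
    dsimp at nat
    rw [h1, Functor.map_zero, zero_comp] at nat
    have : IsIso ((DerivedCategory.homologyFunctorFactors (ModuleCat.{u} A) k).hom.app K) :=
      inferInstance
    have h3 : (DerivedCategory.homologyFunctorFactors (ModuleCat.{u} A) k).hom.app K ≫
        HomologicalComplex.homologyMap (x • 𝟙 K) k = 0 := nat.symm
    exact (cancel_epi ((DerivedCategory.homologyFunctorFactors (ModuleCat.{u} A) k).hom.app K)).1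
      (h3.trans comp_zero.symm)
  rw [homologyMap_smul_id] at h2
  have := LinearMap.congr_fun (congrArg ModuleCat.Hom.hom h2) z
  exact this

variable [IsNoetherianRing A]

theorem exists_factor (I : Ideal A) (M : Type u) [AddCommGroup M] [Module A M] [Module.Finite A M]
    (P : DRing.Cx A)
    (π : P ⟶ (HomologicalComplex.single (ModuleCat.{u} A) (ComplexShape.up ℤ) 0).obj (ModuleCat.of A M))
    [QuasiIso π] :
    ∃ (n : ℕ) (_ : 0 < n) (g' : sgD (ModuleCat.of A ↥(I ^ n • (⊤ : Submodule A M))) ⟶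
        Q.obj (sg (ModuleCat.of A I) ⊗ P)),
      g' ≫ Q.map (mulMap I P) = sgMap (incl I M n) ≫ inv (Q.map π) := by
  classical
  obtain ⟨Z, u, v, hT⟩ := distinguished_cocone_triangle (Q.map (mulMap I P))
  have hkillZ : ∀ f ∈ I, (f * f) • 𝟙 Z = 0 := by
    intro f hf
    refine smul_id_obj₃_of_section _ hT f (Q.map (sMap I ⟨f, hf⟩ P)) ?_ ?_
    · change Q.map (sMap I ⟨f, hf⟩ P) ≫ Q.map (mulMap I P) = _
      rw [← Functor.map_comp, sMap_mulMap, Functor.map_smul, CategoryTheory.Functor.map_id]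
      rfl
    · change Q.map (mulMap I P) ≫ Q.map (sMap I ⟨f, hf⟩ P) = _
      rw [← Functor.map_comp, mulMap_sMap, Functor.map_smul, CategoryTheory.Functor.map_id]
      rfl
  obtain ⟨s, hs⟩ : I.FG := IsNoetherian.noetherian I
  let l : List A := s.toList.map (fun f => f * f)
  have hl : ∀ g ∈ l, g • 𝟙 Z = 0 := by
    intro g hg
    obtain ⟨f, hf, rfl⟩ := List.mem_map.1 hg
    exact hkillZ f (hs ▸ Ideal.subset_span (Finset.mem_toList.1 hf))
  haveI : CochainComplex.IsStrictlyGE ((HomologicalComplex.single (ModuleCat.{u} A)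
      (ComplexShape.up ℤ) 0).obj (ModuleCat.of A M)) 0 :=
    inferInstanceAs (((CochainComplex.singleFunctor (ModuleCat.{u} A) 0).obj
      (ModuleCat.of A M)).IsStrictlyGE 0)
  haveI : CochainComplex.IsStrictlyLE ((HomologicalComplex.single (ModuleCat.{u} A)
      (ComplexShape.up ℤ) 0).obj (ModuleCat.of A M)) 0 :=
    inferInstanceAs (((CochainComplex.singleFunctor (ModuleCat.{u} A) 0).obj
      (ModuleCat.of A M)).IsStrictlyLE 0)
  obtain ⟨K', u', hGE, hLE, fac, kill⟩ := exists_koszul (C := ModuleCat.{u} A) l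
    ((HomologicalComplex.single (ModuleCat.{u} A) (ComplexShape.up ℤ) 0).obj (ModuleCat.of A M)) 0 0
  have hπ : IsIso (Q.map π) := by
    rw [DerivedCategory.isIso_Q_map_iff_quasiIso]
    infer_instance
  obtain ⟨w', hw'⟩ := fac Z (inv (Q.map π) ≫ u) hl
  -- the annihilator of `Q K'` contains a power of `I`
  have hrad : I ≤ (annIdeal A (Q.obj K')).radical := by
    rw [← hs, Ideal.span_le]
    intro f hf
    obtain ⟨e, he⟩ := kill (f * f) (List.mem_map.2 ⟨f, Finset.mem_toList.2 hf, rfl⟩)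
    refine ⟨2 * e, ?_⟩
    rw [mem_annIdeal, pow_mul, pow_two]
    exact he
  obtain ⟨c, hc⟩ := Ideal.exists_pow_le_of_le_radical_of_fg hrad (IsNoetherian.noetherian I)
  have hkillH : ∀ k, Killed (I ^ c) (K'.homology k) :=
    killed_homology_of_smul_id_eq_zero K' (I ^ c) (fun x hx => (mem_annIdeal _ _).1 (hc hx))
  have hLE' : K'.IsStrictlyLE (-((0 : ℕ) : ℤ)) := by simpa using hLE
  have hGE' : K'.IsStrictlyGE (-((0 : ℕ) : ℤ) - ((l.length + 1 : ℕ) : ℤ) + 1) := by
    have e : (0 : ℤ) - (l.length : ℤ) = -((0 : ℕ) : ℤ) - ((l.length + 1 : ℕ) : ℤ) + 1 := by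
      push_cast; ring
    exact e ▸ hGE
  have hdies := dies_of_bounded I c (l.length + 1) 0 K' hLE' hGE' hkillH
  obtain ⟨n, hn⟩ := hdies M (Q.map u')
  have hn1 := dies_mono I M (Q.map u') (Nat.le_succ n) hn
  refine ⟨n + 1, Nat.succ_pos n, ?_⟩
  have h0 : (sgMap (incl I M (n + 1)) ≫ inv (Q.map π)) ≫ u = 0 := by
    rw [Category.assoc, hw', reassoc_of% hn1, zero_comp]
  obtain ⟨g', hg'⟩ := Triangle.coyoneda_exact₂ _ hT _ h0
  exact ⟨g', hg'.symm⟩

end Groth.Agent.Lib.Helper15.PowFactor
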