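import Mathlib
import Groth.Agent.Lib.Helper15.DescExtend
import Groth.Agent.Lib.Helper15.LHD

/-!
# Resolving a chain complex by a complex with terms in a class (EGA 0_III 11.9.1)
-/

set_option autoImplicit false
universe v u

noncomputable section

set_option backward.isDefEq.respectTransparency false

namespace Groth.Agent.Lib.Helper15.ResInClass

open CategoryTheory CategoryTheory.Limits HomologicalComplex

variable {C : Type u} [Category.{v} C] [Abelian C]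
  (K' K'' : ObjectProperty C) (P : ChainComplex C ℤ) (d : ℤ)

/-- The data in degree `d + n`. -/
structure St (n : ℕ) where
  Q : C
  hQ : K'' Q
  Z : C
  hZ : K' Z
  i : Z ⟶ Q
  mono_i : Mono i
  u : Q ⟶ P.X (d + n)
  ζ : Z ⟶ P.cycles (d + n)
  hζ : ζ ≫ P.iCycles (d + n) = i ≫ u
  epi : Epi (ζ ≫ P.homologyπ (d + n))
  h0 : n = 0 → IsIso i

variable {K' K'' P d}

/-- `Z ⟶ H` -/
def St.η {n : ℕ} (s : St K' K'' P d n) : s.Z ⟶ P.homology (d + n) := s.ζ ≫ P.homologyπ (d + n)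

instance {n : ℕ} (s : St K' K'' P d n) : Epi s.η := s.epi
instance {n : ℕ} (s : St K' K'' P d n) : Mono s.i := s.mono_i

/-- The link between consecutive stages. -/
structure Link {n : ℕ} (s : St K' K'' P d n) (t : St K' K'' P d (n + 1)) where
  δ : t.Q ⟶ s.Z
  hδ : δ ≫ s.η = 0
  w : t.i ≫ δ = 0
  comm : t.u ≫ P.d (d + ((n + 1 : ℕ) : ℤ)) (d + n) = δ ≫ s.i ≫ s.u
  ker : IsLimit (KernelFork.ofι t.i w)
  epiN : Epi (kernel.lift s.η δ hδ)

section Build

variable (hsub : K'' ≤ K')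
  (h1 : ∀ ⦃A A' : C⦄ (u : A ⟶ A'), K' A' → Epi u → ∃ (B : C) (v : B ⟶ A), K'' B ∧ Epi (v ≫ u))
  (h2 : ∀ ⦃A B : C⦄ (u : A ⟶ B), K' A → K' B → Epi u → K' (kernel u))
  (h3 : ∀ ⦃B B' : C⦄, K'' B → K'' B' → K'' (B ⨯ B'))
  (hP : ∀ i, K' (P.homology i))

include hsub h1 hP in
theorem exists_st0 : Nonempty (St K' K'' P d 0) := by
  obtain ⟨B, v, hB, hv⟩ := h1 (P.homologyπ (d + ((0 : ℕ) : ℤ))) (hP _) inferInstance
  exact ⟨{ Q := B, hQ := hB, Z := B, hZ := hsub _ hB, i := 𝟙 B, mono_i := inferInstance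
           u := v ≫ P.iCycles _, ζ := v, hζ := by simp, epi := hv
           h0 := fun _ => inferInstance }⟩

include hsub h1 h2 h3 hP in
theorem exists_next {n : ℕ} (s : St K' K'' P d n) :
    ∃ t : St K' K'' P d (n + 1), Nonempty (Link s t) := by
  have hmm : (d + (n : ℤ)) + 1 = d + ((n + 1 : ℕ) : ℤ) := by push_cast; ring
  have hN : K' (kernel s.η) := h2 s.η s.hZ (hP _) inferInstance
  -- the fibre product
  have hsnd : Epi (pullback.snd (P.d (d + ((n + 1 : ℕ) : ℤ)) (d + n))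
      (kernel.ι s.η ≫ s.i ≫ s.u)) := by
    rw [epi_iff_surjective_up_to_refinements]
    intro W x
    have hx : (x ≫ kernel.ι s.η ≫ s.ζ) ≫ P.homologyπ (d + n) = 0 := by
      rw [Category.assoc, Category.assoc,
        show kernel.ι s.η ≫ s.ζ ≫ P.homologyπ (d + n) = kernel.ι s.η ≫ s.η from rfl,
        kernel.condition, comp_zero]
    have hex : (ShortComplex.mk (P.toCycles (d + ((n + 1 : ℕ) : ℤ)) (d + n))
        (P.homologyπ (d + n)) (P.toCycles_comp_homologyπ _ _)).Exact :=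
      ShortComplex.exact_of_g_is_cokernel _
        (P.homologyIsCokernel _ _ (by rw [ChainComplex.prev]; exact hmm))
    obtain ⟨W', π, hπ, y, hy⟩ := hex.exact_up_to_refinements (x ≫ kernel.ι s.η ≫ s.ζ) hx
    refine ⟨W', π, hπ, pullback.lift y (π ≫ x) ?_, (pullback.lift_snd _ _ _).symm⟩
    have h3' := hy =≫ P.iCycles (d + n)
    simp only [Category.assoc, toCycles_i, s.hζ] at h3'
    rw [Category.assoc]
    exact h3'.symm
  obtain ⟨B₁, v₁, hB₁, hv₁⟩ := h1 _ hN hsnd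
  obtain ⟨B₂, v₂, hB₂, hv₂⟩ :=
    h1 (P.homologyπ (d + ((n + 1 : ℕ) : ℤ))) (hP _) inferInstance
  have hfst : Epi (prod.fst : B₁ ⨯ B₂ ⟶ B₁) :=
    epi_of_epi_fac (prod.lift_fst (𝟙 B₁) (0 : B₁ ⟶ B₂))
  let β : B₁ ⨯ B₂ ⟶ kernel s.η :=
    prod.fst ≫ v₁ ≫ pullback.snd (P.d (d + ((n + 1 : ℕ) : ℤ)) (d + n))
      (kernel.ι s.η ≫ s.i ≫ s.u)
  have hβ : Epi β := epi_comp _ _
  let δ : B₁ ⨯ B₂ ⟶ s.Z := β ≫ kernel.ι s.η
  let u' : B₁ ⨯ B₂ ⟶ P.X (d + ((n + 1 : ℕ) : ℤ)) :=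
    prod.fst ≫ v₁ ≫ pullback.fst (P.d (d + ((n + 1 : ℕ) : ℤ)) (d + n))
      (kernel.ι s.η ≫ s.i ≫ s.u) + prod.snd ≫ v₂ ≫ P.iCycles _
  have comm : u' ≫ P.d (d + ((n + 1 : ℕ) : ℤ)) (d + n) = δ ≫ s.i ≫ s.u := by
    simp only [u', δ, β, Preadditive.add_comp, Category.assoc, iCycles_d, comp_zero, add_zero,
      pullback.condition]
  have w : kernel.ι β ≫ δ = 0 := by
    simp only [δ, ← Category.assoc, kernel.condition, zero_comp]
  have hcyc : (kernel.ι β ≫ u') ≫ P.d (d + ((n + 1 : ℕ) : ℤ)) (d + n) = 0 := by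
    rw [Category.assoc, comm, ← Category.assoc, w, zero_comp]
  have hnext : (ComplexShape.down ℤ).next (d + ((n + 1 : ℕ) : ℤ)) = d + n := by
    rw [ChainComplex.next]; omega
  let ζ' : kernel β ⟶ P.cycles (d + ((n + 1 : ℕ) : ℤ)) :=
    P.liftCycles (kernel.ι β ≫ u') (d + n) hnext hcyc
  have hζ' : ζ' ≫ P.iCycles _ = kernel.ι β ≫ u' := P.liftCycles_i _ _ _ _
  let ι₂ : B₂ ⟶ kernel β := kernel.lift β (prod.lift 0 (𝟙 B₂)) (by
    simp only [β, ← Category.assoc, prod.lift_fst, zero_comp])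
  have hι₂ : ι₂ ≫ ζ' = v₂ := by
    rw [← cancel_mono (P.iCycles _), Category.assoc, hζ', ← Category.assoc, kernel.lift_ι]
    simp only [u', Preadditive.comp_add, ← Category.assoc, prod.lift_fst, prod.lift_snd,
      zero_comp, zero_add, Category.id_comp]
  have hepi : Epi (ζ' ≫ P.homologyπ (d + ((n + 1 : ℕ) : ℤ))) := by
    have : Epi (ι₂ ≫ ζ' ≫ P.homologyπ (d + ((n + 1 : ℕ) : ℤ))) := by
      rw [← Category.assoc, hι₂]; exact hv₂
    exact epi_of_epi ι₂ _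
  have hδ : δ ≫ s.η = 0 := by
    simp only [δ, Category.assoc, kernel.condition, comp_zero]
  refine ⟨{ Q := B₁ ⨯ B₂, hQ := h3 hB₁ hB₂, Z := kernel β
            hZ := h2 β (hsub _ (h3 hB₁ hB₂)) hN hβ
            i := kernel.ι β, mono_i := inferInstance, u := u', ζ := ζ', hζ := hζ', epi := hepi
            h0 := fun h => absurd h (Nat.succ_ne_zero n) }, ⟨?_⟩⟩
  exact
    { δ := δ
      hδ := hδ
      w := w
      comm := comm
      ker := isKernelCompMono (kernelIsKernel β) (kernel.ι s.η) rfl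
      epiN := by
        have : kernel.lift s.η δ hδ = β := by
          rw [← cancel_mono (kernel.ι s.η), kernel.lift_ι]
        rw [this]
        exact hβ }

/-- A full sequence of stages and links. -/
structure Seq (K' K'' : ObjectProperty C) (P : ChainComplex C ℤ) (d : ℤ) where
  st : ∀ n, St K' K'' P d n
  lk : ∀ n, Link (st n) (st (n + 1))

include hsub h1 h2 h3 hP in
theorem exists_seq : Nonempty (Seq K' K'' P d) := by
  obtain ⟨s0⟩ := exists_st0 (d := d) hsub h1 hP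
  exact ⟨{ st := fun n => Nat.rec s0 (fun _ s => (exists_next hsub h1 h2 h3 hP s).choose) n
           lk := fun n => (exists_next hsub h1 h2 h3 hP _).choose_spec.some }⟩

end Build


section Complex

open DescExtend LHD

variable (S : Seq K' K'' P d)

/-- The `ℕ`-indexed complex. -/
def Seq.Q' : ChainComplex C ℕ :=
  ChainComplex.of (fun n => (S.st n).Q) (fun n => (S.lk n).δ ≫ (S.st n).i) (fun n => by
    rw [Category.assoc, reassoc_of% (S.lk n).w, zero_comp, comp_zero])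

lemma Seq.Q'_d (n : ℕ) : S.Q'.d (n + 1) n = (S.lk n).δ ≫ (S.st n).i :=
  ChainComplex.of_d (fun n => (S.st n).Q) (fun n => (S.lk n).δ ≫ (S.st n).i) n

variable (d) in
/-- The embedding `n ↦ d + n`. -/
def emb : (ComplexShape.down ℕ).Embedding (ComplexShape.down ℤ) :=
  ComplexShape.Embedding.mk' _ _ (fun n => d + n)
    (fun a b h => by have h' : d + (a : ℤ) = d + b := h; omega)
    (fun i j => by simp only [ComplexShape.down_Rel]; omega)

instance : (emb d).IsRelIff := by dsimp [emb]; infer_instance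

lemma emb_f (n : ℕ) : (emb d).f n = d + n := rfl

/-- components of the comparison map -/
def Seq.ψ (n : ℕ) : S.Q'.X n ⟶ P.X ((emb d).f n) := (S.st n).u

lemma Seq.hψ (i j : ℕ) (hij : (ComplexShape.down ℕ).Rel i j) :
    S.ψ i ≫ P.d ((emb d).f i) ((emb d).f j) = S.Q'.d i j ≫ S.ψ j := by
  obtain rfl : j + 1 = i := hij
  rw [S.Q'_d, Category.assoc]
  exact (S.lk j).comm

lemma Seq.u0_d (j' : ℤ) : (S.st 0).u ≫ P.d (d + ((0 : ℕ) : ℤ)) j' = 0 := by
  have := (S.st 0).h0 rfl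
  have h : (S.st 0).u = inv (S.st 0).i ≫ (S.st 0).ζ ≫ P.iCycles _ := by
    rw [(S.st 0).hζ, IsIso.inv_hom_id_assoc]
  rw [h, Category.assoc, Category.assoc, iCycles_d, comp_zero, comp_zero]

lemma Seq.hb (i : ℕ) (j' : ℤ) (hij' : (ComplexShape.down ℤ).Rel ((emb d).f i) j')
    (hj' : ∀ j, (emb d).f j ≠ j') : S.ψ i ≫ P.d ((emb d).f i) j' = 0 := by
  have h1 : j' + 1 = d + i := hij'
  cases i with
  | zero => exact S.u0_d j'
  | succ i =>
    exfalso
    apply hj' i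
    rw [emb_f]
    push_cast at h1
    omega

/-- The `ℤ`-indexed complex. -/
abbrev Seq.R : ChainComplex C ℤ := S.Q'.extend (emb d)

/-- The comparison map. -/
def Seq.φ : S.R ⟶ P := descExtend (emb d) S.Q' P S.ψ S.hψ S.hb

lemma Seq.φ_f (n : ℕ) : S.φ.f ((emb d).f n) =
    (S.Q'.extendXIso (emb d) (i := n) rfl).hom ≫ (S.st n).u := by
  have := descExtend_f (emb d) S.Q' P S.ψ S.hψ S.hb (i := n) rfl
  rw [XIsoOfEq_rfl, Iso.refl_hom, Category.comp_id] at this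
  exact this

lemma Seq.isZero_R (j : ℤ) (hj : j < d) : IsZero (S.R.X j) :=
  S.Q'.isZero_extend_X (emb d) j (fun i hi => by rw [emb_f] at hi; omega)

lemma Seq.prop_R [K''.IsClosedUnderIsomorphisms] (j : ℤ) (hj : d ≤ j) : K'' (S.R.X j) := by
  obtain ⟨n, rfl⟩ : ∃ n : ℕ, j = d + n := ⟨(j - d).toNat, by omega⟩
  exact K''.prop_of_iso (S.Q'.extendXIso (emb d) (i := n) rfl).symm (S.st n).hQ

/-- kernel property at level `n` -/
def Seq.next (n : ℕ) : ℕ := (ComplexShape.down ℕ).next n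

lemma Seq.wα (n : ℕ) : (S.st n).i ≫ S.Q'.d n ((ComplexShape.down ℕ).next n) = 0 := by
  cases n with
  | zero =>
    rw [ChainComplex.next_nat_zero, S.Q'.shape _ _ (by simp), comp_zero]
  | succ n =>
    rw [ChainComplex.next_nat_succ, S.Q'_d, reassoc_of% (S.lk n).w, zero_comp]

/-- kernel property at level `n` -/
def Seq.hα (n : ℕ) : IsLimit (KernelFork.ofι (S.st n).i (S.wα n)) := by
  cases n with
  | zero =>
    haveI := (S.st 0).h0 rfl
    exact KernelFork.IsLimit.ofι' _ _ (fun {A} k _ => ⟨k ≫ inv (S.st 0).i, by simp⟩)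
  | succ n =>
    have h : S.Q'.d (n + 1) ((ComplexShape.down ℕ).next (n + 1)) =
        (S.lk n).δ ≫ ((S.st n).i ≫ (S.Q'.XIsoOfEq (ChainComplex.next_nat_succ n).symm).hom) := by
      rw [← Category.assoc, ← S.Q'_d, d_comp_XIsoOfEq_hom]
    exact isKernelCompMono (S.lk n).ker _ h

/-- `Z_n ≅ cycles` -/
def Seq.eZ (n : ℕ) : (S.st n).Z ≅ S.Q'.cycles n :=
  haveI := (S.lk n).epiN
  LHD.eZ S.Q' (n + 1) n _ (ChainComplex.prev ℕ n) rfl (S.st n).i (S.wα n) (S.hα n)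
    (kernel.lift (S.st n).η (S.lk n).δ (S.lk n).hδ)
    (kernel.ι (S.st n).η) (S.st n).η (kernel.condition _)
    (Abelian.epiIsCokernelOfKernel _ (limit.isLimit _))
    (by rw [S.Q'_d, kernel.lift_ι_assoc])

/-- `H ≅ homology` -/
def Seq.eH (n : ℕ) : P.homology (d + n) ≅ S.Q'.homology n :=
  haveI := (S.lk n).epiN
  LHD.eH S.Q' (n + 1) n _ (ChainComplex.prev ℕ n) rfl (S.st n).i (S.wα n) (S.hα n)
    (kernel.lift (S.st n).η (S.lk n).δ (S.lk n).hδ)
    (kernel.ι (S.st n).η) (S.st n).η (kernel.condition _)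
    (Abelian.epiIsCokernelOfKernel _ (limit.isLimit _))
    (by rw [S.Q'_d, kernel.lift_ι_assoc])

lemma Seq.eZ_i (n : ℕ) : (S.eZ n).hom ≫ S.Q'.iCycles n = (S.st n).i := by
  haveI := (S.lk n).epiN
  exact LHD.eZ_hom_iCycles _ _ _ _ _ _ _ _ _ _ _ _ _ _ _

lemma Seq.eZ_π (n : ℕ) : (S.eZ n).hom ≫ S.Q'.homologyπ n = (S.st n).η ≫ (S.eH n).hom := by
  haveI := (S.lk n).epiN
  exact LHD.eZ_hom_homologyπ _ _ _ _ _ _ _ _ _ _ _ _ _ _ _

lemma Seq.cyclesMap_φ (n : ℕ) :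
    cyclesMap S.φ ((emb d).f n) =
      (S.Q'.extendCyclesIso (emb d) (j := n) rfl).hom ≫ (S.eZ n).inv ≫ (S.st n).ζ := by
  have h1 : (S.eZ n).inv ≫ (S.st n).i = S.Q'.iCycles n := by
    rw [← S.eZ_i, Iso.inv_hom_id_assoc]
  have hζ : (S.st n).ζ ≫ P.iCycles ((emb d).f n) = (S.st n).i ≫ (S.st n).u := (S.st n).hζ
  rw [← cancel_mono (P.iCycles _), cyclesMap_i, Category.assoc, Category.assoc, hζ,
    S.φ_f, reassoc_of% h1, ← Category.assoc, ← Category.assoc, extendCyclesIso_hom_iCycles]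

lemma Seq.homologyMap_φ (n : ℕ) :
    homologyMap S.φ ((emb d).f n) =
      (S.Q'.extendHomologyIso (emb d) (j := n) rfl).hom ≫ (S.eH n).inv := by
  have h2 : S.Q'.homologyπ n ≫ (S.eH n).inv = (S.eZ n).inv ≫ (S.st n).η := by
    rw [← cancel_epi (S.eZ n).hom, reassoc_of% (S.eZ_π n), Iso.hom_inv_id, Category.comp_id,
      Iso.hom_inv_id_assoc]
  rw [← cancel_epi (S.R.homologyπ _), homologyπ_naturality, S.cyclesMap_φ,
    ← Category.assoc (S.R.homologyπ _), homologyπ_extendHomologyIso_hom]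
  simp only [Category.assoc, h2]
  rfl

theorem Seq.quasiIso_φ (hd : ∀ i < d, IsZero (P.homology i)) : QuasiIso S.φ := by
  refine ⟨fun j => ?_⟩
  by_cases hj : d ≤ j
  · obtain ⟨n, rfl⟩ : ∃ n : ℕ, j = d + n := ⟨(j - d).toNat, by omega⟩
    rw [quasiIsoAt_iff_isIso_homologyMap]
    have h := S.homologyMap_φ n
    rw [show d + (n : ℤ) = (emb d).f n from rfl, h]
    infer_instance
  · rw [quasiIsoAt_iff_exactAt _ _ (S.Q'.extend_exactAt (emb d) j (fun i hi => by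
      rw [emb_f] at hi; omega)), exactAt_iff_isZero_homology]
    exact hd j (by omega)

end Complex

/-- EGA 0_III 11.9.1. -/
theorem exists_resolution [K''.IsClosedUnderIsomorphisms] (hsub : K'' ≤ K')
    (h1 : ∀ ⦃A A' : C⦄ (u : A ⟶ A'), K' A' → Epi u → ∃ (B : C) (v : B ⟶ A), K'' B ∧ Epi (v ≫ u))
    (h2 : ∀ ⦃A B : C⦄ (u : A ⟶ B), K' A → K' B → Epi u → K' (kernel u))
    (h3 : ∀ ⦃B B' : C⦄, K'' B → K'' B' → K'' (B ⨯ B'))
    (hP : ∀ i, K' (P.homology i)) (hd : ∀ i < d, IsZero (P.homology i)) :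
    ∃ (Q : ChainComplex C ℤ) (u : Q ⟶ P),
      (∀ i, d ≤ i → K'' (Q.X i)) ∧ (∀ i < d, IsZero (Q.X i)) ∧ QuasiIso u := by
  obtain ⟨S⟩ := exists_seq (d := d) hsub h1 h2 h3 hP
  exact ⟨S.R, S.φ, S.prop_R, S.isZero_R, S.quasiIso_φ hd⟩

end Groth.Agent.Lib.Helper15.ResInClass
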