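import Mathlib

/-!
# The doubling endofunctor of the simplex category (helper15)

`Dbl ⦋n⦌ = ⦋2n+1⦌ = ⦋n⦌ ⋆ ⦋n⦌`, with the two inclusions `i0`, `i1 : ⦋n⦌ ⟶ Dbl ⦋n⦌` and the maps
`eta i : ⦋n+1⦌ ⟶ Dbl ⦋n⦌` which triangulate the prism.
-/

set_option autoImplicit false
universe u
open CategoryTheory Simplicial

namespace Groth.Agent.Lib.Helper15.SimplexDbl

section OrderHom

variable {n m l : ℕ}

/-- doubling of a monotone map -/
def dbl (θ : Fin (n + 1) →o Fin (m + 1)) : Fin (n + 1 + n + 1) →o Fin (m + 1 + m + 1) where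
  toFun x := if h : x.val < n + 1 then ⟨(θ ⟨x.val, h⟩).val, by omega⟩
    else ⟨(θ ⟨x.val - (n + 1), by omega⟩).val + (m + 1), by omega⟩
  monotone' := by
    intro x y hxy
    have hxy' : x.val ≤ y.val := hxy
    by_cases hx : x.val < n + 1
    · by_cases hy : y.val < n + 1
      · simp only [dif_pos hx, dif_pos hy]
        exact θ.monotone (show (⟨x.val, hx⟩ : Fin (n + 1)) ≤ ⟨y.val, hy⟩ from hxy')
      · simp only [dif_pos hx, dif_neg hy]
        change (θ ⟨x.val, hx⟩).val ≤ (θ ⟨y.val - (n + 1), _⟩).val + (m + 1)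
        omega
    · have hy : ¬ y.val < n + 1 := by omega
      simp only [dif_neg hx, dif_neg hy]
      have := θ.monotone (show (⟨x.val - (n + 1), by omega⟩ : Fin (n + 1)) ≤
        ⟨y.val - (n + 1), by omega⟩ from by change x.val - (n + 1) ≤ y.val - (n + 1); omega)
      change (θ _).val + (m + 1) ≤ (θ _).val + (m + 1)
      have h2 : (θ ⟨x.val - (n + 1), by omega⟩).val ≤ (θ ⟨y.val - (n + 1), by omega⟩).val := this
      omega

lemma dbl_val_lt (θ : Fin (n + 1) →o Fin (m + 1)) (x : Fin (n + 1 + n + 1)) (h : x.val < n + 1) :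
    (dbl θ x).val = (θ ⟨x.val, h⟩).val := by
  change (if h : x.val < n + 1 then (⟨(θ ⟨x.val, h⟩).val, _⟩ : Fin (m + 1 + m + 1))
    else ⟨(θ ⟨x.val - (n + 1), _⟩).val + (m + 1), _⟩).val = _
  rw [dif_pos h]

lemma dbl_val_ge (θ : Fin (n + 1) →o Fin (m + 1)) (x : Fin (n + 1 + n + 1))
    (h : ¬ x.val < n + 1) :
    (dbl θ x).val = (θ ⟨x.val - (n + 1), by omega⟩).val + (m + 1) := by
  change (if h : x.val < n + 1 then (⟨(θ ⟨x.val, h⟩).val, _⟩ : Fin (m + 1 + m + 1))
    else ⟨(θ ⟨x.val - (n + 1), _⟩).val + (m + 1), _⟩).val = _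
  rw [dif_neg h]

/-- the values of `dbl θ` in terms of a function on natural numbers computing `θ` -/
lemma dbl_apply_val (θ : Fin (n + 1) →o Fin (m + 1)) (f : ℕ → ℕ)
    (hf : ∀ y : Fin (n + 1), (θ y).val = f y.val) (x : Fin (n + 1 + n + 1)) :
    (dbl θ x).val = if x.val < n + 1 then f x.val else f (x.val - (n + 1)) + (m + 1) := by
  by_cases h : x.val < n + 1
  · rw [dbl_val_lt θ x h, if_pos h, hf]
  · rw [dbl_val_ge θ x h, if_neg h, hf]

lemma dbl_lt_iff (θ : Fin (n + 1) →o Fin (m + 1)) (x : Fin (n + 1 + n + 1)) :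
    (dbl θ x).val < m + 1 ↔ x.val < n + 1 := by
  by_cases h : x.val < n + 1
  · rw [dbl_val_lt θ x h]
    exact ⟨fun _ => h, fun _ => (θ _).isLt⟩
  · rw [dbl_val_ge θ x h]
    exact ⟨fun h' => by omega, fun h' => absurd h' h⟩

lemma dbl_id : dbl (OrderHom.id : Fin (n + 1) →o Fin (n + 1)) = OrderHom.id := by
  ext x
  rw [dbl_apply_val _ (fun v => v) (fun _ => rfl)]
  simp only [OrderHom.id_coe, id_eq]
  split_ifs <;> omega

lemma dbl_comp (θ : Fin (n + 1) →o Fin (m + 1)) (θ' : Fin (m + 1) →o Fin (l + 1)) :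
    dbl (θ'.comp θ) = (dbl θ').comp (dbl θ) := by
  ext x
  simp only [OrderHom.comp_coe, Function.comp_apply]
  by_cases h : x.val < n + 1
  · have h' : (dbl θ x).val < m + 1 := (dbl_lt_iff θ x).2 h
    rw [dbl_val_lt _ x h, dbl_val_lt θ' _ h']
    simp only [OrderHom.comp_coe, Function.comp_apply]
    congr 2
    exact Fin.ext (dbl_val_lt θ x h).symm
  · have h' : ¬ (dbl θ x).val < m + 1 := fun h' => h ((dbl_lt_iff θ x).1 h')
    rw [dbl_val_ge _ x h, dbl_val_ge θ' _ h']
    simp only [OrderHom.comp_coe, Function.comp_apply]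
    congr 3
    apply Fin.ext
    change (θ _).val = (dbl θ x).val - (m + 1)
    rw [dbl_val_ge θ x h]
    omega

/-- the front inclusion -/
def front (n : ℕ) : Fin (n + 1) →o Fin (n + 1 + n + 1) where
  toFun x := ⟨x.val, by omega⟩
  monotone' := fun _ _ h => h

/-- the back inclusion -/
def back (n : ℕ) : Fin (n + 1) →o Fin (n + 1 + n + 1) where
  toFun x := ⟨x.val + (n + 1), by omega⟩
  monotone' := fun x y h => by
    change x.val + (n + 1) ≤ y.val + (n + 1)
    have : x.val ≤ y.val := h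
    omega

lemma front_val (x : Fin (n + 1)) : (front n x).val = x.val := rfl

lemma back_val (x : Fin (n + 1)) : (back n x).val = x.val + (n + 1) := rfl

lemma dbl_front (θ : Fin (n + 1) →o Fin (m + 1)) :
    (dbl θ).comp (front n) = (front m).comp θ := by
  ext x
  simp only [OrderHom.comp_coe, Function.comp_apply]
  rw [dbl_val_lt θ _ (by rw [front_val]; exact x.isLt)]
  rfl

lemma dbl_back (θ : Fin (n + 1) →o Fin (m + 1)) :
    (dbl θ).comp (back n) = (back m).comp θ := by
  ext x
  simp only [OrderHom.comp_coe, Function.comp_apply]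
  rw [dbl_val_ge θ _ (by rw [back_val]; omega)]
  have e : (⟨(back n x).val - (n + 1), by rw [back_val]; omega⟩ : Fin (n + 1)) = x := by
    apply Fin.ext
    change (back n x).val - (n + 1) = x.val
    rw [back_val]
    omega
  rw [e]
  rfl

/-- the simplices of the prism -/
def eta (i : Fin (n + 1)) : Fin (n + 1 + 1) →o Fin (n + 1 + n + 1) where
  toFun x := ⟨if x.val ≤ i.val then x.val else x.val + n, by
    have := x.isLt
    split_ifs <;> omega⟩
  monotone' := fun x y h => by
    have h' : x.val ≤ y.val := h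
    change (if x.val ≤ i.val then x.val else x.val + n) ≤
      (if y.val ≤ i.val then y.val else y.val + n)
    split_ifs <;> omega

lemma eta_val (i : Fin (n + 1)) (x : Fin (n + 1 + 1)) :
    (eta i x).val = if x.val ≤ i.val then x.val else x.val + n := rfl

end OrderHom

section Cat

open SimplexCategory

/-- the doubling functor `⦋n⦌ ↦ ⦋2n+1⦌` -/
def Dbl : SimplexCategory ⥤ SimplexCategory where
  obj a := ⦋a.len + 1 + a.len⦌
  map θ := SimplexCategory.mkHom (dbl θ.toOrderHom)
  map_id a := by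
    apply SimplexCategory.Hom.ext
    exact dbl_id
  map_comp θ θ' := by
    apply SimplexCategory.Hom.ext
    exact dbl_comp θ.toOrderHom θ'.toOrderHom

/-- the front inclusion -/
def i0 (a : SimplexCategory) : a ⟶ Dbl.obj a := SimplexCategory.mkHom (front a.len)

/-- the back inclusion -/
def i1 (a : SimplexCategory) : a ⟶ Dbl.obj a := SimplexCategory.mkHom (back a.len)

lemma i0_naturality {a b : SimplexCategory} (θ : a ⟶ b) : θ ≫ i0 b = i0 a ≫ Dbl.map θ := by
  apply SimplexCategory.Hom.ext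
  exact (dbl_front θ.toOrderHom).symm

lemma i1_naturality {a b : SimplexCategory} (θ : a ⟶ b) : θ ≫ i1 b = i1 a ≫ Dbl.map θ := by
  apply SimplexCategory.Hom.ext
  exact (dbl_back θ.toOrderHom).symm

/-- the simplices of the prism -/
def etaS {n : ℕ} (i : Fin (n + 1)) : ⦋n + 1⦌ ⟶ Dbl.obj ⦋n⦌ := SimplexCategory.mkHom (eta i)

lemma hom_ext_val {a b : SimplexCategory} {f g : a ⟶ b}
    (h : ∀ x, (f.toOrderHom x).val = (g.toOrderHom x).val) : f = g := by
  apply SimplexCategory.Hom.ext
  ext x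
  exact h x

lemma δ_val {n : ℕ} (i : Fin (n + 2)) (x : Fin (n + 1)) :
    ((SimplexCategory.δ i).toOrderHom x).val = if x.val < i.val then x.val else x.val + 1 := by
  change (Fin.succAbove i x).val = _
  by_cases h : x.val < i.val
  · rw [if_pos h, Fin.succAbove_of_castSucc_lt _ _ (by exact h)]
    rfl
  · rw [if_neg h, Fin.succAbove_of_le_castSucc _ _ (by exact not_lt.1 h)]
    rfl

lemma σ_val {n : ℕ} (i : Fin (n + 1)) (x : Fin (n + 2)) :
    ((SimplexCategory.σ i).toOrderHom x).val = if i.val < x.val then x.val - 1 else x.val := by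
  change (Fin.predAbove i x).val = _
  by_cases h : i.val < x.val
  · rw [if_pos h, Fin.predAbove_of_castSucc_lt _ _ (by exact h)]
    rfl
  · rw [if_neg h, Fin.predAbove_of_le_castSucc _ _ (by exact not_lt.1 h)]
    rfl

lemma etaS_val {n : ℕ} (i : Fin (n + 1)) (x : Fin (n + 1 + 1)) :
    ((etaS i).toOrderHom x).val = if x.val ≤ i.val then x.val else x.val + n := rfl

lemma i0_val (a : SimplexCategory) (x : Fin (a.len + 1)) :
    ((i0 a).toOrderHom x).val = x.val := rfl

lemma i1_val (a : SimplexCategory) (x : Fin (a.len + 1)) :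
    ((i1 a).toOrderHom x).val = x.val + (a.len + 1) := rfl

lemma Dbl_map_val {n m : ℕ} (θ : ⦋n⦌ ⟶ ⦋m⦌) (f : ℕ → ℕ)
    (hf : ∀ y : Fin (n + 1), (θ.toOrderHom y).val = f y.val) (x : Fin (n + 1 + n + 1)) :
    ((Dbl.map θ).toOrderHom x).val =
      if x.val < n + 1 then f x.val else f (x.val - (n + 1)) + (m + 1) :=
  dbl_apply_val θ.toOrderHom f hf x

end Cat

section Identities

open SimplexCategory

variable {n : ℕ}

lemma comp_val {a b c : SimplexCategory} (f : a ⟶ b) (g : b ⟶ c) (x : Fin (a.len + 1)) :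
    ((f ≫ g).toOrderHom x).val = (g.toOrderHom (f.toOrderHom x)).val := rfl

lemma eta_id1 : SimplexCategory.δ (0 : Fin (n + 2)) ≫ etaS (0 : Fin (n + 1)) = i1 ⦋n⦌ := by
  apply hom_ext_val
  intro x
  rw [comp_val, etaS_val, δ_val, i1_val]
  simp only [Fin.val_zero, SimplexCategory.len_mk]
  split_ifs <;> omega

lemma eta_id2 : SimplexCategory.δ (Fin.last (n + 1)) ≫ etaS (Fin.last n) = i0 ⦋n⦌ := by
  apply hom_ext_val
  intro x
  rw [comp_val, etaS_val, δ_val, i0_val]
  have := x.isLt
  simp only [Fin.val_last, SimplexCategory.len_mk] at this ⊢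
  split_ifs <;> omega

lemma eta_id3 (i : Fin (n + 2)) (j : Fin (n + 1)) (hij : i ≤ j.castSucc) :
    SimplexCategory.δ i.castSucc ≫ etaS j.succ = etaS j ≫ Dbl.map (SimplexCategory.δ i) := by
  apply hom_ext_val
  intro x
  have h1 : i.val ≤ j.val := hij
  have hx := x.isLt
  have hj := j.isLt
  rw [comp_val, comp_val, etaS_val, δ_val,
    Dbl_map_val (SimplexCategory.δ i) (fun v => if v < i.val then v else v + 1) (δ_val i), etaS_val]
  simp only [Fin.val_succ, Fin.val_castSucc, SimplexCategory.len_mk] at hx ⊢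
  split_ifs <;> omega

lemma eta_id4 (j : Fin (n + 1)) :
    SimplexCategory.δ j.castSucc.succ ≫ etaS j.succ =
      SimplexCategory.δ j.castSucc.succ ≫ etaS j.castSucc := by
  apply hom_ext_val
  intro x
  have hx := x.isLt
  have hj := j.isLt
  rw [comp_val, comp_val, etaS_val, etaS_val, δ_val]
  simp only [Fin.val_succ, Fin.val_castSucc, SimplexCategory.len_mk] at hx ⊢
  split_ifs <;> omega

lemma eta_id5 (i : Fin (n + 2)) (j : Fin (n + 1)) (hji : j.castSucc < i) :
    SimplexCategory.δ i.succ ≫ etaS j.castSucc = etaS j ≫ Dbl.map (SimplexCategory.δ i) := by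
  apply hom_ext_val
  intro x
  have h1 : j.val < i.val := hji
  have hx := x.isLt
  have hj := j.isLt
  have hi := i.isLt
  rw [comp_val, comp_val, etaS_val, δ_val,
    Dbl_map_val (SimplexCategory.δ i) (fun v => if v < i.val then v else v + 1) (δ_val i), etaS_val]
  simp only [Fin.val_succ, Fin.val_castSucc, SimplexCategory.len_mk] at hx ⊢
  split_ifs <;> omega

lemma eta_id6 (i j : Fin (n + 1)) (hij : i ≤ j) :
    SimplexCategory.σ i.castSucc ≫ etaS j = etaS j.succ ≫ Dbl.map (SimplexCategory.σ i) := by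
  apply hom_ext_val
  intro x
  have h1 : i.val ≤ j.val := hij
  have hx := x.isLt
  have hj := j.isLt
  rw [comp_val, comp_val, etaS_val, σ_val,
    Dbl_map_val (SimplexCategory.σ i) (fun v => if i.val < v then v - 1 else v) (σ_val i), etaS_val]
  simp only [Fin.val_succ, Fin.val_castSucc, SimplexCategory.len_mk] at hx ⊢
  split_ifs <;> omega

lemma eta_id7 (i j : Fin (n + 1)) (hji : j ≤ i) :
    SimplexCategory.σ i.succ ≫ etaS j = etaS j.castSucc ≫ Dbl.map (SimplexCategory.σ i) := by
  apply hom_ext_val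
  intro x
  have h1 : j.val ≤ i.val := hji
  have hx := x.isLt
  have hj := j.isLt
  have hi := i.isLt
  rw [comp_val, comp_val, etaS_val, σ_val,
    Dbl_map_val (SimplexCategory.σ i) (fun v => if i.val < v then v - 1 else v) (σ_val i), etaS_val]
  simp only [Fin.val_succ, Fin.val_castSucc, SimplexCategory.len_mk] at hx ⊢
  split_ifs <;> omega

end Identities

section Lifts

open SimplexCategory

lemma i0_cancel {e a : SimplexCategory} {φ φ' : e ⟶ a} (h : φ ≫ i0 a = φ' ≫ i0 a) : φ = φ' := by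
  apply hom_ext_val
  intro x
  have := congrArg (fun f => (f.toOrderHom x).val) h
  simpa only [comp_val, i0_val] using this

lemma i1_cancel {e a : SimplexCategory} {φ φ' : e ⟶ a} (h : φ ≫ i1 a = φ' ≫ i1 a) : φ = φ' := by
  apply hom_ext_val
  intro x
  have := congrArg (fun f => (f.toOrderHom x).val) h
  simp only [comp_val, i1_val] at this
  omega

lemma i0_ne_i1 {e a : SimplexCategory} (φ φ' : e ⟶ a) : φ ≫ i0 a ≠ φ' ≫ i1 a := by
  intro h
  have := congrArg (fun f => (f.toOrderHom 0).val) h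
  simp only [comp_val, i0_val, i1_val] at this
  have h1 := (φ.toOrderHom 0).isLt
  omega

lemma exists_front_lift {e a : SimplexCategory} (φ : e ⟶ Dbl.obj a)
    (h : ∀ t, (φ.toOrderHom t).val < a.len + 1) : ∃ ψ : e ⟶ a, ψ ≫ i0 a = φ := by
  refine ⟨SimplexCategory.mkHom
    { toFun := fun t => ⟨(φ.toOrderHom t).val, h t⟩
      monotone' := fun s t hst => φ.toOrderHom.monotone hst }, ?_⟩
  apply hom_ext_val
  intro x
  rfl

lemma exists_back_lift {e a : SimplexCategory} (φ : e ⟶ Dbl.obj a)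
    (h : ∀ t, a.len + 1 ≤ (φ.toOrderHom t).val) : ∃ ψ : e ⟶ a, ψ ≫ i1 a = φ := by
  refine ⟨SimplexCategory.mkHom
    { toFun := fun t => ⟨(φ.toOrderHom t).val - (a.len + 1), by
        have := (φ.toOrderHom t).isLt
        have := h t
        simp only [Dbl, SimplexCategory.len_mk] at *
        omega⟩
      monotone' := fun s t hst => by
        have h1 : (φ.toOrderHom s).val ≤ (φ.toOrderHom t).val := φ.toOrderHom.monotone hst
        change (φ.toOrderHom s).val - (a.len + 1) ≤ (φ.toOrderHom t).val - (a.len + 1)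
        omega }, ?_⟩
  apply hom_ext_val
  intro x
  rw [comp_val, i1_val]
  change (φ.toOrderHom x).val - (a.len + 1) + (a.len + 1) = _
  have := h x
  omega

lemma Dbl_map_lt_iff {a b : SimplexCategory} (θ : a ⟶ b) (x : Fin ((Dbl.obj a).len + 1)) :
    ((Dbl.map θ).toOrderHom x).val < b.len + 1 ↔ x.val < a.len + 1 :=
  dbl_lt_iff θ.toOrderHom x

lemma exists_retraction_δ {n : ℕ} (j : Fin (n + 2)) :
    ∃ s : ⦋n + 1⦌ ⟶ ⦋n⦌, SimplexCategory.δ j ≫ s = 𝟙 _ := by
  induction j using Fin.cases with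
  | zero => exact ⟨SimplexCategory.σ 0, SimplexCategory.δ_comp_σ_self (i := (0 : Fin (n + 1)))⟩
  | succ i => exact ⟨SimplexCategory.σ i, SimplexCategory.δ_comp_σ_succ⟩

end Lifts

section Retr

open SimplexCategory

/-- a monotone retraction onto a nonempty subset of `Fin (k + 1)` -/
lemma exists_retr_set {k : ℕ} (P : Fin (k + 1) → Prop) (u₀ : Fin (k + 1)) (h₀ : P u₀) :
    ∃ ρ : Fin (k + 1) →o Fin (k + 1), (∀ u, P (ρ u)) ∧ ∀ u, P u → ρ u = u := by
  classical
  let S : Finset (Fin (k + 1)) := Finset.univ.filter P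
  have hS : S.Nonempty := ⟨u₀, by simp [S, h₀]⟩
  let A : Fin (k + 1) → Finset (Fin (k + 1)) := fun u => S.filter (· ≤ u)
  let f : Fin (k + 1) → Fin (k + 1) := fun u =>
    if h : (A u).Nonempty then (A u).max' h else S.min' hS
  have hfP : ∀ u, P (f u) := by
    intro u
    by_cases h : (A u).Nonempty
    · have h1 : f u = (A u).max' h := dif_pos h
      have h2 : (A u).max' h ∈ A u := Finset.max'_mem _ _
      rw [h1]
      simp only [A, S, Finset.mem_filter, Finset.mem_univ, true_and] at h2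
      exact h2.1
    · have h1 : f u = S.min' hS := dif_neg h
      have h2 : S.min' hS ∈ S := Finset.min'_mem _ _
      rw [h1]
      simp only [S, Finset.mem_filter, Finset.mem_univ, true_and] at h2
      exact h2
  have hfS : ∀ u, f u ∈ S := fun u => by simp [S, hfP u]
  refine ⟨⟨f, ?_⟩, hfP, ?_⟩
  · intro u u' huu'
    by_cases h : (A u).Nonempty
    · have hsub : A u ⊆ A u' := by
        intro w hw
        simp only [A, Finset.mem_filter] at hw ⊢
        exact ⟨hw.1, hw.2.trans huu'⟩
      have h' : (A u').Nonempty := h.mono hsub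
      have h1 : f u = (A u).max' h := dif_pos h
      have h2 : f u' = (A u').max' h' := dif_pos h'
      rw [h1, h2]
      exact Finset.max'_subset h hsub
    · have h1 : f u = S.min' hS := dif_neg h
      rw [h1]
      exact Finset.min'_le _ _ (hfS u')
  · intro u hu
    have hmem : u ∈ A u := by simp [A, S, hu]
    have h : (A u).Nonempty := ⟨u, hmem⟩
    have h1 : f u = (A u).max' h := dif_pos h
    change f u = u
    rw [h1]
    apply le_antisymm
    · have h2 : (A u).max' h ∈ A u := Finset.max'_mem _ _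
      simp only [A, Finset.mem_filter] at h2
      exact h2.2
    · exact Finset.le_max' _ _ hmem

/-- the underlying point of a point of the double -/
def und {k : ℕ} (y : Fin (k + 1 + k + 1)) : Fin (k + 1) :=
  if h : y.val < k + 1 then ⟨y.val, h⟩ else ⟨y.val - (k + 1), by omega⟩

lemma dbl_val_und {n m : ℕ} (θ : Fin (n + 1) →o Fin (m + 1)) (y : Fin (n + 1 + n + 1)) :
    (dbl θ y).val = if y.val < n + 1 then (θ (und y)).val else (θ (und y)).val + (m + 1) := by
  by_cases h : y.val < n + 1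
  · rw [dbl_val_lt θ y h, if_pos h, und, dif_pos h]
  · rw [dbl_val_ge θ y h, if_neg h, und, dif_neg h]

lemma und_val {k : ℕ} (y : Fin (k + 1 + k + 1)) :
    y.val = if y.val < k + 1 then (und y).val else (und y).val + (k + 1) := by
  by_cases h : y.val < k + 1
  · rw [if_pos h, und, dif_pos h]
  · rw [if_neg h, und, dif_neg h]
    change y.val = y.val - (k + 1) + (k + 1)
    omega

/-- **the idempotent trick**: two maps which agree after doubling on the image of `φ` can be
equalized by an endomorphism whose double fixes `φ`. -/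
lemma exists_retr {e a b : SimplexCategory} (α α' : a ⟶ b) (φ : e ⟶ Dbl.obj a)
    (h : φ ≫ Dbl.map α = φ ≫ Dbl.map α') :
    ∃ ρ : a ⟶ a, ρ ≫ α = ρ ≫ α' ∧ φ ≫ Dbl.map ρ = φ := by
  let P : Fin (a.len + 1) → Prop := fun u => α.toOrderHom u = α'.toOrderHom u
  have hP : ∀ t, P (und (φ.toOrderHom t)) := by
    intro t
    have h1 := congrArg (fun f => (f.toOrderHom t).val) h
    simp only [comp_val] at h1
    change (dbl α.toOrderHom (φ.toOrderHom t)).val = (dbl α'.toOrderHom (φ.toOrderHom t)).val at h1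
    rw [dbl_val_und, dbl_val_und] at h1
    apply Fin.ext
    split_ifs at h1 <;> omega
  obtain ⟨ρ, hρ1, hρ2⟩ := exists_retr_set P (und (φ.toOrderHom 0)) (hP 0)
  refine ⟨SimplexCategory.mkHom ρ, ?_, ?_⟩
  · apply SimplexCategory.Hom.ext
    ext u : 2
    exact hρ1 u
  · apply hom_ext_val
    intro t
    rw [comp_val]
    change (dbl ρ (φ.toOrderHom t)).val = _
    rw [dbl_val_und, hρ2 _ (hP t)]
    exact (und_val (φ.toOrderHom t)).symm

end Retr

end Groth.Agent.Lib.Helper15.SimplexDbl
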