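import Groth.Agent.Lib.Helper15.ARTensor

/-!
# The filtration `J^p ⊗ K` of a complex of modules (helper15)
-/

set_option autoImplicit false

open CategoryTheory MonoidalCategory Limits TensorProduct

namespace Groth.Agent.Lib.Helper15.TensorPowFil

universe u

variable {A : Type u} [CommRing A] (J : Ideal A) (K : CochainComplex (ModuleCat.{u} A) ℤ)

/-- `J^p ⊗ K`. -/
noncomputable abbrev tX (p : ℕ) : CochainComplex (ModuleCat.{u} A) ℤ :=
  (((curriedTensor (ModuleCat.{u} A)).obj (ModuleCat.of A ↥(J ^ p))).mapHomologicalComplex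
    (ComplexShape.up ℤ)).obj K

/-- the inclusion `J^p → J^q`. -/
noncomputable abbrev inc (p q : ℕ) (h : q ≤ p) :
    ModuleCat.of A ↥(J ^ p) ⟶ ModuleCat.of A ↥(J ^ q) :=
  ModuleCat.ofHom (Submodule.inclusion (Ideal.pow_le_pow_right h))

/-- `J^p ⊗ K ⟶ J^q ⊗ K`. -/
noncomputable abbrev tι (p q : ℕ) (h : q ≤ p) : tX J K p ⟶ tX J K q :=
  (NatTrans.mapHomologicalComplex ((curriedTensor (ModuleCat.{u} A)).map (inc J p q h))
    (ComplexShape.up ℤ)).app K

lemma inc_comp (p q r : ℕ) (h1 : q ≤ p) (h2 : r ≤ q) :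
    inc J p q h1 ≫ inc J q r h2 = inc J p r (h2.trans h1) := rfl

lemma tι_comp (p q r : ℕ) (h1 : q ≤ p) (h2 : r ≤ q) :
    tι J K p q h1 ≫ tι J K q r h2 = tι J K p r (h2.trans h1) := by
  ext i : 1
  show (inc J p q h1 ▷ K.X i) ≫ (inc J q r h2 ▷ K.X i) = inc J p r (h2.trans h1) ▷ K.X i
  rw [← comp_whiskerRight, inc_comp]

lemma isZero_tX_X (p : ℕ) (i : ℤ) (h : IsZero (K.X i)) : IsZero ((tX J K p).X i) :=
  Functor.map_isZero ((curriedTensor (ModuleCat.{u} A)).obj (ModuleCat.of A ↥(J ^ p))) h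

lemma tX_d_apply (p : ℕ) (i j : ℤ) (z : ↥(J ^ p) ⊗[A] ↑(K.X i)) :
    ((tX J K p).d i j).hom z = LinearMap.lTensor (↥(J ^ p)) (K.d i j).hom z := rfl

lemma tι_f_apply (p q : ℕ) (h : q ≤ p) (i : ℤ) (z : ↥(J ^ p) ⊗[A] ↑(K.X i)) :
    ((tι J K p q h).f i).hom z =
      LinearMap.rTensor (↑(K.X i)) (Submodule.inclusion (Ideal.pow_le_pow_right h)) z := rfl

section homology

/-- if `J` kills `H^i(K)` then `J • Z^i(K) ⊆ B^i(K)`. -/
lemma exists_d_eq_smul (i₀ i i₁ : ℤ) (hi : i₀ + 1 = i) (hi₁ : i + 1 = i₁)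
    (hJ : ∀ x ∈ J, ∀ c : ↑(K.homology i), x • c = 0) (a : A) (ha : a ∈ J) (z : ↑(K.X i))
    (hz : (K.d i i₁).hom z = 0) : ∃ x : ↑(K.X i₀), (K.d i₀ i).hom x = a • z := by
  let k : ModuleCat.of A A ⟶ K.X i := ModuleCat.ofHom (LinearMap.toSpanSingleton A _ z)
  have hk : k ≫ K.d i i₁ = 0 := by
    apply ModuleCat.hom_ext
    apply LinearMap.ext_ring
    simp [k, hz]
  have hn : (ComplexShape.up ℤ).next i = i₁ := by simp [← hi₁]
  have hp : (ComplexShape.up ℤ).prev i = i₀ := by simp [← hi]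
  let zt : ↑(K.cycles i) := (K.liftCycles k i₁ hn hk).hom (1 : A)
  have hzt : (K.iCycles i).hom zt = z := by
    have h1 := K.liftCycles_i k i₁ hn hk
    have h2 := LinearMap.congr_fun (congrArg ModuleCat.Hom.hom h1) (1 : A)
    have h2' : (K.iCycles i).hom zt = (LinearMap.toSpanSingleton A _ z) (1 : A) := h2
    rw [h2', LinearMap.toSpanSingleton_apply, one_smul]
  let S : ShortComplex (ModuleCat.{u} A) :=
    ShortComplex.mk (K.toCycles i₀ i) (K.homologyπ i) (K.toCycles_comp_homologyπ i₀ i)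
  have hS : S.Exact := S.exact_of_g_is_cokernel (K.homologyIsCokernel i₀ i hp)
  rw [ShortComplex.moduleCat_exact_iff] at hS
  have h0 : (K.homologyπ i).hom (a • zt) = 0 := by
    rw [map_smul]
    exact hJ a ha _
  obtain ⟨x, hx⟩ := hS (a • zt) h0
  refine ⟨x, ?_⟩
  have h3 := congrArg (K.iCycles i).hom hx
  rw [map_smul, hzt] at h3
  rw [← h3]
  exact (LinearMap.congr_fun (congrArg ModuleCat.Hom.hom (K.toCycles_i i₀ i)) x).symm

variable [IsNoetherianRing A]

/-- **Artin–Rees**: `H^i(J^p ⊗ K) → H^i(J^q ⊗ K)` is zero for `q + c + 1 ≤ p`. -/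
theorem exists_homologyMap_eq_zero (i : ℤ) [Module.Finite A ↑(K.X i)] [Module.Flat A ↑(K.X i)]
    (hJ : ∀ x ∈ J, ∀ c : ↑(K.homology i), x • c = 0) :
    ∃ c : ℕ, ∀ (p q : ℕ) (h : q + c + 1 ≤ p),
      HomologicalComplex.homologyMap (tι J K p q
        (le_trans (le_trans (Nat.le_add_right q c) (Nat.le_succ _)) h)) i = 0 := by
  obtain ⟨c, hc⟩ := ARTensor.exists_boundary J (K.d (i - 1) i).hom (K.d i (i + 1)).hom
    (fun a ha z hz => exists_d_eq_smul J K (i - 1) i (i + 1) (by ring) rfl hJ a ha z hz)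
  refine ⟨c, fun p q h => ?_⟩
  have hqp : q ≤ p := le_trans (le_trans (Nat.le_add_right q c) (Nat.le_succ _)) h
  rw [← cancel_epi ((tX J K p).homologyπ i), comp_zero, HomologicalComplex.homologyπ_naturality]
  apply ModuleCat.hom_ext
  apply LinearMap.ext
  intro z
  -- the underlying element of the cycle `z`
  have hd : ((tX J K p).d i (i + 1)).hom (((tX J K p).iCycles i).hom z) = 0 :=
    LinearMap.congr_fun (congrArg ModuleCat.Hom.hom ((tX J K p).iCycles_d i (i + 1))) z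
  obtain ⟨y, hy⟩ := hc p q h (((tX J K p).iCycles i).hom z) hd
  have hcyc : (HomologicalComplex.cyclesMap (tι J K p q hqp) i).hom z =
      ((tX J K q).toCycles (i - 1) i).hom y := by
    apply (ModuleCat.mono_iff_injective ((tX J K q).iCycles i)).1 inferInstance
    have e1 := LinearMap.congr_fun (congrArg ModuleCat.Hom.hom
      (HomologicalComplex.cyclesMap_i (tι J K p q hqp) i)) z
    have e2 := LinearMap.congr_fun (congrArg ModuleCat.Hom.hom
      ((tX J K q).toCycles_i (i - 1) i)) y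
    exact e1.trans (hy.symm.trans e2.symm)
  have hfin := LinearMap.congr_fun (congrArg ModuleCat.Hom.hom
    ((tX J K q).toCycles_comp_homologyπ (i - 1) i)) y
  show ((tX J K q).homologyπ i).hom ((HomologicalComplex.cyclesMap (tι J K p q hqp) i).hom z) = 0
  rw [hcyc]
  exact hfin

end homology

end Groth.Agent.Lib.Helper15.TensorPowFil
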