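import Groth.Prelude.Def_DTen
import Mathlib.Algebra.Homology.Linear

/-!
# Linearity of whiskering for complexes of modules, and the maps `p ↦ f ⊗ p` (helper15)
-/

set_option autoImplicit false
universe u
open CategoryTheory CategoryTheory.Limits MonoidalCategory

namespace Groth.Agent.Lib.Helper15.TensorSmul

variable {A : Type u} [CommRing A]

lemma smul_whiskerRight (r : A) {K K' : DRing.Cx A} (φ : K ⟶ K') (L : DRing.Cx A) :
    (r • φ) ▷ L = r • (φ ▷ L) := by
  ext n : 1
  refine HomologicalComplex.mapBifunctor.hom_ext (fun p q h => ?_)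
  change HomologicalComplex.ιMapBifunctor K L (curriedTensor (ModuleCat.{u} A)) (ComplexShape.up ℤ) p q n h ≫
      (HomologicalComplex.mapBifunctorMap (r • φ) (𝟙 L) _ _).f n =
    HomologicalComplex.ιMapBifunctor K L (curriedTensor (ModuleCat.{u} A)) (ComplexShape.up ℤ) p q n h ≫
      (r • HomologicalComplex.mapBifunctorMap φ (𝟙 L) _ _).f n
  rw [HomologicalComplex.ι_mapBifunctorMap]
  simp only [HomologicalComplex.smul_f_apply, Linear.comp_smul, HomologicalComplex.ι_mapBifunctorMap]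
  simp

/-- `X[0]`. -/
noncomputable abbrev sg (X : ModuleCat.{u} A) : DRing.Cx A :=
  (HomologicalComplex.single (ModuleCat.{u} A) (ComplexShape.up ℤ) 0).obj X

lemma single_map_smul (r : A) {X Y : ModuleCat.{u} A} (φ : X ⟶ Y) :
    (HomologicalComplex.single (ModuleCat.{u} A) (ComplexShape.up ℤ) 0).map (r • φ) =
      r • (HomologicalComplex.single (ModuleCat.{u} A) (ComplexShape.up ℤ) 0).map φ := by
  apply HomologicalComplex.from_single_hom_ext (j := 0)
  simp [HomologicalComplex.single_map_f_self]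

variable (I : Ideal A)

/-- `I[0] ⟶ A[0]`. -/
noncomputable def ι0 : sg (ModuleCat.of A I) ⟶ 𝟙_ (DRing.Cx A) :=
  (HomologicalComplex.single (ModuleCat.{u} A) (ComplexShape.up ℤ) 0).map (ModuleCat.ofHom I.subtype)

/-- `A[0] ⟶ I[0]`, `a ↦ a • f`. -/
noncomputable def κ (f : I) : 𝟙_ (DRing.Cx A) ⟶ sg (ModuleCat.of A I) :=
  (HomologicalComplex.single (ModuleCat.{u} A) (ComplexShape.up ℤ) 0).map
    (ModuleCat.ofHom (LinearMap.toSpanSingleton A I f))

lemma κ_ι0 (f : I) : κ I f ≫ ι0 I = (f : A) • 𝟙 _ := by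
  have : ModuleCat.ofHom (LinearMap.toSpanSingleton A I f) ≫ ModuleCat.ofHom I.subtype =
      (f : A) • 𝟙 (ModuleCat.of A A) := by
    ext
    simp
  change (HomologicalComplex.single (ModuleCat.{u} A) (ComplexShape.up ℤ) 0).map _ ≫
    (HomologicalComplex.single (ModuleCat.{u} A) (ComplexShape.up ℤ) 0).map _ = _
  rw [← Functor.map_comp, this, single_map_smul]
  congr 1
  exact CategoryTheory.Functor.map_id _ _

lemma ι0_κ (f : I) : ι0 I ≫ κ I f = (f : A) • 𝟙 _ := by
  have : ModuleCat.ofHom I.subtype ≫ ModuleCat.ofHom (LinearMap.toSpanSingleton A I f) =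
      (f : A) • 𝟙 (ModuleCat.of A I) := by
    ext x
    simp [mul_comm]
  change (HomologicalComplex.single (ModuleCat.{u} A) (ComplexShape.up ℤ) 0).map _ ≫
    (HomologicalComplex.single (ModuleCat.{u} A) (ComplexShape.up ℤ) 0).map _ = _
  rw [← Functor.map_comp, this, single_map_smul, CategoryTheory.Functor.map_id]

/-- The multiplication map `I[0] ⊗ P ⟶ P`. -/
noncomputable def mulMap (P : DRing.Cx A) : sg (ModuleCat.of A I) ⊗ P ⟶ P :=
  (ι0 I ▷ P) ≫ (λ_ P).hom

/-- `P ⟶ I[0] ⊗ P`, `p ↦ f ⊗ p`. -/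
noncomputable def sMap (f : I) (P : DRing.Cx A) : P ⟶ sg (ModuleCat.of A I) ⊗ P :=
  (λ_ P).inv ≫ (κ I f ▷ P)

lemma sMap_mulMap (f : I) (P : DRing.Cx A) : sMap I f P ≫ mulMap I P = (f : A) • 𝟙 P := by
  dsimp only [sMap, mulMap]
  rw [Category.assoc, ← comp_whiskerRight_assoc, κ_ι0, smul_whiskerRight, id_whiskerRight,
    Linear.smul_comp, Linear.comp_smul, Category.id_comp, Iso.inv_hom_id]

lemma mulMap_sMap (f : I) (P : DRing.Cx A) : mulMap I P ≫ sMap I f P = (f : A) • 𝟙 _ := by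
  dsimp only [sMap, mulMap]
  rw [Category.assoc, Iso.hom_inv_id_assoc, ← comp_whiskerRight, ι0_κ, smul_whiskerRight,
    id_whiskerRight]

end Groth.Agent.Lib.Helper15.TensorSmul
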