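import Mathlib
set_option autoImplicit false
open CategoryTheory CategoryTheory.Limits
universe v u

namespace Groth.Agent.Lib.Helper15.TotalProj

variable {A : Type u} [Category.{v} A] [Abelian A]
variable (K : HomologicalComplex₂ A (ComplexShape.up ℤ) (ComplexShape.up ℤ))
  [K.HasTotal (ComplexShape.up ℤ)]

/-- the total complex -/
noncomputable abbrev T : CochainComplex A ℤ := K.total (ComplexShape.up ℤ)

/-- inclusion of a summand -/
noncomputable abbrev ιT (p q n : ℤ) (h : p + q = n) : (K.X p).X q ⟶ (T K).X n :=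
  K.ιTotal (ComplexShape.up ℤ) p q n h

/-- projection to a summand -/
noncomputable def πT (p q n : ℤ) (h : p + q = n) : (T K).X n ⟶ (K.X p).X q :=
  K.totalDesc (fun p' q' h' =>
    if hp : p' = p then (K.XXIsoOfEq _ _ _ hp (by
      change p' + q' = n at h'
      omega)).hom else 0)

@[reassoc (attr := simp)]
lemma ι_π_self (p q n : ℤ) (h : p + q = n) : ιT K p q n h ≫ πT K p q n h = 𝟙 _ := by
  simp [ιT, πT]

@[reassoc]
lemma ι_π_ne (p q p' q' n : ℤ) (h : p + q = n) (h' : p' + q' = n) (hne : p ≠ p') :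
    ιT K p q n h ≫ πT K p' q' n h' = 0 := by
  simp [ιT, πT, hne]

lemma ε₁_eq (p q : ℤ) :
    ComplexShape.ε₁ (ComplexShape.up ℤ) (ComplexShape.up ℤ) (ComplexShape.up ℤ) (p, q) = 1 := rfl

@[reassoc]
lemma ι_d (p q n p' q' n' : ℤ) (h : p + q = n) (hp : p + 1 = p') (hq : q + 1 = q')
    (hn : n + 1 = n') :
    ιT K p q n h ≫ (T K).d n n' =
      (K.d p p').f q ≫ ιT K p' q n' (by omega) +
        ComplexShape.ε₂ (ComplexShape.up ℤ) (ComplexShape.up ℤ) (ComplexShape.up ℤ) (p, q) •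
          ((K.X p).d q q' ≫ ιT K p q' n' (by omega)) := by
  subst hp hq hn
  dsimp [T, ιT]
  rw [K.total_d, Preadditive.comp_add, K.ι_D₁, K.ι_D₂,
    K.d₁_eq (ComplexShape.up ℤ) (show (ComplexShape.up ℤ).Rel p (p+1) from rfl) q (n+1)
      (by change p + 1 + q = n + 1; omega),
    K.d₂_eq (ComplexShape.up ℤ) p (show (ComplexShape.up ℤ).Rel q (q+1) from rfl) (n+1)
      (by change p + (q + 1) = n + 1; omega), ε₁_eq, one_smul]
  rfl

variable {K}
variable {a b : ℤ} (hK : ∀ p q : ℤ, p < a ∨ q < b → IsZero ((K.X p).X q))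
include hK

lemma sum_π_ι (n : ℤ) :
    ∑ p ∈ Finset.Icc a (n - b), πT K p (n - p) n (by omega) ≫ ιT K p (n - p) n (by omega) =
      𝟙 ((T K).X n) := by
  apply HomologicalComplex₂.total.hom_ext
  intro p' q' h'
  change p' + q' = n at h'
  obtain rfl : q' = n - p' := by omega
  rw [Category.comp_id, Preadditive.comp_sum]
  by_cases hp : p' ∈ Finset.Icc a (n - b)
  · rw [Finset.sum_eq_single p']
    · exact ι_π_self_assoc K p' (n - p') n (by omega) _
    · intro p _ hne
      rw [ι_π_ne_assoc K p' (n - p') p (n - p) n (by omega) (by omega) (Ne.symm hne), zero_comp]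
    · intro h
      exact absurd hp h
  · apply IsZero.eq_of_src
    apply hK
    rw [Finset.mem_Icc] at hp
    omega

lemma hom_ext_to {Z : A} {n : ℤ} {x y : Z ⟶ (T K).X n}
    (h : ∀ p q (hpq : p + q = n), x ≫ πT K p q n hpq = y ≫ πT K p q n hpq) : x = y := by
  rw [← Category.comp_id x, ← Category.comp_id y, ← sum_π_ι hK n, Preadditive.comp_sum,
    Preadditive.comp_sum]
  refine Finset.sum_congr rfl (fun p _ => ?_)
  rw [← Category.assoc, ← Category.assoc, h]

omit hK in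
lemma d_π (p q n p' q' n' : ℤ) (h : p + q = n) (hp : p' + 1 = p) (hq : q' + 1 = q)
    (hn : n' + 1 = n) :
    (T K).d n' n ≫ πT K p q n h =
      πT K p' q n' (by omega) ≫ (K.d p' p).f q +
        πT K p q' n' (by omega) ≫
          (ComplexShape.ε₂ (ComplexShape.up ℤ) (ComplexShape.up ℤ) (ComplexShape.up ℤ) (p, q') •
            (K.X p).d q' q) := by
  subst hp hq hn
  apply HomologicalComplex₂.total.hom_ext
  intro p₀ q₀ h₀
  change p₀ + q₀ = n' at h₀
  have e := ι_d_assoc K p₀ q₀ n' (p₀+1) (q₀+1) (n'+1) h₀ rfl rfl rfl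
    (πT K (p'+1) (q'+1) (n'+1) h)
  change ιT K p₀ q₀ n' h₀ ≫ _ = ιT K p₀ q₀ n' h₀ ≫ _
  rw [e, Preadditive.add_comp, Preadditive.comp_add]
  by_cases h1 : p₀ = p'
  · subst h1
    obtain rfl : q₀ = q' + 1 := by omega
    have z1 := ι_π_ne K p₀ (q'+1) (p₀+1) q' n' h₀ (by omega) (by omega)
    have z2 := ι_π_ne K p₀ (q'+1+1) (p₀+1) (q'+1) (n'+1) (by omega) (by omega) (by omega)
    simp only [Category.assoc, ι_π_self, Category.comp_id, ι_π_self_assoc, reassoc_of% z1,
      zero_comp, add_zero, Units.smul_def, Preadditive.zsmul_comp, z2, comp_zero, smul_zero]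
  · by_cases h2 : p₀ = p' + 1
    · subst h2
      obtain rfl : q₀ = q' := by omega
      have z1 := ι_π_ne K (p'+1+1) q₀ (p'+1) (q₀+1) (n'+1) (by omega) (by omega) (by omega)
      have z2 := ι_π_ne K (p'+1) q₀ p' (q₀+1) n' h₀ (by omega) (by omega)
      simp only [Category.assoc, z1, comp_zero, zero_add, Units.smul_def,
        Preadditive.zsmul_comp, Preadditive.comp_zsmul, ι_π_self, Category.comp_id,
        reassoc_of% z2, zero_comp, ι_π_self_assoc]
    · have z1 := ι_π_ne K (p₀+1) q₀ (p'+1) (q'+1) (n'+1) (by omega) (by omega) (by omega)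
      have z2 := ι_π_ne K p₀ (q₀+1) (p'+1) (q'+1) (n'+1) (by omega) (by omega) (by omega)
      have z3 := ι_π_ne K p₀ q₀ p' (q'+1) n' h₀ (by omega) (by omega)
      have z4 := ι_π_ne K p₀ q₀ (p'+1) q' n' h₀ (by omega) (by omega)
      simp only [Category.assoc, z1, z2, comp_zero, Units.smul_def, Preadditive.zsmul_comp,
        smul_zero, add_zero, reassoc_of% z3, reassoc_of% z4, zero_comp]

omit hK in
lemma map_π {L : HomologicalComplex₂ A (ComplexShape.up ℤ) (ComplexShape.up ℤ)}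
    [L.HasTotal (ComplexShape.up ℤ)] (φ : K ⟶ L) (p q n : ℤ) (h : p + q = n) :
    (HomologicalComplex₂.total.map φ (ComplexShape.up ℤ)).f n ≫ πT L p q n h =
      πT K p q n h ≫ (φ.f p).f q := by
  apply HomologicalComplex₂.total.hom_ext
  intro p₀ q₀ h₀
  change p₀ + q₀ = n at h₀
  change ιT K p₀ q₀ n h₀ ≫ _ = ιT K p₀ q₀ n h₀ ≫ _
  rw [HomologicalComplex₂.ιTotal_map_assoc]
  by_cases h1 : p₀ = p
  · subst h1
    obtain rfl : q₀ = q := by omega
    change _ ≫ ιT L p₀ q₀ n h₀ ≫ _ = _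
    rw [ι_π_self, ι_π_self_assoc, Category.comp_id]
  · change _ ≫ ιT L p₀ q₀ n h₀ ≫ _ = _
    rw [ι_π_ne L p₀ q₀ p q n h₀ h h1, ι_π_ne_assoc K p₀ q₀ p q n h₀ h h1, comp_zero, zero_comp]

omit hK in
lemma ι_d_π_succ (m m' q n n' : ℤ) (h : m + q = n) (hm : m + 1 = m') (hn : n + 1 = n') :
    ιT K m q n h ≫ (T K).d n n' ≫ πT K m' q n' (by omega) = (K.d m m').f q := by
  subst hn hm
  rw [d_π (K := K) (m+1) q (n+1) m (q-1) n (by omega) rfl (by omega) rfl, Preadditive.comp_add,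
    ι_π_self_assoc, ι_π_ne_assoc K m q (m+1) (q-1) n h (by omega) (by omega), zero_comp,
    add_zero]

omit hK in
lemma ι_d_π_gt (m q n n' p q' : ℤ) (h : m + q = n) (hn : n + 1 = n') (h' : p + q' = n')
    (hp : m + 1 < p) :
    ιT K m q n h ≫ (T K).d n n' ≫ πT K p q' n' h' = 0 := by
  subst hn
  rw [d_π (K := K) p q' (n+1) (p-1) (q'-1) n h' (by omega) (by omega) rfl, Preadditive.comp_add,
    ι_π_ne_assoc K m q (p-1) q' n h (by omega) (by omega), zero_comp,
    ι_π_ne_assoc K m q p (q'-1) n h (by omega) (by omega), zero_comp, add_zero]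

end Groth.Agent.Lib.Helper15.TotalProj
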