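import Mathlib
import Groth.Agent.Lib.Helper15.TotalProj

/-!
# The total complex functor preserves row-wise quasi-isomorphisms (helper15)

`K L` double complexes with terms vanishing for `p < a` or `q < b`; if `φ : K ⟶ L` is a
quasi-isomorphism of complexes (outer index) of complexes, then `Tot φ` is a quasi-isomorphism.
Proof: diagram chase (with refinements) showing that the cone of `Tot φ` is acyclic, by
descending induction on the largest outer index occurring in a cocycle.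
-/
set_option autoImplicit false
open CategoryTheory CategoryTheory.Limits
universe v u

namespace Groth.Agent.Lib.Helper15.TotalQis

variable {A : Type u} [Category.{v} A] [Abelian A]
variable {K L : HomologicalComplex₂ A (ComplexShape.up ℤ) (ComplexShape.up ℤ)} (φ : K ⟶ L)

/-- the short complex `K^{i,q} ⟶ K^{j,q} ⟶ K^{k,q}` -/
noncomputable abbrev rowSc (K : HomologicalComplex₂ A (ComplexShape.up ℤ) (ComplexShape.up ℤ))
    (i j k q : ℤ) : ShortComplex A :=
  (K.sc' i j k).map (HomologicalComplex.eval A (ComplexShape.up ℤ) q)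

/-- the induced map of row short complexes -/
noncomputable abbrev rowScMap (i j k q : ℤ) : rowSc K i j k q ⟶ rowSc L i j k q :=
  (HomologicalComplex.eval A (ComplexShape.up ℤ) q).mapShortComplex.map
    ((HomologicalComplex.shortComplexFunctor' _ _ i j k).map φ)

lemma rowScMap_quasiIso [QuasiIso φ] (i j k q : ℤ) (hi : i + 1 = j) (hk : j + 1 = k) :
    ShortComplex.QuasiIso (rowScMap φ i j k q) := by
  have h1 : QuasiIsoAt φ j := inferInstance
  rw [quasiIsoAt_iff' φ i j k (by simp; omega) (by simp; omega)] at h1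
  have : (HomologicalComplex.eval A (ComplexShape.up ℤ) q).PreservesHomology := inferInstance
  exact ShortComplex.quasiIso_map_of_preservesLeftHomology
    (HomologicalComplex.eval A (ComplexShape.up ℤ) q) _

lemma mono_part [QuasiIso φ] (p q : ℤ) {Z : A} (x : Z ⟶ (K.X (p+1)).X q)
    (hx : x ≫ (K.d (p+1) (p+2)).f q = 0) (y : Z ⟶ (L.X p).X q)
    (hxy : x ≫ (φ.f (p+1)).f q = y ≫ (L.d p (p+1)).f q) :
    ∃ (Z' : A) (π : Z' ⟶ Z) (_ : Epi π) (x₁ : Z' ⟶ (K.X p).X q),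
      π ≫ x = x₁ ≫ (K.d p (p+1)).f q := by
  have hq := rowScMap_quasiIso φ p (p+1) (p+2) q rfl (by omega)
  have hm : Mono (ShortComplex.homologyMap (rowScMap φ p (p+1) (p+2) q)) := by
    have : IsIso (ShortComplex.homologyMap (rowScMap φ p (p+1) (p+2) q)) :=
      (ShortComplex.quasiIso_iff _).1 hq
    infer_instance
  rw [ShortComplex.mono_homologyMap_iff_up_to_refinements] at hm
  exact hm x hx y hxy

lemma epi_part [QuasiIso φ] (p q : ℤ) {Z : A} (y₂ : Z ⟶ (L.X p).X q)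
    (hy : y₂ ≫ (L.d p (p+1)).f q = 0) :
    ∃ (Z' : A) (π : Z' ⟶ Z) (_ : Epi π) (x₂ : Z' ⟶ (K.X p).X q)
      (_ : x₂ ≫ (K.d p (p+1)).f q = 0) (y₁ : Z' ⟶ (L.X (p-1)).X q),
      π ≫ y₂ = x₂ ≫ (φ.f p).f q + y₁ ≫ (L.d (p-1) p).f q := by
  have hq := rowScMap_quasiIso φ (p-1) p (p+1) q (by omega) rfl
  have hm : Epi (ShortComplex.homologyMap (rowScMap φ (p-1) p (p+1) q)) := by
    have : IsIso (ShortComplex.homologyMap (rowScMap φ (p-1) p (p+1) q)) :=
      (ShortComplex.quasiIso_iff _).1 hq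
    infer_instance
  rw [ShortComplex.epi_homologyMap_iff_up_to_refinements] at hm
  exact hm y₂ hy

lemma pair_lift [QuasiIso φ] (p q : ℤ) {Z : A} (x₀ : Z ⟶ (K.X (p+1)).X q)
    (y₀ : Z ⟶ (L.X p).X q) (hx : x₀ ≫ (K.d (p+1) (p+2)).f q = 0)
    (hxy : x₀ ≫ (φ.f (p+1)).f q + y₀ ≫ (L.d p (p+1)).f q = 0) :
    ∃ (Z' : A) (π : Z' ⟶ Z) (_ : Epi π) (x' : Z' ⟶ (K.X p).X q) (y' : Z' ⟶ (L.X (p-1)).X q),
      π ≫ x₀ = - x' ≫ (K.d p (p+1)).f q ∧
      π ≫ y₀ = x' ≫ (φ.f p).f q + y' ≫ (L.d (p-1) p).f q := by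
  obtain ⟨Z₁, π₁, hπ₁, x'', hx''⟩ := mono_part φ p q x₀ hx (-y₀)
    (by rw [Preadditive.neg_comp]; exact eq_neg_of_add_eq_zero_left hxy)
  have hcomm : (φ.f p).f q ≫ (L.d p (p+1)).f q = (K.d p (p+1)).f q ≫ (φ.f (p+1)).f q := by
    rw [← HomologicalComplex.comp_f, ← HomologicalComplex.comp_f, φ.comm]
  have hy₂ : (π₁ ≫ y₀ + x'' ≫ (φ.f p).f q) ≫ (L.d p (p+1)).f q = 0 := by
    rw [Preadditive.add_comp, Category.assoc, Category.assoc, hcomm, ← Category.assoc x'',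
      ← hx'', Category.assoc, ← Preadditive.comp_add]
    have : y₀ ≫ (L.d p (p+1)).f q + x₀ ≫ (φ.f (p+1)).f q = 0 :=
      (add_comm _ _).trans hxy
    rw [this, comp_zero]
  obtain ⟨Z₂, π₂, hπ₂, x₂, hx₂, y₁, hy₁⟩ := epi_part φ p q _ hy₂
  refine ⟨Z₂, π₂ ≫ π₁, epi_comp _ _, x₂ - π₂ ≫ x'', y₁, ?_, ?_⟩
  · rw [Category.assoc, hx'', Preadditive.sub_comp, hx₂, zero_sub, neg_neg, Category.assoc]
  · rw [Preadditive.comp_add] at hy₁
    rw [Preadditive.sub_comp, Category.assoc, Category.assoc]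
    have h3 : π₂ ≫ π₁ ≫ y₀ = x₂ ≫ (φ.f p).f q + y₁ ≫ (L.d (p - 1) p).f q -
        π₂ ≫ x'' ≫ (φ.f p).f q := by
      rw [← hy₁]; abel
    rw [h3]; abel

section Chase

open Groth.Agent.Lib.Helper15.TotalProj CochainComplex HomComplex

variable [K.HasTotal (ComplexShape.up ℤ)] [L.HasTotal (ComplexShape.up ℤ)]

/-- the induced map on total complexes -/
noncomputable abbrev Φ : T K ⟶ T L := HomologicalComplex₂.total.map φ (ComplexShape.up ℤ)

/-- the cone of the map of total complexes -/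
noncomputable abbrev Cn : CochainComplex A ℤ := mappingCone (Φ φ)

/-- first component -/
noncomputable def cx (n : ℤ) {Z : A} (z : Z ⟶ (Cn φ).X n) : Z ⟶ (T K).X (n+1) :=
  z ≫ (mappingCone.fst (Φ φ)).1.v n (n+1) rfl

/-- second component -/
noncomputable def cy (n : ℤ) {Z : A} (z : Z ⟶ (Cn φ).X n) : Z ⟶ (T L).X n :=
  z ≫ (mappingCone.snd (Φ φ)).v n n (add_zero n)

/-- the level predicate -/
def Lv (n m : ℤ) {Z : A} (z : Z ⟶ (Cn φ).X n) : Prop :=
  (∀ p q (h : p + q = n + 1), m + 1 < p → cx φ n z ≫ πT K p q (n+1) h = 0) ∧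
  (∀ p q (h : p + q = n), m < p → cy φ n z ≫ πT L p q n h = 0)

lemma cx_d (n : ℤ) {Z : A} (z : Z ⟶ (Cn φ).X n) (hz : z ≫ (Cn φ).d n (n+1) = 0) :
    cx φ n z ≫ (T K).d (n+1) (n+2) = 0 := by
  have := hz =≫ (mappingCone.fst (Φ φ)).1.v (n+1) (n+2) (by omega)
  rw [Category.assoc, mappingCone.d_fst_v (Φ φ) n (n+1) (n+2) rfl (by omega), zero_comp,
    Preadditive.comp_neg, neg_eq_zero, ← Category.assoc] at this
  exact this

lemma cx_cy (n : ℤ) {Z : A} (z : Z ⟶ (Cn φ).X n) (hz : z ≫ (Cn φ).d n (n+1) = 0) :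
    cx φ n z ≫ (Φ φ).f (n+1) + cy φ n z ≫ (T L).d n (n+1) = 0 := by
  have := hz =≫ (mappingCone.snd (Φ φ)).v (n+1) (n+1) (add_zero _)
  rw [Category.assoc, mappingCone.d_snd_v (Φ φ) n (n+1) rfl, zero_comp,
    Preadditive.comp_add, ← Category.assoc, ← Category.assoc] at this
  exact this

lemma cx_sub (n : ℤ) {Z Z' : A} (z : Z ⟶ (Cn φ).X n) (π₁ : Z' ⟶ Z)
    (w : Z' ⟶ (Cn φ).X (n-1)) :
    cx φ n (π₁ ≫ z - w ≫ (Cn φ).d (n-1) n) = π₁ ≫ cx φ n z +
      (w ≫ (mappingCone.fst (Φ φ)).1.v (n-1) n (by omega)) ≫ (T K).d n (n+1) := by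
  simp only [cx, Preadditive.sub_comp, Category.assoc,
    mappingCone.d_fst_v (Φ φ) (n-1) n (n+1) (by omega) rfl, Preadditive.comp_neg,
    sub_neg_eq_add]

lemma cy_sub (n : ℤ) {Z Z' : A} (z : Z ⟶ (Cn φ).X n) (π₁ : Z' ⟶ Z)
    (w : Z' ⟶ (Cn φ).X (n-1)) :
    cy φ n (π₁ ≫ z - w ≫ (Cn φ).d (n-1) n) = π₁ ≫ cy φ n z -
      ((w ≫ (mappingCone.fst (Φ φ)).1.v (n-1) n (by omega)) ≫ (Φ φ).f n +
        (w ≫ (mappingCone.snd (Φ φ)).v (n-1) (n-1) (add_zero _)) ≫ (T L).d (n-1) n) := by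
  simp only [cy, Preadditive.sub_comp, Category.assoc,
    mappingCone.d_snd_v (Φ φ) (n-1) n (by omega), Preadditive.comp_add]

lemma step [QuasiIso φ] (n m : ℤ) {Z : A} (z : Z ⟶ (Cn φ).X n)
    (hz : z ≫ (Cn φ).d n (n+1) = 0) (hlv : Lv φ n m z) :
    ∃ (Z' : A) (π : Z' ⟶ Z) (_ : Epi π) (w : Z' ⟶ (Cn φ).X (n-1)),
      Lv φ n (m-1) (π ≫ z - w ≫ (Cn φ).d (n-1) n) := by
  obtain ⟨q, hq⟩ : ∃ q, m + q = n := ⟨n - m, by omega⟩
  have hxD := cx_d φ n z hz
  have hxy := cx_cy φ n z hz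
  -- claim A
  have hA : (cx φ n z ≫ πT K (m+1) q (n+1) (by omega)) ≫ (K.d (m+1) (m+2)).f q = 0 := by
    have := hxD =≫ πT K (m+2) q (n+2) (by omega)
    rw [Category.assoc, d_π (K := K) (m+2) q (n+2) (m+1) (q-1) (n+1) (by omega) (by omega)
      (by omega) (by omega), zero_comp, Preadditive.comp_add, ← Category.assoc,
      ← Category.assoc (cx φ n z), hlv.1 (m+2) (q-1) (by omega) (by omega), zero_comp,
      add_zero] at this
    exact this
  -- claim B
  have hB : (cx φ n z ≫ πT K (m+1) q (n+1) (by omega)) ≫ (φ.f (m+1)).f q +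
      (cy φ n z ≫ πT L m q n hq) ≫ (L.d m (m+1)).f q = 0 := by
    have h1 : (cx φ n z ≫ (Φ φ).f (n+1)) ≫ πT L (m+1) q (n+1) (by omega) =
        (cx φ n z ≫ πT K (m+1) q (n+1) (by omega)) ≫ (φ.f (m+1)).f q := by
      simp only [Category.assoc, map_π]
    have h2 : (cy φ n z ≫ (T L).d n (n+1)) ≫ πT L (m+1) q (n+1) (by omega) =
        (cy φ n z ≫ πT L m q n hq) ≫ (L.d m (m+1)).f q := by
      rw [Category.assoc, d_π (K := L) (m+1) q (n+1) m (q-1) n (by omega) (by omega) (by omega)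
        (by omega), Preadditive.comp_add, ← Category.assoc, ← Category.assoc (cy φ n z),
        hlv.2 (m+1) (q-1) (by omega) (by omega), zero_comp, add_zero]
    have := hxy =≫ πT L (m+1) q (n+1) (by omega)
    rw [zero_comp, Preadditive.add_comp, h1, h2] at this
    exact this
  obtain ⟨Z', π₁, hπ₁, x', y', e₁, e₂⟩ := pair_lift φ m q _ _ hA hB
  let w₀ : Z' ⟶ (Cn φ).X (n-1) :=
    x' ≫ ιT K m q n hq ≫ (mappingCone.inl (Φ φ)).v n (n-1) (by omega) +
      y' ≫ ιT L (m-1) q (n-1) (by omega) ≫ (mappingCone.inr (Φ φ)).f (n-1)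
  have hw₁ : w₀ ≫ (mappingCone.fst (Φ φ)).1.v (n-1) n (by omega) = x' ≫ ιT K m q n hq := by
    simp [w₀]
  have hw₂ : w₀ ≫ (mappingCone.snd (Φ φ)).v (n-1) (n-1) (add_zero _) =
      y' ≫ ιT L (m-1) q (n-1) (by omega) := by
    simp [w₀]
  refine ⟨Z', π₁, hπ₁, w₀, ?_, ?_⟩
  · intro p q' h hp
    rw [cx_sub, hw₁, Preadditive.add_comp]
    by_cases hpm : p = m + 1
    · subst hpm
      obtain rfl : q' = q := by omega
      rw [Category.assoc, e₁, Category.assoc, Category.assoc,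
        ι_d_π_succ (K := K) m (m+1) q' n (n+1) hq rfl rfl, neg_add_cancel]
    · rw [Category.assoc, hlv.1 p q' h (by omega), comp_zero, Category.assoc, Category.assoc,
        ι_d_π_gt (K := K) m q n (n+1) p q' hq rfl h (by omega), comp_zero, add_zero]
  · intro p q' h hp
    rw [cy_sub, hw₁, hw₂, Preadditive.sub_comp, Preadditive.add_comp]
    by_cases hpm : p = m
    · subst hpm
      obtain rfl : q' = q := by omega
      have t1 : (x' ≫ ιT K p q' n hq) ≫ (Φ φ).f n ≫ πT L p q' n h = x' ≫ (φ.f p).f q' := by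
        rw [map_π, Category.assoc, ι_π_self_assoc]
      have t2 : (y' ≫ ιT L (p-1) q' (n-1) (by omega)) ≫ (T L).d (n-1) n ≫ πT L p q' n h =
          y' ≫ (L.d (p-1) p).f q' := by
        rw [Category.assoc,
          ι_d_π_succ (K := L) (p-1) p q' (n-1) n (by omega) (by omega) (by omega)]
      rw [Category.assoc, e₂, Category.assoc, t1, Category.assoc, t2, sub_self]
    · have t1 : (x' ≫ ιT K m q n hq) ≫ (Φ φ).f n ≫ πT L p q' n h = 0 := by
        rw [map_π, Category.assoc, ι_π_ne_assoc K m q p q' n hq h (by omega), zero_comp,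
          comp_zero]
      have t2 : (y' ≫ ιT L (m-1) q (n-1) (by omega)) ≫ (T L).d (n-1) n ≫ πT L p q' n h = 0 := by
        rw [Category.assoc, ι_d_π_gt (K := L) (m-1) q (n-1) n p q' (by omega) (by omega) h
          (by omega), comp_zero]
      rw [Category.assoc, hlv.2 p q' h (by omega), comp_zero, Category.assoc, t1, Category.assoc,
        t2, add_zero, sub_zero]

lemma Lv.mono {n m m' : ℤ} {Z : A} {z : Z ⟶ (Cn φ).X n} (h : Lv φ n m z) (hm : m ≤ m') :
    Lv φ n m' z :=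
  ⟨fun p q hpq hp => h.1 p q hpq (by omega), fun p q hpq hp => h.2 p q hpq (by omega)⟩

variable {a b : ℤ} (hK : ∀ p q : ℤ, p < a ∨ q < b → IsZero ((K.X p).X q))
  (hL : ∀ p q : ℤ, p < a ∨ q < b → IsZero ((L.X p).X q))
include hK hL

lemma lv_top (n : ℤ) {Z : A} (z : Z ⟶ (Cn φ).X n) : Lv φ n (n - b) z :=
  ⟨fun p q hpq hp => (hK p q (Or.inr (by omega))).eq_of_tgt _ _,
    fun p q hpq hp => (hL p q (Or.inr (by omega))).eq_of_tgt _ _⟩

lemma eq_zero_of_lv (n : ℤ) {Z : A} (z : Z ⟶ (Cn φ).X n) (h : Lv φ n (a - 2) z) : z = 0 := by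
  apply mappingCone.ext_to (Φ φ) n (n+1) rfl
  · rw [zero_comp]
    apply hom_ext_to hK
    intro p q hpq
    rw [zero_comp]
    by_cases hp : p < a
    · exact (hK p q (Or.inl hp)).eq_of_tgt _ _
    · exact h.1 p q hpq (by omega)
  · rw [zero_comp]
    apply hom_ext_to hL
    intro p q hpq
    rw [zero_comp]
    by_cases hp : p < a
    · exact (hL p q (Or.inl hp)).eq_of_tgt _ _
    · exact h.2 p q hpq (by omega)

lemma exact_aux [QuasiIso φ] (n : ℤ) (k : ℕ) :
    ∀ {Z : A} (z : Z ⟶ (Cn φ).X n), z ≫ (Cn φ).d n (n+1) = 0 → Lv φ n (a - 2 + k) z →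
      ∃ (Z' : A) (π : Z' ⟶ Z) (_ : Epi π) (w : Z' ⟶ (Cn φ).X (n-1)),
        π ≫ z = w ≫ (Cn φ).d (n-1) n := by
  induction k with
  | zero =>
    intro Z z _ hlv
    have : z = 0 := eq_zero_of_lv φ hK hL n z (by simpa using hlv)
    exact ⟨Z, 𝟙 Z, inferInstance, 0, by rw [this, comp_zero, zero_comp]⟩
  | succ k ih =>
    intro Z z hz hlv
    obtain ⟨Z₁, π₁, hπ₁, w₀, hlv'⟩ := step φ n (a - 2 + (k+1 : ℕ)) z hz hlv
    have hz' : (π₁ ≫ z - w₀ ≫ (Cn φ).d (n-1) n) ≫ (Cn φ).d n (n+1) = 0 := by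
      rw [Preadditive.sub_comp, Category.assoc, hz, comp_zero, Category.assoc,
        HomologicalComplex.d_comp_d, comp_zero, sub_zero]
    obtain ⟨Z₂, π₂, hπ₂, w₁, hw₁⟩ := ih _ hz' (hlv'.mono φ (by push_cast; omega))
    refine ⟨Z₂, π₂ ≫ π₁, epi_comp _ _, w₁ + π₂ ≫ w₀, ?_⟩
    rw [Preadditive.comp_sub] at hw₁
    rw [Preadditive.add_comp, ← hw₁, Category.assoc, Category.assoc]
    abel

theorem cone_acyclic [QuasiIso φ] : (Cn φ).Acyclic := by
  intro n
  rw [HomologicalComplex.exactAt_iff' _ (n-1) n (n+1) (by simp) (by simp),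
    ShortComplex.exact_iff_exact_up_to_refinements]
  intro Z z hz
  exact exact_aux φ hK hL n (n - b - (a - 2)).toNat z hz
    ((lv_top φ hK hL n z).mono φ (by omega))

end Chase

section Final

/-- (as in helper28's `BiKFlat`) a map is a quasi-isomorphism iff its cone is acyclic -/
lemma quasiIso_iff_acyclic_mappingCone {D : Type*} [Category D] [Abelian D]
    {K K' : CochainComplex D ℤ} (g : K ⟶ K') :
    QuasiIso g ↔ (CochainComplex.mappingCone g).Acyclic := by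
  have h := (HomotopyCategory.subcategoryAcyclic D).trW_iff_of_distinguished _
    (HomotopyCategory.mappingCone_triangleh_distinguished g)
  rw [← HomotopyCategory.quasiIso_eq_trW_subcategoryAcyclic] at h
  have h' : HomotopyCategory.quasiIso D (ComplexShape.up ℤ)
      ((HomotopyCategory.quotient _ (ComplexShape.up ℤ)).map g) ↔
      HomotopyCategory.subcategoryAcyclic D
        ((HomotopyCategory.quotient _ (ComplexShape.up ℤ)).obj (CochainComplex.mappingCone g)) := h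
  rw [HomotopyCategory.quotient_map_mem_quasiIso_iff,
    HomotopyCategory.quotient_obj_mem_subcategoryAcyclic_iff_acyclic] at h'
  exact h'

theorem quasiIso_total_map (K L : HomologicalComplex₂ A (ComplexShape.up ℤ) (ComplexShape.up ℤ))
    (φ : K ⟶ L) (a b : ℤ)
    (hK : ∀ p q : ℤ, p < a ∨ q < b → IsZero ((K.X p).X q))
    (hL : ∀ p q : ℤ, p < a ∨ q < b → IsZero ((L.X p).X q))
    [K.HasTotal (ComplexShape.up ℤ)] [L.HasTotal (ComplexShape.up ℤ)] [QuasiIso φ] :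
    QuasiIso (HomologicalComplex₂.total.map φ (ComplexShape.up ℤ)) :=
  (quasiIso_iff_acyclic_mappingCone _).2 (cone_acyclic φ hK hL)

end Final

end Groth.Agent.Lib.Helper15.TotalQis
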