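import Groth.Prelude.Def_EtModW
import Groth.Prelude.Def_ARSys
import Mathlib

/-!
# Sections of pro-étale sheaves of modules over weakly contractible objects (helper15)
-/

set_option autoImplicit false
open CategoryTheory CategoryTheory.Limits AlgebraicGeometry Opposite
universe u

namespace Groth.Agent.Lib.Helper15.WCSections

section Aux

variable (Λ : Type (u + 1)) [CommRing Λ] {X : Scheme.{u}}

/-- evaluation of sheaves of modules at `U` -/
noncomputable abbrev ev (U : X.ProEt) : EtModW.ModP Λ X ⥤ ModuleCat.{u + 1} Λ :=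
  sheafToPresheaf (Scheme.ProEt.topology X) (ModuleCat.{u + 1} Λ) ⋙ (evaluation _ _).obj (op U)

lemma surj_of_epi {F G : EtModW.ModP Λ X} (φ : F ⟶ G) [Epi φ] (U : X.ProEt)
    (hU : ProEtS.IsWC U) : Function.Surjective (φ.hom.app (op U)).hom := by
  have h1 : Sheaf.IsLocallySurjective φ := (Sheaf.isLocallySurjective_iff_epi' (ModuleCat.{u + 1} Λ) φ).2 inferInstance
  have h2 : Epi ((sheafCompose (Scheme.ProEt.topology X) (forget (ModuleCat.{u + 1} Λ))).map φ) :=
    inferInstance
  exact hU _ _ _ h2

end Aux

end Groth.Agent.Lib.Helper15.WCSections
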