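import Mathlib.LinearAlgebra.RootSystem.Base
import Mathlib.LinearAlgebra.RootSystem.WeylGroup

/-!
# Helper lemmas on Weyl groups of root pairings (helper15)
-/

set_option autoImplicit false

namespace Groth.Agent.Lib.Helper15

open RootPairing

variable {ι R M N : Type*} [CommRing R] [AddCommGroup M] [Module R M]
  [AddCommGroup N] [Module R N] (P : RootPairing ι R M N)

/-- Conjugating a reflection by a reflection, at the level of automorphisms of the root pairing. -/
theorem reflection_reflectionPerm_aut (i j : ι) :
    Equiv.reflection P (P.reflectionPerm j i) =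
      Equiv.reflection P j * Equiv.reflection P i * Equiv.reflection P j := by
  apply Equiv.weightHom_injective P
  rw [map_mul, map_mul]
  change (Equiv.reflection P (P.reflectionPerm j i)).weightEquiv =
    (Equiv.reflection P j).weightEquiv * (Equiv.reflection P i).weightEquiv *
      (Equiv.reflection P j).weightEquiv
  simp only [Equiv.reflection_weightEquiv]
  exact P.reflection_reflectionPerm

theorem reflection_smul_index (i j : ι) : Equiv.reflection P j • i = P.reflectionPerm j i := rfl

theorem reflection_mul_self (i : ι) : Equiv.reflection P i * Equiv.reflection P i = 1 := by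
  have := Equiv.reflection_inv P i
  nth_rewrite 1 [← this]
  exact inv_mul_cancel _

end Groth.Agent.Lib.Helper15

namespace Groth.Agent.Lib.Helper15

open RootPairing

variable {ι R M N : Type*} [CommRing R] [AddCommGroup M] [Module R M]
  [AddCommGroup N] [Module R N] (P : RootPairing ι R M N)

/-- The product of the reflections attached to a list of indices. -/
noncomputable def wList (l : List ι) : P.Aut := (l.map (Equiv.reflection P)).prod

@[simp] theorem wList_nil : wList P [] = 1 := rfl

@[simp] theorem wList_cons (a : ι) (l : List ι) :
    wList P (a :: l) = Equiv.reflection P a * wList P l := by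
  simp [wList]

theorem wList_append (l₁ l₂ : List ι) : wList P (l₁ ++ l₂) = wList P l₁ * wList P l₂ := by
  simp [wList]

theorem wList_mem_weylGroup (l : List ι) : wList P l ∈ P.weylGroup := by
  induction l with
  | nil => exact one_mem _
  | cons a l ih =>
    rw [wList_cons]
    exact mul_mem (P.reflection_mem_weylGroup a) ih

theorem wList_reverse (l : List ι) : wList P l.reverse = (wList P l)⁻¹ := by
  induction l with
  | nil => simp
  | cons a l ih =>
    rw [List.reverse_cons, wList_append, ih, wList_cons, wList_nil, mul_one, wList_cons,
      mul_inv_rev, Equiv.reflection_inv]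

/-- Conjugating a simple reflection by a product of reflections. -/
theorem wList_conj (l : List ι) (j : ι) :
    wList P l * Equiv.reflection P j * (wList P l)⁻¹ = Equiv.reflection P (wList P l • j) := by
  induction l with
  | nil => simp
  | cons a l ih =>
    rw [wList_cons, mul_smul, reflection_smul_index, reflection_reflectionPerm_aut, ← ih,
      mul_inv_rev, Equiv.reflection_inv]
    simp only [mul_assoc]

/-- Every element of the subgroup generated by the reflections indexed by a set `s` is the
product of a list of such reflections. -/
theorem exists_wList_of_mem_closure (s : Set ι) {g : P.Aut}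
    (hg : g ∈ Subgroup.closure ((fun i : ι => Equiv.reflection P i) '' s)) :
    ∃ l : List ι, (∀ i ∈ l, i ∈ s) ∧ wList P l = g := by
  induction hg using Subgroup.closure_induction with
  | mem x hx =>
    obtain ⟨i, hi, rfl⟩ := hx
    exact ⟨[i], by simpa using hi, by simp⟩
  | one => exact ⟨[], by simp, rfl⟩
  | mul x y _ _ hx hy =>
    obtain ⟨l₁, h₁, rfl⟩ := hx
    obtain ⟨l₂, h₂, rfl⟩ := hy
    refine ⟨l₁ ++ l₂, ?_, wList_append P l₁ l₂⟩
    intro i hi
    rcases List.mem_append.mp hi with h | h
    · exact h₁ i h
    · exact h₂ i h
  | inv x _ hx =>
    obtain ⟨l, h, rfl⟩ := hx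
    exact ⟨l.reverse, fun i hi => h i (List.mem_reverse.mp hi), wList_reverse P l⟩

end Groth.Agent.Lib.Helper15

namespace Groth.Agent.Lib.Helper15

open RootPairing

variable {ι R M N : Type*} [CommRing R] [AddCommGroup M] [Module R M]
  [AddCommGroup N] [Module R N] {P : RootPairing ι R M N}

theorem root_smul_index (g : P.Aut) (i : ι) : P.root (g • i) = g • P.root i :=
  Equiv.root_indexEquiv_eq_smul P i g

/-- An automorphism commutes with negation of roots, on indices. -/
theorem smul_neg_index (g : P.Aut) (j : ι) :
    g • (P.reflectionPerm j j) = P.reflectionPerm (g • j) (g • j) := by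
  apply P.root.injective
  rw [root_smul_index, P.root_reflectionPerm, P.reflection_apply_self, P.root_reflectionPerm,
    P.reflection_apply_self, root_smul_index, smul_neg]

section Base

variable [CharZero R] [IsDomain R] [Finite ι] [P.IsCrystallographic] [P.IsReduced] (b : P.Base)

omit [IsDomain R] [Finite ι] [P.IsCrystallographic] [P.IsReduced] in
theorem not_isPos_neg_iff (i : ι) : ¬ b.IsPos (P.reflectionPerm i i) ↔ b.IsPos i := by
  have h1 : b.height (P.reflectionPerm i i) = - b.height i := by
    let := P.indexNeg
    exact b.height_reflectionPerm_self i
  rw [RootPairing.Base.isPos_iff, RootPairing.Base.isPos_iff, h1]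
  have := b.height_ne_zero i
  omega

omit [IsDomain R] [Finite ι] [P.IsCrystallographic] [P.IsReduced] in
theorem isPos_neg_iff (i : ι) : b.IsPos (P.reflectionPerm i i) ↔ ¬ b.IsPos i := by
  rw [← not_isPos_neg_iff b i, not_not]

/-- Deletion: if a word in simple reflections sends the simple root `j` to a negative root, then
multiplying by `s_j` on the right gives an element that is a shorter word. -/
theorem exists_shorter_of_not_isPos (l : List ι) (hl : ∀ i ∈ l, i ∈ b.support) (j : ι)
    (hj : j ∈ b.support) (hneg : ¬ b.IsPos (wList P l • j)) :
    ∃ l' : List ι, (∀ i ∈ l', i ∈ b.support) ∧ l'.length + 1 = l.length ∧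
      wList P l' = wList P l * Equiv.reflection P j := by
  induction l with
  | nil =>
    exfalso
    apply hneg
    rw [wList_nil, one_smul]
    exact RootPairing.Base.isPos_of_mem_support hj
  | cons a l ih =>
    have ha : a ∈ b.support := hl a (List.mem_cons_self)
    have hl' : ∀ i ∈ l, i ∈ b.support := fun i hi => hl i (List.mem_cons_of_mem _ hi)
    by_cases hpos : b.IsPos (wList P l • j)
    · -- then `wList P l • j = a`
      have hia : wList P l • j = a := by
        by_contra hne
        apply hneg
        rw [wList_cons, mul_smul, reflection_smul_index]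
        exact hpos.reflectionPerm ha hne
      refine ⟨l, hl', rfl, ?_⟩
      have hconj := wList_conj P l j
      rw [hia] at hconj
      rw [wList_cons, ← hconj]
      calc wList P l = wList P l * (Equiv.reflection P j * Equiv.reflection P j) := by
            rw [reflection_mul_self, mul_one]
        _ = wList P l * Equiv.reflection P j * (wList P l)⁻¹ * wList P l * Equiv.reflection P j := by
            group
    · obtain ⟨l', h1, h2, h3⟩ := ih hl' hpos
      refine ⟨a :: l', ?_, by simp [h2], ?_⟩
      · intro i hi
        rcases List.mem_cons.mp hi with rfl | h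
        · exact ha
        · exact h1 i h
      · rw [wList_cons, wList_cons, h3, mul_assoc]

/-- A word in simple reflections preserving positivity is trivial. -/
theorem wList_eq_one_of_isPos (n : ℕ) :
    ∀ (l : List ι), l.length = n → (∀ i ∈ l, i ∈ b.support) →
      (∀ i, b.IsPos i → b.IsPos (wList P l • i)) → wList P l = 1 := by
  induction n using Nat.strong_induction_on with
  | _ n ih =>
    intro l hn hl hpos
    rcases List.eq_nil_or_concat l with rfl | ⟨l₀, j, rfl⟩
    · rfl
    · have hj : j ∈ b.support := hl j (by simp)
      have hl₀ : ∀ i ∈ l₀, i ∈ b.support := fun i hi => hl i (by simp [hi])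
      -- `wList l₀ • j` is negative
      have hneg : ¬ b.IsPos (wList P l₀ • j) := by
        have h1 := hpos j (RootPairing.Base.isPos_of_mem_support hj)
        rw [List.concat_eq_append, wList_append, mul_smul, wList_cons, wList_nil, mul_one,
          reflection_smul_index, smul_neg_index, isPos_neg_iff] at h1
        exact h1
      obtain ⟨l', h1, h2, h3⟩ := exists_shorter_of_not_isPos b l₀ hl₀ j hj hneg
      have heq : wList P (l₀.concat j) = wList P l' := by
        rw [List.concat_eq_append, wList_append, wList_cons, wList_nil, mul_one, h3]
      rw [heq]
      apply ih l'.length _ l' rfl h1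
      · rw [← heq]; exact hpos
      · rw [← hn]; simp; omega

end Base

end Groth.Agent.Lib.Helper15
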